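import Cfsg.Statements.S0084
import Mathlib
import Cfsg.Agent.Lib.Transfer.Burnside

set_option autoImplicit false
open Cfsg

namespace Cfsg.Agent.S0084

/-- A group whose Sylow 2-subgroups are Klein four-groups and whose order is prime to 3 has a normal 2-complement. -/
theorem result {G : Type*} [Group G] [Finite G] (T : Sylow 2 G) (hT : IsKleinFour T) (h3 : ¬ 3 ∣ Nat.card G) : Cfsg.HasNormalPComplement 2 G := by
  have hc : Nat.card (T : Subgroup G) = 4 := IsKleinFour.card_four
  have hab : IsMulCommutative (T : Subgroup G) := IsPGroup.isMulCommutative_of_card_eq_prime_sq (p := 2) hc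
  apply Cfsg.Agent.Lib.Transfer.hasNormalPComplement_of_normalizer_le T
  by_contra hN
  obtain ⟨q, hq, hq2, hqG, c, hc1, hc2, hc3⟩ :=
      Cfsg.Agent.Lib.Transfer.exists_prime_of_not_normalizer_le T hab hN
  rw [hc] at hc1 hc2 hc3
  have hcle := Nat.le_of_dvd (by norm_num) hc1
  interval_cases c
  · omega
  · -- q ∣ 3
    have : q = 3 := (Nat.prime_dvd_prime_iff_eq hq (by norm_num)).1 hc3
    exact h3 (this ▸ hqG)
  · -- q ∣ 2
    have : q = 2 := (Nat.prime_dvd_prime_iff_eq hq (by norm_num)).1 hc3
    exact hq2 this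
  · omega
  · omega

end Cfsg.Agent.S0084
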