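import Cfsg.Statements.S0203
import Mathlib
import Cfsg.Agent.Lib.Invol.Klein

set_option autoImplicit false
open Cfsg

namespace Cfsg.Agent.S0203

/-- If a Sylow 2-subgroup P of a finite group G is a Klein four-group, then G has three classes of involutions if and only if P has a normal complement in G. -/
theorem result {G : Type*} [Group G] [Finite G] (P : Sylow 2 G) (hP : IsKleinFour (P : Subgroup G)) : Nat.card {C : ConjClasses G // ∃ t : G, orderOf t = 2 ∧ ConjClasses.mk t = C} = 3 ↔ ∃ N : Subgroup G, N.Normal ∧ Subgroup.IsComplement' N (P : Subgroup G) := by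
  obtain ⟨a, b, c, h⟩ := Cfsg.Agent.Lib.Invol.exists_kleinData P hP
  haveI : Fact (Nat.Prime 2) := ⟨Nat.prime_two⟩
  constructor
  · intro h3
    have h1 : ¬ IsConj a b := by
      intro h1
      have := h.card_eq_one h1
      omega
    have h2 : ¬ IsConj a c := fun h2 => h1 (h.perm2.conj_third h2)
    have h4 : ¬ IsConj b c := fun h3 => h1 (h.perm1.perm2.conj_third h3).symm
    have hle : Subgroup.normalizer ((P : Subgroup G) : Set G) ≤ Subgroup.centralizer ((P : Subgroup G) : Set G) := by
      intro g hg
      rw [Subgroup.mem_centralizer_iff]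
      intro x hx
      have hmem : g⁻¹ * x * g ∈ (P : Subgroup G) := by
        have hn' : g⁻¹ ∈ Subgroup.normalizer ((P : Subgroup G) : Set G) := Subgroup.inv_mem _ hg
        have := (Subgroup.mem_normalizer_iff.mp hn' x).mp hx
        simpa using this
      have hconj : ∀ y : G, IsConj y (g⁻¹ * y * g) := by
        intro y
        rw [isConj_iff]
        exact ⟨g⁻¹, by simp⟩
      have hfix : g⁻¹ * x * g = x := by
        have hcx := hconj x
        have hone : ∀ y : G, orderOf y = 2 → g⁻¹ * y * g ≠ 1 := by
          intro y hy h0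
          have h5 : y = g * (g⁻¹ * y * g) * g⁻¹ := by group
          rw [h0] at h5
          have h6 : y = 1 := by simpa using h5
          rw [h6, orderOf_one] at hy
          omega
        rcases h.hall x hx with hx1 | hx1 | hx1 | hx1
        · rw [hx1]; simp
        · subst hx1
          rcases h.hall _ hmem with h5 | h5 | h5 | h5
          · exact absurd h5 (hone x h.oa)
          · exact h5
          · rw [h5] at hcx; exact absurd hcx h1
          · rw [h5] at hcx; exact absurd hcx h2
        · subst hx1
          rcases h.hall _ hmem with h5 | h5 | h5 | h5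
          · exact absurd h5 (hone x h.ob)
          · rw [h5] at hcx; exact absurd hcx.symm h1
          · exact h5
          · rw [h5] at hcx; exact absurd hcx h4
        · subst hx1
          rcases h.hall _ hmem with h5 | h5 | h5 | h5
          · exact absurd h5 (hone x h.oc)
          · rw [h5] at hcx; exact absurd hcx.symm h2
          · rw [h5] at hcx; exact absurd hcx.symm h4
          · exact h5
      have h6 : x * g = g * (g⁻¹ * x * g) := by group
      rw [hfix] at h6
      exact h6
    exact ⟨_, MonoidHom.normal_ker _, MonoidHom.ker_transferSylow_isComplement' P hle⟩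
  · rintro ⟨N, hN, hc⟩
    have hnot : ∀ x y : G, x ∈ (P : Subgroup G) → y ∈ (P : Subgroup G) → IsConj x y → x = y := by
      intro x y hx hy hxy
      rw [isConj_iff] at hxy
      obtain ⟨g, hg⟩ := hxy
      obtain ⟨⟨n, p⟩, hnp⟩ := hc.2 g
      simp only at hnp
      have hcomm := h.comm.is_comm.comm p ⟨x, hx⟩
      have hcomm' : (p : G) * x = x * p := congrArg Subtype.val hcomm
      have e : y * x⁻¹ = n * x * (n : G)⁻¹ * x⁻¹ := by
        rw [← hg, ← hnp]
        have : (n : G) * p * x * ((n : G) * p)⁻¹ = n * (p * x) * (p : G)⁻¹ * (n : G)⁻¹ := by group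
        rw [this, hcomm']
        group
      have hinN : y * x⁻¹ ∈ N := by
        rw [e]
        have h5 : (n : G) * x * (n : G)⁻¹ * x⁻¹ = n * (x * (n : G)⁻¹ * x⁻¹) := by group
        rw [h5]
        exact N.mul_mem n.2 (hN.conj_mem _ (N.inv_mem n.2) x)
      have hinP : y * x⁻¹ ∈ (P : Subgroup G) := Subgroup.mul_mem _ hy (Subgroup.inv_mem _ hx)
      have hbot : y * x⁻¹ = 1 := by
        have := Subgroup.disjoint_def.mp hc.disjoint hinN hinP
        exact this
      exact (mul_inv_eq_one.mp hbot).symm
    exact h.card_eq_three (fun h1 => h.hab (hnot a b h.ha h.hb h1))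
      (fun h1 => h.hac (hnot a c h.ha h.hc h1)) (fun h1 => h.hbc (hnot b c h.hb h.hc h1))

end Cfsg.Agent.S0203
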