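import Cfsg.Statements.S3278
import Cfsg.Agent.Lib.Invol.KleinA5b

set_option autoImplicit false
open Cfsg

namespace Cfsg.Agent.S3278


theorem four_dvd {G : Type*} [Group G] [Finite G] (P : Sylow 2 G)
    (hfree : ∀ g ∈ (P : Subgroup G), g ≠ 1 → ∀ Q : Sylow 2 G, Q ≠ P → g • Q ≠ Q)
    (hcard : Nat.card (P : Subgroup G) = 4) : 4 ∣ Nat.card {Q : Sylow 2 G // Q ≠ P} := by
  classical
  have hPfix : ∀ g ∈ (P : Subgroup G), g • P = P := by
    intro g hg
    rw [Sylow.smul_eq_iff_mem_normalizer]
    exact Subgroup.le_normalizer hg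
  letI : MulAction (P : Subgroup G) {Q : Sylow 2 G // Q ≠ P} :=
    { smul := fun g Q => ⟨(g : G) • Q.1, fun e => Q.2 (by
        have h1 : ((g : G))⁻¹ • ((g : G) • Q.1) = Q.1 := inv_smul_smul _ _
        have hg' := hPfix _ ((P : Subgroup G).inv_mem g.2)
        rw [e, hg'] at h1
        exact h1.symm)⟩
      one_smul := fun Q => Subtype.ext (one_smul G Q.1)
      mul_smul := fun a b Q => Subtype.ext (mul_smul (a : G) (b : G) Q.1) }
  have hstab : ∀ b : {Q : Sylow 2 G // Q ≠ P},
      MulAction.stabilizer (P : Subgroup G) b = ⊥ := by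
    intro b
    rw [Subgroup.eq_bot_iff_forall]
    intro g hg
    have h1 : g • b = b := hg
    have h2 : (g : G) • b.1 = b.1 := congrArg Subtype.val h1
    by_contra hne
    exact hfree g g.2 (fun e => hne (Subtype.ext e)) b.1 b.2 h2
  have e := MulAction.selfEquivOrbitsQuotientProd hstab
  rw [Nat.card_congr e, Nat.card_prod, hcard]
  exact Dvd.intro_left _ rfl

/-- Let G be a finite simple group with an involution x such that a Sylow 2-subgroup of C_G(x) is a Klein four-group which is normal in C_G(x). Then G is isomorphic to the alternating group of degree 5 (that is, to PSL(2, 5)). -/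
theorem result {G : Type*} [Group G] [Finite G] [IsSimpleGroup G] (x : G) (hx : orderOf x = 2)
    (S₀ : Subgroup G) (hle : S₀ ≤ Subgroup.centralizer ({x} : Set G)) (hK : IsKleinFour ↥S₀)
    (hodd : ¬ 2 ∣ S₀.relIndex (Subgroup.centralizer ({x} : Set G))) (hn : (S₀.subgroupOf (Subgroup.centralizer ({x} : Set G))).Normal) :
    Nonempty (G ≃* ↥(alternatingGroup (Fin 5))) := by
  classical
  open Cfsg.Agent.Lib.Invol.KA in
  haveI hf2 : Fact (Nat.Prime 2) := ⟨Nat.prime_two⟩
  have h : Cfsg.Agent.Lib.Invol.KA.KSetup x S₀ :=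
    ⟨hx, hle, hK, Cfsg.Agent.Lib.Invol.KA.two_of_normal hle hodd hn⟩
  obtain ⟨P, hP⟩ := h.exists_sylow
  have hPK : IsKleinFour (P : Subgroup G) := hP ▸ hK
  have hcardP : Nat.card (P : Subgroup G) = 4 := by rw [hP]; exact h.card_V
  have hprops := fun Q => Cfsg.Agent.Lib.Blocks.sylow_klein_props P hPK Q
  -- a Sylow subgroup equal to the whole group is impossible
  have hPtop : ∀ Q : Sylow 2 G, (Q : Subgroup G) ≠ ⊤ := by
    intro Q hQ
    have h1 := (hprops Q).2.2
    rw [hQ, Subgroup.card_top] at h1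
    apply h.not_central
    intro g
    have h2 : (P : Subgroup G) = ⊤ :=
      Subgroup.eq_top_of_card_eq _ (by rw [hcardP, h1])
    have h3 : S₀ = ⊤ := by rw [← hP, h2]
    exact h.comm_V g (h3 ▸ Subgroup.mem_top g) x h.x_mem
  have hnocomp : ∀ (Q : Sylow 2 G) (N : Subgroup G), N.Normal →
      ¬ N.IsComplement' (Q : Subgroup G) := by
    intro Q N hN hc
    rcases hN.eq_bot_or_eq_top with h1 | h1
    · rw [h1, Subgroup.isComplement'_bot_left] at hc
      exact hPtop Q hc
    · rw [h1, Subgroup.isComplement'_top_left] at hc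
      have h2 := (hprops Q).2.2
      rw [hc] at h2
      simp at h2
  -- one class of involutions
  have hone : ∀ s t : G, orderOf s = 2 → orderOf t = 2 → IsConj s t := by
    intro s t hs ht
    rcases Cfsg.Agent.S0202.result P hPK with h1 | h1
    · have h2 := (Nat.card_eq_one_iff_unique.mp h1).1
      have h3 := h2.elim ⟨ConjClasses.mk s, s, hs, rfl⟩ ⟨ConjClasses.mk t, t, ht, rfl⟩
      have h4 : ConjClasses.mk s = ConjClasses.mk t := congrArg Subtype.val h3
      exact ConjClasses.mk_eq_mk_iff_isConj.mp h4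
    · obtain ⟨N, hN, hc⟩ := (Cfsg.Agent.S0203.result P hPK).mp h1
      exact absurd hc (hnocomp P N hN)
  have hNlt := h.card_lt P hPK hone
  -- Sylow subgroups intersect trivially
  have hconjle : ∀ (Q : Sylow 2 G) (u g : G), u ∈ (Q : Subgroup G) → g * x * g⁻¹ = u →
      (Q : Subgroup G) = S₀.map (MulAut.conj g).toMonoidHom := by
    intro Q u g hu hg
    have hle' : (Q : Subgroup G) ≤ S₀.map (MulAut.conj g).toMonoidHom := by
      intro q hq
      refine ⟨g⁻¹ * q * g, ?_, ?_⟩
      · apply h.two _ _ 1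
        · rw [pow_one, pow_two]
          calc g⁻¹ * q * g * (g⁻¹ * q * g) = g⁻¹ * (q ^ 2) * g := by rw [pow_two]; group
            _ = 1 := by rw [(hprops Q).1 q hq]; group
        · rw [Subgroup.mem_centralizer_singleton_iff]
          have h1 := (hprops Q).2.1 q hq u hu
          rw [← hg] at h1
          calc g⁻¹ * q * g * x = g⁻¹ * (q * (g * x * g⁻¹)) * g := by group
            _ = g⁻¹ * ((g * x * g⁻¹) * q) * g := by rw [h1]
            _ = x * (g⁻¹ * q * g) := by group
      · simp only [MulEquiv.toMonoidHom_eq_coe, MonoidHom.coe_coe, MulAut.conj_apply]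
        group
    apply Subgroup.eq_of_le_of_card_ge hle'
    rw [Subgroup.card_map_of_injective (MulAut.conj g).injective, h.card_V, (hprops Q).2.2]
  have hTI : ∀ (Q Q' : Sylow 2 G) (u : G), u ∈ (Q : Subgroup G) → u ∈ (Q' : Subgroup G) → u ≠ 1 →
      Q = Q' := by
    intro Q Q' u hu hu' hu1
    have huo : orderOf u = 2 := orderOf_eq_prime ((hprops Q).1 u hu) hu1
    obtain ⟨g, hg⟩ := isConj_iff.mp (hone x u hx huo)
    apply Sylow.ext
    rw [hconjle Q u g hu hg, hconjle Q' u g hu' hg]
  -- `3 n ≤ N`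
  letI : Fintype (Sylow 2 G) := Fintype.ofFinite _
  letI : ∀ Q : Sylow 2 G, Fintype (Q : Subgroup G) := fun Q => Fintype.ofFinite _
  letI : Fintype (Cfsg.Agent.Lib.Invol.KA.KK x) := Fintype.ofFinite _
  have h3n : 3 * Nat.card (Sylow 2 G) ≤ Nat.card (Cfsg.Agent.Lib.Invol.KA.KK x) := by
    let ι : (Σ Q : Sylow 2 G, {q : (Q : Subgroup G) // q ≠ 1}) → Cfsg.Agent.Lib.Invol.KA.KK x :=
      fun s => ⟨(s.2.1 : G), hone x _ hx (orderOf_eq_prime ((hprops s.1).1 _ s.2.1.2)
        (fun e => s.2.2 (Subtype.ext e)))⟩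
    have hinj : Function.Injective ι := by
      rintro ⟨Q, q, hq⟩ ⟨Q', q', hq'⟩ e
      have e' : (q : G) = (q' : G) := congrArg Subtype.val e
      have hQQ : Q = Q' := hTI Q Q' q q.2 (e' ▸ q'.2) (fun e1 => hq (Subtype.ext e1))
      subst hQQ
      have : q = q' := Subtype.ext e'
      subst this
      rfl
    have h1 := Fintype.card_le_of_injective ι hinj
    rw [Fintype.card_sigma] at h1
    have h2 : ∀ Q : Sylow 2 G, Fintype.card {q : (Q : Subgroup G) // q ≠ 1} = 3 := by
      intro Q
      have h3 := (hprops Q).2.2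
      rw [Nat.card_eq_fintype_card] at h3
      rw [Fintype.card_subtype_compl, Fintype.card_subtype_eq, h3]
    simp only [h2, Finset.sum_const, Finset.card_univ, smul_eq_mul] at h1
    rw [Nat.card_eq_fintype_card, Nat.card_eq_fintype_card]
    omega
  -- `n ≡ 1 mod 4`
  have hfree : ∀ g ∈ (P : Subgroup G), g ≠ 1 → ∀ Q : Sylow 2 G, Q ≠ P → g • Q ≠ Q := by
    intro g hg hg1 Q hQ hfix
    have h1 : g ∈ Subgroup.normalizer ((Q : Subgroup G) : Set G) :=
      Sylow.smul_eq_iff_mem_normalizer.mp hfix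
    have h2 : g ∈ (P : Subgroup G) ⊓ Subgroup.normalizer ((Q : Subgroup G) : Set G) := ⟨hg, h1⟩
    have h3 := (Subgroup.ext_iff.mp (IsPGroup.inf_normalizer_sylow P.isPGroup' Q) g).mp h2
    exact hQ (hTI Q P g h3.2 hg hg1)
  have h4 := four_dvd P hfree hcardP
  have hY : Nat.card {Q : Sylow 2 G // Q ≠ P} + 1 = Nat.card (Sylow 2 G) := by
    rw [Nat.card_eq_fintype_card, Nat.card_eq_fintype_card, Fintype.card_subtype_compl,
      Fintype.card_subtype_eq]
    have : 0 < Fintype.card (Sylow 2 G) := Fintype.card_pos_iff.mpr ⟨P⟩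
    omega
  -- not normal
  have hPnn : ¬ (P : Subgroup G).Normal := by
    intro hPn
    rcases hPn.eq_bot_or_eq_top with h1 | h1
    · rw [h1] at hcardP
      simp at hcardP
    · exact hPtop P h1
  have hn5 : Nat.card (Sylow 2 G) = 5 := by
    have h5 : Nat.card (Sylow 2 G) ≠ 1 := by
      intro h1
      haveI := (Nat.card_eq_one_iff_unique.mp h1).1
      exact hPnn P.normal_of_subsingleton
    omega
  -- the permutation representation
  let φ : G →* Equiv.Perm (Sylow 2 G) := MulAction.toPermHom G (Sylow 2 G)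
  have hφ : Function.Injective φ := by
    rw [← MonoidHom.ker_eq_bot_iff]
    rcases (MonoidHom.normal_ker φ).eq_bot_or_eq_top with h1 | h1
    · exact h1
    · exfalso
      apply hPnn
      have h2 : Subgroup.normalizer ((P : Subgroup G) : Set G) = ⊤ := by
        rw [eq_top_iff]
        intro g _
        have h3 : g ∈ φ.ker := by rw [h1]; trivial
        have h4 : φ g = 1 := h3
        have h5 : φ g P = P := by rw [h4]; rfl
        exact Sylow.smul_eq_iff_mem_normalizer.mp h5
      exact Subgroup.normalizer_eq_top_iff.mp h2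
  let e : Sylow 2 G ≃ Fin 5 := Finite.equivFinOfCardEq hn5
  let ψ : G →* Equiv.Perm (Fin 5) := (Equiv.permCongrHom e).toMonoidHom.comp φ
  have hψ : Function.Injective ψ := (Equiv.permCongrHom e).injective.comp hφ
  let s : G →* ℤˣ := Equiv.Perm.sign.comp ψ
  have h4G : 4 ∣ Nat.card G := by
    rw [← h.card_V]
    exact Subgroup.card_subgroup_dvd_card S₀
  have hGpos : 0 < Nat.card G := Nat.card_pos
  have hs : s.ker = ⊤ := by
    rcases (MonoidHom.normal_ker s).eq_bot_or_eq_top with h1 | h1
    · exfalso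
      rw [MonoidHom.ker_eq_bot_iff] at h1
      have h2 := Nat.card_le_card_of_injective s h1
      have h3 : Nat.card ℤˣ = 2 := by
        rw [Nat.card_eq_fintype_card]
        rfl
      have h5 := Nat.le_of_dvd hGpos h4G
      omega
    · exact h1
  have hψA : ∀ g : G, ψ g ∈ alternatingGroup (Fin 5) := by
    intro g
    rw [Equiv.Perm.mem_alternatingGroup]
    have h3 : g ∈ s.ker := by rw [hs]; trivial
    exact h3
  let ψ' : G →* alternatingGroup (Fin 5) := ψ.codRestrict _ hψA
  have hψ' : Function.Injective ψ' := fun a b hab => hψ (congrArg Subtype.val hab)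
  have hA : Nat.card (alternatingGroup (Fin 5)) = 60 := by
    have h1 := two_mul_nat_card_alternatingGroup (α := Fin 5)
    rw [Nat.card_eq_fintype_card (α := Equiv.Perm (Fin 5)), Fintype.card_perm, Fintype.card_fin] at h1
    have h2 : Nat.factorial 5 = 120 := rfl
    omega
  have h3G : 3 ∣ Nat.card G := by
    by_contra h3
    obtain ⟨Q, N, hN, hc⟩ := Cfsg.Agent.S0084.result P hPK h3
    exact hnocomp Q N hN hc
  have h5G : 5 ∣ Nat.card G := by
    rw [← hn5, Sylow.card_eq_index_normalizer P]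
    exact Subgroup.index_dvd_card _
  have h60 : 60 ∣ Nat.card G := by
    have h1 : 12 ∣ Nat.card G := Nat.Coprime.mul_dvd_of_dvd_of_dvd (by norm_num) h3G h4G
    exact Nat.Coprime.mul_dvd_of_dvd_of_dvd (m := 12) (n := 5) (by norm_num) h1 h5G
  have hbij : Function.Bijective ψ' := by
    apply Function.Injective.bijective_of_nat_card_le hψ'
    rw [hA]
    exact Nat.le_of_dvd hGpos h60
  exact ⟨MulEquiv.ofBijective ψ' hbij⟩

end Cfsg.Agent.S3278
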