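import Cfsg.Statements.S3080
import Cfsg.Agent.Lib.LocalEven2.Control2
-- import your own Cfsg.Agent.* helpers here

set_option autoImplicit false
open Cfsg

namespace Cfsg.Agent.S3080

open Cfsg.Agent.Lib.LocalEven2 in
theorem aux_control {G : Type*} [Group G] [Finite G] {p : ℕ} [Fact p.Prime] (hp : p ≠ 2) (P : Sylow p G)
    (D : Subgroup G) (hD : Cfsg.IsStronglyClosed D (P : Subgroup G)) (hst : Cfsg.IsNormalizerPStable p G)
    (hc : ∀ U : Subgroup G, U ≤ (P : Subgroup G) → U ≠ ⊥ → Cfsg.IsPConstrained p ↥(Subgroup.normalizer (U : Set G)))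
    {e : ℕ} (hpe : p ∣ e) (A : Set G) (hA : A ⊆ (P : Subgroup G)) :
    Cfsg.ControlsStrongFusionOf (Subgroup.normalizer ((zjZ e D : Subgroup G) : Set G)) (P : Subgroup G) A := by
  refine ⟨hA, ?_⟩
  intro g hg
  have hQ : QStable p G := qStable_of_normalizerPStable hst
  have hmain := control_main hpe P D hD (fun U hU hUne T₀ D₁ hD₁ C hC y hy =>
    constrained_control hp e T₀ D₁ hD₁ (hQ.subgroup _) (hc U hU hUne) C hC y hy)
  have hle : Subgroup.closure A ≤ (P : Subgroup G) := (Subgroup.closure_le _).2 hA
  have hgc : ∀ u ∈ Subgroup.closure A, g * u * g⁻¹ ∈ (P : Subgroup G) := by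
    have h1 : Subgroup.closure A ≤ (P : Subgroup G).comap (MulAut.conj g).toMonoidHom := by
      refine (Subgroup.closure_le _).2 ?_
      intro a ha
      exact hg ⟨a, ha, rfl⟩
    intro u hu
    exact h1 hu
  obtain ⟨x, hx, hxc⟩ := hmain _ hle g hgc
  exact ⟨x, hx, fun a ha => (hxc a (Subgroup.subset_closure ha)).symm⟩

/-- Let p be an odd prime, G a finite group that is p-stable in the normalizer form, P a Sylow p-subgroup such that N_G(U) is p-constrained for every nontrivial subgroup U of P, and D a subgroup of P strongly closed in P with respect to G. Then N_G(Z(J(D))) controls strong G-fusion in P (for every subset A of P and every g ∈ G with gAg⁻¹ ⊆ P, some element of that normalizer acts on A exactly as g does; J(D) is generated by the abelian subgroups of D of largest order), and so does N_G(Ω₁(Z(J_e(D)))) (J_e(D) generated by the elementary abelian subgroups of largest order). -/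
theorem result {G : Type*} [Group G] [Finite G] {p : ℕ} [Fact p.Prime] (hp : p ≠ 2) (P : Sylow p G) (D : Subgroup G) (hD : Cfsg.IsStronglyClosed D (P : Subgroup G)) (hst : Cfsg.IsNormalizerPStable p G) (hc : ∀ U : Subgroup G, U ≤ (P : Subgroup G) → U ≠ ⊥ → Cfsg.IsPConstrained p ↥(Subgroup.normalizer (U : Set G))) : (∀ A : Set G, A ⊆ (P : Subgroup G) → Cfsg.ControlsStrongFusionOf (Subgroup.normalizer ((Cfsg.centerThompsonAOf D) : Set G)) (P : Subgroup G) A) ∧ (∀ A : Set G, A ⊆ (P : Subgroup G) → Cfsg.ControlsStrongFusionOf (Subgroup.normalizer ((Cfsg.omegaOne p (Cfsg.centerThompsonOf p D)) : Set G)) (P : Subgroup G) A) := by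
  classical
  constructor
  · intro A hA
    have he : ∀ x ∈ D, x ^ (p * Nat.card G) = 1 := fun x _ => by
      rw [mul_comm, pow_mul, pow_card_eq_one', one_pow]
    rw [Cfsg.Agent.Lib.LocalEven2.centerThompsonA_eq D he]
    exact aux_control hp P D hD hst hc (dvd_mul_right p _) A hA
  · intro A hA
    rw [Cfsg.Agent.Lib.LocalEven2.omegaOne_center_eq D p]
    exact aux_control hp P D hD hst hc dvd_rfl A hA

end Cfsg.Agent.S3080
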