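import Cfsg.Statements.S0111
import Mathlib
import Cfsg.Agent.Lib.Transfer.Misc

set_option autoImplicit false
open Cfsg

namespace Cfsg.Agent.S0111

theorem aux_two {B : Type*} [Group B] (hB : Nat.card B = 2) (x y : B) (hx : x ≠ 1) (hy : y ≠ 1) : x = y := by
  obtain ⟨z, -, hz⟩ := (Nat.card_eq_two_iff' (1 : B)).1 hB
  rw [hz x hx, hz y hy]

/-- The Thompson transfer lemma states that an involution of a Sylow 2-subgroup P lying outside a subgroup Q of index 2 in P either lies outside some normal subgroup of index 2 in G or is conjugate to an element of Q. -/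
theorem result {G : Type*} [Group G] [Finite G] (P : Sylow 2 G) (Q : Subgroup G) (hQP : Q ≤ (P : Subgroup G)) (hQi : Q.relIndex (P : Subgroup G) = 2) (u : G) (hu : orderOf u = 2) (huP : u ∈ (P : Subgroup G)) (huQ : u ∉ Q) : (∃ M : Subgroup G, M.Normal ∧ M.index = 2 ∧ u ∉ M) ∨ ∃ g : G, g * u * g⁻¹ ∈ Q := by
  classical
  by_cases h : ∃ g : G, g * u * g⁻¹ ∈ Q
  · exact Or.inr h
  left
  push Not at h
  set H : Subgroup G := (P : Subgroup G) with hH
  let Q' : Subgroup H := Q.subgroupOf H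
  have hQ'i : Q'.index = 2 := hQi
  haveI hQ'n : Q'.Normal := Subgroup.normal_of_index_eq_two hQ'i
  have hcard : Nat.card (H ⧸ Q') = 2 := by rw [← Subgroup.index_eq_card, hQ'i]
  haveI : Fact (Nat.card (H ⧸ Q')).Prime := ⟨by rw [hcard]; exact Nat.prime_two⟩
  have hcyc : IsCyclic (H ⧸ Q') := isCyclic_of_prime_card (p := Nat.card (H ⧸ Q')) rfl
  letI : CommGroup (H ⧸ Q') := IsCyclic.commGroup
  let ϕ : H →* (H ⧸ Q') := QuotientGroup.mk' Q'
  have hϕ : ∀ w : H, ϕ w = 1 ↔ (w : G) ∈ Q := fun w => QuotientGroup.eq_one_iff w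
  let a : H ⧸ Q' := ϕ ⟨u, huP⟩
  have ha1 : a ≠ 1 := fun h0 => huQ ((hϕ _).1 h0)
  have ha2 : a ^ 2 = 1 := by rw [← hcard]; exact pow_card_eq_one'
  have hodd : a ^ H.index = a := by
    have h2 : ¬ 2 ∣ H.index := P.not_dvd_index
    obtain ⟨k, hk⟩ := Nat.odd_iff.2 (Nat.mod_two_ne_zero.1 (fun h0 => h2 (Nat.dvd_of_mod_eq_zero h0)))
    rw [hk, pow_succ, pow_mul, ha2, one_pow, one_mul]
  have hu2 : u ^ 2 = 1 := by rw [← hu]; exact pow_orderOf_eq_one u
  letI : Fintype (Quotient (MulAction.orbitRel (Subgroup.zpowers u) (G ⧸ H))) := Fintype.ofFinite _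
  letI : Fintype (G ⧸ H) := Fintype.ofFinite _
  have hfac : ∀ q : G ⧸ H, ϕ ⟨q.out⁻¹ * u ^ Function.minimalPeriod (u • ·) q * q.out,
      QuotientGroup.out_conj_pow_minimalPeriod_mem H u q⟩ = a ^ Function.minimalPeriod (u • ·) q := by
    intro q
    have hdvd : Function.minimalPeriod (u • ·) q ∣ 2 := by
      apply Function.IsPeriodicPt.minimalPeriod_dvd
      show (u • ·)^[2] q = q
      simp only [Function.iterate_succ, Function.iterate_zero, Function.comp, id_eq]
      rw [← mul_smul, ← pow_two, hu2, one_smul]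
    rcases (Nat.dvd_prime Nat.prime_two).1 hdvd with h1 | h1
    · simp only [h1, pow_one]
      apply aux_two hcard
      · intro h0
        have := (hϕ _).1 h0
        exact h q.out⁻¹ (by simpa using this)
      · exact ha1
    · simp only [h1, ha2, hu2, mul_one, inv_mul_cancel]
      exact (map_one ϕ)
  have hV : ϕ.transfer u = a := by
    rw [MonoidHom.transfer_eq_prod_quotient_orbitRel_zpowers_quot]
    rw [Finset.prod_congr rfl (fun q _ => hfac q.out)]
    rw [Finset.prod_pow_eq_pow_sum, ← Subgroup.index_eq_sum_minimalPeriod H u, hodd]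
  refine ⟨(ϕ.transfer).ker, inferInstance, ?_, ?_⟩
  · rw [Subgroup.index_ker]
    have hdvd : Nat.card (ϕ.transfer).range ∣ 2 := by
      rw [← hcard]; exact Subgroup.card_subgroup_dvd_card _
    rcases (Nat.dvd_prime Nat.prime_two).1 hdvd with h1 | h1
    · exfalso
      have h2 := Subgroup.eq_bot_of_card_eq _ h1
      have h3 : ϕ.transfer u ∈ (ϕ.transfer).range := ⟨u, rfl⟩
      rw [h2, Subgroup.mem_bot, hV] at h3
      exact ha1 h3
    · exact h1
  · intro hu'
    rw [MonoidHom.mem_ker, hV] at hu'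
    exact ha1 hu'

end Cfsg.Agent.S0111
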