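import Cfsg.Statements.S2331
import Cfsg.Agent.Lib.Known.SL2Classes

set_option autoImplicit false
open Cfsg

namespace Cfsg.Agent.S2331

open Cfsg.Agent.Lib.Known

/-- Over a finite field with q elements, q even, the special linear group SL₂ has exactly q + 1 conjugacy classes. -/
theorem result {F : Type*} [Field F] [Fintype F] [CharP F 2] :
    Nat.card (ConjClasses (Matrix.SpecialLinearGroup (Fin 2) F)) = Fintype.card F + 1 := by
  classical
  let r : Option F → SL2 F := fun x =>
    match x with
    | none => 1
    | some t => sl2C t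
  have h2 : (2 : F) = 0 := by exact_mod_cast CharP.cast_eq_zero F 2
  have hnsc : ∀ t : F, ¬ m2Scalar ((sl2C t : SL2 F) : Matrix (Fin 2) (Fin 2) F) := by
    rintro t ⟨_, h, _⟩
    simp at h
  have hs1 : m2Scalar ((1 : SL2 F) : Matrix (Fin 2) (Fin 2) F) := by
    simp [m2Scalar]
  have hcount := Cfsg.Agent.Lib.Known.card_conjClasses_of_reps r ?_ ?_
  · rw [hcount, Nat.card_eq_fintype_card, Fintype.card_option]
  · intro g
    by_cases hs : m2Scalar (g : Matrix (Fin 2) (Fin 2) F)
    · refine ⟨none, ?_⟩
      have hdet := sl2_det g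
      have h1 : g = 1 := by
        obtain ⟨e1, e2, e3⟩ := hs
        rw [e1, e2, ← e3] at hdet
        have : ((g : Matrix (Fin 2) (Fin 2) F) 0 0 - 1) * ((g : Matrix (Fin 2) (Fin 2) F) 0 0 - 1) = 0 := by
          linear_combination hdet - (g : Matrix (Fin 2) (Fin 2) F) 0 0 * h2 + h2
        have h3 := sub_eq_zero.mp (mul_self_eq_zero.mp this)
        apply sl2_ext <;> simp [e1, e2, ← e3, h3]
      rw [h1]
      exact IsConj.refl _
    · refine ⟨some (g : Matrix (Fin 2) (Fin 2) F).trace, ?_⟩
      apply sl2_isConj_of_trace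
      · exact hs
      · exact hnsc _
      · exact (sl2C_trace _).symm
      · intro δ _
        exact form_surj_two _ _
  · rintro (_ | t) (_ | t') h
    · rfl
    · exfalso
      have := sl2_isConj_scalar h hs1
      apply hnsc t'
      change m2Scalar ((r (some t') : SL2 F) : Matrix (Fin 2) (Fin 2) F)
      rw [← this]
      exact hs1
    · exfalso
      have := (sl2_isConj_scalar h.symm hs1).symm
      apply hnsc t
      change m2Scalar ((r (some t) : SL2 F) : Matrix (Fin 2) (Fin 2) F)
      rw [this]
      exact hs1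
    · have := sl2_trace_of_isConj h
      change ((sl2C t : SL2 F) : Matrix (Fin 2) (Fin 2) F).trace = ((sl2C t' : SL2 F) : Matrix (Fin 2) (Fin 2) F).trace at this
      rw [sl2C_trace, sl2C_trace] at this
      rw [this]

end Cfsg.Agent.S2331
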