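import Cfsg.Statements.S0219
import Mathlib

set_option autoImplicit false
open Cfsg

namespace Cfsg.Agent.S0219

/-- If a finite group has even order and a cyclic Sylow 2-subgroup, then it has a subgroup of index 2 (consider the parity of permutations in the regular representation). -/
theorem result {G : Type*} [Group G] [Finite G] (heven : Even (Nat.card G)) (T : Sylow 2 G) (hT : IsCyclic (T : Subgroup G)) : ∃ H : Subgroup G, H.index = 2 := by
  have hmin : (Nat.card G).minFac = 2 := (Nat.minFac_eq_two_iff _).mpr heven.two_dvd
  have hc : IsCyclic T := hT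
  have h := IsCyclic.isComplement' hmin (P := T) hc
  set f := MonoidHom.transferSylow T (hc.normalizer_le_centralizer hmin) with hf
  have hdvd : 2 ∣ Nat.card (T : Subgroup G) := by
    have h1 := (T : Subgroup G).card_mul_index
    have h2 := T.not_dvd_index
    have h3 : 2 ∣ Nat.card (T : Subgroup G) * (T : Subgroup G).index := by
      rw [h1]; exact heven.two_dvd
    exact (Nat.prime_two.dvd_mul.mp h3).resolve_right h2
  have hidx := h.symm.index_eq_card
  -- f is surjective
  have hsurj : Function.Surjective f := by
    rw [← MonoidHom.range_eq_top]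
    apply Subgroup.eq_top_of_card_eq
    rw [← Subgroup.index_ker, hidx]
  obtain ⟨g, hg⟩ := (hc).exists_generator
  have hord : orderOf g = Nat.card (T : Subgroup G) := orderOf_eq_card_of_forall_mem_zpowers hg
  let L : Subgroup (T : Subgroup G) := Subgroup.zpowers (g ^ 2)
  refine ⟨L.comap f, ?_⟩
  rw [Subgroup.index_comap_of_surjective L hsurj]
  have hL : Nat.card L = Nat.card (T : Subgroup G) / 2 := by
    rw [Nat.card_zpowers, orderOf_pow, hord, Nat.gcd_eq_right hdvd]
  have h1 := L.card_mul_index
  rw [hL] at h1
  have hpos : 0 < Nat.card (T : Subgroup G) := Nat.card_pos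
  obtain ⟨m, hm⟩ := hdvd
  rw [hm] at h1
  have h2 : 2 * m / 2 = m := by omega
  rw [h2] at h1
  have hm0 : 0 < m := by omega
  have h3 : m * L.index = m * 2 := by rw [h1]; ring
  exact Nat.eq_of_mul_eq_mul_left hm0 h3

end Cfsg.Agent.S0219
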