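import Cfsg.Statements.S0494
import Mathlib
import Cfsg.Agent.Lib.Small.Sweep
import Cfsg.Agent.Lib.SmallSimple.Sylow

set_option autoImplicit false
open Cfsg

namespace Cfsg.Agent.S0494

private theorem equiv_of_embed {G : Type*} [Group G] [Finite G] (hg : Nat.card G = 60) {k : ℕ} (hk : k = 5)
    (f : G →* alternatingGroup (Fin k)) (hf : Function.Injective f) :
    Nonempty (G ≃* alternatingGroup (Fin 5)) := by
  subst hk
  have hcard : Nat.card (alternatingGroup (Fin 5)) = 60 := by
    rw [Nat.card_eq_fintype_card]
    decide +kernel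
  have hb : Function.Bijective f := by
    rw [Nat.bijective_iff_injective_and_card]
    exact ⟨hf, by rw [hg, hcard]⟩
  exact ⟨MulEquiv.ofBijective f hb⟩

/-- A simple group of order 60 is isomorphic to the alternating group of degree 5. -/
theorem result {G : Type*} [Group G] [Finite G] [IsSimpleGroup G]
    (h : Nat.card G = 60) : Nonempty (G ≃* alternatingGroup (Fin 5)) := by
  classical
  have hnc : ¬ IsMulCommutative G :=
    Cfsg.Agent.Lib.SmallSimple.not_comm_of_not_prime (by rw [h]; norm_num)
  haveI : Fact (Nat.Prime 2) := ⟨Nat.prime_two⟩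
  have hnp := Cfsg.Agent.Lib.Small.not_isPGroup_of_noncomm hnc 2
  have hcard : Nat.card G = 2 ^ 2 * 15 := by rw [h]; norm_num
  obtain ⟨h1, h2, h3, h4⟩ := Cfsg.Agent.Lib.SmallSimple.sylow_package hcard (by norm_num) (by norm_num) hnp hnc
  obtain ⟨P⟩ : Nonempty (Sylow 2 G) := inferInstance
  have hPcard : Nat.card (P : Subgroup G) = 2 ^ 2 := Cfsg.Agent.Lib.SmallSimple.sylow_card_of_eq P hcard (by norm_num)
  have hNc := Cfsg.Agent.Lib.SmallSimple.card_normalizer_mul_card_sylow 2 P
  rw [h] at h4 hNc
  have hn : Nat.card (Sylow 2 G) = 5 := by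
    have hle := Nat.le_of_dvd (by norm_num) h2
    generalize hm : Nat.card (Sylow 2 G) = n at *
    interval_cases n <;> first
      | rfl
      | omega
      | (exfalso; revert h4; decide)
      | (exfalso
         -- `n = 15`: the normalizer is `P`
         have hNP : Subgroup.normalizer (P : Set G) = P := by
           symm
           apply Subgroup.eq_of_le_of_card_ge Subgroup.le_normalizer
           rw [hPcard]
           have : Nat.card (Subgroup.normalizer (P : Set G)) = 4 := by omega
           exact this.le.trans (by norm_num)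
         apply Cfsg.Agent.Lib.SmallSimple.normalizer_not_le_centralizer (p := 2) (by rw [h]; norm_num) hnp P
         rw [hNP]
         have hcomm := IsPGroup.commutative_of_card_eq_prime_sq (p := 2) (G := (P : Subgroup G)) hPcard
         intro x hx
         rw [Subgroup.mem_centralizer_iff]
         intro y hy
         exact congrArg Subtype.val (hcomm ⟨y, hy⟩ ⟨x, hx⟩))
  have hidx : (Subgroup.normalizer (P : Set G)).index = 5 := by
    rw [← Sylow.card_eq_index_normalizer P]
    exact hn
  have hne : Subgroup.normalizer (P : Set G) ≠ ⊤ := by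
    intro htop
    rw [htop] at hidx
    simp at hidx
  obtain ⟨f, hf⟩ := Cfsg.Agent.Lib.SmallSimple.exists_embed_alt hnc _ hne
  exact equiv_of_embed h hidx f hf

end Cfsg.Agent.S0494
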