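import Cfsg.Statements.S1035
import Cfsg.Agent.Lib.Chev.All2
import Cfsg.Agent.Lib.Chev.TorusCard
-- import your own Cfsg.Agent.* helpers here

set_option autoImplicit false
open Cfsg

namespace Cfsg.Agent.S1035

open Cfsg.Agent.Lib.Chev in
/-- The diagonal entries of a Smith form. -/
def dOf (n : ℕ) (L : List ℕ) : Fin n → ℕ := fun i => L.getD i.val 1


/-- `d · |H| = (q - 1)^rank` over a field with `q` elements, with `d = 1` (G₂, F₄, E₈), `gcd(3, q-1)` (E₆), `gcd(2, q-1)` (E₇, B₂), `gcd(2, q-1)²` (D₄). -/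
theorem result {F : Type*} [Field F] [Fintype F] {q : ℕ} (hq : Fintype.card F = q)
    (p : Cfsg.Lie.ChevalleyDatum × ℕ)
    (hp : p ∈ [(Cfsg.Lie.chevG2, 1), (Cfsg.Lie.chevF4, 1), (Cfsg.Lie.chevE8, 1), (Cfsg.Lie.chevE6, Nat.gcd 3 (q - 1)),
      (Cfsg.Lie.chevE7, Nat.gcd 2 (q - 1)), (Cfsg.Lie.chevB2, Nat.gcd 2 (q - 1)), (Cfsg.Lie.chevD4, Nat.gcd 2 (q - 1) ^ 2)]) :
    p.2 * Nat.card (p.1.diagonalSubgroup F) = (q - 1) ^ p.1.rank := by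
  simp only [List.mem_cons, List.not_mem_nil, or_false] at hp
  rcases hp with rfl | rfl | rfl | rfl | rfl | rfl | rfl
  · obtain ⟨G⟩ := Cfsg.Agent.Lib.Chev.good2_of_mem (D := Cfsg.Lie.chevG2) (by simp)
    have h := G.H_card_of_smith (F := F) hq (Cfsg.Agent.Lib.Chev.matOf 2 [[0, -1], [1, 2]])
      (Cfsg.Agent.Lib.Chev.matOf 2 [[1, 2], [0, 1]])
      (Cfsg.Agent.Lib.Chev.matOf 2 [[2, 1], [-1, 0]])
      (Cfsg.Agent.Lib.Chev.matOf 2 [[1, -2], [0, 1]])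
      (dOf 2 [1, 1]) (by decide +kernel) (by decide +kernel) (by decide +kernel) (by decide +kernel) (by decide +kernel)
    have h2 : (∏ i : Fin Cfsg.Lie.chevG2.rank, Nat.gcd (dOf 2 [1, 1] i) (q - 1)) = 1 := by
      show (∏ i : Fin 2, Nat.gcd (dOf 2 [1, 1] i) (q - 1)) = 1
      simp [Fin.prod_univ_succ, dOf, sq]
    rw [h2] at h
    simpa using h
  · obtain ⟨G⟩ := Cfsg.Agent.Lib.Chev.good2_of_mem (D := Cfsg.Lie.chevF4) (by simp)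
    have h := G.H_card_of_smith (F := F) hq (Cfsg.Agent.Lib.Chev.matOf 4 [[-1, 0, 0, 0], [1, 0, -1, 0], [-2, -1, 0, 0], [-2, -2, -2, -1]])
      (Cfsg.Agent.Lib.Chev.matOf 4 [[0, 0, 1, -2], [1, 0, 2, -4], [0, 0, 2, -3], [0, 1, 2, -2]])
      (Cfsg.Agent.Lib.Chev.matOf 4 [[-1, 0, 0, 0], [2, 0, -1, 0], [-1, -1, 0, 0], [0, 2, 2, -1]])
      (Cfsg.Agent.Lib.Chev.matOf 4 [[-2, 1, 0, 0], [2, 0, -2, 1], [-3, 0, 2, 0], [-2, 0, 1, 0]])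
      (dOf 4 [1, 1, 1, 1]) (by decide +kernel) (by decide +kernel) (by decide +kernel) (by decide +kernel) (by decide +kernel)
    have h2 : (∏ i : Fin Cfsg.Lie.chevF4.rank, Nat.gcd (dOf 4 [1, 1, 1, 1] i) (q - 1)) = 1 := by
      show (∏ i : Fin 4, Nat.gcd (dOf 4 [1, 1, 1, 1] i) (q - 1)) = 1
      simp [Fin.prod_univ_succ, dOf, sq]
    rw [h2] at h
    simpa using h
  · obtain ⟨G⟩ := Cfsg.Agent.Lib.Chev.good2_of_mem (D := Cfsg.Lie.chevE8) (by simp)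
    have h := G.H_card_of_smith (F := F) hq (Cfsg.Agent.Lib.Chev.matOf 8 [[-1, 0, 0, 0, 0, 0, 0, 0], [0, -1, 0, 0, 0, 0, 0, 0], [1, -2, 0, -1, 0, 0, 0, 0], [2, -3, 0, -2, -1, 0, 0, 0], [3, -4, 0, -3, -2, -1, 0, 0], [4, -5, 0, -4, -3, -2, -1, 0], [-2, 1, -1, 0, 0, 0, 0, 0], [-3, -2, -4, -5, -4, -3, -2, -1]])
      (Cfsg.Agent.Lib.Chev.matOf 8 [[0, 0, 0, 0, 0, 0, 1, -2], [0, 0, 0, 0, 0, 0, 2, -3], [1, 0, 0, 0, 0, 0, 2, -4], [0, 1, 0, 0, 0, 0, 4, -6], [0, 0, 1, 0, 0, 0, 4, -5], [0, 0, 0, 1, 0, 0, 4, -4], [0, 0, 0, 0, 1, 0, 4, -3], [0, 0, 0, 0, 0, 1, 4, -2]])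
      (Cfsg.Agent.Lib.Chev.matOf 8 [[-1, 0, 0, 0, 0, 0, 0, 0], [0, -1, 0, 0, 0, 0, 0, 0], [2, -1, 0, 0, 0, 0, -1, 0], [-1, 2, -1, 0, 0, 0, 0, 0], [0, -1, 2, -1, 0, 0, 0, 0], [0, 0, -1, 2, -1, 0, 0, 0], [0, 0, 0, -1, 2, -1, 0, 0], [0, 0, 0, 0, -1, 2, 4, -1]])
      (Cfsg.Agent.Lib.Chev.matOf 8 [[-2, 0, 1, 0, 0, 0, 0, 0], [0, -2, 0, 1, 0, 0, 0, 0], [2, -3, 0, 0, 1, 0, 0, 0], [4, -4, 0, 0, 0, 1, 0, 0], [6, -5, 0, 0, 0, 0, 1, 0], [8, -6, 0, 0, 0, 0, 0, 1], [-3, 2, 0, 0, 0, 0, 0, 0], [-2, 1, 0, 0, 0, 0, 0, 0]])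
      (dOf 8 [1, 1, 1, 1, 1, 1, 1, 1]) (by decide +kernel) (by decide +kernel) (by decide +kernel) (by decide +kernel) (by decide +kernel)
    have h2 : (∏ i : Fin Cfsg.Lie.chevE8.rank, Nat.gcd (dOf 8 [1, 1, 1, 1, 1, 1, 1, 1] i) (q - 1)) = 1 := by
      show (∏ i : Fin 8, Nat.gcd (dOf 8 [1, 1, 1, 1, 1, 1, 1, 1] i) (q - 1)) = 1
      simp [Fin.prod_univ_succ, dOf, sq]
    rw [h2] at h
    simpa using h
  · obtain ⟨G⟩ := Cfsg.Agent.Lib.Chev.good2_of_mem (D := Cfsg.Lie.chevE6) (by simp)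
    have h := G.H_card_of_smith (F := F) hq (Cfsg.Agent.Lib.Chev.matOf 6 [[-1, 0, 0, 0, 0, 0], [0, -1, 0, 0, 0, 0], [1, -2, 0, -1, 0, 0], [2, -3, 0, -2, -1, 0], [-2, 1, -1, 0, 0, 0], [-5, 0, -4, -3, -2, -1]])
      (Cfsg.Agent.Lib.Chev.matOf 6 [[0, 0, 0, 0, 1, -2], [0, 0, 0, 0, 2, -3], [1, 0, 0, 0, 2, -4], [0, 1, 0, 0, 4, -6], [0, 0, 1, 0, 4, -5], [0, 0, 0, 1, 4, -4]])
      (Cfsg.Agent.Lib.Chev.matOf 6 [[-1, 0, 0, 0, 0, 0], [0, -1, 0, 0, 0, 0], [2, -1, 0, 0, -1, 0], [-1, 2, -1, 0, 0, 0], [0, -1, 2, -1, 0, 0], [0, 0, -1, 2, 4, -1]])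
      (Cfsg.Agent.Lib.Chev.matOf 6 [[-2, 0, 1, 0, 0, 0], [0, -2, 0, 1, 0, 0], [2, -3, 0, 0, 1, 0], [4, -4, 0, 0, 0, 1], [-3, 2, 0, 0, 0, 0], [-2, 1, 0, 0, 0, 0]])
      (dOf 6 [1, 1, 1, 1, 1, 3]) (by decide +kernel) (by decide +kernel) (by decide +kernel) (by decide +kernel) (by decide +kernel)
    have h2 : (∏ i : Fin Cfsg.Lie.chevE6.rank, Nat.gcd (dOf 6 [1, 1, 1, 1, 1, 3] i) (q - 1)) = Nat.gcd 3 (q - 1) := by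
      show (∏ i : Fin 6, Nat.gcd (dOf 6 [1, 1, 1, 1, 1, 3] i) (q - 1)) = Nat.gcd 3 (q - 1)
      simp [Fin.prod_univ_succ, dOf, sq]
    rw [h2] at h
    simpa using h
  · obtain ⟨G⟩ := Cfsg.Agent.Lib.Chev.good2_of_mem (D := Cfsg.Lie.chevE7) (by simp)
    have h := G.H_card_of_smith (F := F) hq (Cfsg.Agent.Lib.Chev.matOf 7 [[-1, 0, 0, 0, 0, 0, 0], [0, -1, 0, 0, 0, 0, 0], [1, -2, 0, -1, 0, 0, 0], [2, -3, 0, -2, -1, 0, 0], [3, -4, 0, -3, -2, -1, 0], [-2, 1, -1, 0, 0, 0, 0], [-4, -1, -4, -4, -3, -2, -1]])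
      (Cfsg.Agent.Lib.Chev.matOf 7 [[0, 0, 0, 0, 0, 1, -2], [0, 0, 0, 0, 0, 2, -3], [1, 0, 0, 0, 0, 2, -4], [0, 1, 0, 0, 0, 4, -6], [0, 0, 1, 0, 0, 4, -5], [0, 0, 0, 1, 0, 4, -4], [0, 0, 0, 0, 1, 4, -3]])
      (Cfsg.Agent.Lib.Chev.matOf 7 [[-1, 0, 0, 0, 0, 0, 0], [0, -1, 0, 0, 0, 0, 0], [2, -1, 0, 0, 0, -1, 0], [-1, 2, -1, 0, 0, 0, 0], [0, -1, 2, -1, 0, 0, 0], [0, 0, -1, 2, -1, 0, 0], [0, 0, 0, -1, 2, 4, -1]])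
      (Cfsg.Agent.Lib.Chev.matOf 7 [[-2, 0, 1, 0, 0, 0, 0], [0, -2, 0, 1, 0, 0, 0], [2, -3, 0, 0, 1, 0, 0], [4, -4, 0, 0, 0, 1, 0], [6, -5, 0, 0, 0, 0, 1], [-3, 2, 0, 0, 0, 0, 0], [-2, 1, 0, 0, 0, 0, 0]])
      (dOf 7 [1, 1, 1, 1, 1, 1, 2]) (by decide +kernel) (by decide +kernel) (by decide +kernel) (by decide +kernel) (by decide +kernel)
    have h2 : (∏ i : Fin Cfsg.Lie.chevE7.rank, Nat.gcd (dOf 7 [1, 1, 1, 1, 1, 1, 2] i) (q - 1)) = Nat.gcd 2 (q - 1) := by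
      show (∏ i : Fin 7, Nat.gcd (dOf 7 [1, 1, 1, 1, 1, 1, 2] i) (q - 1)) = Nat.gcd 2 (q - 1)
      simp [Fin.prod_univ_succ, dOf, sq]
    rw [h2] at h
    simpa using h
  · obtain ⟨G⟩ := Cfsg.Agent.Lib.Chev.good2_of_mem (D := Cfsg.Lie.chevB2) (by simp)
    have h := G.H_card_of_smith (F := F) hq (Cfsg.Agent.Lib.Chev.matOf 2 [[0, -1], [1, 2]])
      (Cfsg.Agent.Lib.Chev.matOf 2 [[1, 2], [0, 1]])
      (Cfsg.Agent.Lib.Chev.matOf 2 [[2, 1], [-1, 0]])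
      (Cfsg.Agent.Lib.Chev.matOf 2 [[1, -2], [0, 1]])
      (dOf 2 [1, 2]) (by decide +kernel) (by decide +kernel) (by decide +kernel) (by decide +kernel) (by decide +kernel)
    have h2 : (∏ i : Fin Cfsg.Lie.chevB2.rank, Nat.gcd (dOf 2 [1, 2] i) (q - 1)) = Nat.gcd 2 (q - 1) := by
      show (∏ i : Fin 2, Nat.gcd (dOf 2 [1, 2] i) (q - 1)) = Nat.gcd 2 (q - 1)
      simp [Fin.prod_univ_succ, dOf, sq]
    rw [h2] at h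
    simpa using h
  · obtain ⟨G⟩ := Cfsg.Agent.Lib.Chev.good2_of_mem (D := Cfsg.Lie.chevD4) (by simp)
    have h := G.H_card_of_smith (F := F) hq (Cfsg.Agent.Lib.Chev.matOf 4 [[-1, 0, 0, 0], [-2, -1, 0, 0], [-3, -2, -1, 0], [2, 2, 1, 1]])
      (Cfsg.Agent.Lib.Chev.matOf 4 [[0, 0, 0, 1], [1, 0, 0, 2], [0, 1, -1, 1], [0, 0, 1, 2]])
      (Cfsg.Agent.Lib.Chev.matOf 4 [[-1, 0, 0, 0], [2, -1, 0, 0], [-1, 2, -1, 0], [-1, 0, 1, 1]])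
      (Cfsg.Agent.Lib.Chev.matOf 4 [[-2, 1, 0, 0], [-3, 0, 1, 1], [-2, 0, 0, 1], [1, 0, 0, 0]])
      (dOf 4 [1, 1, 2, 2]) (by decide +kernel) (by decide +kernel) (by decide +kernel) (by decide +kernel) (by decide +kernel)
    have h2 : (∏ i : Fin Cfsg.Lie.chevD4.rank, Nat.gcd (dOf 4 [1, 1, 2, 2] i) (q - 1)) = Nat.gcd 2 (q - 1) ^ 2 := by
      show (∏ i : Fin 4, Nat.gcd (dOf 4 [1, 1, 2, 2] i) (q - 1)) = Nat.gcd 2 (q - 1) ^ 2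
      simp [Fin.prod_univ_succ, dOf, sq]
    rw [h2] at h
    simpa using h

end Cfsg.Agent.S1035
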