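import Cfsg.Statements.S4539
import Cfsg.Agent.Lib.H8Group.MajorRows

set_option autoImplicit false
open Cfsg

namespace Cfsg.Agent.S4539

open Cfsg.Agent.Lib.Char Cfsg.Agent.Lib.H8Group Cfsg.Agent.Lib.Blocks

/-- Let B be a p-block of the finite group G (relative to a maximal ideal M of the algebraic integers containing p) of defect d with defect group D. Let z be an element of D commuting with every element of D, and let b be a block of the centralizer C of z with defect group D that induces B (a major subsection (z, b)). If b has p-regular rank at most two, then B contains at most p ^ d irreducible characters. -/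
theorem result {G : Type*} [Group G] [Finite G] (p : ℕ) [Fact p.Prime] (M : Ideal Cfsg.AlgInt) (hM : Cfsg.IsPModular p M) (B : Set (Cfsg.IrrCharacter G)) (hB : Cfsg.IsPBlock M B) (D : Subgroup G) (hD : Cfsg.IsDefectGroup p M B D) (z : G) (hzD : z ∈ D) (hzc : ∀ d ∈ D, d * z = z * d) (b : Set (Cfsg.IrrCharacter ↥(Subgroup.centralizer ({z} : Set G)))) (hb : Cfsg.IsInducedBlock M (Subgroup.centralizer ({z} : Set G)) b B) (hbD : Cfsg.IsDefectGroup p M b (D.subgroupOf (Subgroup.centralizer ({z} : Set G)))) (hl : Cfsg.blockRank p b ≤ 2) : Nat.card B ≤ p ^ Cfsg.blockDefect p B := by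
  classical
  letI := Fintype.ofFinite G
  letI : Fintype (Subgroup.centralizer ({z} : Set G)) := Fintype.ofFinite _
  have := isPrime_of_modular hM
  have hxp : ∃ k, orderOf ((centElt z : Subgroup.centralizer ({z} : Set G)) : G) = p ^ k :=
    orderOf_of_mem_defect hM hB hD hzD
  have hdef := defect_eq_of_major hM hB hb.1 hD hzc hbD
  obtain ⟨m, hm, -, h1, h2⟩ := major_bounds hM (mem_cent_iff z) hxp hb hdef
  rw [natCard_block_eq]
  set BB : Finset (IrrCharacter G) := Finset.univ.filter (· ∈ B) with hBB
  rcases Nat.lt_or_ge m 2 with hm1 | hm2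
  · have hm1' : m = 1 := by omega
    subst hm1'
    calc BB.card = ∑ χ ∈ BB, 1 := by simp
      _ ≤ ∑ χ ∈ BB, p ^ (2 * blockHeight p B ((χ : IrrCharacter G) : G → ℂ)) :=
        Finset.sum_le_sum fun χ _ => Nat.one_le_pow _ _ (Fact.out : p.Prime).pos
      _ ≤ 1 * p ^ blockDefect p B := h1
      _ = _ := one_mul _
  · have h3 : 2 * BB.card ≤ 2 * p ^ blockDefect p B := by
      calc 2 * BB.card = ∑ χ ∈ BB, 2 := by simp [mul_comm]
        _ ≤ ∑ χ ∈ BB, (if blockHeight p B ((χ : IrrCharacter G) : G → ℂ) = 0 then m else
            p ^ blockHeight p B ((χ : IrrCharacter G) : G → ℂ)) := by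
          refine Finset.sum_le_sum fun χ _ => ?_
          split_ifs with h0
          · exact hm2
          · calc 2 ≤ p := (Fact.out : p.Prime).two_le
              _ = p ^ 1 := (pow_one p).symm
              _ ≤ _ := Nat.pow_le_pow_right (Fact.out : p.Prime).pos (by omega)
        _ ≤ p ^ blockDefect p B * blockRank p b := h2
        _ ≤ p ^ blockDefect p B * 2 := Nat.mul_le_mul_left _ hl
        _ = _ := mul_comm _ _
    omega

end Cfsg.Agent.S4539
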