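import Cfsg.Statements.S4669
import Cfsg.Agent.Lib.H8Group.CentralStruct

set_option autoImplicit false
open Cfsg

namespace Cfsg.Agent.S4669

open Cfsg.Agent.Lib.Char Cfsg.Agent.Lib.H8Group Cfsg.Agent.Lib.Blocks

/-- Fix a prime p and a maximal ideal M of the algebraic integers containing p. If the p-block B of the finite group G has a defect group P contained in the centre of G, then B has p-regular rank one (a single irreducible Brauer character). -/
theorem result {G : Type*} [Group G] [Fintype G] (p : ℕ) [Fact p.Prime] (M : Ideal Cfsg.AlgInt) (hM : Cfsg.IsPModular p M) (B : Set (Cfsg.IrrCharacter G)) (hB : Cfsg.IsPBlock M B) (P : Subgroup G) (hD : Cfsg.IsDefectGroup p M B P) (hPZ : P ≤ Subgroup.center G) : Cfsg.blockRank p B = 1 := by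
  classical
  have := isPrime_of_modular hM
  letI : Fintype P := Fintype.ofFinite P
  have hpp : p.Prime := (inferInstance : Fact p.Prime).out
  haveI hPn : P.Normal := by
    refine ⟨fun n hn g => ?_⟩
    have h1 := Subgroup.mem_center_iff.mp (hPZ hn) g
    rw [h1, mul_inv_cancel_right]
    exact hn
  have hC : Subgroup.centralizer (P : Set G) = ⊤ := by
    rw [eq_top_iff]
    intro g _
    rw [Subgroup.mem_centralizer_iff]
    intro x hx
    exact (Subgroup.mem_center_iff.mp (hPZ hx) g).symm ▸ rfl
  have hG : P ⊔ Subgroup.centralizer (P : Set G) = ⊤ := by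
    rw [hC, sup_top_eq]
  have hPp := IsDefectGroup.isPGroup hD
  obtain ⟨θ₀, α, Ψ, hθ₀, Dat, hinj, hΨ, hrange⟩ := Cfsg.Agent.Lib.H8Group.normal_central_block_struct hM hPp hG hB hD
  have hspan : Submodule.span ℂ ((fun χ : IrrCharacter G => pRegularPart p (χ : G → ℂ)) '' B) =
      Submodule.span ℂ {pRegularPart p (θ₀ : G → ℂ)} := by
    apply le_antisymm
    · rw [Submodule.span_le]
      rintro _ ⟨χ, hχ, rfl⟩
      rw [← hrange] at hχ
      obtain ⟨lam, rfl⟩ := hχ
      refine Submodule.mem_span_singleton.mpr ⟨(lam : P → ℂ) 1, ?_⟩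
      funext g
      by_cases hg : p ∣ orderOf g
      · simp [pRegularPart_of_dvd _ hg]
      · simp only [Pi.smul_apply, smul_eq_mul, pRegularPart_of_not_dvd _ hg]
        rw [hΨ]
        exact (Dat.psi_regular _ hg).symm
    · rw [Submodule.span_le, Set.singleton_subset_iff]
      exact Submodule.subset_span ⟨θ₀, hθ₀, rfl⟩
  rw [blockRank, hspan]
  exact finrank_span_singleton (pRegularPart_ne_zero θ₀)

end Cfsg.Agent.S4669
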