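import Cfsg.Statements.S4762
import Cfsg.Agent.Lib.Char.Degree
import Cfsg.Agent.Lib.Char.Clifford
import Cfsg.Agent.Lib.Char.CliffordBij
import Cfsg.Agent.Lib.Char.Kernel
import Cfsg.Agent.Lib.Char.Linear
import Cfsg.Agent.Lib.Basic.Frattini
import Cfsg.Agent.Lib.Char.Ito

set_option autoImplicit false
open Cfsg

namespace Cfsg.Agent.S4762

open Cfsg.Agent.Lib.Char
open scoped ComplexConjugate commutatorElement

/-- A nontrivial normal subgroup of a nilpotent group meets the centre. -/
theorem exists_mem_center_of_normal {G : Type*} [Group G] [hG : Group.IsNilpotent G] (N : Subgroup G)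
    [hNn : N.Normal] (hN : N ≠ ⊥) : ∃ z ∈ N, z ≠ 1 ∧ z ∈ Subgroup.center G := by
  by_contra hcon
  push Not at hcon
  have h : ∀ k : ℕ, ∀ x ∈ N, x ∈ Subgroup.upperCentralSeries G k → x = 1 := by
    intro k
    induction k with
    | zero =>
      intro x _ hx
      rw [Subgroup.upperCentralSeries_zero] at hx
      simpa using hx
    | succ k ih =>
      intro x hxN hx
      rw [Subgroup.mem_upperCentralSeries_succ_iff] at hx
      by_contra hx1
      apply hcon x hxN hx1
      rw [Subgroup.mem_center_iff]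
      intro y
      have h1 : x * y * x⁻¹ * y⁻¹ ∈ N := by
        have h2 : x * y * x⁻¹ * y⁻¹ = x * (y * x⁻¹ * y⁻¹) := by group
        rw [h2]
        exact N.mul_mem hxN (hNn.conj_mem _ (N.inv_mem hxN) _)
      have h3 := ih _ h1 (hx y)
      have h4 : x * y * x⁻¹ = y := mul_inv_eq_one.mp h3
      exact (mul_inv_eq_iff_eq_mul.mp h4).symm
  obtain ⟨n, hn⟩ := hG.nilpotent'
  apply hN
  rw [Subgroup.eq_bot_iff_forall]
  intro x hx
  exact h n x hx (by rw [hn]; trivial)

section

variable {G : Type*} [Group G] [Fintype G]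

/-- On the derived subgroup of `P`, a linear character of `P` is trivial. -/
theorem hom_commutator_eq_one (P : Subgroup G) (l : ↥P →* ℂˣ) {t : G} (ht : t ∈ ⁅P, P⁆) (htP : t ∈ P) :
    l ⟨t, htP⟩ = 1 := by
  have h1 : ⁅P, P⁆ ≤ l.ker.map P.subtype := by
    rw [Subgroup.commutator_le]
    intro a ha b hb
    refine ⟨⁅(⟨a, ha⟩ : ↥P), (⟨b, hb⟩ : ↥P)⁆, ?_, rfl⟩
    show l _ = 1
    rw [map_commutatorElement, commutatorElement_eq_one_iff_mul_comm]
    exact mul_comm _ _
  obtain ⟨y, hy, hyt⟩ := h1 ht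
  have h2 : y = ⟨t, htP⟩ := Subtype.ext hyt
  rw [← h2]
  exact hy

/-- Characters of degree prime to `p` contain `P'` in their kernel, for `P` a normal `p`-subgroup. -/
theorem commutator_le_charKer (P : Subgroup G) [P.Normal] {p : ℕ} [hp : Fact p.Prime] (hP : IsPGroup p P)
    {χ : G → ℂ} (hχ : IsIrrCharacter G χ) (hd : ¬ p ∣ charDegree χ) : ⁅P, P⁆ ≤ charKer χ := by
  classical
  haveI : Fintype P := Fintype.ofFinite _
  have hχc := IsIrrCharacter.isCharacter hχ
  obtain ⟨θ, hθ, hne⟩ := exists_constituent (isCharacter_resFun P hχc)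
    (by
      show χ ((1 : P) : G) ≠ 0
      rw [OneMemClass.coe_one]
      exact IsIrrCharacter.apply_one_ne_zero hχ)
  obtain ⟨e, he⟩ := exists_multiplicity P hχc hθ
  have hdeg := clifford_degree_nat P hχ hθ hne (apply_one_eq_charDegree hχc)
    (apply_one_eq_charDegree (IsIrrCharacter.isCharacter hθ)) he
  have h1 : charDegree θ = 1 := by
    have h2 : charDegree θ ∣ Nat.card P := charDegree_dvd_card hθ
    obtain ⟨k, hk⟩ := (IsPGroup.iff_card.mp hP)
    rw [hk] at h2
    obtain ⟨j, -, hj⟩ := (Nat.dvd_prime_pow hp.out).mp h2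
    cases j with
    | zero => simpa using hj
    | succ j =>
      exfalso
      apply hd
      rw [hdeg, hj, pow_succ]
      exact Dvd.dvd.mul_left (Dvd.intro_left _ rfl) _
  have hθ1 : θ 1 = 1 := by
    rw [apply_one_eq_charDegree (IsIrrCharacter.isCharacter hθ), h1]
    simp
  have hconj : ∀ (g : G) (t : P), (t : G) ∈ ⁅P, P⁆ → conjFun P g θ t = 1 := by
    intro g t ht
    have hc := isCharacter_conjFun P g (IsIrrCharacter.isCharacter hθ)
    have hc1 : conjFun P g θ 1 = 1 := by
      rw [conjFun_apply, ← hθ1]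
      congr 1
      apply Subtype.ext
      simp
    obtain ⟨l, hl⟩ := IsCharacter.exists_monoidHom hc hc1
    rw [hl]
    have := hom_commutator_eq_one P l ht t.2
    simp only [this, Units.val_one]
  intro t ht
  have htP : t ∈ P := Subgroup.commutator_le_left P P ht
  rw [mem_charKer hχc]
  have hs1 := clifford_sum P hχ hθ hne ⟨t, htP⟩
  have hs2 := clifford_sum P hχ hθ hne 1
  have h3 : ∑ g : G, conjFun P g θ ⟨t, htP⟩ = ∑ g : G, conjFun P g θ 1 := by
    refine Finset.sum_congr rfl fun g _ => ?_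
    rw [hconj g ⟨t, htP⟩ ht, hconj g 1 (Subgroup.one_mem _)]
  rw [h3, ← hs2] at hs1
  have hI : (Nat.card (inertia P θ) : ℂ) ≠ 0 := by
    exact_mod_cast Nat.card_pos.ne'
  exact mul_left_cancel₀ hI hs1

/-- A central element has value of maximal absolute value. -/
theorem norm_apply_of_mem_center {χ : G → ℂ} (hχ : IsIrrCharacter G χ) {z : G}
    (hz : z ∈ Subgroup.center G) : ‖χ z‖ = ‖χ 1‖ := by
  have ha := IsIrrCharacter.apply_one_ne_zero hχ
  have h1 : ∀ k : ℕ, χ (z ^ k) * χ 1 ^ k = χ 1 * χ z ^ k := by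
    intro k
    induction k with
    | zero => simp
    | succ k ih =>
      have h2 := apply_mul_of_mem_center hχ hz (z ^ k)
      rw [pow_succ, pow_succ, pow_succ]
      calc χ (z ^ k * z) * (χ 1 ^ k * χ 1) = (χ 1 * χ (z ^ k * z)) * χ 1 ^ k := by ring
        _ = (χ (z ^ k) * χ z) * χ 1 ^ k := by rw [h2]
        _ = (χ (z ^ k) * χ 1 ^ k) * χ z := by ring
        _ = χ 1 * (χ z ^ k * χ z) := by rw [ih]; ring
  have h2 := h1 (orderOf z)
  rw [pow_orderOf_eq_one] at h2
  have h3 : χ 1 ^ orderOf z = χ z ^ orderOf z := mul_left_cancel₀ ha h2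
  have h4 := congrArg norm h3
  rw [norm_pow, norm_pow] at h4
  have h5 := (pow_left_inj₀ (norm_nonneg _) (norm_nonneg _) (orderOf_pos z).ne').mp h4
  exact h5.symm

/-- The structure forced by a unique character not containing `T` in its kernel. -/
theorem unique_structure [Group.IsNilpotent G] (T : Subgroup G) [T.Normal] (hT : T ≠ ⊥)
    (χ₀ : IrrCharacter G) (h : ∀ χ : IrrCharacter G, χ ≠ χ₀ → T ≤ charKer (χ : G → ℂ)) :
    ∃ z : G, z ≠ 1 ∧ z * z = 1 ∧ z ∈ T ∧ z ∈ Subgroup.center G ∧ (∀ t ∈ T, t = 1 ∨ t = z) ∧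
      (∀ g ∈ Subgroup.center G, g = 1 ∨ g = z) := by
  classical
  obtain ⟨n, hn⟩ := IsCharacter.apply_one (IsIrrCharacter.isCharacter χ₀.2)
  have hn0 : (n : ℂ) ≠ 0 := by
    rw [← hn]
    exact IsIrrCharacter.apply_one_ne_zero χ₀.2
  have hnr : (n : ℝ) ≠ 0 := by exact_mod_cast hn0
  have hcardne : (Nat.card G : ℂ) ≠ 0 := by exact_mod_cast Nat.card_pos.ne'
  have hcard0 : (0 : ℝ) < (Nat.card G : ℝ) := by exact_mod_cast Nat.card_pos
  -- the basic relation
  have hrel : ∀ t ∈ T, t ≠ 1 → (n : ℂ) * ((n : ℂ) - (χ₀ : G → ℂ) t) = (Nat.card G : ℂ) := by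
    intro t ht ht1
    have h1 := sum_irr_degree_mul_apply (G := G) t
    rw [if_neg ht1] at h1
    have h2 := sum_irr_degree_sq (G := G)
    have h3 : ∑ χ : IrrCharacter G, (χ : G → ℂ) 1 * ((χ : G → ℂ) 1 - (χ : G → ℂ) t) = (Nat.card G : ℂ) := by
      simp only [mul_sub, Finset.sum_sub_distrib]
      rw [h1, sub_zero, ← h2]
      exact Finset.sum_congr rfl fun χ _ => (sq _).symm
    have h4 : ∑ χ : IrrCharacter G, (χ : G → ℂ) 1 * ((χ : G → ℂ) 1 - (χ : G → ℂ) t) =
        (χ₀ : G → ℂ) 1 * ((χ₀ : G → ℂ) 1 - (χ₀ : G → ℂ) t) := by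
      apply Finset.sum_eq_single χ₀
      · intro χ _ hne
        rw [(mem_charKer (IsIrrCharacter.isCharacter χ.2)).mp (h χ hne ht), sub_self, mul_zero]
      · intro hh
        exact absurd (Finset.mem_univ _) hh
    rw [h4, hn] at h3
    exact h3
  obtain ⟨z, hzT, hz1, hzc⟩ := exists_mem_center_of_normal T hT
  -- the value at `z`
  have hnz : ‖(χ₀ : G → ℂ) z‖ = (n : ℝ) := by
    rw [norm_apply_of_mem_center χ₀.2 hzc, hn]
    simp
  have hcardeq : (Nat.card G : ℂ) = 2 * (n : ℂ) ^ 2 := by
    have h1 := hrel z hzT hz1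
    set r : ℝ := (n : ℝ) - (Nat.card G : ℝ) / n with hr
    have h2 : (χ₀ : G → ℂ) z = (r : ℂ) := by
      rw [hr]
      push_cast
      field_simp
      linear_combination -h1
    rw [h2, Complex.norm_real, Real.norm_eq_abs] at hnz
    have h3 : r = -(n : ℝ) := by
      rcases abs_eq (Nat.cast_nonneg n) |>.mp hnz with h4 | h4
      · exfalso
        have h5 : (Nat.card G : ℝ) / n = 0 := by
          rw [hr] at h4
          linarith
        have h6 : (Nat.card G : ℝ) / n ≠ 0 := div_ne_zero hcard0.ne' hnr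
        exact h6 h5
      · exact h4
    rw [h2, h3] at h1
    push_cast at h1
    linear_combination -h1
  have hval : ∀ t ∈ T, t ≠ 1 → (χ₀ : G → ℂ) t = -(n : ℂ) := by
    intro t ht ht1
    have h1 := hrel t ht ht1
    rw [hcardeq] at h1
    have h2 : (n : ℂ) * ((n : ℂ) - (χ₀ : G → ℂ) t) = (n : ℂ) * (2 * (n : ℂ)) := by
      rw [h1]; ring
    have h3 := mul_left_cancel₀ hn0 h2
    linear_combination -h3
  -- vanishing
  have hvan : ∀ g : G, g ≠ 1 → g ≠ z → (χ₀ : G → ℂ) g = 0 := by
    intro g hg1 hgz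
    have hc1 : ¬ IsConj g 1 := by
      rw [isConj_one_left]
      exact hg1
    have hc2 : ¬ IsConj g z := by
      intro hc
      obtain ⟨c, hc⟩ := isConj_iff.mp hc
      apply hgz
      have h1 : c * g * c⁻¹ = z := hc
      have h2 : c * g = z * c := mul_inv_eq_iff_eq_mul.mp h1
      have h3 : z * c = c * z := (Subgroup.mem_center_iff.mp hzc c).symm
      rw [h3] at h2
      exact mul_left_cancel h2
    have h1 := sum_irr_mul_conj_of_not_isConj hc1
    have h2 := sum_irr_mul_conj_of_not_isConj hc2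
    have h3 : ∑ χ : IrrCharacter G, (χ : G → ℂ) g * (conj ((χ : G → ℂ) 1) - conj ((χ : G → ℂ) z)) = 0 := by
      simp only [mul_sub, Finset.sum_sub_distrib]
      rw [h1, h2, sub_zero]
    have h4 : ∑ χ : IrrCharacter G, (χ : G → ℂ) g * (conj ((χ : G → ℂ) 1) - conj ((χ : G → ℂ) z)) =
        (χ₀ : G → ℂ) g * (conj ((χ₀ : G → ℂ) 1) - conj ((χ₀ : G → ℂ) z)) := by
      apply Finset.sum_eq_single χ₀
      · intro χ _ hne
        rw [(mem_charKer (IsIrrCharacter.isCharacter χ.2)).mp (h χ hne hzT), sub_self, mul_zero]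
      · intro hh
        exact absurd (Finset.mem_univ _) hh
    rw [h4, hval z hzT hz1, hn] at h3
    simp only [map_natCast, map_neg, sub_neg_eq_add] at h3
    rcases mul_eq_zero.mp h3 with h5 | h5
    · exact h5
    · exfalso
      have h6 : (2 : ℂ) * (n : ℂ) = 0 := by linear_combination h5
      rcases mul_eq_zero.mp h6 with h7 | h7
      · exact two_ne_zero h7
      · exact hn0 h7
  have hT' : ∀ t ∈ T, t = 1 ∨ t = z := by
    intro t ht
    by_contra hcon
    push Not at hcon
    have h1 := hval t ht hcon.1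
    have h2 := hvan t hcon.1 hcon.2
    rw [h2] at h1
    apply hn0
    linear_combination h1
  refine ⟨z, hz1, ?_, hzT, hzc, hT', ?_⟩
  · rcases hT' (z * z) (T.mul_mem hzT hzT) with h1 | h1
    · exact h1
    · exact absurd (mul_eq_left.mp h1) hz1
  · intro g hg
    by_contra hcon
    push Not at hcon
    have h1 := hvan g hcon.1 hcon.2
    have h2 := norm_apply_of_mem_center χ₀.2 hg
    rw [h1, hn, norm_zero] at h2
    simp only [Complex.norm_natCast] at h2
    exact hnr h2.symm

end

/-- Let p be a prime and G a finite nilpotent group. Then G has exactly one irreducible complex character of degree divisible by p if and only if p = 2 and G is an extraspecial 2-group. -/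
theorem result {G : Type*} [Group G] [Finite G] [Group.IsNilpotent G] (p : ℕ) [Fact p.Prime] : Nat.card {χ : Cfsg.IrrCharacter G // p ∣ Cfsg.charDegree (χ : G → ℂ)} = 1 ↔ (p = 2 ∧ Cfsg.IsExtraspecial 2 G) := by
  classical
  cases nonempty_fintype G
  constructor
  · intro hone
    obtain ⟨hsub, ⟨⟨χ₀, hχ₀⟩⟩⟩ := Nat.card_eq_one_iff_unique.mp hone
    have hother : ∀ χ : IrrCharacter G, χ ≠ χ₀ → ¬ p ∣ charDegree (χ : G → ℂ) := fun χ hne hd =>
      hne (congrArg Subtype.val (hsub.elim ⟨χ, hd⟩ ⟨χ₀, hχ₀⟩))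
    have hnorm : ∀ (q : ℕ) [Fact q.Prime] (Q : Sylow q G), (Q : Subgroup G).Normal := fun q hq Q => by
      have h9 := (Group.isNilpotent_of_finite_tfae (G := G)).out 0 3
      exact h9.mp inferInstance q hq Q
    obtain ⟨P⟩ : Nonempty (Sylow p G) := inferInstance
    haveI hPn : (P : Subgroup G).Normal := hnorm p P
    have hTn : (⁅(P : Subgroup G), (P : Subgroup G)⁆).Normal := Subgroup.commutator_normal _ _
    have hTne : ⁅(P : Subgroup G), (P : Subgroup G)⁆ ≠ ⊥ := by
      intro hT
      have hab : ∀ a ∈ (P : Subgroup G), ∀ b ∈ (P : Subgroup G), a * b = b * a := by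
        intro a ha b hb
        have := Subgroup.commutator_mem_commutator ha hb
        rw [hT, Subgroup.mem_bot, commutatorElement_eq_one_iff_mul_comm] at this
        exact this
      have h1 := charDegree_dvd_index_of_abelian_normal χ₀.2 (P : Subgroup G) hab
      exact P.not_dvd_index (hχ₀.trans h1)
    obtain ⟨z, hz1, hzz, hzT, hzc, hT', hZ'⟩ := unique_structure _ hTne χ₀
      (fun χ hne => commutator_le_charKer (P : Subgroup G) P.isPGroup' χ.2 (hother χ hne))
    have hord : orderOf z = 2 := orderOf_eq_prime (by rw [sq]; exact hzz) hz1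
    have hqtwo : ∀ (q : ℕ) [hq : Fact q.Prime] (Q : Sylow q G), z ∈ (Q : Subgroup G) → q = 2 := by
      intro q hq Q hzQ
      obtain ⟨k, hk⟩ := Q.isPGroup' ⟨z, hzQ⟩
      have h1 : z ^ q ^ k = 1 := by
        have := congrArg Subtype.val hk
        simpa using this
      have h2 := orderOf_dvd_of_pow_eq_one h1
      rw [hord] at h2
      have h3 := (Nat.prime_two.dvd_of_dvd_pow h2)
      exact ((Nat.prime_dvd_prime_iff_eq Nat.prime_two hq.out).mp h3).symm
    have hzP : z ∈ (P : Subgroup G) := Subgroup.commutator_le_left _ _ hzT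
    have hp2 : p = 2 := hqtwo p P hzP
    have hGp : IsPGroup 2 G := by
      apply IsPGroup.of_card (n := (Nat.card G).primeFactorsList.length)
      apply Nat.eq_prime_pow_of_unique_prime_dvd Nat.card_pos.ne'
      intro q hq hqd
      haveI : Fact q.Prime := ⟨hq⟩
      obtain ⟨Q⟩ : Nonempty (Sylow q G) := inferInstance
      haveI hQn := hnorm q Q
      have hQne : (Q : Subgroup G) ≠ ⊥ := Q.ne_bot_of_dvd_card hqd
      obtain ⟨y, hyQ, hy1, hyc⟩ := exists_mem_center_of_normal (Q : Subgroup G) hQne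
      have hyz : y = z := (hZ' y hyc).resolve_left hy1
      rw [hyz] at hyQ
      exact hqtwo q Q hyQ
    subst hp2
    have hPtop : (P : Subgroup G) = ⊤ := (P.is_maximal' (hGp.to_subgroup ⊤) le_top).symm
    have hTeq : commutator G = ⁅(P : Subgroup G), (P : Subgroup G)⁆ := by
      rw [hPtop, commutator_def]
    have hZcomm : commutator G = Subgroup.center G := by
      rw [hTeq]
      ext g
      constructor
      · intro hg
        rcases hT' g hg with rfl | rfl
        · exact Subgroup.one_mem _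
        · exact hzc
      · intro hg
        rcases hZ' g hg with rfl | rfl
        · exact Subgroup.one_mem _
        · exact hzT
    have hfr : frattini G = Subgroup.center G := by
      apply le_antisymm
      · apply Cfsg.Agent.Lib.Basic.frattini_le_of_commutator_le_of_pow_mem Nat.prime_two _ hZcomm.le
        intro x
        rw [Subgroup.mem_center_iff]
        intro y
        have hcm : x * y * x⁻¹ * y⁻¹ ∈ Subgroup.center G := by
          rw [← hZcomm]
          exact Subgroup.commutator_mem_commutator (Subgroup.mem_top x) (Subgroup.mem_top y)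
        set c := x * y * x⁻¹ * y⁻¹ with hc
        have hcc : c * c = 1 := by
          rcases hZ' c hcm with h | h
          · rw [h, one_mul]
          · rw [h, hzz]
        have hxy : x * y = c * (y * x) := by
          rw [hc]; group
        have hcx : x * c = c * x := Subgroup.mem_center_iff.mp hcm x
        calc y * x ^ 2 = (c * c) * (y * x * x) := by rw [hcc, sq, one_mul]; group
          _ = c * (c * (y * x)) * x := by group
          _ = c * (x * y) * x := by rw [← hxy]
          _ = (c * x) * y * x := by group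
          _ = (x * c) * y * x := by rw [hcx]
          _ = x * (c * (y * x)) := by group
          _ = x * (x * y) := by rw [← hxy]
          _ = x ^ 2 * y := by rw [sq]; group
      · rw [← hZcomm]
        exact Cfsg.Agent.Lib.Basic.commutator_le_frattini_of_isNilpotent
    refine ⟨rfl, ⟨hGp, hfr, hZcomm⟩, ?_⟩
    rw [Nat.card_eq_two_iff]
    refine ⟨1, ⟨z, hzc⟩, ?_, ?_⟩
    · intro h
      exact hz1 (congrArg Subtype.val h).symm
    · ext g
      simp only [Set.mem_insert_iff, Set.mem_singleton_iff, Set.mem_univ, iff_true]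
      rcases hZ' g.1 g.2 with h | h
      · left; exact Subtype.ext h
      · right; exact Subtype.ext h
  · rintro ⟨rfl, ⟨hGp, hfr, hcc⟩, hZ⟩
    obtain ⟨⟨z, hzc⟩, hz1, hzu⟩ := (Nat.card_eq_two_iff' (1 : Subgroup.center G)).mp hZ
    have hz1' : z ≠ 1 := fun h => hz1 (Subtype.ext h)
    have hZ' : ∀ g ∈ Subgroup.center G, g = 1 ∨ g = z := by
      intro g hg
      by_cases h1 : g = 1
      · left; exact h1
      · right
        have := hzu ⟨g, hg⟩ (fun h => h1 (congrArg Subtype.val h))
        exact congrArg Subtype.val this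
    have hzz : z * z = 1 := by
      rcases hZ' (z * z) (Subgroup.mul_mem _ hzc hzc) with h | h
      · exact h
      · exact absurd (mul_eq_left.mp h) hz1'
    have hzcomm : z ∈ commutator G := by rw [hcc]; exact hzc
    -- characters with `z` in the kernel are linear
    have hlin : ∀ χ : IrrCharacter G, (χ : G → ℂ) z = (χ : G → ℂ) 1 → (χ : G → ℂ) 1 = 1 := by
      intro χ hχz
      have hle : commutator G ≤ charKer (χ : G → ℂ) := by
        intro g hg
        rw [hcc] at hg
        rw [mem_charKer (IsIrrCharacter.isCharacter χ.2)]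
        rcases hZ' g hg with rfl | rfl
        · rfl
        · exact hχz
      haveI : Fintype (commutator G) := Fintype.ofFinite _
      haveI : Fintype (G ⧸ commutator G) := Fintype.ofFinite _
      obtain ⟨β, hβ, hβe⟩ := exists_deflate (commutator G) χ.2 hle
      have h1 : β 1 = 1 := (comm_iff_irr_degree_one (G := G ⧸ commutator G)).mp (by
        intro a b
        obtain ⟨a, rfl⟩ := QuotientGroup.mk_surjective a
        obtain ⟨b, rfl⟩ := QuotientGroup.mk_surjective b
        rw [← QuotientGroup.mk_mul, ← QuotientGroup.mk_mul, QuotientGroup.eq]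
        have h2 : (a * b)⁻¹ * (b * a) = ⁅b⁻¹, a⁻¹⁆ := by
          rw [commutatorElement_def]; group
        rw [h2]
        exact Subgroup.commutator_mem_commutator (Subgroup.mem_top _) (Subgroup.mem_top _)) ⟨β, hβ⟩
      rw [hβe]
      exact h1
    have hlin2 : ∀ χ : IrrCharacter G, (χ : G → ℂ) 1 = 1 → (χ : G → ℂ) z = 1 := by
      intro χ h1
      obtain ⟨l, hl⟩ := IsCharacter.exists_monoidHom (IsIrrCharacter.isCharacter χ.2) h1
      have h2 : commutator G ≤ l.ker := by
        rw [commutator_def, Subgroup.commutator_le]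
        intro a _ b _
        rw [MonoidHom.mem_ker, map_commutatorElement, commutatorElement_eq_one_iff_mul_comm]
        exact mul_comm _ _
      have h3 := h2 hzcomm
      rw [MonoidHom.mem_ker] at h3
      rw [hl]
      simp [h3]
    -- every character of even degree
    have hdeg2 : ∀ χ : IrrCharacter G, 2 ∣ charDegree (χ : G → ℂ) → (χ : G → ℂ) z ≠ (χ : G → ℂ) 1 := by
      intro χ h2 hχz
      have h1 := hlin χ hχz
      rw [apply_one_eq_charDegree (IsIrrCharacter.isCharacter χ.2)] at h1
      have h3 : charDegree (χ : G → ℂ) = 1 := by exact_mod_cast h1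
      rw [h3] at h2
      omega
    have hvalz : ∀ χ : IrrCharacter G, (χ : G → ℂ) z ≠ (χ : G → ℂ) 1 → (χ : G → ℂ) z = - (χ : G → ℂ) 1 := by
      intro χ hne
      have h1 := apply_mul_of_mem_center χ.2 hzc z
      rw [hzz] at h1
      have h2 : ((χ : G → ℂ) z - (χ : G → ℂ) 1) * ((χ : G → ℂ) z + (χ : G → ℂ) 1) = 0 := by
        linear_combination -h1
      rcases mul_eq_zero.mp h2 with h3 | h3
      · exact absurd (sub_eq_zero.mp h3) hne
      · linear_combination h3
    have hvan : ∀ χ : IrrCharacter G, (χ : G → ℂ) z ≠ (χ : G → ℂ) 1 → ∀ g : G, g ≠ 1 → g ≠ z → (χ : G → ℂ) g = 0 := by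
      intro χ hne g hg1 hgz
      have hgc : g ∉ Subgroup.center G := fun h => (hZ' g h).elim hg1 hgz
      rw [Subgroup.mem_center_iff] at hgc
      push Not at hgc
      obtain ⟨h, hh⟩ := hgc
      have hcm : g * h * g⁻¹ * h⁻¹ ∈ Subgroup.center G := by
        rw [← hcc]
        exact Subgroup.commutator_mem_commutator (Subgroup.mem_top g) (Subgroup.mem_top h)
      have hcne : g * h * g⁻¹ * h⁻¹ ≠ 1 := by
        intro h1
        apply hh
        have h2 : g * h * g⁻¹ = h := mul_inv_eq_one.mp h1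
        exact (mul_inv_eq_iff_eq_mul.mp h2).symm
      have hcz : g * h * g⁻¹ * h⁻¹ = z := (hZ' _ hcm).resolve_left hcne
      have hconj : h * g * h⁻¹ = g * z := by
        have hzinv : z⁻¹ = z := inv_eq_of_mul_eq_one_left hzz
        have h1 : h * g⁻¹ * h⁻¹ = g⁻¹ * z := by
          rw [← hcz]; group
        have h2 : (h * g⁻¹ * h⁻¹)⁻¹ = h * g * h⁻¹ := by group
        rw [← h2, h1, mul_inv_rev, inv_inv, hzinv]
        exact (Subgroup.mem_center_iff.mp hzc g).symm
      have hclass : (χ : G → ℂ) (h * g * h⁻¹) = (χ : G → ℂ) g :=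
        IsCharacter.isClassFunction (IsIrrCharacter.isCharacter χ.2) g h
      rw [hconj] at hclass
      have h3 := apply_mul_of_mem_center χ.2 hzc g
      rw [hclass, hvalz χ hne] at h3
      have h4 := IsIrrCharacter.apply_one_ne_zero χ.2
      have h5 : (χ : G → ℂ) 1 * (2 * (χ : G → ℂ) g) = 0 := by linear_combination h3
      rcases mul_eq_zero.mp h5 with h6 | h6
      · exact absurd h6 h4
      · rcases mul_eq_zero.mp h6 with h7 | h7
        · exact absurd h7 two_ne_zero
        · exact h7
    have hunique : ∀ χ ψ : IrrCharacter G, (χ : G → ℂ) z ≠ (χ : G → ℂ) 1 → (ψ : G → ℂ) z ≠ (ψ : G → ℂ) 1 → χ = ψ := by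
      intro χ ψ hχ hψ
      by_contra hne
      have h1 := classInner_irr_of_ne χ.2 ψ.2 (fun h => hne (Subtype.ext h))
      have h2 : ∑ g : G, (χ : G → ℂ) g * conj ((ψ : G → ℂ) g) =
          (χ : G → ℂ) 1 * conj ((ψ : G → ℂ) 1) + (χ : G → ℂ) z * conj ((ψ : G → ℂ) z) := by
        rw [← Finset.sum_pair (f := fun g => (χ : G → ℂ) g * conj ((ψ : G → ℂ) g)) (Ne.symm hz1')]
        symm
        apply Finset.sum_subset (Finset.subset_univ _)
        intro g _ hg
        simp only [Finset.mem_insert, Finset.mem_singleton, not_or] at hg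
        rw [hvan χ hχ g hg.1 hg.2, zero_mul]
      rw [classInner, h2, hvalz χ hχ, hvalz ψ hψ, map_neg] at h1
      have h3 : (Nat.card G : ℂ) ≠ 0 := by exact_mod_cast Nat.card_pos.ne'
      have h4 : (χ : G → ℂ) 1 * conj ((ψ : G → ℂ) 1) * 2 = 0 := by
        have := (mul_eq_zero.mp h1).resolve_left (inv_ne_zero h3)
        linear_combination this
      obtain ⟨n, hn⟩ := IsCharacter.apply_one (IsIrrCharacter.isCharacter ψ.2)
      rw [hn, map_natCast, ← hn] at h4
      rcases mul_eq_zero.mp h4 with h5 | h5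
      · rcases mul_eq_zero.mp h5 with h6 | h6
        · exact IsIrrCharacter.apply_one_ne_zero χ.2 h6
        · exact IsIrrCharacter.apply_one_ne_zero ψ.2 h6
      · exact two_ne_zero h5
    -- existence
    obtain ⟨χ, hχ⟩ : ∃ χ : IrrCharacter G, (χ : G → ℂ) z ≠ (χ : G → ℂ) 1 := by
      by_contra hcon
      push Not at hcon
      have h1 := sum_irr_degree_mul_apply (G := G) z
      rw [if_neg hz1'] at h1
      have h2 := sum_irr_degree_sq (G := G)
      have h3 : ∑ χ : IrrCharacter G, (χ : G → ℂ) 1 ^ 2 = 0 := by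
        rw [← h1]
        refine Finset.sum_congr rfl fun χ _ => ?_
        rw [hcon χ, sq]
      rw [h3] at h2
      exact (by exact_mod_cast Nat.card_pos.ne' : (Nat.card G : ℂ) ≠ 0) h2.symm
    have hχ2 : 2 ∣ charDegree (χ : G → ℂ) := by
      have h1 : charDegree (χ : G → ℂ) ≠ 1 := by
        intro h
        have h2 : (χ : G → ℂ) 1 = 1 := by
          rw [apply_one_eq_charDegree (IsIrrCharacter.isCharacter χ.2), h]
          simp
        exact hχ (by rw [hlin2 χ h2, h2])
      have h2 : charDegree (χ : G → ℂ) ∣ Nat.card G := charDegree_dvd_card χ.2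
      obtain ⟨k, hk⟩ := IsPGroup.iff_card.mp hGp
      rw [hk] at h2
      obtain ⟨j, -, hj⟩ := (Nat.dvd_prime_pow Nat.prime_two).mp h2
      cases j with
      | zero => exact absurd (by simpa using hj) h1
      | succ j =>
        rw [hj, pow_succ]
        exact Dvd.intro_left _ rfl
    rw [Nat.card_eq_one_iff_unique]
    refine ⟨⟨fun a b => Subtype.ext ?_⟩, ⟨⟨χ, hχ2⟩⟩⟩
    exact hunique a.1 b.1 (hdeg2 a.1 a.2) (hdeg2 b.1 b.2)

end Cfsg.Agent.S4762
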