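import Cfsg.Statements.S4888
import Cfsg.Agent.Lib.Blocks.Inflate
import Cfsg.Agent.Lib.Blocks.Height
import Cfsg.Agent.Lib.Blocks.Third
import Cfsg.Agent.Lib.Transfer.Basic
import Cfsg.Agent.Lib.LocalEven.Basic
import Cfsg.Agent.Lib.Fusion.Hyperfocal
import Cfsg.Agent.Lib.H8Group.Thompson
import Cfsg.Agent.Lib.Char.Linear
import Cfsg.Agent.S4762

set_option autoImplicit false
open Cfsg

namespace Cfsg.Agent.S4888

open Cfsg.Agent.Lib.Char Cfsg.Agent.Lib.Blocks Cfsg.Agent.Lib.Transfer
open scoped ComplexConjugate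

universe u

/-- Orbit sums modulo the local ideal. -/
theorem sum_sub_sum_fixed_memLocalIdeal {Γ X : Type*} [Group Γ] [MulAction Γ X] [Fintype X]
    {M : Ideal AlgInt} {p : ℕ} [Fact p.Prime] (hM : IsPModular p M) (f : X → ℂ)
    (hf : ∀ (g : Γ) x, f (g • x) = f x) (hloc : ∀ x, MemLocalRing M (f x))
    (hp : ∀ x : X, (∃ g : Γ, g • x ≠ x) → p ∣ Nat.card (MulAction.orbit Γ x)) :
    open scoped Classical in
    MemLocalIdeal M ((∑ x, f x) - ∑ x, (if (∀ g : Γ, g • x = x) then f x else 0)) := by
  classical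
  have hprime := isPrime_of_modular hM
  rw [← Finset.sum_sub_distrib]
  let Q := MulAction.orbitRel.Quotient Γ X
  let π : X → Q := fun x => Quotient.mk'' x
  let _ : Fintype Q := Fintype.ofFinite Q
  rw [← Finset.sum_fiberwise Finset.univ π]
  refine MemLocalIdeal.sum _ fun q _ => ?_
  obtain ⟨x₀, rfl⟩ : ∃ x₀, π x₀ = q := Quotient.exists_rep q
  set S := Finset.univ.filter (fun x => π x = π x₀) with hS
  have hmem : ∀ x, x ∈ S ↔ x ∈ MulAction.orbit Γ x₀ := by
    intro x
    simp only [hS, Finset.mem_filter, Finset.mem_univ, true_and]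
    show (Quotient.mk'' x : Q) = Quotient.mk'' x₀ ↔ _
    rw [Quotient.eq'']
    exact MulAction.orbitRel_apply
  have hval : ∀ x ∈ S, f x - (if (∀ g : Γ, g • x = x) then f x else 0) =
      f x₀ - (if (∀ g : Γ, g • x₀ = x₀) then f x₀ else 0) := by
    intro x hx
    obtain ⟨g, rfl⟩ := (hmem x).mp hx
    have hfix : (∀ h : Γ, h • (g • x₀) = g • x₀) ↔ ∀ h : Γ, h • x₀ = x₀ := by
      constructor
      · intro h k
        have h1 := h (g * k * g⁻¹)
        simp only [mul_smul, inv_smul_smul] at h1
        exact smul_left_cancel g h1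
      · intro h k
        rw [h g, h k]
    have : f ((fun m : Γ => m • x₀) g) = f x₀ := hf g x₀
    simp only [this, hfix]
  rw [Finset.sum_congr rfl hval, Finset.sum_const, nsmul_eq_mul]
  by_cases hfix : ∀ g : Γ, g • x₀ = x₀
  · simp [hfix, memLocalIdeal_zero]
  · have h1 := hp x₀ (by push Not at hfix; exact hfix)
    have h2 : Nat.card (MulAction.orbit Γ x₀) = S.card := by
      have : ↥(MulAction.orbit Γ x₀) ≃ ↥S := Equiv.subtypeEquivRight (fun x => (hmem x).symm)
      rw [Nat.card_congr this, Nat.card_eq_fintype_card, Fintype.card_coe]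
    rw [h2] at h1
    simp only [if_neg hfix, sub_zero]
    exact MemLocalIdeal.mul_right ((natCast_memLocalIdeal_iff hM _).mpr h1) (hloc x₀)

section Linear

variable {K : Type u} [Group K] [Fintype K] {M : Ideal AlgInt} [M.IsPrime]

/-- Block membership of a linear character. -/
theorem mem_principal_linear (lam : K →* ℂˣ) :
    (⟨fun g => (lam g : ℂ), isIrrCharacter_of_monoidHom lam⟩ : IrrCharacter K) ∈ principalBlock M K ↔
      ∀ g : K, MemLocalIdeal M (((Subgroup.centralizer ({g} : Set K)).index : ℂ) * (1 - (lam g : ℂ))) := by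
  show (∀ g : K, MemLocalIdeal M (centralChar (fun _ : K => (1 : ℂ)) g - centralChar (fun g : K => (lam g : ℂ)) g)) ↔ _
  refine forall_congr' fun g => ?_
  have h : centralChar (fun _ : K => (1 : ℂ)) g - centralChar (fun g : K => (lam g : ℂ)) g =
      ((Subgroup.centralizer ({g} : Set K)).index : ℂ) * (1 - (lam g : ℂ)) := by
    simp [centralChar]
    ring
  rw [h]

theorem lam_memLocalRing (lam : K →* ℂˣ) (g : K) : MemLocalRing M ((lam g : ℂˣ) : ℂ) :=
  memLocalRing_of_isIntegral (IsCharacter.isIntegral (IsIrrCharacter.isCharacter (isIrrCharacter_of_monoidHom lam)) g)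

end Linear

section Main

variable {G : Type u} [Group G] [Fintype G] {p : ℕ} [hp : Fact p.Prime] {M : Ideal AlgInt}

theorem conjIrr_oneIrr (K : Subgroup G) [K.Normal] [Fintype K] (g : G) :
    conjIrr K g (oneIrr K) = oneIrr K := by
  apply Subtype.ext
  funext n
  rfl

theorem principal_conj_iff (K : Subgroup G) [K.Normal] [Fintype K] (g : G) (θ : IrrCharacter K) :
    conjIrr K g θ ∈ principalBlock M K ↔ θ ∈ principalBlock M K := by
  have key : ∀ (k : G) (η : IrrCharacter K), η ∈ principalBlock M K → conjIrr K k η ∈ principalBlock M K := by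
    intro k η hη
    have h1 := sameBlock_conjIrr K (M := M) k (θ := oneIrr K) (θ' := η) hη
    rw [conjIrr_oneIrr] at h1
    exact h1
  refine ⟨fun h => ?_, key g θ⟩
  have h2 := key g⁻¹ _ h
  rw [← conjIrr_mul, inv_mul_cancel, conjIrr_one] at h2
  exact h2

/-- Linear characters of the `p`-residual have order prime to `p`. -/
theorem lam_pow_ordCompl (lam : pResidual p G →* ℂˣ) (x : pResidual p G) :
    lam x ^ (ordCompl[p] (Nat.card (pResidual p G))) = 1 := by
  classical
  have hpp : p.Prime := hp.out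
  have hcard : Nat.card (pResidual p G) ≠ 0 := Nat.card_pos.ne'
  have htop : x ∈ pResidual p (pResidual p G) := by
    rw [Cfsg.Agent.Lib.Fusion.pResidual_pResidual]
    trivial
  have htop' : x ∈ Subgroup.closure {g : pResidual p G | Nat.Coprime (orderOf g) p} := htop
  clear htop
  induction htop' using Subgroup.closure_induction with
  | mem y hy =>
    have h1 : orderOf y ∣ Nat.card (pResidual p G) := orderOf_dvd_natCard y
    have h2 : Nat.card (pResidual p G) = p ^ (Nat.card (pResidual p G)).factorization p *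
        ordCompl[p] (Nat.card (pResidual p G)) := (Nat.ordProj_mul_ordCompl_eq_self _ _).symm
    rw [h2] at h1
    have hy' : Nat.Coprime (orderOf y) p := hy
    have h3 : orderOf y ∣ ordCompl[p] (Nat.card (pResidual p G)) :=
      (Nat.Coprime.pow_right _ hy').dvd_of_dvd_mul_left h1
    rw [← map_pow, orderOf_dvd_iff_pow_eq_one.mp h3, map_one]
  | one => rw [map_one, one_pow]
  | mul a b _ _ iha ihb => rw [map_mul, mul_pow, iha, ihb, one_mul]
  | inv a _ iha => rw [map_inv, inv_pow, iha, inv_one]

/-- An invariant character of `p'`-degree in the principal block is linear. -/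
theorem linear_of_fixed (hM : IsPModular p M)
    (h' : ∀ χ : IrrCharacter G, χ ∈ principalBlock M G → ¬ p ∣ charDegree (χ : G → ℂ) → (χ : G → ℂ) 1 = 1)
    {θ : IrrCharacter (pResidual p G)} [Fintype (pResidual p G)] (hθB : θ ∈ principalBlock M (pResidual p G))
    (hfix : ∀ g : G, conjFun (pResidual p G) g (θ : pResidual p G → ℂ) = θ)
    (hdeg : ¬ p ∣ charDegree (θ : pResidual p G → ℂ)) : (θ : pResidual p G → ℂ) 1 = 1 := by
  classical
  have hprime := isPrime_of_modular hM
  haveI hKn : (pResidual p G).Normal := pResidual_normal p G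
  have hq : IsPGroup p (G ⧸ pResidual p G) := isPGroup_quotient_pResidual
  obtain ⟨a, ha⟩ := index_eq_pow_of_isPGroup_quotient hq
  have hcard : Nat.card (pResidual p G) ≠ 0 := Nat.card_pos.ne'
  obtain ⟨χ, hχ, hres, -⟩ := Cfsg.Agent.Lib.H8Group.exists_canonical_ext (pResidual p G) p hq
    (m := ordCompl[p] (Nat.card (pResidual p G))) (Nat.coprime_ordCompl hp.out hcard).symm
    (fun lam x => lam_pow_ordCompl lam x) θ.2 hfix
    (apply_one_eq_charDegree (IsIrrCharacter.isCharacter θ.2)) hdeg
  have hres1 : χ 1 = (θ : pResidual p G → ℂ) 1 := hres 1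
  have hresf : (fun n : pResidual p G => χ n) = (θ : pResidual p G → ℂ) := funext hres
  obtain ⟨B', -, huniq⟩ := existsUnique_covering (pResidual p G) hM ha
    (isPBlock_blockOf (M := M) (oneIrr (pResidual p G)))
  have hoverχ : classInner (fun n : pResidual p G => χ n) (θ : pResidual p G → ℂ) ≠ 0 := by
    rw [hresf, classInner_irr_self θ.2]
    exact one_ne_zero
  have hχB : IsPBlock M (blockOf M χ) := isPBlock_blockOf (⟨χ, hχ⟩ : IrrCharacter G)
  have hχm : (⟨χ, hχ⟩ : IrrCharacter G) ∈ blockOf M χ := self_mem_blockOf (⟨χ, hχ⟩ : IrrCharacter G)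
  have hθm : θ ∈ blockOf M ((oneIrr (pResidual p G) : IrrCharacter _) : pResidual p G → ℂ) := hθB
  have e1 := huniq (blockOf M χ) ⟨hχB, ⟨χ, hχ⟩, hχm, θ, hθm, hoverχ⟩
  have hover1 : classInner (fun n : pResidual p G => ((oneIrr G : IrrCharacter G) : G → ℂ) n)
      ((oneIrr (pResidual p G) : IrrCharacter _) : pResidual p G → ℂ) ≠ 0 := by
    have h9 : classInner (fun _ : pResidual p G => (1 : ℂ)) (fun _ => (1 : ℂ)) = 1 :=
      classInner_irr_self isIrrCharacter_one
    have h10 : classInner (fun n : pResidual p G => ((oneIrr G : IrrCharacter G) : G → ℂ) n)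
      ((oneIrr (pResidual p G) : IrrCharacter _) : pResidual p G → ℂ) = 1 := h9
    rw [h10]
    exact one_ne_zero
  have h1B : IsPBlock M (principalBlock M G) := isPBlock_blockOf (oneIrr G)
  have h1m : oneIrr G ∈ principalBlock M G := self_mem_blockOf (oneIrr G)
  have h1m' : oneIrr (pResidual p G) ∈ blockOf M ((oneIrr (pResidual p G) : IrrCharacter _) : pResidual p G → ℂ) :=
    self_mem_blockOf (oneIrr (pResidual p G))
  have e2 := huniq (principalBlock M G) ⟨h1B, oneIrr G, h1m, oneIrr (pResidual p G), h1m', hover1⟩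
  have hmem : (⟨χ, hχ⟩ : IrrCharacter G) ∈ principalBlock M G := by
    rw [e2, ← e1]
    exact hχm
  have hd : charDegree χ = charDegree (θ : pResidual p G → ℂ) := by
    unfold charDegree
    rw [hres1]
  have h1 := h' ⟨χ, hχ⟩ hmem (by
    show ¬ p ∣ charDegree χ
    rw [hd]
    exact hdeg)
  rw [← hres1]
  exact h1

/-- The main direction. -/
theorem forward (hM : IsPModular p M)
    (h' : ∀ χ : IrrCharacter G, χ ∈ principalBlock M G → ¬ p ∣ charDegree (χ : G → ℂ) → (χ : G → ℂ) 1 = 1) :
    HasNormalPComplement p G := by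
  classical
  have hprime := isPrime_of_modular hM
  have hpp : p.Prime := hp.out
  set K := pResidual p G with hK
  haveI hKn : K.Normal := pResidual_normal p G
  have hq : IsPGroup p (G ⧸ K) := isPGroup_quotient_pResidual
  obtain ⟨a, ha⟩ := index_eq_pow_of_isPGroup_quotient hq
  by_contra hcon
  have hpK : p ∣ Nat.card K := by
    by_contra h
    exact hcon (hasNormalPComplement_of_hall (N := K) ((Nat.Prime.coprime_iff_not_dvd hpp).mpr h).symm ha)
  letI : Fintype K := Fintype.ofFinite _
  obtain ⟨z, hz⟩ := exists_prime_orderOf_dvd_card' p hpK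
  have hzp : IsPGroup p (Subgroup.zpowers (z : G)) := by
    rw [IsPGroup.iff_card, Nat.card_zpowers, Subgroup.orderOf_coe, hz]
    exact ⟨1, (pow_one p).symm⟩
  obtain ⟨Q, hQ⟩ := hzp.exists_le_sylow
  haveI hQnil : Group.IsNilpotent (Q : Subgroup G) := Q.isPGroup'.isNilpotent
  have hN₀ : K.subgroupOf (Q : Subgroup G) ≠ ⊥ := by
    intro h
    have h1 : (⟨z, hQ (Subgroup.mem_zpowers _)⟩ : (Q : Subgroup G)) ∈ K.subgroupOf (Q : Subgroup G) := z.2
    rw [h, Subgroup.mem_bot] at h1
    have h2 : (z : G) = 1 := congrArg Subtype.val h1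
    have h3 : z = 1 := Subtype.ext h2
    rw [h3, orderOf_one] at hz
    exact hpp.one_lt.ne hz
  obtain ⟨w, hwN, hw1, hwc⟩ := S4762.exists_mem_center_of_normal (K.subgroupOf (Q : Subgroup G)) hN₀
  set y' : K := ⟨(w : G), hwN⟩ with hy'
  have hy'1 : y' ≠ 1 := by
    intro h
    apply hw1
    apply Subtype.ext
    have h5 : ((y' : K) : G) = 1 := congrArg Subtype.val h
    exact h5
  obtain ⟨b, hb⟩ := (IsPGroup.iff_orderOf.mp Q.isPGroup') w
  have hy'o : orderOf y' = p ^ b := by
    rw [← Subgroup.orderOf_coe y', ← hb, ← Subgroup.orderOf_coe w]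
  have hy'p : p ∣ orderOf y' := by
    rw [hy'o]
    refine dvd_pow_self p ?_
    rintro rfl
    rw [pow_zero] at hy'o
    exact hy'1 (orderOf_eq_one_iff.mp hy'o)
  have hcomm : ∀ s : (Q : Subgroup G), (s : G) * (y' : G) = (y' : G) * (s : G) := by
    intro s
    have h1 := (Subgroup.mem_center_iff.mp hwc) s
    exact congrArg Subtype.val h1
  set B := principalBlock M K with hBdef
  have hB : IsPBlock M B := isPBlock_blockOf (oneIrr K)
  have hw' := weak_block_orthogonality hM hB (x := 1) (y := y') (by simp [orderOf_one, hpp.one_lt.ne', Nat.dvd_one]) hy'p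
  rw [finsum_mem_eq_sum_indic] at hw'
  letI := Cfsg.Agent.Lib.H8Group.irrConjAction (G := G) K
  set f : IrrCharacter K → ℂ := fun θ => indic B θ * ((θ : K → ℂ) 1 * conj ((θ : K → ℂ) y')) with hf
  have hsmul : ∀ (s : (Q : Subgroup G)) (θ : IrrCharacter K), s • θ = conjIrr K (s : G) θ := fun _ _ => rfl
  have hinv : ∀ (s : (Q : Subgroup G)) (θ : IrrCharacter K), f (s • θ) = f θ := by
    intro s θ
    rw [hsmul]
    simp only [hf]
    have h1 : indic B (conjIrr K (s : G) θ) = indic B θ := by
      by_cases hθ : θ ∈ B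
      · rw [indic_apply_of_mem hθ, indic_apply_of_mem ((principal_conj_iff K _ θ).mpr hθ)]
      · rw [indic_apply_of_notMem hθ, indic_apply_of_notMem (fun h => hθ ((principal_conj_iff K _ θ).mp h))]
    rw [h1, conjIrr_apply_one]
    have h2 : ((conjIrr K (s : G) θ : IrrCharacter K) : K → ℂ) y' = (θ : K → ℂ) y' := by
      rw [conjIrr_coe, conjFun_apply]
      refine congrArg _ (Subtype.ext ?_)
      show (s : G)⁻¹ * (y' : G) * (s : G) = (y' : G)
      rw [mul_assoc, ← hcomm s, ← mul_assoc, inv_mul_cancel, one_mul]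
    rw [h2]
  have hfloc : ∀ θ, MemLocalRing M (f θ) := by
    intro θ
    simp only [hf]
    refine MemLocalRing.mul ?_ (MemLocalRing.mul (memLocalRing_of_isIntegral (irr_isIntegral θ 1)) ?_)
    · by_cases hθ : θ ∈ B
      · rw [indic_apply_of_mem hθ]
        exact memLocalRing_one
      · rw [indic_apply_of_notMem hθ]
        exact memLocalRing_zero
    · have h1 : conj ((θ : K → ℂ) y') = (θ : K → ℂ) y'⁻¹ := (irr_apply_inv θ y').symm
      rw [h1]
      exact memLocalRing_of_isIntegral (irr_isIntegral θ _)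
  have horb : ∀ x : IrrCharacter K, (∃ g : (Q : Subgroup G), g • x ≠ x) → p ∣ Nat.card (MulAction.orbit (Q : Subgroup G) x) := by
    rintro x ⟨g, hg⟩
    obtain ⟨n, hn⟩ := IsPGroup.card_orbit Q.isPGroup' x
    rw [hn]
    refine dvd_pow_self p ?_
    rintro rfl
    rw [pow_zero, Nat.card_eq_one_iff_unique] at hn
    have h1 := hn.1.elim ⟨g • x, MulAction.mem_orbit x g⟩ ⟨x, MulAction.mem_orbit_self x⟩
    exact hg (congrArg Subtype.val h1)
  have hlem := sum_sub_sum_fixed_memLocalIdeal (Γ := (Q : Subgroup G)) hM f hinv hfloc horb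
  rw [show ∑ x, f x = 0 from hw', zero_sub] at hlem
  have hlem2 := MemLocalIdeal.neg hlem
  rw [neg_neg] at hlem2
  -- counting
  set A : Finset (IrrCharacter K) := Finset.univ.filter
    (fun θ => (∀ g : (Q : Subgroup G), g • θ = θ) ∧ θ ∈ B ∧ (θ : K → ℂ) 1 = 1) with hA
  have hGfix : ∀ θ : IrrCharacter K, (∀ g : (Q : Subgroup G), g • θ = θ) →
      ∀ g : G, conjFun K g (θ : K → ℂ) = θ := by
    intro θ hθ g
    have h1 : K ⊔ (Q : Subgroup G) ≤ inertia K (θ : K → ℂ) := by
      refine sup_le (le_inertia_of_irr θ.2) ?_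
      intro s hs
      have h2 := hθ ⟨s, hs⟩
      exact congrArg Subtype.val h2
    rw [Cfsg.Agent.Lib.LocalEven.pResidual_sup_sylow Q] at h1
    exact h1 (Subgroup.mem_top g)
  have hcount : MemLocalIdeal M ((∑ θ, (if (∀ g : (Q : Subgroup G), g • θ = θ) then f θ else 0)) - (A.card : ℂ)) := by
    have h0 : (A.card : ℂ) = ∑ θ, (if θ ∈ A then (1 : ℂ) else 0) := by
      rw [Finset.sum_ite_mem, Finset.univ_inter, Finset.sum_const, nsmul_eq_mul, mul_one]
    rw [h0, ← Finset.sum_sub_distrib]
    refine MemLocalIdeal.sum _ fun θ _ => ?_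
    by_cases hfix : ∀ g : (Q : Subgroup G), g • θ = θ
    · rw [if_pos hfix]
      by_cases hθB : θ ∈ B
      · by_cases hd : (θ : K → ℂ) 1 = 1
        · have hA' : θ ∈ A := Finset.mem_filter.mpr ⟨Finset.mem_univ _, hfix, hθB, hd⟩
          rw [if_pos hA']
          simp only [hf]
          rw [indic_apply_of_mem hθB, hd, one_mul, one_mul]
          apply root_sub_one_memLocalIdeal hM (k := b)
          obtain ⟨lam, hlam⟩ := IsCharacter.exists_monoidHom (IsIrrCharacter.isCharacter θ.2) hd
          rw [← map_pow, hlam]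
          have h1 : ((lam y' : ℂˣ) : ℂ) ^ (p ^ b) = 1 := by
            rw [← Units.val_pow_eq_pow_val, ← map_pow, ← hy'o, pow_orderOf_eq_one, map_one, Units.val_one]
          rw [h1, map_one]
        · have hA' : θ ∉ A := fun h => hd (Finset.mem_filter.mp h).2.2.2
          rw [if_neg hA', sub_zero]
          have hdp : p ∣ charDegree (θ : K → ℂ) := by
            by_contra hdn
            exact hd (linear_of_fixed hM h' hθB (hGfix θ hfix) hdn)
          simp only [hf]
          rw [indic_apply_of_mem hθB, one_mul]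
          refine MemLocalIdeal.mul_right ?_ ?_
          · rw [apply_one_eq_charDegree (IsIrrCharacter.isCharacter θ.2)]
            exact (natCast_memLocalIdeal_iff hM _).mpr hdp
          · have h1 : conj ((θ : K → ℂ) y') = (θ : K → ℂ) y'⁻¹ := (irr_apply_inv θ y').symm
            rw [h1]
            exact memLocalRing_of_isIntegral (irr_isIntegral θ _)
      · have hA' : θ ∉ A := fun h => hθB (Finset.mem_filter.mp h).2.2.1
        rw [if_neg hA']
        simp only [hf]
        rw [indic_apply_of_notMem hθB, zero_mul, sub_zero]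
        exact memLocalIdeal_zero
    · have hA' : θ ∉ A := fun h => hfix (Finset.mem_filter.mp h).2.1
      rw [if_neg hfix, if_neg hA', sub_zero]
      exact memLocalIdeal_zero
  have hAp : p ∣ A.card := by
    rw [← natCast_memLocalIdeal_iff hM]
    have h1 := MemLocalIdeal.sub hlem2 hcount
    have key : ∀ {X Y : ℂ}, X = Y → MemLocalIdeal M (X - (Y - (A.card : ℂ))) → MemLocalIdeal M (A.card : ℂ) := by
      intro X Y h e
      rwa [h, sub_sub_cancel] at e
    refine key ?_ h1
    refine Finset.sum_congr rfl fun θ _ => ?_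
    by_cases h : ∀ g : (Q : Subgroup G), g • θ = θ
    · rw [if_pos h, if_pos h]
    · rw [if_neg h, if_neg h]
  -- the group structure on `A`
  let S : Subgroup (K →* ℂˣ) :=
    { carrier := {lam | (∀ (g : G), conjFun K g (fun n => ((lam n : ℂˣ) : ℂ)) = fun n => ((lam n : ℂˣ) : ℂ)) ∧
        ∀ k : K, MemLocalIdeal M (((Subgroup.centralizer ({k} : Set K)).index : ℂ) * (1 - (lam k : ℂ)))}
      mul_mem' := by
        rintro l₁ l₂ ⟨h1, h2⟩ ⟨h3, h4⟩
        refine ⟨fun g => ?_, fun k => ?_⟩
        · funext n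
          have e1 := congrFun (h1 g) n
          have e2 := congrFun (h3 g) n
          simp only [conjFun_apply] at e1 e2 ⊢
          simp only [MonoidHom.mul_apply, Units.val_mul]
          rw [e1, e2]
        · have e : ((Subgroup.centralizer ({k} : Set K)).index : ℂ) * (1 - ((l₁ * l₂) k : ℂˣ)) =
              ((Subgroup.centralizer ({k} : Set K)).index : ℂ) * (1 - (l₂ k : ℂ)) +
                ((Subgroup.centralizer ({k} : Set K)).index : ℂ) * (1 - (l₁ k : ℂ)) * (l₂ k : ℂ) := by
            simp only [MonoidHom.mul_apply, Units.val_mul]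
            ring
          rw [e]
          exact MemLocalIdeal.add (h4 k) (MemLocalIdeal.mul_right (h2 k) (lam_memLocalRing l₂ k))
      one_mem' := by
        refine ⟨fun g => ?_, fun k => ?_⟩
        · funext n
          simp
        · simp only [MonoidHom.one_apply, Units.val_one, sub_self, mul_zero]
          exact memLocalIdeal_zero
      inv_mem' := by
        rintro l ⟨h1, h2⟩
        refine ⟨fun g => ?_, fun k => ?_⟩
        · funext n
          have e1 := congrFun (h1 g) n
          simp only [conjFun_apply] at e1 ⊢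
          simp only [MonoidHom.inv_apply, Units.val_inv_eq_inv_val]
          rw [e1]
        · have e : ((Subgroup.centralizer ({k} : Set K)).index : ℂ) * (1 - (l⁻¹ k : ℂˣ)) =
              -(((Subgroup.centralizer ({k} : Set K)).index : ℂ) * (1 - (l k : ℂ))) * ((l⁻¹ k : ℂˣ) : ℂ) := by
            simp only [MonoidHom.inv_apply, Units.val_inv_eq_inv_val]
            have : ((l k : ℂˣ) : ℂ) ≠ 0 := Units.ne_zero _
            field_simp
            ring
          rw [e]
          exact MemLocalIdeal.mul_right (MemLocalIdeal.neg (h2 k)) (lam_memLocalRing l⁻¹ k) }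
  let gS : S → {θ // θ ∈ A} := fun l =>
    ⟨⟨fun n => ((l.1 n : ℂˣ) : ℂ), isIrrCharacter_of_monoidHom l.1⟩, by
      refine Finset.mem_filter.mpr ⟨Finset.mem_univ _, fun s => ?_, ?_, ?_⟩
      · apply Subtype.ext
        exact l.2.1 s
      · exact (mem_principal_linear l.1).mpr l.2.2
      · simp⟩
  have hgS : Function.Bijective gS := by
    constructor
    · intro l l' hll
      apply Subtype.ext
      ext n
      have h1 := congrFun (congrArg (fun z : {θ // θ ∈ A} => ((z.1 : IrrCharacter K) : K → ℂ)) hll) n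
      exact h1
    · rintro ⟨θ, hθ⟩
      obtain ⟨-, hfix, hθB, hd⟩ := Finset.mem_filter.mp hθ
      obtain ⟨lam, hlam⟩ := IsCharacter.exists_monoidHom (IsIrrCharacter.isCharacter θ.2) hd
      have hθeq : θ = ⟨fun n => ((lam n : ℂˣ) : ℂ), isIrrCharacter_of_monoidHom lam⟩ := Subtype.ext hlam
      have hmemS : lam ∈ S := by
        refine ⟨fun g => ?_, fun k => ?_⟩
        · have h1 := hGfix θ hfix g
          rw [hlam] at h1
          exact h1
        · rw [hθeq] at hθB
          exact (mem_principal_linear lam).mp hθB k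
      refine ⟨⟨lam, hmemS⟩, ?_⟩
      apply Subtype.ext
      exact hθeq.symm
  haveI : Finite S := Finite.of_injective gS hgS.1
  have hcardS : Nat.card S = A.card := by
    rw [Nat.card_congr (Equiv.ofBijective gS hgS), Nat.card_eq_fintype_card, Fintype.card_coe]
  rw [← hcardS] at hAp
  obtain ⟨l, hl⟩ := exists_prime_orderOf_dvd_card' p hAp
  have hlp : l ^ p = 1 := by
    rw [← hl]
    exact pow_orderOf_eq_one l
  have hl1 : l = 1 := by
    apply Subtype.ext
    ext x
    have h1 : ((l.1 x : ℂˣ)) ^ p = 1 := by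
      have h2 := congrArg (fun z : S => (z.1 : K →* ℂˣ) x) hlp
      simpa using h2
    have h3 := lam_pow_ordCompl l.1 x
    have hcardK : Nat.card K ≠ 0 := Nat.card_pos.ne'
    have h4 := pow_gcd_eq_one.mpr ⟨h1, h3⟩
    rw [(Nat.coprime_ordCompl hpp hcardK).gcd_eq_one, pow_one] at h4
    rw [h4]
    simp
  rw [hl1, orderOf_one] at hl
  exact hpp.one_lt.ne hl

end Main

/-- Let G be a finite group, p a prime and M a maximal ideal of the algebraic integers containing p. Then all height-zero irreducible characters of the principal p-block of G (equivalently, all its characters of degree prime to p) have the same degree if and only if G has a normal p-complement. -/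
theorem result {G : Type*} [Group G] [Finite G] (p : ℕ) [Fact p.Prime] (M : Ideal Cfsg.AlgInt) (hM : Cfsg.IsPModular p M) : (∃ d : ℕ, ∀ χ : Cfsg.IrrCharacter G, χ ∈ (Cfsg.principalBlock M G) → Cfsg.blockHeight p (Cfsg.principalBlock M G) (χ : G → ℂ) = 0 → Cfsg.charDegree (χ : G → ℂ) = d) ↔ Cfsg.HasNormalPComplement p G := by
  classical
  cases nonempty_fintype G
  have hprime := isPrime_of_modular hM
  have hpp : p.Prime := Fact.out
  have hone : oneIrr G ∈ principalBlock M G := self_mem_blockOf (oneIrr G)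
  have hdegone : charDegree ((oneIrr G : IrrCharacter G) : G → ℂ) = 1 := by
    apply charDegree_eq (n := 1)
    simp [oneIrr]
  constructor
  · rintro ⟨d, hd⟩
    have hd1 : d = 1 := by
      have h1 := hd (oneIrr G) hone (by
        simp only [blockHeight, hdegone, Nat.factorization_one, Finsupp.coe_zero, Pi.zero_apply,
          Nat.zero_sub])
      rw [← h1, hdegone]
    apply forward hM
    intro χ hχ hp'
    have h1 := hd χ hχ (by
      simp only [blockHeight]
      rw [Nat.factorization_eq_zero_of_not_dvd hp', Nat.zero_sub])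
    rw [apply_one_eq_charDegree (IsIrrCharacter.isCharacter χ.2), h1, hd1]
    simp
  · intro h
    obtain ⟨N, hNn, hNc, k, hk⟩ := exists_hall_of_hasNormalPComplement h
    refine ⟨1, fun χ hχ h0 => ?_⟩
    have hN' : ¬ p ∣ Nat.card N := by
      intro h2
      exact ((Nat.Prime.dvd_iff_not_coprime hpp).mp h2) hNc.symm
    rw [principalBlock_eq_of_normal_complement hM hN' hk] at hχ
    have hker : N ≤ charKer (χ : G → ℂ) := by
      intro n hn
      exact (mem_charKer (IsIrrCharacter.isCharacter χ.2)).mpr (hχ n hn)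
    have h1 : charDegree (χ : G → ℂ) ∣ p ^ k := by
      rw [← hk]
      exact (charDegree_dvd_index_charKer χ.2).trans (Subgroup.index_dvd_of_le hker)
    obtain ⟨j, -, hj⟩ := (Nat.dvd_prime_pow hpp).mp h1
    have hs0 : sInf ((fun ψ : IrrCharacter G => (charDegree (ψ : G → ℂ)).factorization p) '' principalBlock M G) = 0 := by
      apply Nat.sInf_eq_zero.mpr
      left
      refine ⟨oneIrr G, hone, ?_⟩
      simp [hdegone]
    simp only [blockHeight] at h0
    rw [hs0, Nat.sub_zero, hj, hpp.factorization_pow] at h0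
    simp only [Finsupp.single_eq_same] at h0
    rw [hj, h0, pow_zero]

end Cfsg.Agent.S4888
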