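import Cfsg.Statements.S4711
import Mathlib
import Cfsg.Agent.S4888
import Cfsg.Agent.Lib.Blocks.CoverAll
import Cfsg.Agent.Lib.Blocks.Section
import Cfsg.Agent.Lib.Char.Kernel
import Cfsg.Agent.Lib.Char.PBlock
import Cfsg.Agent.Lib.Char.CliffordBij
import Cfsg.Agent.Lib.Char.Leo5
import Cfsg.Agent.Lib.Components.Basic
import Cfsg.Agent.Lib.OddLocal.PLength
import Cfsg.Agent.Lib.Coprime.PLen
import Cfsg.Agent.Lib.Transfer.Basic
import Cfsg.Agent.Lib.H8Group.SMat
import Cfsg.Agent.Lib.H8Group.BlockBasics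
import Cfsg.Agent.Lib.Basic.Core

set_option autoImplicit false
open Cfsg

namespace Cfsg.Agent.S4711

open Cfsg.Agent.Lib.Char Cfsg.Agent.Lib.H8Group Cfsg.Agent.Lib.Blocks

universe u

section
variable {G : Type u} [Group G] [Fintype G]

theorem fix_of_irr_res (P : Subgroup G) [Fintype P] {χ : G → ℂ}
    (hirr : IsIrrCharacter ↥(Subgroup.normalizer (P : Set G)) (fun n => χ n))
    (h : ∑ x : P, χ x ≠ 0) : ∀ x ∈ P, χ x = χ 1 := by
  classical
  letI : Fintype ↥(Subgroup.normalizer (P : Set G)) := Fintype.ofFinite _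
  let Q : Subgroup ↥(Subgroup.normalizer (P : Set G)) := P.subgroupOf (Subgroup.normalizer (P : Set G))
  haveI hQ : Q.Normal := Subgroup.normal_in_normalizer
  letI : Fintype Q := Fintype.ofFinite _
  have hle : P ≤ Subgroup.normalizer (P : Set G) := Subgroup.le_normalizer
  have heq : ∑ y : Q, χ ((y : ↥(Subgroup.normalizer (P : Set G))) : G) = ∑ x : P, χ x :=
    Equiv.sum_comp (Subgroup.subgroupOfEquivOfLe hle).toEquiv (fun x : P => χ x)
  have hin : classInner (Cfsg.Agent.Lib.Char.resFun Q (fun n : ↥(Subgroup.normalizer (P : Set G)) => χ n)) (fun _ => (1 : ℂ)) ≠ 0 := by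
    unfold classInner
    have hc : (Nat.card Q : ℂ) ≠ 0 := by exact_mod_cast Nat.card_pos.ne'
    apply mul_ne_zero (inv_ne_zero hc)
    simp only [map_one, mul_one]
    exact fun h0 => h (heq ▸ h0)
  have hk := le_charKer_of_classInner_one_ne_zero Q hirr hin
  intro x hx
  have h1 := hk (show (⟨x, hle hx⟩ : ↥(Subgroup.normalizer (P : Set G))) ∈ Q from hx)
  rw [mem_charKer (IsIrrCharacter.isCharacter hirr)] at h1
  exact h1

/-- The multiplicity of the trivial character of `Q`. -/
theorem exists_sum_eq_nat {K : Type u} [Group K] [Fintype K] (Q : Subgroup K) [Fintype Q] {Φ : K → ℂ}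
    (hΦ : IsCharacter K Φ) : ∃ n : ℕ, ∑ y : Q, Φ y = (Nat.card Q : ℂ) * n := by
  obtain ⟨n, hn⟩ := IsCharacter.classInner_irr_eq_nat (IsCharacter.comp hΦ Q.subtype)
    (isIrrCharacter_one (G := Q))
  refine ⟨n, ?_⟩
  rw [← hn, classInner]
  have hc : (Nat.card Q : ℂ) ≠ 0 := by exact_mod_cast Nat.card_pos.ne'
  simp only [map_one, mul_one]
  field_simp
  rfl

end

section Main

variable {G : Type u} [Group G] [Fintype G] {p : ℕ} [hp : Fact p.Prime] {M : Ideal AlgInt}

/-- Members of the principal block of the normal closure with a `P`-fixed vector are trivial. -/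
theorem eq_one_of_sum_ne (hM : IsPModular p M) (P : Sylow p G)
    (hyp : ∀ χ ∈ principalBlock M G, IsIrrCharacter ↥(Subgroup.normalizer ((P : Subgroup G) : Set G))
      (fun n : ↥(Subgroup.normalizer ((P : Subgroup G) : Set G)) => (χ : G → ℂ) n))
    (T : Subgroup G) [hTn : T.Normal] [Fintype T] (hTdef : T = Subgroup.normalClosure ((P : Subgroup G) : Set G))
    (hPT : (P : Subgroup G) ≤ T) [Fintype (P : Subgroup G)] (ξ : IrrCharacter T) (hξ : ξ ∈ principalBlock M T)
    (hs : ∑ x : (P : Subgroup G), (ξ : T → ℂ) ⟨x, hPT x.2⟩ ≠ 0) : ξ = oneIrr T := by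
  classical
  have := isPrime_of_modular hM
  obtain ⟨χ, hχ, hin⟩ := exists_over_of_covering T hM (Cfsg.Agent.Lib.Char.isPBlock_principalBlock (M := M) (G := T))
    (Cfsg.Agent.Lib.Char.isPBlock_principalBlock (M := M) (G := G))
    ⟨oneIrr G, one_mem_principalBlock, oneIrr T, one_mem_principalBlock, by
      show classInner (fun _ : T => (1 : ℂ)) (fun _ : T => (1 : ℂ)) ≠ 0
      rw [classInner_irr_self isIrrCharacter_one]
      exact one_ne_zero⟩ hξ
  have hresC : IsCharacter T (fun n : T => (χ : G → ℂ) n) := IsCharacter.comp (IsIrrCharacter.isCharacter χ.2) T.subtype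
  obtain ⟨a, ha⟩ := IsCharacter.classInner_irr_eq_nat hresC ξ.2
  obtain ⟨Δ, hΔ, hsplit⟩ := exists_complement hresC ξ.2 ha
  have ha0 : a ≠ 0 := by
    rintro rfl
    rw [ha] at hin
    simp at hin
  -- the subgroup `P` inside `T`
  let Q : Subgroup T := (P : Subgroup G).subgroupOf T
  letI : Fintype Q := Fintype.ofFinite _
  have hEq : ∀ F : T → ℂ, ∑ y : Q, F y = ∑ x : (P : Subgroup G), F ⟨x, hPT x.2⟩ := fun F =>
    Equiv.sum_comp (Subgroup.subgroupOfEquivOfLe hPT).toEquiv (fun x : (P : Subgroup G) => F ⟨x, hPT x.2⟩)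
  obtain ⟨n₁, hn₁⟩ := exists_sum_eq_nat Q (IsIrrCharacter.isCharacter ξ.2)
  obtain ⟨n₂, hn₂⟩ := exists_sum_eq_nat Q hΔ
  have hcQ : (Nat.card Q : ℂ) ≠ 0 := by exact_mod_cast Nat.card_pos.ne'
  have hn₁0 : n₁ ≠ 0 := by
    rintro rfl
    rw [hEq] at hn₁
    apply hs
    rw [hn₁]
    simp
  have hχs : ∑ x : (P : Subgroup G), (χ : G → ℂ) x ≠ 0 := by
    have h1 : ∑ x : (P : Subgroup G), (χ : G → ℂ) x = (Nat.card Q : ℂ) * ((a * n₁ + n₂ : ℕ) : ℂ) := by
      have h2 : ∀ x : (P : Subgroup G), (χ : G → ℂ) x = (a : ℂ) * (ξ : T → ℂ) ⟨x, hPT x.2⟩ + Δ ⟨x, hPT x.2⟩ := by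
        intro x
        have := congrFun hsplit ⟨x, hPT x.2⟩
        simpa using this
      simp_rw [h2]
      rw [Finset.sum_add_distrib, ← Finset.mul_sum, ← hEq, ← hEq, hn₁, hn₂]
      push_cast
      ring
    rw [h1]
    apply mul_ne_zero hcQ
    have : a * n₁ + n₂ ≠ 0 := by
      have : 0 < a * n₁ := Nat.mul_pos (Nat.pos_of_ne_zero ha0) (Nat.pos_of_ne_zero hn₁0)
      omega
    exact_mod_cast this
  have hfix := fix_of_irr_res (P : Subgroup G) (hyp χ hχ) hχs
  have hker : (P : Subgroup G) ≤ charKer (χ : G → ℂ) := by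
    intro x hx
    rw [mem_charKer (IsIrrCharacter.isCharacter χ.2)]
    exact hfix x hx
  haveI := charKer_normal (IsIrrCharacter.isCharacter χ.2)
  have hTk : T ≤ charKer (χ : G → ℂ) := by
    rw [hTdef]
    exact Subgroup.normalClosure_le_normal hker
  have hval : ∀ t : T, (χ : G → ℂ) t = (χ : G → ℂ) 1 := fun t =>
    (mem_charKer (IsIrrCharacter.isCharacter χ.2)).mp (hTk t.2)
  by_contra hne
  apply hin
  have h3 : (fun n : T => (χ : G → ℂ) n) = (χ : G → ℂ) 1 • (fun _ : T => (1 : ℂ)) := by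
    funext t
    simp [hval t]
  have h4 : classInner (fun _ : T => (1 : ℂ)) (ξ : T → ℂ) = 0 := by
    apply classInner_irr_of_ne isIrrCharacter_one ξ.2
    intro h5
    apply hne
    exact Subtype.ext h5.symm
  show classInner (fun n : T => (χ : G → ℂ) n) (ξ : T → ℂ) = 0
  rw [h3, classInner]
  have h5 : ∑ g : T, ((χ : G → ℂ) 1 • fun _ : T => (1 : ℂ)) g * (starRingEnd ℂ) ((ξ : T → ℂ) g) =
      (χ : G → ℂ) 1 * ∑ g : T, (fun _ : T => (1 : ℂ)) g * (starRingEnd ℂ) ((ξ : T → ℂ) g) := by
    rw [Finset.mul_sum]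
    apply Finset.sum_congr rfl
    intro g _
    simp
  rw [h5]
  rw [classInner] at h4
  have hcT : (Nat.card T : ℂ) ≠ 0 := by exact_mod_cast Nat.card_pos.ne'
  have h6 : ∑ g : T, (fun _ : T => (1 : ℂ)) g * (starRingEnd ℂ) ((ξ : T → ℂ) g) = 0 := by
    have := (mul_eq_zero.mp h4).resolve_left (inv_ne_zero hcT)
    exact this
  rw [h6]
  simp


/-- From the vanishing on `Q` to degree one. -/
theorem deg_one_of_fix {K : Type u} [Group K] [Fintype K] (hM : IsPModular p M) (Q : Subgroup K) [Fintype Q]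
    (hQ : IsPGroup p Q)
    (h : ∀ ξ ∈ principalBlock M K, ∑ y : Q, (ξ : K → ℂ) y ≠ 0 → ξ = oneIrr K)
    (ξ : IrrCharacter K) (hξ : ξ ∈ principalBlock M K) (hd : ¬ p ∣ charDegree (ξ : K → ℂ)) :
    charDegree (ξ : K → ℂ) = 1 := by
  classical
  have := isPrime_of_modular hM
  have hpp : p.Prime := Fact.out
  obtain ⟨α, hα⟩ := exists_isPExp K p
  have hB : IsPBlock M (principalBlock M K) := Cfsg.Agent.Lib.Char.isPBlock_principalBlock
  have hone : oneIrr K ∈ principalBlock M K := one_mem_principalBlock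
  have hcQ : (Nat.card Q : ℂ) ≠ 0 := by exact_mod_cast Nat.card_pos.ne'
  let D : K → ℂ := fun g => ∑ χ : IrrCharacter K, indic (principalBlock M K) χ * ((χ : K → ℂ) 1 * (χ : K → ℂ) g)
  have hD0 : ∀ y : Q, y ≠ 1 → D y = 0 := by
    intro y hy1
    have hy : (y : K) ≠ 1 := fun e => hy1 (Subtype.ext e)
    have h0 := sum_block_mul_eq_zero hM hα hB (g := 1) (h := (y : K)⁻¹) (by
      intro hc
      rw [one_pow] at hc
      have h2 : (((y : K))⁻¹) ^ α = 1 := isConj_one_left.mp hc
      have h3 := hα.pow_eq_one_iff.mp h2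
      rw [orderOf_inv] at h3
      apply h3
      obtain ⟨k, hk⟩ := hQ y
      have h4 : (y : K) ^ (p ^ k) = 1 := by
        have := congrArg (Subtype.val) hk
        simpa using this
      obtain ⟨j, -, hj⟩ := (Nat.dvd_prime_pow hpp).mp (orderOf_dvd_of_pow_eq_one h4)
      rw [hj]
      rcases j with _ | j
      · exfalso
        apply hy
        have : orderOf (y : K) = 1 := by simpa using hj
        exact orderOf_eq_one_iff.mp this
      · exact dvd_pow_self p (Nat.succ_ne_zero j))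
    simpa [D] using h0
  have hres : ∀ χ : IrrCharacter K, IsCharacter Q (fun y : Q => (χ : K → ℂ) y) := fun χ =>
    IsCharacter.comp (IsIrrCharacter.isCharacter χ.2) Q.subtype
  have key : ∀ μ : IrrCharacter Q, ∑ χ : IrrCharacter K, indic (principalBlock M K) χ *
      ((χ : K → ℂ) 1 * ((Nat.card Q : ℂ) * classInner (fun y : Q => (χ : K → ℂ) y) (μ : Q → ℂ))) =
      D 1 * (starRingEnd ℂ) ((μ : Q → ℂ) 1) := by
    intro μ
    have h1 : ∑ y : Q, D y * (starRingEnd ℂ) ((μ : Q → ℂ) y) = D 1 * (starRingEnd ℂ) ((μ : Q → ℂ) 1) := by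
      rw [Finset.sum_eq_single (1 : Q)]
      · simp
      · intro y _ hy
        rw [hD0 y hy, zero_mul]
      · simp
    rw [← h1]
    simp only [D, Finset.sum_mul]
    rw [Finset.sum_comm]
    apply Finset.sum_congr rfl
    intro χ _
    rw [classInner]
    have h2 : (Nat.card Q : ℂ) * ((Nat.card Q : ℂ)⁻¹ * ∑ g : Q, (χ : K → ℂ) g * (starRingEnd ℂ) ((μ : Q → ℂ) g)) =
        ∑ g : Q, (χ : K → ℂ) g * (starRingEnd ℂ) ((μ : Q → ℂ) g) := by
      field_simp
    rw [h2, Finset.mul_sum, Finset.mul_sum]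
    apply Finset.sum_congr rfl
    intro y _
    ring
  -- the value at one
  have hone_inner : classInner (fun y : Q => ((oneIrr K : IrrCharacter K) : K → ℂ) y) (fun _ : Q => (1 : ℂ)) = 1 :=
    classInner_irr_self isIrrCharacter_one
  have hD1 : D 1 = (Nat.card Q : ℂ) := by
    have h1 := key (oneIrr Q)
    have h2 : ∑ χ : IrrCharacter K, indic (principalBlock M K) χ *
      ((χ : K → ℂ) 1 * ((Nat.card Q : ℂ) * classInner (fun y : Q => (χ : K → ℂ) y) ((oneIrr Q : IrrCharacter Q) : Q → ℂ))) =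
        (Nat.card Q : ℂ) := by
      rw [Finset.sum_eq_single (oneIrr K)]
      · rw [indic_apply_of_mem hone]
        show (1 : ℂ) * ((1 : ℂ) * ((Nat.card Q : ℂ) * classInner (fun y : Q => (1 : ℂ)) (fun _ : Q => (1 : ℂ)))) = _
        rw [classInner_irr_self isIrrCharacter_one]
        ring
      · intro χ _ hχ
        by_cases hm : χ ∈ principalBlock M K
        · have h3 : ∑ y : Q, (χ : K → ℂ) y = 0 := by
            by_contra h4
            exact hχ (h χ hm h4)
          have h4 : classInner (fun y : Q => (χ : K → ℂ) y) ((oneIrr Q : IrrCharacter Q) : Q → ℂ) = 0 := by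
            show classInner (fun y : Q => (χ : K → ℂ) y) (fun _ : Q => (1 : ℂ)) = 0
            rw [classInner]
            simp only [map_one, mul_one]
            rw [h3, mul_zero]
          rw [h4]
          ring
        · rw [indic_apply_of_notMem hm, zero_mul]
      · simp
    rw [h2] at h1
    have h3 : (starRingEnd ℂ) (((oneIrr Q : IrrCharacter Q) : Q → ℂ) 1) = 1 := by
      show (starRingEnd ℂ) (1 : ℂ) = 1
      simp
    rw [h3, mul_one] at h1
    exact h1.symm
  -- a linear constituent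
  obtain ⟨m₀, hm₀, hsum⟩ := IsCharacter.exists_eq_sum (hres ξ)
  have hsum1 : charDegree (ξ : K → ℂ) = ∑ ψ : IrrCharacter Q, m₀ ψ * charDegree (ψ : Q → ℂ) := by
    have h1 := congrFun hsum (1 : Q)
    simp only [Finset.sum_apply, nsmul_eq_mul] at h1
    have h2 : (ξ : K → ℂ) ((1 : Q) : K) = (charDegree (ξ : K → ℂ) : ℂ) := by
      rw [Subgroup.coe_one, irr_one_eq]
    rw [h2] at h1
    have h3 : ∀ ψ : IrrCharacter Q, (ψ : Q → ℂ) 1 = (charDegree (ψ : Q → ℂ) : ℂ) := fun ψ => irr_one_eq ψ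
    have h4 : (charDegree (ξ : K → ℂ) : ℂ) = ∑ ψ : IrrCharacter Q, (m₀ ψ : ℂ) * (charDegree (ψ : Q → ℂ) : ℂ) := by
      rw [h1]
      apply Finset.sum_congr rfl
      intro ψ _
      rw [← h3 ψ]
      simp
    exact_mod_cast h4
  obtain ⟨μ, hμ0, hμ1⟩ : ∃ μ : IrrCharacter Q, m₀ μ ≠ 0 ∧ charDegree (μ : Q → ℂ) = 1 := by
    by_contra hcon
    push Not at hcon
    apply hd
    rw [hsum1]
    apply Finset.dvd_sum
    intro ψ _
    by_cases h0 : m₀ ψ = 0
    · simp [h0]
    · have h1 := hcon ψ h0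
      have hdv := charDegree_dvd_card ψ.2
      obtain ⟨k, hk⟩ := IsPGroup.iff_card.mp hQ
      rw [hk] at hdv
      obtain ⟨j, -, hj⟩ := (Nat.dvd_prime_pow hpp).mp hdv
      rw [hj] at h1 ⊢
      rcases j with _ | j
      · simp at h1
      · exact Dvd.dvd.mul_left (dvd_pow_self p (Nat.succ_ne_zero j)) _
  choose m hm using fun χ : IrrCharacter K => IsCharacter.classInner_irr_eq_nat (hres χ) μ.2
  have hk2 := key μ
  rw [hD1, irr_one_eq (ξ := μ), hμ1] at hk2
  have hk3 : ∑ χ ∈ Finset.univ.filter (· ∈ principalBlock M K), charDegree (χ : K → ℂ) * m χ = 1 := by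
    have h1 : (Nat.card Q : ℂ) * ((∑ χ ∈ Finset.univ.filter (· ∈ principalBlock M K), charDegree (χ : K → ℂ) * m χ : ℕ) : ℂ) =
        (Nat.card Q : ℂ) := by
      have h2 : ∑ χ : IrrCharacter K, indic (principalBlock M K) χ *
          ((χ : K → ℂ) 1 * ((Nat.card Q : ℂ) * classInner (fun y : Q => (χ : K → ℂ) y) (μ : Q → ℂ))) =
          (Nat.card Q : ℂ) * ((∑ χ ∈ Finset.univ.filter (· ∈ principalBlock M K), charDegree (χ : K → ℂ) * m χ : ℕ) : ℂ) := by
        push_cast
        rw [Finset.mul_sum, Finset.sum_filter]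
        apply Finset.sum_congr rfl
        intro χ _
        by_cases hm' : χ ∈ principalBlock M K
        · rw [if_pos hm', indic_apply_of_mem hm', irr_one_eq, hm]
          ring
        · rw [if_neg hm', indic_apply_of_notMem hm', zero_mul]
      rw [← h2, hk2]
      simp
    have h3 := mul_left_cancel₀ hcQ (h1.trans (mul_one _).symm)
    exact_mod_cast h3
  have hle : charDegree (ξ : K → ℂ) * m ξ ≤ 1 := by
    rw [← hk3]
    exact Finset.single_le_sum (f := fun χ : IrrCharacter K => charDegree (χ : K → ℂ) * m χ) (fun _ _ => Nat.zero_le _)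
      (Finset.mem_filter.mpr ⟨Finset.mem_univ _, hξ⟩)
  have hmξ : m ξ ≠ 0 := by
    intro h0
    have h1 := hm ξ
    rw [h0, hm₀ μ] at h1
    exact hμ0 (by exact_mod_cast h1)
  have hdeg0 : charDegree (ξ : K → ℂ) ≠ 0 := by
    intro h0
    have h1 := irr_one_eq ξ
    rw [h0] at h1
    exact IsIrrCharacter.apply_one_ne_zero ξ.2 (by simpa using h1)
  have h5 : charDegree (ξ : K → ℂ) ≤ charDegree (ξ : K → ℂ) * m ξ := Nat.le_mul_of_pos_right _ (Nat.pos_of_ne_zero hmξ)
  omega

/-- Restriction along a surjection of a character with the kernel in the kernel. -/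
theorem isIrr_res_of_sup (K : Subgroup G) [hK : K.Normal] (H : Subgroup G) [Fintype H] (hsup : H ⊔ K = ⊤)
    {χ : G → ℂ} (hχ : IsIrrCharacter G χ) (hle : K ≤ charKer χ) :
    IsIrrCharacter H (fun h : H => χ h) := by
  classical
  apply isIrrCharacter_of_classInner_self (IsCharacter.comp (IsIrrCharacter.isCharacter hχ) H.subtype)
  letI : Fintype (G ⧸ K) := Fintype.ofFinite _
  obtain ⟨β, hβ, rfl⟩ := exists_deflate K hχ hle
  let φ : H →* G ⧸ K := (QuotientGroup.mk' K).comp H.subtype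
  have hφ : Function.Surjective φ := by
    intro q
    obtain ⟨g, rfl⟩ := QuotientGroup.mk'_surjective K q
    have hg : g ∈ H ⊔ K := by rw [hsup]; trivial
    obtain ⟨h, hh, k, hk, rfl⟩ := Subgroup.mem_sup_of_normal_right.mp hg
    refine ⟨⟨h, hh⟩, ?_⟩
    show ((h : G) : G ⧸ K) = ((h * k : G) : G ⧸ K)
    rw [QuotientGroup.eq]
    simpa using hk
  letI : Fintype (H ⧸ φ.ker) := Fintype.ofFinite _
  let e : H ⧸ φ.ker ≃* G ⧸ K := QuotientGroup.quotientKerEquivOfSurjective φ hφ
  have h1 : (fun h : H => inflate K β (h : G)) = inflate φ.ker (β ∘ e) := by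
    funext h
    rfl
  show classInner (fun h : H => inflate K β (h : G)) (fun h : H => inflate K β (h : G)) = 1
  rw [h1, classInner_inflate]
  have h2 := classInner_comp_mulEquiv e β β
  rw [h2]
  exact classInner_irr_self hβ

/-- The forward direction. -/
theorem forward (hM : IsPModular p M) (P : Sylow p G) (hl : PLengthLE p 1 G) :
    ∀ χ ∈ principalBlock M G, IsIrrCharacter ↥(Subgroup.normalizer ((P : Subgroup G) : Set G))
      (fun n : ↥(Subgroup.normalizer ((P : Subgroup G) : Set G)) => (χ : G → ℂ) n) := by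
  classical
  intro χ hχ
  have hpp : p.Prime := Fact.out
  letI : Fintype ↥(Subgroup.normalizer ((P : Subgroup G) : Set G)) := Fintype.ofFinite _
  set K : Subgroup G := pPrimeCore p G with hKdef
  haveI hKn : K.Normal := pPrimeCore_normal p G
  haveI hU : (pPrimePCore p G).Normal := Cfsg.Agent.Lib.OddLocal.pPrimePCore_normal p
  have hKc : ¬ p ∣ Nat.card K := fun h =>
    (Nat.Prime.coprime_iff_not_dvd hpp).mp (Cfsg.Agent.Lib.Components.coprime_card_pPrimeCore (G := G) p).symm h
  have hker := le_charKer_of_mem_principalBlock hM K hKc hχ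
  -- `P` lies in `O_{p',p}(G)`
  have hPU : (P : Subgroup G) ≤ pPrimePCore p G := by
    have hcop := Cfsg.Agent.Lib.OddLocal.index_pPrimePCore_coprime hl
    intro x hx
    obtain ⟨k, hk⟩ := P.2 ⟨x, hx⟩
    have hk' : x ^ (p ^ k) = 1 := by
      have := congrArg Subtype.val hk
      simpa using this
    have h1 : ((x : G) : G ⧸ pPrimePCore p G) ^ (p ^ k) = 1 := by
      rw [← QuotientGroup.mk_pow, hk', QuotientGroup.mk_one]
    have h2 : ((x : G) : G ⧸ pPrimePCore p G) ^ (pPrimePCore p G).index = 1 := by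
      rw [← QuotientGroup.mk_pow, QuotientGroup.eq_one_iff]
      exact Subgroup.pow_index_mem _ x
    have h3 := pow_gcd_eq_one.mpr ⟨h1, h2⟩
    have h4 : Nat.gcd (p ^ k) (pPrimePCore p G).index = 1 := (Nat.Coprime.pow_left k hcop.symm)
    rw [h4, pow_one, QuotientGroup.eq_one_iff] at h3
    exact h3
  have h1 := Sylow.normalizer_sup_eq_top' P hPU
  have hU2 : pPrimePCore p G ≤ Subgroup.normalizer ((P : Subgroup G) : Set G) ⊔ K := by
    intro x hx
    have h2 : QuotientGroup.mk' K x ∈ pCore p (G ⧸ K) := hx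
    let S : Sylow p (G ⧸ K) := P.mapSurjective (QuotientGroup.mk'_surjective K)
    have h3 : QuotientGroup.mk' K x ∈ (S : Subgroup (G ⧸ K)) := Cfsg.Agent.Lib.Basic.pCore_le_sylow S h2
    have h3' : QuotientGroup.mk' K x ∈ (P : Subgroup G).map (QuotientGroup.mk' K) := h3
    obtain ⟨y, hy, hyx⟩ := h3'
    have h4 : y⁻¹ * x ∈ K := QuotientGroup.eq.mp hyx
    have h5 : x = y * (y⁻¹ * x) := by group
    rw [h5]
    exact Subgroup.mul_mem _ (Subgroup.mem_sup_left (Subgroup.le_normalizer hy)) (Subgroup.mem_sup_right h4)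
  have hsup : Subgroup.normalizer ((P : Subgroup G) : Set G) ⊔ K = ⊤ := by
    apply top_le_iff.mp
    rw [← h1]
    exact sup_le le_sup_left hU2
  exact isIrr_res_of_sup K _ hsup χ.2 hker

/-- The backward direction. -/
theorem backward (hM : IsPModular p M) (P : Sylow p G)
    (hyp : ∀ χ ∈ principalBlock M G, IsIrrCharacter ↥(Subgroup.normalizer ((P : Subgroup G) : Set G))
      (fun n : ↥(Subgroup.normalizer ((P : Subgroup G) : Set G)) => (χ : G → ℂ) n)) : PLengthLE p 1 G := by
  classical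
  have := isPrime_of_modular hM
  have hpp : p.Prime := Fact.out
  let T : Subgroup G := Subgroup.normalClosure ((P : Subgroup G) : Set G)
  haveI hTn : T.Normal := Subgroup.normalClosure_normal
  have hPT : (P : Subgroup G) ≤ T := Subgroup.subset_normalClosure
  letI : Fintype T := Fintype.ofFinite _
  letI : Fintype (P : Subgroup G) := Fintype.ofFinite _
  let Q : Subgroup T := (P : Subgroup G).subgroupOf T
  letI : Fintype Q := Fintype.ofFinite _
  have hQ : IsPGroup p Q := IsPGroup.comap_of_injective P.2 T.subtype T.subtype_injective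
  have hEq : ∀ F : T → ℂ, ∑ y : Q, F y = ∑ x : (P : Subgroup G), F ⟨x, hPT x.2⟩ := fun F =>
    Equiv.sum_comp (Subgroup.subgroupOfEquivOfLe hPT).toEquiv (fun x : (P : Subgroup G) => F ⟨x, hPT x.2⟩)
  have hfix : ∀ ξ ∈ principalBlock M T, ∑ y : Q, (ξ : T → ℂ) y ≠ 0 → ξ = oneIrr T := by
    intro ξ hξ hs
    rw [hEq] at hs
    exact eq_one_of_sum_ne hM P hyp T rfl hPT ξ hξ hs
  have hdeg := deg_one_of_fix hM Q hQ hfix
  have hcomp : HasNormalPComplement p T := by
    rw [← Cfsg.Agent.S4888.result p M hM]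
    refine ⟨1, fun χ hχ hh => hdeg χ hχ ?_⟩
    have hone : oneIrr T ∈ principalBlock M T := one_mem_principalBlock
    have hdeg0 : charDegree (χ : T → ℂ) ≠ 0 := by
      intro h0
      have h1 := irr_one_eq χ
      rw [h0] at h1
      exact IsIrrCharacter.apply_one_ne_zero χ.2 (by simpa using h1)
    have hinf : sInf ((fun ψ : IrrCharacter T => (charDegree (ψ : T → ℂ)).factorization p) '' principalBlock M T) = 0 := by
      apply Nat.sInf_eq_zero.mpr
      left
      refine ⟨oneIrr T, hone, ?_⟩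
      have : charDegree ((oneIrr T : IrrCharacter T) : T → ℂ) = 1 := by
        apply charDegree_eq (n := 1)
        simp [oneIrr]
      show (charDegree ((oneIrr T : IrrCharacter T) : T → ℂ)).factorization p = 0
      rw [this]
      simp
    unfold blockHeight at hh
    rw [hinf, Nat.sub_zero] at hh
    intro hdv
    have := (hpp.dvd_iff_one_le_factorization hdeg0).mp hdv
    omega
  obtain ⟨R, hRn, hRc, k, hRk⟩ := Cfsg.Agent.Lib.Transfer.exists_hall_of_hasNormalPComplement hcomp
  -- the `p'`-elements of `T` are exactly `R`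
  have hRiff : ∀ t : T, t ∈ R ↔ ¬ p ∣ orderOf (t : G) := by
    intro t
    constructor
    · intro ht hdv
      have h1 : orderOf (⟨t, ht⟩ : R) ∣ Nat.card R := orderOf_dvd_natCard _
      rw [Subgroup.orderOf_mk] at h1
      rw [Subgroup.orderOf_coe] at hdv
      have h2 := (Nat.Prime.coprime_iff_not_dvd hpp).mp hRc.symm
      exact h2 (hdv.trans h1)
    · intro hnd
      have h1 : ((t : T) : T ⧸ R) ^ (p ^ k) = 1 := by
        rw [← QuotientGroup.mk_pow, QuotientGroup.eq_one_iff, ← hRk]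
        exact Subgroup.pow_index_mem _ t
      have h2 : ((t : T) : T ⧸ R) ^ orderOf (t : G) = 1 := by
        rw [← QuotientGroup.mk_pow, Subgroup.orderOf_coe, pow_orderOf_eq_one, QuotientGroup.mk_one]
      have h3 := pow_gcd_eq_one.mpr ⟨h1, h2⟩
      have h4 : Nat.gcd (p ^ k) (orderOf (t : G)) = 1 :=
        Nat.Coprime.pow_left k ((Nat.Prime.coprime_iff_not_dvd hpp).mpr hnd)
      rw [h4, pow_one, QuotientGroup.eq_one_iff] at h3
      exact h3
  let R' : Subgroup G := R.map T.subtype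
  haveI hR'n : R'.Normal := by
    constructor
    intro r hr g
    obtain ⟨t, ht, rfl⟩ := hr
    have h1 : g * (t : G) * g⁻¹ ∈ T := hTn.conj_mem _ t.2 g
    refine ⟨⟨_, h1⟩, ?_, rfl⟩
    apply (hRiff ⟨_, h1⟩).mpr
    have h2 : orderOf (g * (t : G) * g⁻¹) = orderOf (t : G) := MulEquiv.orderOf_eq (MulAut.conj g) _
    show ¬ p ∣ orderOf (g * (t : G) * g⁻¹)
    rw [h2]
    exact (hRiff t).mp ht
  have hR'c : (Nat.card R').Coprime p := by
    have : Nat.card R' = Nat.card R := Nat.card_congr (R.equivMapOfInjective _ T.subtype_injective).symm.toEquiv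
    rw [this]
    exact hRc
  have hR'K : R' ≤ pPrimeCore p G := Cfsg.Agent.Lib.Components.le_pPrimeCore hR'n hR'c
  have hTU : T ≤ pPrimePCore p G := by
    haveI hKn : (pPrimeCore p G).Normal := pPrimeCore_normal p G
    have hmapn : (T.map (QuotientGroup.mk' (pPrimeCore p G))).Normal :=
      Subgroup.Normal.map hTn _ (QuotientGroup.mk'_surjective _)
    have hmapp : IsPGroup p (T.map (QuotientGroup.mk' (pPrimeCore p G))) := by
      rintro ⟨y, t, ht, rfl⟩
      refine ⟨k, ?_⟩
      apply Subtype.ext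
      show (QuotientGroup.mk' (pPrimeCore p G) t) ^ (p ^ k) = 1
      rw [← map_pow, QuotientGroup.mk'_apply, QuotientGroup.eq_one_iff]
      apply hR'K
      refine ⟨⟨t, ht⟩ ^ (p ^ k), ?_, rfl⟩
      rw [← hRk]
      exact Subgroup.pow_index_mem _ _
    have h5 := Cfsg.Agent.Lib.Components.le_pCore hmapn hmapp
    intro t ht
    exact h5 ⟨t, ht, rfl⟩
  have hPU := hPT.trans hTU
  have hT2 : (upperPSeries p G 2).1 = pPrimePCore p G := Cfsg.Agent.Lib.OddLocal.upperPSeries_two p
  haveI hT2n : (pPrimePCore p G).Normal := Cfsg.Agent.Lib.OddLocal.pPrimePCore_normal p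
  have h2 : (⊤ : Subgroup G) ≤ (upperPSeries p G 3).1 := by
    apply Cfsg.Agent.Lib.Coprime.PLen.step_even (k := 2) (Y := (upperPSeries p G 2).1) (by decide) le_rfl
    intro x _
    refine ⟨(pPrimePCore p G).index, ?_, ?_⟩
    · have h3 := P.not_dvd_index
      have h4 : (pPrimePCore p G).index ∣ (P : Subgroup G).index := Subgroup.index_dvd_of_le hPU
      exact ((Nat.Prime.coprime_iff_not_dvd hpp).mpr (fun h5 => h3 (h5.trans h4))).symm
    · rw [hT2]
      exact Subgroup.pow_index_mem _ x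
  exact top_le_iff.mp h2

end Main
/-- Let p be a prime, M a maximal ideal of the algebraic integers containing p, G a finite group, P a Sylow p-subgroup and N = N_G(P). Then G has p-length 1 (G = O_{p',p,p'}(G)) if and only if every irreducible character in the principal p-block of G restricts to an irreducible character of N. -/
theorem result {G : Type*} [Group G] [Finite G] (p : ℕ) [Fact p.Prime] (M : Ideal Cfsg.AlgInt) (hM : Cfsg.IsPModular p M) (P : Sylow p G) : Cfsg.PLengthLE p 1 G ↔ ∀ χ ∈ Cfsg.principalBlock M G, Cfsg.IsIrrCharacter ↥(Subgroup.normalizer ((P : Subgroup G) : Set G)) (fun n : ↥(Subgroup.normalizer ((P : Subgroup G) : Set G)) => (χ : G → ℂ) n) := by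
  classical
  cases nonempty_fintype G
  exact ⟨fun h => forward hM P h, fun h => backward hM P h⟩

end Cfsg.Agent.S4711
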