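import Cfsg.Statements.S2437
import Cfsg.Agent.Lib.Known.SL2Irr
import Cfsg.Agent.Lib.Known.SL2ClassesOdd

set_option autoImplicit false
open Cfsg

namespace Cfsg.Agent.S2437

open Cfsg.Agent.Lib.Known

/-- Over a finite field F with q elements, q odd, the upper triangular subgroup of SL₂ (a Borel subgroup, of order q(q − 1)) has exactly q + 3 conjugacy classes. -/
theorem result {F : Type*} [Field F] [Fintype F] (hodd : Odd (Fintype.card F)) :
    Nat.card (ConjClasses ((Cfsg.upperTriangularGL 2 F).comap Matrix.SpecialLinearGroup.toGL)) = Fintype.card F + 3 := by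
  classical
  have h2 := two_ne_zero_of_odd hodd
  obtain ⟨ν, hν⟩ := FiniteField.exists_nonsquare (ringChar_ne_two_of_odd hodd)
  have hν0 : ν ≠ 0 := by
    rintro rfl
    exact hν (IsSquare.zero)
  let bb : Fin 3 → F := ![0, 1, ν]
  have hmem : ∀ (a : Fˣ) (v : F), sl2BorelMk a v ∈ sl2Borel F := sl2BorelMk_mem
  let eU : {e : F // e * e = 1} → Fˣ := fun e => Units.mk0 e.1 (by
    intro h
    have := e.2
    rw [h] at this
    simp at this)
  have heU : ∀ e : {e : F // e * e = 1}, ((eU e)⁻¹ : Fˣ) = eU e := by
    intro e
    apply inv_eq_of_mul_eq_one_left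
    apply Units.ext
    simpa [eU] using e.2
  let r : ({a : Fˣ // a * a ≠ 1} ⊕ ({e : F // e * e = 1} × Fin 3)) → sl2Borel F := fun x =>
    match x with
    | Sum.inl a => ⟨sl2BorelMk a.1 0, hmem _ _⟩
    | Sum.inr (e, k) => ⟨sl2BorelMk (eU e) (bb k), hmem _ _⟩
  -- the conjugation formula
  have hconj : ∀ (d : Fˣ) (t : F) (a : Fˣ) (v w : F) (a' : Fˣ),
      sl2BorelMk d t * sl2BorelMk a v = sl2BorelMk a' w * sl2BorelMk d t →
      a' = a ∧ (d : F) * v + t * ((a⁻¹ : Fˣ) : F) = (a : F) * t + w * ((d⁻¹ : Fˣ) : F) := by
    intro d t a v w a' h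
    have h00 := congrArg (fun z : SL2 F => (z : Matrix (Fin 2) (Fin 2) F) 0 0) h
    have h01 := congrArg (fun z : SL2 F => (z : Matrix (Fin 2) (Fin 2) F) 0 1) h
    simp only [sl2_mul_apply, sl2BorelMk, sl2Mk_00, sl2Mk_01, sl2Mk_10, sl2Mk_11, mul_zero, add_zero, zero_mul] at h00 h01
    have hd : (d : F) ≠ 0 := d.ne_zero
    have e1 : (a' : F) = a := by
      have : (d : F) * a = a' * d := h00
      field_simp at this
      exact this.symm
    have e2 : a' = a := Units.ext e1
    subst e2
    exact ⟨rfl, h01⟩
  have hrep := Cfsg.Agent.Lib.Known.card_conjClasses_of_reps r ?_ ?_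
  · change Nat.card (ConjClasses (sl2Borel F)) = _
    rw [hrep, Nat.card_sum, Nat.card_prod, card_sqrt_one_of_two_ne_zero h2, Nat.card_eq_fintype_card (α := Fin 3), Fintype.card_fin]
    have hc : Nat.card {a : Fˣ // a * a ≠ 1} + 2 = Fintype.card F - 1 := by
      have h1 : Nat.card {a : Fˣ // ¬ a * a ≠ 1} = 2 := by
        rw [← card_sqrt_one_of_two_ne_zero h2]
        apply Nat.card_congr
        refine Equiv.ofBijective (fun a => ⟨(a.1 : F), ?_⟩) ⟨?_, ?_⟩
        · have := congrArg (fun u : Fˣ => (u : F)) (not_not.mp a.2)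
          simpa using this
        · rintro ⟨a, _⟩ ⟨b, _⟩ h
          apply Subtype.ext
          apply Units.ext
          simpa using h
        · rintro ⟨e, he⟩
          refine ⟨⟨eU ⟨e, he⟩, ?_⟩, rfl⟩
          simp only [ne_eq, not_not]
          apply Units.ext
          simpa [eU] using he
      have h3 : Nat.card {a : Fˣ // a * a ≠ 1} + Nat.card {a : Fˣ // ¬ a * a ≠ 1} = Nat.card Fˣ := by
        rw [Nat.card_eq_fintype_card, Nat.card_eq_fintype_card, Nat.card_eq_fintype_card,
          Fintype.card_subtype, Fintype.card_subtype]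
        rw [← Finset.card_univ]
        exact Finset.card_filter_add_card_filter_not _
      rw [h1, Nat.card_units, Nat.card_eq_fintype_card (α := F)] at h3
      exact h3
    omega
  · -- surjectivity
    rintro ⟨b, hb⟩
    have hb0 := (mem_sl2Borel_iff b).mp hb
    obtain ⟨a, v, rfl, _, _⟩ := sl2_exists_borelMk b hb0
    by_cases ha : a * a = 1
    · have ha' : (a : F) * a = 1 := by
        have := congrArg (fun u : Fˣ => (u : F)) ha
        simpa using this
      let e : {e : F // e * e = 1} := ⟨a, ha'⟩
      have hae : eU e = a := Units.ext rfl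
      have hinv : ((a⁻¹ : Fˣ) : F) = a := by
        rw [← hae, heU]
      -- reduce to the value of `v`
      have hred : ∀ k : Fin 3, ∀ d : Fˣ, v = (d : F) ^ 2 * bb k → IsConj (⟨sl2BorelMk a v, hb⟩ : sl2Borel F) (r (Sum.inr (e, k))) := by
        intro k d hd
        rw [isConj_iff]
        refine ⟨⟨sl2BorelMk d⁻¹ 0, hmem _ _⟩, ?_⟩
        rw [mul_inv_eq_iff_eq_mul]
        apply Subtype.ext
        change sl2BorelMk d⁻¹ 0 * sl2BorelMk a v = sl2BorelMk (eU e) (bb k) * sl2BorelMk d⁻¹ 0
        rw [hae]
        apply sl2_ext <;> simp [sl2_mul_apply, sl2BorelMk, hd]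
        · field_simp
        · have hd0 : (d : F) ≠ 0 := d.ne_zero
          field_simp
        · exact mul_comm _ _
      by_cases hv : v = 0
      · refine ⟨Sum.inr (e, 0), hred 0 1 ?_⟩
        simp [bb, hv]
      · by_cases hs : IsSquare v
        · obtain ⟨c, hc⟩ := hs
          have hc0 : c ≠ 0 := by
            rintro rfl
            apply hv
            simpa using hc
          refine ⟨Sum.inr (e, 1), hred 1 (Units.mk0 c hc0) ?_⟩
          simp [bb, hc, pow_two]
        · have hsq : IsSquare (v / ν) := by
            have hrc := ringChar_ne_two_of_odd hodd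
            rw [FiniteField.isSquare_iff hrc (div_ne_zero hv hν0), div_pow]
            have h3 : v ^ (Fintype.card F / 2) = -1 := by
              rcases FiniteField.pow_dichotomy hrc hv with h3 | h3
              · exact absurd ((FiniteField.isSquare_iff hrc hv).mpr h3) hs
              · exact h3
            have h4 : ν ^ (Fintype.card F / 2) = -1 := by
              rcases FiniteField.pow_dichotomy hrc hν0 with h3 | h3
              · exact absurd ((FiniteField.isSquare_iff hrc hν0).mpr h3) hν
              · exact h3
            rw [h3, h4]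
            simp
          obtain ⟨c, hc⟩ := hsq
          have hc0 : c ≠ 0 := by
            rintro rfl
            apply div_ne_zero hv hν0
            simpa using hc
          refine ⟨Sum.inr (e, 2), hred 2 (Units.mk0 c hc0) ?_⟩
          have : v = c * c * ν := by
            rw [← hc]
            field_simp
          simp [bb, this, pow_two]
    · -- regular case
      refine ⟨Sum.inl ⟨a, ha⟩, ?_⟩
      have ha1 : (a : F) * a ≠ 1 := by
        intro h
        apply ha
        apply Units.ext
        simpa using h
      have hne : ((a⁻¹ : Fˣ) : F) - a ≠ 0 := by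
        intro h
        apply ha1
        have h1 : ((a⁻¹ : Fˣ) : F) * a = 1 := by simp
        rw [sub_eq_zero.mp h] at h1
        exact h1
      rw [isConj_iff]
      refine ⟨⟨sl2BorelMk 1 (-(v / (((a⁻¹ : Fˣ) : F) - a))), hmem _ _⟩, ?_⟩
      rw [mul_inv_eq_iff_eq_mul]
      apply Subtype.ext
      change sl2BorelMk 1 (-(v / (((a⁻¹ : Fˣ) : F) - a))) * sl2BorelMk a v = sl2BorelMk a 0 * sl2BorelMk 1 (-(v / (((a⁻¹ : Fˣ) : F) - a)))
      apply sl2_ext <;> simp [sl2_mul_apply, sl2BorelMk]
      have h1a : (1 - (a : F) ^ 2) ≠ 0 := by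
        intro h
        apply ha1
        linear_combination -h
      field_simp
      ring
  · -- injectivity
    intro x y hxy
    obtain ⟨c, hc⟩ := isConj_iff.mp hxy
    rw [mul_inv_eq_iff_eq_mul] at hc
    have hc' := congrArg Subtype.val hc
    obtain ⟨b, hb⟩ := c
    have hb0 := (mem_sl2Borel_iff b).mp hb
    obtain ⟨d, t, rfl, _, _⟩ := sl2_exists_borelMk b hb0
    rcases x with a | ⟨e, k⟩ <;> rcases y with a' | ⟨e', k'⟩
    · have h3 := hconj d t a.1 0 0 a'.1 hc'
      congr 1
      exact Subtype.ext h3.1.symm
    · have h3 := hconj d t a.1 0 (bb k') (eU e') hc'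
      exfalso
      apply a.2
      rw [← h3.1]
      apply Units.ext
      simpa [eU] using e'.2
    · have h3 := hconj d t (eU e) (bb k) 0 a'.1 hc'
      exfalso
      apply a'.2
      rw [h3.1]
      apply Units.ext
      simpa [eU] using e.2
    · have h3 := hconj d t (eU e) (bb k) (bb k') (eU e') hc'
      have he : e' = e := by
        apply Subtype.ext
        have := congrArg (fun u : Fˣ => (u : F)) h3.1
        simpa [eU] using this
      subst he
      have hinv := heU e'
      have h4 := h3.2
      rw [hinv] at h4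
      have hdi : (d : F) * ((d⁻¹ : Fˣ) : F) = 1 := by simp
      have h5 : bb k' = (d : F) ^ 2 * bb k := by
        have : (d : F) * bb k = bb k' * ((d⁻¹ : Fˣ) : F) := by
          have h6 := h4
          linear_combination h6
        have h7 : bb k' = bb k' * (((d⁻¹ : Fˣ) : F) * d) := by
          have : ((d⁻¹ : Fˣ) : F) * d = 1 := by simp
          rw [this, mul_one]
        rw [h7, ← mul_assoc, ← this]
        ring
      have hk : k' = k := by
        have hd0 : (d : F) ≠ 0 := d.ne_zero
        have hnsq1 : ∀ z : F, z ^ 2 * 1 ≠ ν := by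
          intro z hz
          apply hν
          exact ⟨z, by rw [← hz]; ring⟩
        have hnsq2 : ∀ z : F, z ≠ 0 → z ^ 2 * ν ≠ 1 := by
          intro z hz h
          apply hν
          refine ⟨z⁻¹, ?_⟩
          field_simp
          linear_combination h
        have hb0' : bb 0 = 0 := rfl
        have hb1' : bb 1 = 1 := rfl
        have hb2' : bb 2 = ν := rfl
        have hd2 : (d : F) ^ 2 ≠ 0 := pow_ne_zero 2 hd0
        have hcases : ∀ m : Fin 3, m = 0 ∨ m = 1 ∨ m = 2 := by
          intro m
          fin_cases m <;> simp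
        rcases hcases k with rfl | rfl | rfl <;> rcases hcases k' with rfl | rfl | rfl
        · rfl
        · rw [hb0', hb1'] at h5
          simp at h5
        · rw [hb0', hb2'] at h5
          simp at h5
          exact absurd h5 hν0
        · rw [hb0', hb1'] at h5
          exfalso
          apply hd2
          simpa using h5.symm
        · rfl
        · rw [hb1', hb2'] at h5
          exfalso
          exact hnsq1 d h5.symm
        · rw [hb0', hb2'] at h5
          exfalso
          exact (mul_ne_zero hd2 hν0) h5.symm
        · rw [hb1', hb2'] at h5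
          exfalso
          exact hnsq2 d hd0 h5.symm
        · rfl
      rw [hk]

end Cfsg.Agent.S2437
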