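-- Statement S2061: Out(M12) has order 2.
import Cfsg.Statements.S2061
import Cfsg.Agent.Lib.KnownSimple.MathieuOut
import Cfsg.Agent.Lib.Golay.Dodecad

set_option autoImplicit false
open Cfsg

namespace Cfsg.Agent.S2061

theorem conj_pow_inv_left {G : Type*} [Group G] (h g : G) (n : ℕ) : (h⁻¹ * g * h) ^ n = h⁻¹ * g ^ n * h := by
  have := conj_pow (a := h⁻¹) (b := g) (i := n)
  simpa using this

open Cfsg.Agent.Lib.Golay Cfsg.Agent.Lib.KnownSimple.MathieuOut
open scoped Pointwise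

def aL : List ℕ := [0,2,4,6,8,10,12,14,16,18,20,22,1,3,5,7,9,11,13,15,17,19,21,23]
def ainvL : List ℕ := [0,12,1,13,2,14,3,15,4,16,5,17,6,18,7,19,8,20,9,21,10,22,11,23]
def bL : List ℕ := [12,1,13,8,4,5,6,19,3,9,21,11,0,2,22,15,18,23,16,7,20,10,14,17]
def uL : List ℕ := [8,9,16,0,6,5,4,17,12,1,14,11,3,18,21,15,13,19,2,23,20,22,10,7]
def nL : List ℕ := [0,1,8,4,18,5,9,22,6,16,17,10,3,12,15,20,2,7,13,14,21,19,11,23]
/-- `x ↦ -1/x`, swapping the dodecad of squares with its complement. -/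
def tL : List ℕ := [23,22,11,15,17,9,19,13,20,5,16,2,21,7,18,3,10,4,14,6,8,12,1,0]
/-- Carries the base dodecad to the dodecad of squares. -/
def cL : List ℕ := [1,2,3,4,5,12,20,13,6,16,8,9,11,14,10,15,23,7,22,18,19,21,17,0]
def cinvL : List ℕ := [23,0,1,2,3,4,8,17,10,11,14,12,5,7,13,15,9,22,19,20,6,21,18,16]
/-- An element of `M12` fixing `pt 0` and moving `pt 23`. -/
def vL : List ℕ := [0,12,13,9,1,5,3,10,16,6,22,7,18,4,17,23,8,14,2,15,11,20,21,19]
/-- The mask of the dodecad of squares. -/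
def Dm : ℕ := 340831

def L7 : List (List ℕ) := [
  [1,2,23,5,16,3,18,8,19,10,9,7,6,4,14,15,22,17,21,11,20,12,13,0],
  [1,2,23,7,4,19,20,9,5,8,11,3,14,16,21,18,13,6,17,10,12,15,22,0],
  [1,2,23,8,22,11,17,3,9,19,7,10,20,13,18,6,16,12,15,5,21,14,4,0],
  [1,2,23,9,13,10,6,19,11,5,3,8,12,22,20,14,4,15,18,7,17,21,16,0],
  [1,2,23,10,13,9,21,7,8,3,5,11,18,22,15,17,4,20,12,19,14,6,16,0],
  [1,2,23,11,22,8,14,5,10,7,19,9,15,13,12,21,16,18,20,3,6,17,4,0],
  [1,2,23,19,4,7,15,10,3,11,8,5,17,16,6,12,13,21,14,9,18,20,22,0]]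

def reps : List RepD := [
  (262637, [2,3,5,6,10,7,17,1,4,11,19,15,20,13,18,12,9,8,22,14,21,23,16,0], [23,7,0,1,8,2,3,5,17,16,4,9,15,13,19,11,22,6,14,10,12,20,18,21]),
  (525274, [3,4,6,7,11,8,18,2,5,12,20,16,21,14,19,13,10,9,0,15,22,23,17,1], [18,23,7,0,1,8,2,3,5,17,16,4,9,15,13,19,11,22,6,14,10,12,20,21]),
  (786999, [1,2,4,5,11,9,10,3,22,14,8,16,13,21,18,6,17,19,23,7,20,12,15,0], [23,0,1,7,2,3,15,19,10,5,6,4,21,12,9,22,11,16,14,17,20,13,8,18]),
  (1050548, [4,5,7,8,12,9,19,3,6,13,21,17,22,15,20,14,11,10,1,16,0,23,18,2], [20,18,23,7,0,1,8,2,3,5,17,16,4,9,15,13,19,11,22,6,14,10,12,21]),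
  (1312345, [3,4,6,9,12,18,1,5,13,7,14,19,2,15,20,23,11,10,17,16,22,21,8,0], [23,6,12,0,1,7,2,9,22,3,17,16,4,8,10,13,19,18,5,11,14,21,20,15]),
  (1573998, [2,3,5,6,12,10,11,4,0,15,9,17,14,22,19,7,18,20,23,8,21,13,16,1], [8,23,0,1,7,2,3,15,19,10,5,6,4,21,12,9,22,11,16,14,17,20,13,18]),
  (1836419, [1,7,8,10,17,20,21,3,15,12,16,23,5,13,19,6,2,18,4,11,22,14,9,0], [23,0,16,7,18,12,15,1,2,22,3,19,9,13,21,8,10,4,17,14,5,6,20,11]),
  (2101096, [5,6,8,9,13,10,20,4,7,14,22,18,0,16,21,15,12,11,2,17,1,23,19,3], [12,20,18,23,7,0,1,8,2,3,5,17,16,4,9,15,13,19,11,22,6,14,10,21]),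
  (2363013, [2,7,9,10,19,11,23,22,8,6,16,17,1,14,18,4,20,21,13,5,15,12,3,0], [23,12,0,22,15,19,9,1,8,2,3,5,21,18,13,20,10,11,14,4,16,17,7,6]),
  (2624690, [4,5,7,10,13,19,2,6,14,8,15,20,3,16,21,23,12,11,18,17,0,22,9,1], [20,23,6,12,0,1,7,2,9,22,3,17,16,4,8,10,13,19,18,5,11,14,21,15]),
  (3147996, [3,4,6,7,13,11,12,5,1,16,10,18,15,0,20,8,19,21,23,9,22,14,17,2], [13,8,23,0,1,7,2,3,15,19,10,5,6,4,21,12,9,22,11,16,14,17,20,18]),
  (3410225, [4,5,8,11,2,18,15,1,19,22,13,10,3,16,21,9,12,20,14,23,6,7,17,0], [23,7,4,12,0,1,20,21,2,15,11,3,16,10,18,6,13,22,5,8,17,14,9,19]),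
  (3672838, [2,8,9,11,18,21,22,4,16,13,17,23,6,14,20,7,3,19,5,12,0,15,10,1], [20,23,0,16,7,18,12,15,1,2,22,3,19,9,13,21,8,10,4,17,14,5,6,11]),
  (4459426, [5,7,8,9,23,22,12,14,16,6,13,17,3,4,18,21,0,11,10,19,20,2,15,1], [16,23,21,12,13,0,9,1,2,3,18,17,6,10,7,22,8,11,14,19,20,15,5,4]),
  (4721045, [2,4,7,8,21,11,10,1,15,20,18,9,16,13,22,17,14,19,6,3,23,12,5,0], [23,7,0,19,1,22,18,2,3,11,6,5,21,13,16,8,12,15,10,17,9,4,14,20]),
  (4982904, [4,5,6,11,8,22,10,7,12,0,16,2,14,20,18,21,17,19,9,13,1,15,23,3], [9,20,11,23,0,1,2,7,4,18,6,3,8,19,12,21,10,16,14,17,13,15,5,22]),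
  (5508118, [2,4,10,11,17,20,14,16,9,12,7,21,13,23,22,3,19,18,6,15,0,5,8,1], [20,23,0,15,1,21,18,10,22,8,2,3,9,12,6,19,7,4,17,16,5,11,14,13]),
  (5770785, [5,9,10,11,21,19,18,8,16,14,6,13,3,12,20,7,15,22,2,23,1,17,4,0], [23,20,18,12,22,0,10,15,7,1,2,3,13,11,9,16,8,21,6,5,14,4,17,19]),
  (6292775, [1,2,5,8,4,22,12,13,23,7,11,14,3,18,21,16,9,10,17,6,20,15,19,0], [23,0,1,12,4,2,19,9,3,16,17,10,6,7,11,21,15,18,13,22,20,14,5,8]),
  (6554826, [3,6,7,10,8,18,15,20,16,5,12,13,14,9,21,11,19,22,2,0,23,17,4,1], [19,23,18,0,22,9,1,2,4,13,3,15,10,11,12,6,8,21,5,16,7,14,17,20]),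
  (7340691, [1,4,7,9,2,21,6,11,17,8,23,19,14,12,22,15,10,20,16,18,5,13,3,0], [23,0,4,22,1,20,6,2,9,3,16,7,13,21,12,15,18,8,19,11,17,5,14,10]),
  (7864649, [3,6,8,19,7,21,14,9,12,23,1,11,4,18,20,13,5,22,15,16,10,17,2,0], [23,10,22,0,12,16,1,4,2,7,20,11,8,15,6,18,19,21,13,3,14,5,17,9]),
  (8126628, [5,7,18,19,17,21,3,8,23,12,4,10,13,16,22,11,14,20,1,0,15,6,9,2], [19,18,23,6,10,0,21,1,7,22,11,15,9,12,16,20,13,4,2,3,17,5,14,8]),
  (560668, [3,4,9,10,7,15,5,14,17,23,21,1,16,18,11,8,13,19,20,12,0,6,22,2], [20,11,23,0,1,6,21,4,15,2,3,14,19,16,7,5,12,8,13,17,18,10,22,9]),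
  (1084018, [4,5,6,9,17,20,18,10,0,23,19,21,16,2,15,13,22,11,3,8,14,12,7,1], [8,23,13,18,0,1,2,22,19,3,7,17,21,15,20,14,12,4,6,10,5,11,16,9]),
  (2130606, [2,3,5,7,19,21,13,4,14,12,16,17,23,6,15,22,10,9,0,11,18,8,20,1], [18,23,0,1,7,2,13,3,21,17,16,19,9,6,8,14,10,11,20,4,22,5,15,12]),
  (2654580, [4,5,6,8,16,15,9,14,10,22,7,0,11,20,19,1,18,21,23,12,17,3,13,2], [11,15,23,21,0,1,2,10,3,6,8,12,19,22,7,5,4,20,16,14,13,17,9,18]),
  (2916505, [3,4,7,15,16,21,2,1,5,14,22,17,11,20,19,6,13,18,9,10,23,12,8,0], [23,7,6,0,1,8,15,2,22,18,19,12,21,16,9,3,4,11,17,14,13,5,10,20]),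
  (3704512, [7,9,10,15,12,21,16,13,0,23,2,5,14,4,20,3,22,19,1,8,17,18,11,6], [8,18,10,15,13,11,23,0,19,1,2,22,4,7,12,3,6,20,21,17,14,5,16,9]),
  (4752467, [1,4,6,10,23,22,5,16,13,8,20,18,7,17,19,2,9,15,11,21,14,3,12,0], [23,0,15,21,1,6,2,12,9,16,3,18,22,8,20,17,7,13,11,14,10,19,5,4]),
  (6062602, [3,9,15,18,8,22,6,16,13,7,5,14,4,17,20,21,23,19,0,10,2,12,11,1], [18,23,20,0,12,10,6,9,4,1,19,22,21,8,11,2,7,13,3,17,14,15,5,16]),
  (6588684, [3,8,11,15,6,18,10,0,5,16,12,13,4,23,21,7,19,22,1,20,9,17,14,2], [7,18,23,0,12,8,4,15,1,20,6,2,10,11,22,3,9,21,5,16,19,14,17,13]),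
  (69395, [1,4,8,9,7,11,14,6,13,17,3,21,19,15,10,18,23,16,12,20,22,2,5,0], [23,0,21,10,1,22,7,4,2,3,14,5,18,8,6,13,17,9,15,12,19,11,20,16]),
  (1903248, [7,9,11,16,6,18,13,21,5,14,1,0,17,12,19,23,10,20,3,15,2,8,22,4], [11,10,20,18,23,8,4,0,21,1,16,2,13,6,9,19,3,12,5,14,17,7,22,15]),
  (2162811, [1,3,4,5,19,16,14,15,2,18,17,7,12,23,21,8,11,6,10,13,22,9,20,0], [23,0,8,1,2,3,17,11,15,21,18,16,12,19,6,7,5,10,9,4,22,14,20,13]),
  (2425238, [2,4,7,8,14,18,22,17,12,19,15,0,3,9,16,13,23,21,10,6,20,5,11,1], [11,23,0,12,1,21,19,2,3,13,18,22,8,15,4,10,14,7,5,9,20,17,6,16]),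
  (2949708, [3,6,9,16,1,21,5,12,17,20,15,7,10,11,18,8,0,19,23,14,13,4,22,2], [16,4,23,0,21,6,1,11,15,2,12,13,7,20,19,10,3,8,14,17,9,5,22,18]),
  (3474978, [5,9,10,16,11,21,4,23,13,6,7,19,15,12,18,0,2,20,8,3,14,22,17,1], [15,23,16,19,6,0,9,10,18,1,2,4,13,8,20,12,3,22,14,11,17,5,21,7]),
  (4261212, [3,4,6,8,20,22,14,5,15,13,17,18,23,7,16,0,11,10,1,12,19,9,21,2], [15,18,23,0,1,7,2,13,3,21,17,16,19,9,6,8,14,10,11,20,4,22,5,12]),
  (7409024, [8,10,11,16,14,22,12,13,4,6,15,23,3,19,21,1,9,20,18,0,2,5,17,7], [19,15,20,12,8,21,9,23,0,16,1,2,6,7,4,10,3,22,18,13,17,14,5,11]),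
  (1410188, [3,7,10,15,22,16,4,0,17,13,8,6,9,14,20,21,11,18,23,12,19,1,5,2], [7,21,23,0,6,22,11,1,10,12,2,16,19,9,13,3,5,8,17,20,14,15,4,18]),
  (7438406, [2,6,15,16,0,20,23,4,8,19,9,10,7,5,22,14,12,21,11,18,17,3,13,1], [4,23,0,21,7,13,1,12,8,10,11,18,16,22,15,2,3,20,19,9,5,17,14,6]),
  (1445088, [6,7,10,11,19,20,1,0,12,15,3,2,16,23,17,4,22,18,21,9,13,14,8,5], [7,6,11,10,15,23,0,1,22,19,2,3,8,20,21,9,12,14,17,4,5,18,16,13]),
  (2491452, [3,4,5,10,7,21,9,6,11,22,15,1,13,19,17,20,16,18,8,12,0,14,23,2], [20,11,23,0,1,2,7,4,18,6,3,8,19,12,21,10,16,14,17,13,15,5,9,22]),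
  (3277413, [2,5,6,9,7,17,14,19,15,4,11,12,13,8,20,10,18,21,1,22,23,16,3,0], [23,18,0,22,9,1,2,4,13,3,15,10,11,12,6,8,21,5,16,7,14,17,19,20]),
  (1839388, [3,4,8,12,10,18,14,17,5,23,9,1,13,6,19,21,22,20,11,7,0,15,16,2], [20,11,23,0,1,8,13,19,2,10,4,18,3,12,6,21,22,7,5,14,17,15,16,9]),
  (8391797, [2,4,5,6,16,23,21,13,22,19,18,15,20,12,11,1,17,10,3,7,9,14,8,0], [23,15,0,18,1,2,3,19,22,20,17,14,13,7,21,11,4,16,10,9,12,6,8,5]),
  (8654232, [4,7,8,10,6,18,14,17,16,22,21,13,0,9,11,12,19,23,20,15,5,2,1,3], [12,22,21,23,0,20,4,1,2,13,3,14,15,11,6,19,8,7,5,16,18,10,9,17]),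
  (9440193, [6,7,8,9,4,23,18,3,22,13,19,16,1,17,20,14,21,11,12,2,15,5,10,0], [23,12,19,7,4,21,0,1,2,3,22,17,18,9,15,20,11,13,6,10,14,16,8,5]),
  (9701932, [3,5,9,11,6,18,19,8,0,1,21,16,10,12,23,7,4,20,13,17,15,22,14,2], [8,9,23,0,16,1,4,15,7,2,12,3,13,18,22,20,11,19,5,6,17,10,21,14]),
  (9963547, [1,3,4,11,2,20,14,13,21,17,8,6,5,7,19,18,12,23,16,9,22,15,10,0], [23,0,4,1,2,12,11,13,10,19,22,3,16,7,6,21,18,9,15,14,5,8,20,17]),
  (10486557, [2,3,4,8,22,21,18,16,7,19,6,12,10,5,9,17,15,23,1,14,13,11,20,0], [23,18,0,1,2,13,10,8,3,14,12,21,11,20,19,16,7,15,6,9,22,5,4,17]),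
  (10748656, [5,6,7,9,22,18,10,3,19,14,16,0,20,17,23,11,2,21,12,13,8,15,1,4], [11,22,16,7,23,0,1,2,20,3,6,15,18,19,9,21,10,13,5,8,12,17,4,14]),
  (11010247, [1,2,6,7,5,21,3,22,10,14,4,16,17,12,19,8,15,23,18,11,20,9,13,0], [23,0,1,6,10,4,2,3,15,21,8,19,13,22,9,16,11,12,18,14,20,5,7,17]),
  (11272490, [3,5,8,18,11,23,9,12,6,16,17,15,14,13,21,7,2,19,22,0,10,20,4,1], [19,23,16,0,22,1,8,15,2,6,20,4,7,13,12,11,9,10,3,17,21,14,18,5]),
  (11535529, [3,5,7,10,16,20,4,17,19,6,8,13,1,14,23,18,12,21,22,9,2,11,15,0], [23,12,20,0,6,1,9,2,10,19,3,21,16,11,13,22,4,7,15,8,5,17,18,14]),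
  (13108704, [6,7,8,10,0,19,11,4,20,15,17,1,21,18,23,12,3,22,13,14,9,16,2,5], [4,11,22,16,7,23,0,1,2,20,3,6,15,18,19,9,21,10,13,5,8,12,17,14]),
  (13631886, [2,3,7,8,6,22,4,0,11,15,5,17,18,13,20,9,16,23,19,12,21,10,14,1], [7,23,0,1,6,10,4,2,3,15,21,8,19,13,22,9,16,11,12,18,14,20,5,17]),
  (14682450, [4,6,8,11,17,21,5,18,20,7,9,14,2,15,23,19,13,22,0,10,3,12,16,1], [18,23,12,20,0,6,1,9,2,10,19,3,21,16,11,13,22,4,7,15,8,5,17,14]),
  (15207048, [7,9,11,19,0,21,8,12,6,10,1,14,15,4,23,13,5,22,18,2,20,16,17,3], [4,10,19,23,13,16,8,0,6,1,9,2,7,15,11,12,21,22,18,3,20,5,17,14]),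
  (8683614, [2,3,4,6,19,15,7,0,16,11,13,20,17,14,23,8,22,18,9,10,5,12,21,1], [7,23,0,1,2,20,3,6,15,18,19,9,21,10,13,5,8,12,17,4,11,22,16,14]),
  (9471495, [1,2,9,10,3,23,16,14,17,19,18,7,8,6,20,5,11,15,13,12,4,21,22,0], [23,0,1,4,20,15,13,11,12,2,3,16,19,18,7,17,6,8,10,9,14,21,22,5]),
  (10257456, [5,10,15,18,14,23,3,7,17,0,21,11,8,2,20,12,16,19,22,13,9,6,1,4], [9,22,13,6,23,0,21,7,12,20,1,11,15,19,4,2,16,8,3,17,14,10,18,5]),
  (13142054, [2,5,11,15,9,22,6,14,13,16,0,3,8,12,19,20,10,23,4,21,7,18,17,1], [10,23,0,11,18,1,6,20,12,4,16,2,13,8,7,3,9,22,21,14,15,19,5,17]),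
  (15762208, [8,9,15,20,3,21,17,6,11,19,13,0,2,16,23,10,18,22,14,12,1,7,4,5], [11,20,12,4,22,23,7,21,0,1,15,8,19,10,18,2,13,6,16,9,3,5,17,14]),
  (9503954, [4,6,7,10,18,16,21,14,9,17,2,8,19,13,23,22,11,20,3,12,5,15,0,1], [22,23,10,18,0,20,1,2,11,8,3,16,19,13,7,21,5,9,4,12,17,6,15,14]),
  (10028808, [8,9,10,16,2,19,13,17,22,6,21,7,15,1,23,5,14,20,0,12,11,4,18,3], [18,13,4,23,21,15,9,11,0,1,2,20,19,6,16,12,3,7,22,5,17,10,8,14]),
  (9537812, [4,8,11,15,12,20,13,3,18,7,0,9,6,10,16,19,14,23,17,1,22,5,21,2], [10,19,23,7,0,21,12,9,1,11,13,2,4,6,16,3,14,18,8,15,5,22,20,17]),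
  (10584520, [6,7,8,15,2,16,4,1,13,20,10,22,11,5,23,14,0,21,17,19,12,9,18,3], [16,7,4,23,6,13,0,1,2,21,10,12,20,8,15,3,5,18,22,19,9,17,11,14])]

def mkW (exps : List ℕ) (m : ℕ) : List Bool :=
  (List.replicate m (exps.flatMap fun e => List.replicate e false ++ [true])).flatten

def rels : List (List Bool) := [mkW [3, 2, 2, 3] 2]

def steps : List (ℕ × ℕ) := [
  (0,1),(1,0),(3,0),(3,1),(4,1),(5,1),(6,1),(7,1),(9,0),(9,1),(10,10),(11,0),(12,0),(13,0),(14,0),(15,0),(16,0),(17,0),(18,0),(13,2),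
  (14,14),(0,0),(16,0),(11,6),(14,6),(0,26),(19,19),(0,0),(0,0),(2,0),(0,4),(0,32),(33,0),(33,1),(3,31),(4,24),(5,24),(6,24),(38,1),(39,0),
  (3,41),(8,0),(5,5),(0,0),(0,0),(2,0),(0,4),(0,15),(1,46),(18,1),(3,50),(51,0),(21,1),(6,2),(7,18),(24,3),(9,4),(26,10),(11,11),(28,0),
  (13,0),(30,0),(15,1),(16,0),(33,0),(6,33),(33,0),(9,9),(10,0),(1,1),(1,0),(0,4),(0,73),(73,0),(2,40),(3,64),(76,0),(5,30),(47,0),(32,1),
  (8,20),(50,0),(10,51),(52,11),(53,1),(54,15),(14,16),(64,28),(89,0),(36,36),(37,0),(1,1),(1,0),(0,4),(34,34),(35,0),(0,2),(10,0),(0,99),(27,0),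
  (2,42),(70,0),(4,71),(31,0),(6,1),(7,7),(8,0),(38,48),(0,109),(35,35),(0,0),(0,0),(38,0),(0,4),(78,78),(0,0),(80,0),(0,3),(59,0),(14,14),
  (0,1),(0,22),(1,71),(2,76),(3,66),(4,94),(5,43),(6,29),(30,7),(8,23),(129,79),(0,47),(0,11),(131,80),(0,87),(0,32),(0,29),(37,101),(0,79),(0,56),
  (0,33),(68,105),(0,63),(0,40),(0,16),(146,69),(0,68),(0,75),(0,50),(27,138),(0,26),(0,67),(0,24),(105,102),(0,76),(0,124),(0,35),(125,34),(0,33),(0,54),
  (0,32),(87,110),(0,82),(0,91),(65,63),(0,36),(133,130),(0,108),(0,84),(0,48),(170,112),(0,88),(0,51),(119,72),(0,71),(0,46),(165,51),(0,51),(0,50),(56,101),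
  (0,54),(0,52),(129,124),(0,100),(0,77),(109,107),(0,103),(0,58),(136,63),(0,68),(139,110),(0,119),(0,85),(138,115),(0,122),(0,97),(160,137),(0,92),(139,115),(0,69),
  (121,95),(77,75),(0,74),(145,76),(0,106),(80,84),(105,123),(0,79),(161,136),(0,88),(130,179),(0,105),(134,91),(110,106),(130,93),(184,85),(133,86),(145,88),(92,111)]

def allT : List (List ℕ) := m12T0 ++ m12T1 ++ m12T2 ++ m12T3 ++ m12T4

/-- The filter: preservation of the dodecad. -/
def fD (c : List ℕ) : Bool := Nat.beq (pull c Dm) Dm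

theorem ha : isPerm aL = true := by decide +kernel
theorem hb : isPerm bL = true := by decide +kernel
theorem hu : isPerm uL = true := by decide +kernel
theorem hn : isPerm nL = true := by decide +kernel
theorem ht : isPerm tL = true := by decide +kernel
theorem hcL : isPerm cL = true := by decide +kernel
theorem hcinv : isPerm cinvL = true := by decide +kernel
theorem hv : isPerm vL = true := by decide +kernel
theorem haut : autCheck aL = true := by decide +kernel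
theorem hbut : autCheck bL = true := by decide +kernel
theorem huut : autCheck uL = true := by decide +kernel
theorem hnut : autCheck nL = true := by decide +kernel
theorem htut : autCheck tL = true := by decide +kernel
theorem hcut : autCheck cL = true := by decide +kernel
theorem hvut : autCheck vL = true := by decide +kernel
theorem hr : repsOK reps = true := by decide +kernel
theorem hc : coverOK (fun _ => true) aL 11 reps = true := by decide +kernel
theorem hrels : rels.all (relOK aL bL) = true := by decide +kernel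
theorem hplus : (cands reps).all (candOKplus aL bL rels fD) = true := by decide +kernel
theorem hslp : slpChk 2 steps = true := by decide +kernel
theorem htargets : allT.all (fun l => (slpRun [aL, bL] steps).elem (mulL (mulL cL l) cinvL)) = true := by
  decide +kernel
theorem Dm_lt : Dm < 2 ^ 24 := by decide +kernel

theorem hord : orderOf (perm aL) = 11 := by
  have : Fact (Nat.Prime 11) := ⟨by norm_num⟩
  exact orderOf_perm ha (by decide +kernel) (by decide +kernel)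

theorem hb2 : perm bL ^ 2 = 1 := by
  rw [← perm_powL hb, show powL bL 2 = idL by decide +kernel, perm_idL]

theorem hbne : perm bL ≠ 1 := by
  intro h
  have := eq_idL_of_perm hb h
  revert this
  decide +kernel

theorem hna : perm nL * perm aL * (perm nL)⁻¹ = perm aL ^ 3 := by
  rw [mul_inv_eq_iff_eq_mul, ← perm_powL ha, ← perm_mulL' hn ha, ← perm_mulL' (isPerm_powL ha _) hn,
    show mulL nL aL = mulL (powL aL 3) nL by decide +kernel]

theorem hbu : perm bL = perm uL ^ 2 := by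
  rw [← perm_powL hu, show powL uL 2 = bL by decide +kernel]

theorem hu4 : perm uL ^ 4 = 1 := by
  rw [← perm_powL hu, show powL uL 4 = idL by decide +kernel, perm_idL]

/-! ### The group -/

theorem squareDodecad_eq : Spor.squareDodecad = finOf Dm := by
  have h1 : qrWord 0 = wordOf Dm := by
    rw [← wordOf_qrMask 0]
    congr 1
  show support₂ (qrWord 0) = _
  rw [h1, support_wordOf]

theorem mem_M12_iff {g : Equiv.Perm GolayPt} : g ∈ Spor.M12 ↔ g ∈ M24 ∧ g • finOf Dm = finOf Dm := by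
  rw [← squareDodecad_eq]
  show g ∈ M24 ⊓ MulAction.stabilizer (Equiv.Perm GolayPt) Spor.squareDodecad ↔ _
  exact Iff.rfl

theorem mem_M12_of {l : List ℕ} (h : isPerm l = true) (hu : autCheck l = true) (hd : pull l Dm = Dm) :
    perm l ∈ Spor.M12 :=
  mem_M12_iff.mpr ⟨perm_mem_M24 h hu, perm_smul_eq_of_pull h hd⟩

theorem haH : perm aL ∈ Spor.M12 := mem_M12_of ha haut (by decide +kernel)
theorem hbH : perm bL ∈ Spor.M12 := mem_M12_of hb hbut (by decide +kernel)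
theorem huH : perm uL ∈ Spor.M12 := mem_M12_of hu huut (by decide +kernel)
theorem hnH : perm nL ∈ Spor.M12 := mem_M12_of hn hnut (by decide +kernel)
theorem hvH : perm vL ∈ Spor.M12 := mem_M12_of hv hvut (by decide +kernel)

theorem hcinvE : perm cinvL = (perm cL)⁻¹ := perm_inv_of_mul hcL hcinv (by decide +kernel)

theorem c_smul : perm cL • finOf d0 = finOf Dm := by
  have h1 := finOf_pull hcinv d0
  rw [show pull cinvL d0 = Dm by decide +kernel, hcinvE, inv_inv] at h1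
  exact h1.symm

theorem mem_iff_conj {x : Equiv.Perm GolayPt} :
    x ∈ Spor.M12 ↔ (perm cL)⁻¹ * x * perm cL ∈ M12B := by
  have hcM := perm_mem_M24 hcL hcut
  rw [mem_M12_iff, mem_M12B_iff]
  constructor
  · rintro ⟨h1, h2⟩
    refine ⟨M24.mul_mem (M24.mul_mem (M24.inv_mem hcM) h1) hcM, ?_⟩
    show _ • finOf d0 = finOf d0
    rw [mul_smul, mul_smul, c_smul, h2, ← c_smul, inv_smul_smul]
  · rintro ⟨h1, h2⟩
    constructor
    · have : x = perm cL * ((perm cL)⁻¹ * x * perm cL) * (perm cL)⁻¹ := by group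
      rw [this]
      exact M24.mul_mem (M24.mul_mem hcM h1) (M24.inv_mem hcM)
    · rw [← c_smul]
      have h3 : x • perm cL • finOf d0 = perm cL • ((perm cL)⁻¹ * x * perm cL) • finOf d0 := by
        rw [← mul_smul, ← mul_smul]
        congr 1
        group
      rw [h3]
      show perm cL • (_ • finOf d0) = _
      rw [show ((perm cL)⁻¹ * x * perm cL) • finOf d0 = finOf d0 from h2]

theorem M12_eq_map : Spor.M12 = M12B.map (MulAut.conj (perm cL)).toMonoidHom := by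
  ext x
  rw [Subgroup.mem_map_equiv, mem_iff_conj]
  simp [MulAut.conj_symm_apply]

theorem card_M12 : Nat.card Spor.M12 = 95040 := by
  rw [M12_eq_map, Subgroup.card_map_of_injective (MulEquiv.injective _), card_M12B]

theorem hgen : Spor.M12 ≤ Subgroup.closure {perm aL, perm bL} := by
  set K := Subgroup.closure {perm aL, perm bL} with hK
  have htab : ∀ g ∈ [aL, bL], isPerm g = true ∧ perm g ∈ K := by
    intro g hg
    simp only [List.mem_cons, List.not_mem_nil, or_false] at hg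
    rcases hg with rfl | rfl
    · exact ⟨ha, Subgroup.subset_closure (by simp)⟩
    · exact ⟨hb, Subgroup.subset_closure (by simp)⟩
  have hrun := slp_mem K steps [aL, bL] htab hslp
  have hall : ∀ l ∈ allT, perm (mulL (mulL cL l) cinvL) ∈ K := by
    intro l hl
    have := List.all_eq_true.mp htargets l hl
    exact (hrun _ (List.mem_of_elem_eq_true this)).2
  rw [M12_eq_map, Subgroup.map_le_iff_le_comap]
  apply le_of_chainOK _ _ _ m12_chainOK
  have hperm : ∀ l ∈ allT, isPerm l = true := by decide +kernel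
  intro x hx t ht'
  have key : ∀ l ∈ allT, perm l ∈ K.comap (MulAut.conj (perm cL)).toMonoidHom := by
    intro l hl
    rw [Subgroup.mem_comap]
    have h1 := hall l hl
    rw [perm_mulL' (isPerm_mulL hcL (hperm l hl)) hcinv, perm_mulL' hcL (hperm l hl), hcinvE] at h1
    exact h1
  simp only [m12Levels, List.mem_cons, List.not_mem_nil, or_false] at hx
  rcases hx with rfl | rfl | rfl | rfl | rfl <;>
  · obtain ⟨l, hl, rfl⟩ := List.mem_map.mp ht'
    exact key l (by simp [allT, hl])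

/-! ### Squares of elements of order four have fixed points -/

theorem L7_check1 : L7.all (fun l => isPerm l && autCheck l && Nat.beq (pull l d0) d0) = true := by
  decide +kernel

theorem L7_check2 : L7.all (fun l => !(powL l 4 == idL) || !(Nat.beq (fixMaskL (powL l 2)) 0)) = true := by
  decide +kernel

theorem L7_cover : ∀ i : Fin 24, d0.testBit i = true → (i : ℕ) ∉ [23, 0, 1, 2, 3] →
    ∃ l ∈ L7, lk l 23 = 0 ∧ lk l 0 = 1 ∧ lk l 1 = 2 ∧ lk l 2 = 23 ∧ lk l 3 = i := by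
  decide +kernel

theorem apply_mem_D0 {h : Equiv.Perm GolayPt} (hh : h ∈ M12B) {q : GolayPt} (hq : q ∈ D0) : h q ∈ D0 := by
  have h1 := (mem_M12B_iff.mp hh).2
  rw [← h1]
  exact (mem_smul_iff h D0 q).mpr hq

theorem sq_has_fix {g : Equiv.Perm GolayPt} (hg : g ∈ M12B) (h4 : g ^ 4 = 1) : ∃ q, (g ^ 2) q = q := by
  classical
  by_contra hno
  push Not at hno
  have hno' : ∀ q, g (g q) ≠ q := by
    intro q
    have := hno q
    simpa [pow_two] using this
  have hfour : ∀ q, g (g (g (g q))) = q := by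
    intro q
    have : (g ^ 4) q = q := by rw [h4]; rfl
    simpa [pow_succ, Equiv.Perm.mul_apply] using this
  have hg1 : ∀ q, g q ≠ q := by
    intro q h
    apply hno' q
    rw [h, h]
  set x0 := pt 23 with hx0
  have hx0D : x0 ∈ D0 := by
    show pt 23 ∈ finOf d0
    rw [mem_finOf]
    decide +kernel
  set x1 := g x0 with hx1
  set x2 := g x1 with hx2
  set x3 := g x2 with hx3
  have hx1D := apply_mem_D0 hg hx0D
  have hx2D := apply_mem_D0 hg hx1D
  have hx3D := apply_mem_D0 hg hx2D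
  have hgx3 : g x3 = x0 := hfour x0
  have n01 : x0 ≠ x1 := (hg1 x0).symm
  have n12 : x1 ≠ x2 := (hg1 x1).symm
  have n23 : x2 ≠ x3 := (hg1 x2).symm
  have n30 : x3 ≠ x0 := by
    intro h
    have := hg1 x3
    rw [hgx3] at this
    exact this h.symm
  have n02 : x0 ≠ x2 := (hno' x0).symm
  have n13 : x1 ≠ x3 := (hno' x1).symm
  obtain ⟨y0, hy0, hy1⟩ : ∃ y ∈ D0, y ∉ ({x0, x1, x2, x3} : Finset GolayPt) := by
    apply Finset.exists_mem_notMem_of_card_lt_card
    have h5 : ({x0, x1, x2, x3} : Finset GolayPt).card ≤ 4 := Finset.card_le_four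
    have h6 : D0.card = 12 := by
      rw [D0, card_finOf (by decide +kernel)]
      decide +kernel
    omega
  simp only [Finset.mem_insert, Finset.mem_singleton, not_or] at hy1
  obtain ⟨ny0, ny1, ny2, ny3⟩ := hy1
  let p : Fin 5 → GolayPt := ![x0, x1, x2, x3, y0]
  have hpinj : Function.Injective p := by
    intro i j hij
    fin_cases i <;> fin_cases j <;> first
      | rfl
      | exact absurd hij n01
      | exact absurd hij (Ne.symm n01)
      | exact absurd hij n12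
      | exact absurd hij (Ne.symm n12)
      | exact absurd hij n23
      | exact absurd hij (Ne.symm n23)
      | exact absurd hij n30
      | exact absurd hij (Ne.symm n30)
      | exact absurd hij n02
      | exact absurd hij (Ne.symm n02)
      | exact absurd hij n13
      | exact absurd hij (Ne.symm n13)
      | exact absurd hij ny0
      | exact absurd hij (Ne.symm ny0)
      | exact absurd hij ny1
      | exact absurd hij (Ne.symm ny1)
      | exact absurd hij ny2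
      | exact absurd hij (Ne.symm ny2)
      | exact absurd hij ny3
      | exact absurd hij (Ne.symm ny3)
  have hpD : ∀ i, p i ∈ D0 := by
    intro i
    fin_cases i
    · exact hx0D
    · exact hx1D
    · exact hx2D
    · exact hx3D
    · exact hy0
  obtain ⟨h, hh, e0, e1, e2, e3, e4⟩ := exists_base12_to p hpinj hpD
  have e0' : h (pt 23) = x0 := e0
  have e1' : h (pt 0) = x1 := e1
  have e2' : h (pt 1) = x2 := e2
  have e3' : h (pt 2) = x3 := e3
  have e4' : h (pt 3) = y0 := e4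
  set g' := h⁻¹ * g * h with hg'
  have hg'M : g' ∈ M12B := M12B.mul_mem (M12B.mul_mem (M12B.inv_mem hh) hg) hh
  have f0 : g' (pt 23) = pt 0 := by
    simp only [hg', Equiv.Perm.mul_apply, e0', ← hx1, ← e1']
    simp
  have f1 : g' (pt 0) = pt 1 := by
    simp only [hg', Equiv.Perm.mul_apply, e1', ← hx2, ← e2']
    simp
  have f2 : g' (pt 1) = pt 2 := by
    simp only [hg', Equiv.Perm.mul_apply, e2', ← hx3, ← e3']
    simp
  have f3 : g' (pt 2) = pt 23 := by
    simp only [hg', Equiv.Perm.mul_apply, e3', hgx3, ← e0']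
    simp
  set w := g' (pt 3) with hw
  have hwe : h w = g y0 := by
    simp only [hw, hg', Equiv.Perm.mul_apply, e4']
    simp
  have hgin : ∀ {a b : GolayPt}, g a = g b → a = b := fun h => g.injective h
  have w0 : w ≠ pt 23 := by
    intro hh0
    rw [hh0, e0'] at hwe
    -- `g y0 = x0 = g x3`
    rw [← hgx3] at hwe
    exact ny3 (hgin hwe).symm
  have w1 : w ≠ pt 0 := by
    intro hh0
    rw [hh0, e1'] at hwe
    exact ny0 (hgin hwe).symm
  have w2 : w ≠ pt 1 := by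
    intro hh0
    rw [hh0, e2'] at hwe
    exact ny1 (hgin hwe).symm
  have w3 : w ≠ pt 2 := by
    intro hh0
    rw [hh0, e3'] at hwe
    exact ny2 (hgin hwe).symm
  have w4 : w ≠ pt 3 := by
    intro hh0
    rw [hh0, e4'] at hwe
    exact hg1 y0 hwe.symm
  have hwD : w ∈ D0 := apply_mem_D0 hg'M (by show pt 3 ∈ finOf d0; rw [mem_finOf]; decide +kernel)
  have hnot : idx w ∉ [23, 0, 1, 2, 3] := by
    intro hmem
    simp only [List.mem_cons, List.not_mem_nil, or_false] at hmem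
    rcases hmem with h5 | h5 | h5 | h5 | h5
    · exact w0 (by rw [← pt_idx w, h5])
    · exact w1 (by rw [← pt_idx w, h5])
    · exact w2 (by rw [← pt_idx w, h5])
    · exact w3 (by rw [← pt_idx w, h5])
    · exact w4 (by rw [← pt_idx w, h5])
  obtain ⟨l, hl, l0, l1, l2, l3, l4⟩ := L7_cover ⟨_, idx_lt w⟩ (mem_finOf.mp hwD) hnot
  have hl1 := List.all_eq_true.mp L7_check1 l hl
  simp only [Bool.and_eq_true] at hl1
  obtain ⟨⟨hlp, hla⟩, hlp2⟩ := hl1
  have hlM : perm l ∈ M12B := perm_mem_M12B hlp hla (Nat.eq_of_beq_eq_true hlp2)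
  have hstab : (perm l)⁻¹ * g' ∈ stabL M12B [23, 0, 1, 2, 3] := by
    rw [mem_stabL]
    refine ⟨M12B.mul_mem (M12B.inv_mem hlM) hg'M, ?_⟩
    intro b hb
    have hpb : ∀ {i j : ℕ}, i < 24 → lk l i = j → perm l (pt i) = pt j := by
      intro i j hi hj
      rw [perm_pt hlp hi, hj]
    have key : ∀ {b j : ℕ}, b < 24 → lk l b = j → g' (pt b) = pt j → ((perm l)⁻¹ * g') (pt b) = pt b := by
      intro b j hb hj hg2
      rw [Equiv.Perm.mul_apply, hg2, ← hpb hb hj]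
      simp
    simp only [List.mem_cons, List.not_mem_nil, or_false] at hb
    rcases hb with rfl | rfl | rfl | rfl | rfl
    · exact key (by norm_num) l0 f0
    · exact key (by norm_num) l1 f1
    · exact key (by norm_num) l2 f2
    · exact key (by norm_num) l3 f3
    · exact key (by norm_num) l4 (by rw [← hw, pt_idx])
  rw [stab12_trivial, Subgroup.mem_bot] at hstab
  have hg'l : g' = perm l := (inv_mul_eq_one.mp hstab).symm
  have h4' : perm l ^ 4 = 1 := by
    rw [← hg'l, hg', conj_pow_inv_left ] 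
    rw [h4]; group
  have hpl : powL l 4 = idL := by
    apply eq_idL_of_perm (isPerm_powL hlp 4)
    rw [perm_powL hlp, h4']
  have hc2 := List.all_eq_true.mp L7_check2 l hl
  simp only [hpl, Bool.or_eq_true, Bool.not_eq_true', beq_self_eq_true, Bool.not_true] at hc2
  have hnz : fixMaskL (powL l 2) ≠ 0 := by
    intro h0
    rcases hc2 with h5 | h5
    · exact absurd h5 (by simp)
    · rw [h0] at h5
      exact absurd h5 (by decide)
  obtain ⟨i, hi⟩ := Nat.exists_testBit_of_ne_zero hnz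
  have hi24 : i < 24 := by
    by_contra hc
    have h5 : fixMaskL (powL l 2) < 2 ^ i :=
      lt_of_lt_of_le (fixMaskL_lt _) (Nat.pow_le_pow_right (by norm_num) (by omega))
    rw [Nat.testBit_lt_two_pow h5] at hi
    exact absurd hi (by simp)
  have h6 : pt i ∈ fixF (perm (powL l 2)) := by
    rw [fixF_perm (isPerm_powL hlp 2), mem_finOf, idx_pt hi24]
    exact hi
  rw [mem_fixF, perm_powL hlp, ← hg'l] at h6
  apply hno (h (pt i))
  have h7 : g' ^ 2 = h⁻¹ * g ^ 2 * h := by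
    rw [hg', conj_pow_inv_left]
  rw [h7] at h6
  have h8 := congrArg (fun q => h q) h6
  simpa using h8

/-! ### The outer automorphism -/

theorem tt : perm tL * perm tL = 1 := by
  rw [← perm_mulL' ht ht, show mulL tL tL = idL by decide +kernel, perm_idL]

theorem t_swap : ∀ i : Fin 24, Dm.testBit (lk tL i) = !Dm.testBit i := by decide +kernel

theorem t_swap' (q : GolayPt) : perm tL q ∈ finOf Dm ↔ q ∉ finOf Dm := by
  have h := t_swap ⟨_, idx_lt q⟩
  rw [mem_finOf, mem_finOf, idx_perm ht]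
  simp only at h
  rw [h]
  simp

theorem conj_mem {x : Equiv.Perm GolayPt} (hx : x ∈ Spor.M12) : perm tL * x * perm tL ∈ Spor.M12 := by
  obtain ⟨h1, h2⟩ := mem_M12_iff.mp hx
  have hT := perm_mem_M24 ht htut
  refine mem_M12_iff.mpr ⟨M24.mul_mem (M24.mul_mem hT h1) hT, ?_⟩
  rw [smul_eq_self_iff] at h2 ⊢
  intro p
  simp only [Equiv.Perm.mul_apply]
  rw [t_swap', h2, t_swap']
  simp

/-- Conjugation by `t` as an automorphism of `M12`. -/
noncomputable def tau : MulAut Spor.M12 where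
  toFun x := ⟨perm tL * x * perm tL, conj_mem x.2⟩
  invFun x := ⟨perm tL * x * perm tL, conj_mem x.2⟩
  left_inv x := by
    apply Subtype.ext
    show perm tL * (perm tL * x * perm tL) * perm tL = x
    calc perm tL * (perm tL * x * perm tL) * perm tL
        = (perm tL * perm tL) * x * (perm tL * perm tL) := by group
      _ = x := by rw [tt]; group
  right_inv x := by
    apply Subtype.ext
    show perm tL * (perm tL * x * perm tL) * perm tL = x
    calc perm tL * (perm tL * x * perm tL) * perm tL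
        = (perm tL * perm tL) * x * (perm tL * perm tL) := by group
      _ = x := by rw [tt]; group
  map_mul' x y := by
    apply Subtype.ext
    show perm tL * (x * y : Equiv.Perm GolayPt) * perm tL = (perm tL * x * perm tL) * (perm tL * y * perm tL)
    calc perm tL * (x * y : Equiv.Perm GolayPt) * perm tL
        = perm tL * x * (perm tL * perm tL) * y * perm tL := by rw [tt]; group
      _ = _ := by group

theorem fix_a : ∀ i : Fin 24, lk aL i = i → (i : ℕ) = 0 ∨ (i : ℕ) = 23 := by decide +kernel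

theorem tau_not_inner : tau ∉ Cfsg.Inn Spor.M12 := by
  rintro ⟨g, hg⟩
  set c : Equiv.Perm GolayPt := (g : Equiv.Perm GolayPt)⁻¹ * perm tL with hc
  obtain ⟨hg1, hg2⟩ := mem_M12_iff.mp g.2
  have hcomm : ∀ x ∈ Spor.M12, c * x = x * c := by
    intro x hx
    have h1 : (MulAut.conj g) (⟨x, hx⟩ : Spor.M12) = tau ⟨x, hx⟩ := by rw [hg]
    have h2 : (g : Equiv.Perm GolayPt) * x * (g : Equiv.Perm GolayPt)⁻¹ = perm tL * x * perm tL :=
      congrArg Subtype.val h1
    have h3 : perm tL * x = (g : Equiv.Perm GolayPt) * x * (g : Equiv.Perm GolayPt)⁻¹ * perm tL := by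
      rw [h2, mul_assoc, tt]; group
    rw [hc, mul_assoc, h3]
    group
  have h0D : pt 0 ∈ finOf Dm := by rw [mem_finOf]; decide +kernel
  have hc0 : c (pt 0) ∉ finOf Dm := by
    simp only [hc, Equiv.Perm.mul_apply]
    intro h5
    have h6 : (g : Equiv.Perm GolayPt) ((g : Equiv.Perm GolayPt)⁻¹ (perm tL (pt 0))) ∈ finOf Dm := by
      rw [← hg2]
      exact (mem_smul_iff _ _ _).mpr h5
    have h7 : perm tL (pt 0) ∈ finOf Dm := by simpa using h6
    exact (t_swap' _).mp h7 h0D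
  have h1 : perm aL (c (pt 0)) = c (pt 0) := by
    have h3 : perm aL (pt 0) = pt 0 := by
      rw [perm_pt ha (by norm_num), show lk aL 0 = 0 by decide +kernel]
    have h4 := congrArg (fun f : Equiv.Perm GolayPt => f (pt 0)) (hcomm _ haH)
    simp only [Equiv.Perm.mul_apply, h3] at h4
    exact h4.symm
  have h5 : lk aL (idx (c (pt 0))) = idx (c (pt 0)) := by
    rw [← idx_perm ha, h1]
  have h6 : c (pt 0) = pt 23 := by
    rcases fix_a ⟨_, idx_lt _⟩ h5 with h7 | h7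
    · exfalso
      apply hc0
      have : c (pt 0) = pt 0 := by rw [← pt_idx (c (pt 0))]; simp only at h7; rw [h7]
      rw [this]; exact h0D
    · rw [← pt_idx (c (pt 0))]; simp only at h7; rw [h7]
  have h8 : perm vL (pt 23) = pt 23 := by
    have h3 : perm vL (pt 0) = pt 0 := by
      rw [perm_pt hv (by norm_num), show lk vL 0 = 0 by decide +kernel]
    have h4 := congrArg (fun f : Equiv.Perm GolayPt => f (pt 0)) (hcomm _ hvH)
    simp only [Equiv.Perm.mul_apply, h3, h6] at h4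
    exact h4.symm
  rw [perm_pt hv (by norm_num)] at h8
  revert h8
  decide +kernel

/-- The outer automorphism group of the Mathieu group M₁₂ (the stabiliser of a dodecad in the automorphism group of the length-24 binary code) has order 2. -/
theorem result : Nat.card (Cfsg.Out ↥Cfsg.Spor.M12) = 2 := by
  have hfp : Fact (Nat.Prime 11) := ⟨by norm_num⟩
  have hle : Spor.M12 ≤ M24 := fun x hx => (mem_M12_iff.mp hx).1
  refine out_two (p := 11) (r := 3) (H := Spor.M12) (aL := aL) (bL := bL) (nL := nL)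
    (cond := fun _ => true) (f := fD) (N := 11) (reps := reps) (rels := rels)
    hle ha hb haH hbH hnH hord
    (by rw [card_M12]; norm_num) hna ?_ hgen hr hc (fun _ _ _ _ => rfl) ?_ hrels hplus
    hb2 hbne ?_ tau ?_ tau_not_inner
  · intro k h0 h1
    have key : ∀ k : Fin 11, 0 < k.val → ∃ j : Fin 5,
        (k.val * 3 ^ j.val) % 11 = 1 ∨ (k.val * 3 ^ j.val) % 11 = 10 := by decide
    obtain ⟨j, hj⟩ := key ⟨k, h1⟩ h0
    exact ⟨j.val, hj⟩
  · intro c hcp hcH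
    obtain ⟨-, h2⟩ := mem_M12_iff.mp hcH
    have h3 : finOf (pull c Dm) = finOf Dm := by
      rw [finOf_pull hcp, inv_smul_eq_iff, h2]
    have h4 := finOf_injOn (pull_lt hcp Dm) Dm_lt h3
    show Nat.beq (pull c Dm) Dm = true
    rw [h4]
    exact Nat.beq_refl _
  · intro ψ
    let x : Spor.M12 := ⟨perm uL, huH⟩
    have hxb : (⟨perm bL, hbH⟩ : Spor.M12) = x ^ 2 := Subtype.ext hbu
    have hx4 : x ^ 4 = 1 := Subtype.ext hu4
    have h1 : (ψ x) ^ 4 = 1 := by rw [← map_pow, hx4, map_one]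
    have h2 : ((ψ x).1) ^ 4 = 1 := by simpa using congrArg Subtype.val h1
    rw [hxb, map_pow]
    set y := (ψ x).1 with hy
    have hyM := (mem_iff_conj (x := y)).mp (ψ x).2
    have h3 : ((perm cL)⁻¹ * y * perm cL) ^ 4 = 1 := by
      rw [conj_pow_inv_left, h2]; group
    obtain ⟨q, hq⟩ := sq_has_fix hyM h3
    refine ⟨perm cL q, ?_⟩
    rw [conj_pow_inv_left] at hq
    have h4 := congrArg (fun r => perm cL r) hq
    simp only [Equiv.Perm.mul_apply] at h4
    simpa using h4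
  · apply Subtype.ext
    show perm tL * perm aL * perm tL = (perm aL)⁻¹
    apply eq_inv_of_mul_eq_one_right
    rw [← perm_mulL' ht ha, ← perm_mulL' (isPerm_mulL ht ha) ht, ← perm_mulL' ha (isPerm_mulL (isPerm_mulL ht ha) ht),
      show mulL aL (mulL (mulL tL aL) tL) = idL by decide +kernel, perm_idL]

end Cfsg.Agent.S2061
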