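-- Statement S2063: Out(M23) is trivial.
import Cfsg.Statements.S2063
import Cfsg.Agent.Lib.KnownSimple.MathieuOut

set_option autoImplicit false
open Cfsg

namespace Cfsg.Agent.S2063

open Cfsg.Agent.Lib.Golay Cfsg.Agent.Lib.KnownSimple.MathieuOut

def aL : List ℕ := [1,2,3,4,5,6,7,8,9,10,11,12,13,14,15,16,17,18,19,20,21,22,0,23]
def ainvL : List ℕ := [22,0,1,2,3,4,5,6,7,8,9,10,11,12,13,14,15,16,17,18,19,20,21,23]
def bL : List ℕ := [19,20,22,3,4,14,16,7,8,13,10,11,17,9,5,21,6,12,18,0,1,15,2,23]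
def nL : List ℕ := [0,2,4,6,8,10,12,14,16,18,20,22,1,3,5,7,9,11,13,15,17,19,21,23]

def reps : List RepD := [
  (8391797, [2,4,5,6,16,23,21,13,22,19,18,15,20,12,11,1,17,10,3,7,9,14,8,0], [23,15,0,18,1,2,3,19,22,20,17,14,13,7,21,11,4,16,10,9,12,6,8,5]),
  (8654232, [4,7,8,10,6,18,14,17,16,22,21,13,0,9,11,12,19,23,20,15,5,2,1,3], [12,22,21,23,0,20,4,1,2,13,3,14,15,11,6,19,8,7,5,16,18,10,9,17]),
  (9178690, [6,9,10,11,17,23,5,0,4,3,15,21,13,20,19,12,22,18,2,7,16,14,8,1], [7,23,18,9,8,6,0,19,22,1,2,3,15,12,21,10,20,4,17,14,13,11,16,5]),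
  (9440193, [6,7,8,9,4,23,18,3,22,13,19,16,1,17,20,14,21,11,12,2,15,5,10,0], [23,12,19,7,4,21,0,1,2,3,22,17,18,9,15,20,11,13,6,10,14,16,8,5]),
  (9701932, [3,5,9,11,6,18,19,8,0,1,21,16,10,12,23,7,4,20,13,17,15,22,14,2], [8,9,23,0,16,1,4,15,7,2,12,3,13,18,22,20,11,19,5,6,17,10,21,14]),
  (11272490, [3,5,8,18,11,23,9,12,6,16,17,15,14,13,21,7,2,19,22,0,10,20,4,1], [19,23,16,0,22,1,8,15,2,6,20,4,7,13,12,11,9,10,3,17,21,14,18,5]),
  (11797828, [6,8,10,18,22,20,7,11,5,9,0,13,14,3,23,12,4,21,17,1,19,15,16,2], [10,19,23,13,16,8,0,6,1,9,2,7,15,11,12,21,22,18,3,20,5,17,4,14]),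
  (8946281, [3,5,6,9,17,15,20,13,8,16,1,7,18,12,23,21,10,19,2,11,4,14,22,0], [23,10,18,0,20,1,2,11,8,3,16,19,13,7,21,5,9,4,12,17,6,15,22,14]),
  (9208708, [7,8,9,15,1,18,12,16,21,5,20,6,14,0,23,4,13,19,22,11,10,3,17,2], [13,4,23,21,15,9,11,0,1,2,20,19,6,16,12,3,7,22,5,17,10,8,18,14]),
  (12880401, [4,9,11,15,10,23,6,19,7,20,2,5,3,16,22,13,8,18,17,21,12,14,1,0], [23,22,10,12,0,11,6,8,16,1,4,2,20,15,21,3,13,18,17,7,9,19,14,5]),
  (14714004, [4,7,10,15,9,23,12,1,11,19,18,16,17,5,22,14,20,21,13,0,6,3,8,2], [19,7,23,21,0,13,20,1,22,4,2,8,6,18,15,3,11,12,10,9,16,17,14,5])]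

def mkW (exps : List ℕ) (m : ℕ) : List Bool :=
  (List.replicate m (exps.flatMap fun e => List.replicate e false ++ [true])).flatten

def rels : List (List Bool) := [mkW [2, 2, 3, 2] 5, mkW [4, 1, 5, 4] 6]

def steps : List (ℕ × ℕ) := [
  (0,1),(1,1),(2,1),(4,1),(4,2),(6,2),(6,1),(7,1),(8,1),(10,1),(10,2),(12,2),(12,2),(14,2),(14,3),(15,2),(16,2),(17,1),(18,0),(19,0),
  (14,3),(1,1),(0,0),(0,0),(2,0),(0,4),(0,27),(1,27),(2,27),(30,2),(30,3),(5,4),(32,4),(7,3),(34,3),(36,3),(36,4),(38,3),(38,4),(39,4),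
  (14,4),(19,4),(0,43),(10,10),(0,0),(12,0),(1,1),(1,0),(0,5),(0,49),(1,23),(2,23),(53,2),(53,3),(28,4),(6,52),(30,5),(8,52),(9,6),(10,33),
  (34,11),(12,12),(36,2),(14,3),(38,3),(16,4),(40,4),(18,5),(42,5),(43,5),(21,6),(22,6),(46,6),(47,6),(25,6),(49,5),(27,4),(28,4),(2,78),(26,26),
  (0,0),(0,0),(2,0),(0,4),(16,16),(36,10),(0,2),(0,88),(89,0),(89,1),(3,2),(4,63),(92,1),(6,67),(7,45),(8,35),(70,2),(10,35),(72,3),(50,4),
  (13,37),(52,3),(15,4),(16,16),(17,0),(18,0),(47,74),(19,19),(0,0),(1,0),(0,3),(26,0),(0,113),(1,112),(2,87),(66,2),(29,3),(5,115),(92,3),(7,93),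
  (8,71),(9,61),(10,60),(11,36),(37,12),(13,21),(39,2),(15,3),(41,3),(42,3),(18,4),(44,4),(20,5),(46,5),(22,6),(23,6),(24,30),(50,7),(90,19),(22,22),
  (0,0),(1,0),(1,1),(1,0),(0,5),(78,78),(79,0),(1,1),(1,0),(0,4),(44,0),(0,152),(1,151),(104,0),(3,34),(4,68),(5,44),(6,53),(7,34),(72,3),
  (48,4),(10,36),(50,5),(12,58),(13,3),(14,14),(15,0),(16,0),(29,48),(0,170),(120,120),(0,0),(0,2),(77,77),(0,0),(1,0),(0,3),(46,46),(47,0),(0,2),
  (0,28),(1,121),(2,121),(3,96),(4,72),(5,81),(6,2),(7,36),(37,8),(9,9),(39,2),(11,3),(41,3),(13,4),(43,4),(15,28),(16,5),(17,5),(47,4),(48,4),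
  (49,4),(50,1),(144,41),(0,203),(168,168),(175,0),(0,2),(24,24),(0,0),(26,0),(0,3),(99,99),(0,0),(1,0),(0,3),(24,24),(0,1),(0,218),(1,217),(2,170),
  (3,160),(134,1),(5,135),(6,39),(137,1),(8,37),(75,27),(10,28),(77,2),(49,2),(13,13),(43,229),(225,225),(226,0),(1,1),(0,0),(2,0),(0,5),(116,116),(0,0),
  (0,0),(2,0),(0,4),(87,87),(88,0),(0,2),(19,19),(20,0),(31,17),(234,210),(249,249),(0,0),(1,0),(1,1),(1,0),(0,5),(171,0),(96,96),(68,68),(0,0),
  (240,107),(108,108),(0,0),(1,0),(0,3),(168,168),(0,0),(0,2),(43,43),(0,0),(0,2),(77,77),(0,1),(42,0),(0,275),(275,0),(2,250),(251,0),(4,166),(5,128),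
  (6,114),(130,1),(8,65),(9,9),(148,43),(103,103),(0,0),(0,0),(2,0),(0,4),(157,157),(0,1),(66,66),(0,1),(0,293),(1,207),(2,184),(3,173),(4,147),(5,119),
  (6,112),(150,2),(8,85),(86,9),(30,10),(11,74),(12,23),(90,4),(34,5),(92,5),(36,6),(17,7),(38,7),(308,306),(161,217),(0,228),(0,35),(0,100),(204,223),(0,232),
  (0,154),(0,16),(295,44),(0,198),(0,130),(0,22),(238,277),(0,167),(0,134),(0,22),(0,56),(112,269),(0,166),(0,23),(182,274),(0,223),(0,137),(246,243),(0,214),(0,37),
  (159,245),(0,117),(0,42),(0,32),(0,60),(70,284),(0,159),(0,155),(0,65),(0,65),(54,246),(0,152),(0,46),(236,198),(0,250),(0,175),(0,52),(327,261),(0,201),(0,165),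
  (0,56),(248,312),(0,139),(0,136),(0,60),(0,81),(71,89),(0,181),(0,68),(0,152),(320,306),(0,245),(0,146),(0,63),(0,90),(157,193),(0,151),(0,148),(0,71),(0,95),
  (381,101),(0,152),(381,103),(0,154),(381,105),(356,107),(0,230),(0,236),(0,85),(0,115),(112,203),(0,162),(0,161),(0,109),(299,207),(0,201),(0,87),(0,113),(301,242),(0,182),
  (178,244),(0,93),(125,218),(0,177),(0,121),(344,279),(0,239),(0,102),(348,281),(0,109),(0,179),(0,127),(290,114),(0,233),(0,108),(233,303),(0,187),(0,108),(354,291),(0,192),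
  (0,110),(300,197),(0,242),(0,112),(0,150),(331,238),(0,238),(0,119),(208,203),(0,200),(0,125),(0,157),(406,135),(0,207),(0,122),(373,156),(0,136),(0,130),(389,251),(0,245),
  (0,129),(0,167),(287,286),(0,217),(0,141),(382,260),(0,252),(0,143),(0,164),(228,224),(0,169),(0,168),(332,327),(0,259),(0,143),(359,368),(0,230),(0,149),(354,292),(0,228),
  (236,233),(0,152),(0,178),(238,312),(0,233),(167,275),(0,162),(340,187),(0,164),(0,195),(344,243),(0,254),(0,188),(288,284),(0,161),(0,191),(351,309),(0,194),(0,194),(292,179),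
  (0,169),(0,207),(358,290),(0,174),(0,210),(301,295),(0,174),(264,288),(0,185),(0,205),(211,190),(0,274),(336,191),(0,182),(407,314),(0,278),(0,212),(385,196),(0,224),(202,272),
  (0,269),(0,227),(345,203),(0,198),(0,230),(345,278),(0,198),(321,227),(0,196),(0,225),(311,202),(0,237),(318,201),(0,229),(287,202),(0,231),(215,204),(236,207),(292,210),(0,235),
  (220,236),(333,209),(0,248),(333,212),(0,240),(374,217),(0,242),(298,296),(0,254),(230,221),(0,246),(251,248),(230,315),(0,259),(367,229),(0,251),(347,227),(345,228),(372,226),(359,255),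
  (227,266),(247,267),(235,258),(312,259),(238,260),(234,271),(237,262),(244,273),(265,274)]

def allT : List (List ℕ) := m24T1 ++ m24T2 ++ m24T3 ++ m24T4 ++ m24T5 ++ m24T6

theorem ha : isPerm aL = true := by decide +kernel
theorem hai : isPerm ainvL = true := by decide +kernel
theorem hb : isPerm bL = true := by decide +kernel
theorem hn : isPerm nL = true := by decide +kernel
theorem haut : autCheck aL = true := by decide +kernel
theorem hbut : autCheck bL = true := by decide +kernel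
theorem hnut : autCheck nL = true := by decide +kernel
theorem hr : repsOK reps = true := by decide +kernel
theorem hc : coverOK (fun m => m.testBit 23) aL 23 reps = true := by decide +kernel
theorem hrels : rels.all (relOK aL bL) = true := by decide +kernel
theorem hplus : (cands reps).all (candOKplus aL bL rels (fun _ => true)) = true := by decide +kernel
theorem hminus : (cands reps).all (candOKminus ainvL rels (fun _ => true)) = true := by decide +kernel
theorem hslp : slpChk 2 steps = true := by decide +kernel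
theorem htargets : allT.all (fun l => (slpRun [aL, bL] steps).elem l) = true := by decide +kernel

theorem hainv : perm ainvL = (perm aL)⁻¹ := perm_inv_of_mul ha hai (by decide +kernel)

theorem hord : orderOf (perm aL) = 23 := by
  have : Fact (Nat.Prime 23) := ⟨by norm_num⟩
  exact orderOf_perm ha (by decide +kernel) (by decide +kernel)

theorem hb2 : perm bL ^ 2 = 1 := by
  rw [← perm_powL hb, show powL bL 2 = idL by decide +kernel, perm_idL]

theorem hbne : perm bL ≠ 1 := by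
  intro h
  have := eq_idL_of_perm hb h
  revert this
  decide +kernel

theorem hna : perm nL * perm aL * (perm nL)⁻¹ = perm aL ^ 2 := by
  rw [mul_inv_eq_iff_eq_mul, ← perm_powL ha, ← perm_mulL' hn ha, ← perm_mulL' (isPerm_powL ha 2) hn,
    show mulL nL aL = mulL (powL aL 2) nL by decide +kernel]

theorem mem_M23_of {l : List ℕ} (h : isPerm l = true) (hu : autCheck l = true) (h23 : lk l 23 = 23) :
    perm l ∈ Spor.M23 := by
  refine Subgroup.mem_inf.mpr ⟨perm_mem_M24 h hu, ?_⟩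
  rw [MulAction.mem_stabilizer_iff]
  have : perm l (pt 23) = pt 23 := by rw [perm_pt h (by norm_num), h23]
  exact this

theorem chain23 : ChainOK Spor.M23 m24Levels.tail := m24_chainOK.2.2.2

theorem hgen : Spor.M23 ≤ Subgroup.closure {perm aL, perm bL} := by
  set K := Subgroup.closure {perm aL, perm bL} with hK
  have htab : ∀ g ∈ [aL, bL], isPerm g = true ∧ perm g ∈ K := by
    intro g hg
    simp only [List.mem_cons, List.not_mem_nil, or_false] at hg
    rcases hg with rfl | rfl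
    · exact ⟨ha, Subgroup.subset_closure (by simp)⟩
    · exact ⟨hb, Subgroup.subset_closure (by simp)⟩
  have hrun := slp_mem K steps [aL, bL] htab hslp
  have hall : ∀ l ∈ allT, perm l ∈ K := by
    intro l hl
    have := List.all_eq_true.mp htargets l hl
    exact (hrun l (List.mem_of_elem_eq_true this)).2
  apply le_of_chainOK _ K _ chain23
  intro x hx t ht
  simp only [m24Levels, List.tail_cons, List.mem_cons, List.not_mem_nil, or_false] at hx
  rcases hx with rfl | rfl | rfl | rfl | rfl | rfl <;>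
  · obtain ⟨l, hl, rfl⟩ := List.mem_map.mp ht
    exact hall l (by simp [allT, hl])

theorem card_M23 : Nat.card Spor.M23 = 10200960 := by
  rw [card_of_chainOK _ _ chain23]
  simp only [chainCard, m24Levels, List.tail_cons, List.map_cons, List.length_map, List.map_nil,
    List.prod_cons, List.prod_nil]
  decide +kernel

/-- The outer automorphism group of the Mathieu group M₂₃ (the stabiliser of a point in the automorphism group of the length-24 binary code) is trivial: every automorphism is inner. -/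
theorem result : Nat.card (Cfsg.Out ↥Cfsg.Spor.M23) = 1 := by
  have hfp : Fact (Nat.Prime 23) := ⟨by norm_num⟩
  have hfix23 : ∀ t ∈ Spor.M23, t none = none := by
    intro t ht
    exact MulAction.mem_stabilizer_iff.mp (Subgroup.mem_inf.mp ht).2
  refine out_one (p := 23) (r := 2) (H := Spor.M23) (aL := aL) (ainvL := ainvL) (bL := bL) (nL := nL)
    (cond := fun m => m.testBit 23) (f := fun _ => true) (N := 23) (reps := reps) (rels := rels)
    inf_le_left ha hb hai hainv (mem_M23_of ha haut (by decide +kernel))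
    (mem_M23_of hb hbut (by decide +kernel)) (mem_M23_of hn hnut (by decide +kernel)) hord
    (by rw [card_M23]; norm_num) hna ?_ hgen hr hc ?_ (fun _ _ _ => rfl) hrels hplus
    hminus hb2 hbne ?_
  · intro k h0 h1
    have key : ∀ k : Fin 23, 0 < k.val → ∃ j : Fin 11,
        (k.val * 2 ^ j.val) % 23 = 1 ∨ (k.val * 2 ^ j.val) % 23 = 22 := by decide
    obtain ⟨j, hj⟩ := key ⟨k, h1⟩ h0
    exact ⟨j.val, hj⟩
  · intro t ht m hm
    have h1 : none ∈ fixF t := mem_fixF.mpr (hfix23 t ht)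
    rw [hm, mem_finOf] at h1
    exact h1
  · intro ψ
    exact ⟨none, hfix23 _ (ψ _).2⟩

end Cfsg.Agent.S2063
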