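-- Statement S2037: the Schur multiplier of M23 is trivial.
import Cfsg.Statements.S2037
import Cfsg.Agent.S2063
import Cfsg.Agent.Lib.KnownSimple.SchurTwoLocal
import Cfsg.Agent.Lib.KnownSimple.MathieuList

set_option autoImplicit false
open Cfsg

namespace Cfsg.Agent.S2037

open Cfsg.Agent.Lib.Golay Cfsg.Agent.Lib.KnownSimple.MathieuOut Cfsg.Agent.Lib.KnownSimple.SchurLocal
open Cfsg.Agent.Lib.KnownSimple.MathieuList Cfsg.Agent.Lib.KnownSimple.SchurTwoLocal
open Cfsg.Agent.S2063 (mem_M23_of card_M23)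

def gensV : List (List ℕ) := [
  [0,1,2,3,6,5,4,22,20,12,11,10,9,19,14,18,21,17,15,13,8,16,7,23],
  [0,1,2,3,7,5,22,4,15,11,12,9,10,21,14,8,19,17,20,16,18,13,6,23],
  [0,1,2,3,8,5,20,15,4,21,19,13,16,11,14,7,12,17,22,10,6,9,18,23],
  [0,1,2,3,9,5,12,11,21,4,22,7,6,15,14,13,20,17,19,18,16,8,10,23]]
def stepsV : List (ℕ × ℕ) := [
  (0,3),(2,4),(4,5),(6,6),(4,6),(6,7),(6,7),(8,6),(10,7),(11,7),(11,5),(13,3)]
def pL : List ℕ := [0,2,1,3,12,5,19,7,22,15,10,16,4,18,17,9,11,14,13,6,20,21,8,23]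
def qL : List ℕ := [3,17,2,0,8,5,15,20,4,9,10,12,11,16,14,6,13,1,22,19,7,21,18,23]
def xL : List ℕ := [5,1,2,0,8,3,12,21,19,13,10,15,22,16,14,18,9,17,11,4,7,20,6,23]
def xinvL : List ℕ := [3,1,2,5,19,0,22,20,4,16,10,18,6,9,14,11,13,17,15,8,21,7,12,23]
def pinvL : List ℕ := [0,2,1,3,12,5,19,7,22,15,10,16,4,18,17,9,11,14,13,6,20,21,8,23]
def qinvL : List ℕ := [3,17,2,0,8,5,15,20,4,9,10,12,11,16,14,6,13,1,22,19,7,21,18,23]
def stepsT : List (ℕ × ℕ) := [
  (0,5),(2,6),(4,7),(6,8),(8,9),(10,10),(6,10),(8,11),(10,12),(12,13),(15,14),(11,14),(13,15),(15,16),(18,17),(20,18),(16,18),(18,19),(22,20),(19,20),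
  (24,21),(25,21),(23,21),(25,22),(27,23),(29,24),(28,24),(30,25),(32,26),(33,26),(34,26),(31,26),(33,27),(35,28),(37,29),(40,30),(37,29),(39,30),(41,31),(44,32),
  (44,32),(46,33),(45,33),(48,34),(48,34),(50,35),(49,35),(51,36),(50,36),(54,37),(52,37),(56,38),(52,37),(54,38),(57,39),(60,40),(60,40),(58,40),(63,39),(64,38),
  (65,38),(63,38),(65,39),(67,40),(68,40),(69,40),(66,40),(70,41),(73,42),(72,40),(75,41),(76,41),(77,41),(78,41),(79,41),(80,41),(80,41),(82,42),(81,42),(83,43),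
  (85,43),(86,43),(87,43),(86,43),(88,44),(88,43),(90,44),(91,43),(92,42),(93,42),(90,42),(92,43),(94,44),(96,45),(99,39),(100,38),(100,37),(101,36),(103,34),(104,33),
  (105,33),(106,33),(106,33),(108,33),(108,33),(109,33),(110,33),(111,33),(112,33),(113,33),(114,32),(115,32),(112,32),(115,33),(118,33),(119,32),(117,31),(117,30),(123,30),(123,19),
  (124,19),(125,19)]
def t1L : List ℕ := [0,1,2,3,8,5,20,15,4,21,19,13,16,11,14,7,12,17,22,10,6,9,18,23]
def t2L : List ℕ := [0,1,2,3,11,5,10,9,13,7,6,4,22,8,14,21,18,17,16,20,19,15,12,23]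
def x3L : List ℕ := [1,3,14,0,4,2,7,15,18,21,9,11,13,16,5,6,12,17,22,19,20,10,8,23]
def x3invL : List ℕ := [3,0,5,1,4,14,15,6,22,10,21,11,16,12,2,7,13,17,8,19,20,9,18,23]
def g1L : List ℕ := [17,5,3,1,22,2,4,20,16,19,11,12,21,18,14,10,7,0,9,8,13,6,15,23]
def g2L : List ℕ := [17,0,1,14,13,3,7,22,9,16,21,4,6,15,2,20,18,5,12,11,8,10,19,23]
def g1invL : List ℕ := [17,3,5,2,6,1,21,16,19,18,15,10,11,20,14,22,8,0,13,9,7,12,4,23]
def g2invL : List ℕ := [1,2,14,5,11,17,12,6,20,8,21,19,18,4,3,13,9,0,16,22,15,10,7,23]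
def t0L : List ℕ := [0,1,2,3,13,5,19,21,11,15,20,8,18,4,14,9,22,17,12,6,10,7,16,23]
def uL : List ℕ := [0,17,14,3,13,5,15,7,16,19,10,22,18,4,2,6,8,1,12,9,20,21,11,23]
/-- Each involution `s`, with `g` such that `g t₀ g⁻¹ = s`, and the inverse of `g`. -/
def W : List (List ℕ × List ℕ × List ℕ) := [
  ([0,1,2,3,6,5,4,22,20,12,11,10,9,19,14,18,21,17,15,13,8,16,7,23], [5,1,14,17,4,3,15,9,10,7,21,11,8,6,2,22,19,0,20,18,16,12,13,23], [17,1,14,5,4,0,13,9,12,7,8,11,21,22,2,6,20,3,19,16,18,10,15,23]),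
  ([0,1,2,3,7,5,22,4,15,11,12,9,10,21,14,8,19,17,20,16,18,13,6,23], [17,1,3,0,4,2,11,8,10,16,22,12,18,7,14,19,21,5,20,9,6,15,13,23], [3,1,5,2,4,17,20,13,7,19,8,6,11,22,14,21,9,0,12,15,18,16,10,23]),
  ([0,1,2,3,8,5,20,15,4,21,19,13,16,11,14,7,12,17,22,10,6,9,18,23], [17,1,2,0,21,14,6,11,12,10,4,16,15,9,3,19,22,5,7,20,8,13,18,23], [3,1,2,14,10,17,6,18,20,13,9,7,8,21,5,12,11,0,22,15,19,4,16,23]),
  ([0,1,2,3,9,5,12,11,21,4,22,7,6,15,14,13,20,17,19,18,16,8,10,23], [14,0,5,2,19,1,13,22,9,21,6,4,16,18,17,8,11,3,20,15,12,10,7,23], [1,5,3,17,11,2,10,22,15,8,21,16,20,6,0,19,12,14,13,4,18,9,7,23]),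
  ([0,1,2,3,10,5,11,12,19,22,4,6,7,20,14,16,15,17,21,8,13,18,9,23], [3,5,1,17,6,0,10,9,19,16,13,8,18,11,2,15,12,14,21,4,20,22,7,23], [5,2,14,0,19,1,4,22,11,7,6,13,16,10,17,15,9,3,12,8,20,18,21,23]),
  ([0,1,2,3,11,5,10,9,13,7,6,4,22,8,14,21,18,17,16,20,19,15,12,23], [2,0,5,14,4,1,20,13,22,18,21,12,7,11,3,16,6,17,9,19,15,8,10,23], [1,5,0,14,4,2,16,12,21,18,22,13,11,7,3,20,15,17,9,19,6,10,8,23]),
  ([0,1,2,3,12,5,9,10,16,6,7,22,4,18,14,19,8,17,13,15,21,20,11,23], [5,2,1,17,22,14,21,4,8,13,7,16,6,11,0,18,15,3,9,20,10,12,19,23], [14,2,1,17,7,0,12,10,8,18,20,13,21,9,5,16,11,3,15,22,19,6,4,23]),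
  ([0,1,2,3,13,5,19,21,11,15,20,8,18,4,14,9,22,17,12,6,10,7,16,23], [1,3,17,5,6,14,8,9,21,10,18,7,13,19,2,20,22,0,4,11,12,15,16,23], [17,0,14,1,18,3,4,11,6,7,9,19,20,12,5,21,22,2,10,13,15,8,16,23]),
  ([0,1,2,3,15,5,18,8,7,13,16,21,19,9,14,4,10,17,6,12,22,11,20,23], [2,0,14,17,12,5,16,7,9,20,11,13,6,19,1,22,4,3,18,10,21,8,15,23], [1,14,0,17,16,5,12,7,21,8,19,10,4,11,2,22,6,3,18,13,9,20,15,23]),
  ([0,1,2,3,16,5,21,19,12,20,15,18,8,22,14,10,4,17,11,7,9,6,13,23], [5,14,0,1,20,17,12,21,18,22,15,11,19,9,2,13,16,3,7,8,10,6,4,23], [2,3,14,17,22,0,21,18,19,13,20,11,6,15,1,10,16,5,8,12,4,7,9,23]),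
  ([0,1,2,3,18,5,15,20,22,19,21,16,13,12,14,6,11,17,4,9,7,10,8,23], [17,1,5,0,10,2,16,4,8,9,20,22,13,21,3,19,6,14,12,11,7,18,15,23], [3,1,5,14,7,2,16,20,8,9,4,19,18,12,17,22,6,0,21,15,10,13,11,23]),
  ([0,1,2,3,19,5,13,16,10,18,8,20,15,6,14,12,7,17,9,4,11,22,21,23], [14,3,17,0,7,2,19,18,21,15,13,22,10,16,5,12,20,1,8,4,6,9,11,23], [3,17,5,1,19,14,20,4,18,21,12,22,15,10,0,9,13,2,7,6,16,8,11,23]),
  ([0,1,2,3,20,5,8,18,6,16,13,19,21,10,14,22,9,17,7,11,4,12,15,23], [2,1,5,0,11,17,21,20,6,10,7,8,16,19,14,13,15,3,9,12,18,4,22,23], [3,1,0,17,21,2,8,10,11,18,9,4,19,15,14,16,12,5,20,13,7,6,22,23]),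
  ([0,1,2,3,21,5,16,13,9,8,18,15,20,7,14,11,6,17,10,22,12,4,19,23], [17,2,14,5,15,0,7,22,8,16,21,9,12,11,3,6,10,1,20,13,4,19,18,23], [5,17,1,14,20,3,15,6,8,11,16,13,12,19,2,4,9,0,22,21,18,10,7,23]),
  ([0,1,2,3,22,5,7,6,18,10,9,12,11,16,14,20,13,17,8,21,15,19,4,23], [14,2,5,1,15,17,19,10,18,12,16,8,4,20,3,11,6,0,22,21,13,9,7,23], [17,3,1,14,12,2,16,22,11,21,7,15,9,20,0,4,10,5,8,6,13,19,18,23]),
  ([0,2,1,3,12,5,19,7,22,15,10,16,4,18,17,9,11,14,13,6,20,21,8,23], [20,10,0,21,22,5,6,17,2,11,18,1,15,8,7,16,4,3,9,19,13,14,12,23], [2,11,8,17,16,5,6,14,13,18,1,9,22,20,21,12,15,7,10,19,0,3,4,23]),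
  ([3,17,2,0,8,5,15,20,4,9,10,12,11,16,14,6,13,1,22,19,7,21,18,23], [14,5,2,19,17,21,6,20,13,22,4,16,11,1,10,18,3,9,12,15,8,7,0,23], [22,13,2,16,10,1,6,21,20,17,14,12,18,8,0,19,11,4,15,3,7,5,9,23]),
  ([0,17,14,3,13,5,15,7,16,19,10,22,18,4,2,6,8,1,12,9,20,21,11,23], [5,21,10,3,1,0,16,13,9,22,12,19,14,17,20,11,6,7,2,8,18,4,15,23], [5,4,18,3,21,0,16,17,19,8,2,15,10,7,12,22,6,13,20,11,14,1,9,23]),
  ([0,1,2,3,8,5,20,15,4,21,19,13,16,11,14,7,12,17,22,10,6,9,18,23], [1,0,5,17,13,2,7,4,22,12,10,18,20,11,3,16,9,14,6,15,19,8,21,23], [1,0,5,14,7,2,18,6,21,16,10,13,9,4,17,19,15,3,11,20,12,22,8,23]),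
  ([0,1,2,3,11,5,10,9,13,7,6,4,22,8,14,21,18,17,16,20,19,15,12,23], [14,1,2,17,8,0,10,22,9,20,16,7,11,13,3,19,15,5,4,6,18,12,21,23], [5,1,2,14,18,17,19,11,4,8,6,12,21,13,0,16,10,3,20,15,9,22,7,23])]
def a5L : List ℕ := [0,1,16,10,13,12,9,7,20,11,15,8,21,2,19,14,22,5,17,3,6,18,4,23]
def a7L : List ℕ := [14,22,2,4,0,5,1,10,15,19,17,3,9,20,18,13,11,8,16,6,7,12,21,23]
def a11L : List ℕ := [9,7,1,11,16,2,8,21,20,22,6,5,17,0,14,13,3,4,19,10,15,12,18,23]
def a23L : List ℕ := [8,20,19,0,14,13,10,16,22,1,12,18,11,4,2,6,21,5,17,3,15,9,7,23]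
def xxL : List ℕ := [22,1,2,9,8,18,5,15,10,13,4,14,12,3,21,16,7,17,6,19,0,11,20,23]
def yyL : List ℕ := [0,17,2,10,6,13,9,16,5,4,18,14,1,8,21,7,15,12,3,19,20,11,22,23]
def xxinvL : List ℕ := [20,1,2,13,10,6,18,16,4,3,8,21,12,9,11,7,15,17,5,19,22,14,0,23]
def yyinvL : List ℕ := [0,12,2,18,9,8,4,15,13,6,3,21,17,5,11,16,7,1,10,19,20,14,22,23]
def nL : List ℕ := [0,12,19,3,6,8,4,14,5,9,18,16,1,13,7,21,11,17,10,2,20,15,22,23]
def steps9 : List (ℕ × ℕ) := [
  (0,1),(2,2),(2,2),(3,2),(5,3),(6,3),(7,2)]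

def allg : List (List ℕ) := gensV ++ [pL, qL]
def EV : List (List ℕ) := slpRun gensV stepsV
def ET : List (List ℕ) := slpRun allg stepsT

/-- Membership test for `M23`. -/
def okG (l : List ℕ) : Bool := isPerm l && autCheck l && Nat.beq (lk l 23) 23

theorem okG_perm {l : List ℕ} (h : okG l = true) : isPerm l = true := by
  simp only [okG, Bool.and_eq_true] at h
  exact h.1.1

theorem okG_mem {l : List ℕ} (h : okG l = true) : perm l ∈ Spor.M23 := by
  simp only [okG, Bool.and_eq_true] at h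
  exact mem_M23_of h.1.1 h.1.2 (Nat.eq_of_beq_eq_true h.2)

/-- An element of `M23`. -/
noncomputable def el (l : List ℕ) (h : okG l = true) : Spor.M23 := ⟨perm l, okG_mem h⟩

theorem mul2 {a b c : List ℕ} (ha : isPerm a = true) (hb : isPerm b = true) (h : mulL a b = c) :
    perm a * perm b = perm c := by
  rw [← perm_mulL' ha hb, h]

theorem mul3 {a b c d : List ℕ} (ha : isPerm a = true) (hb : isPerm b = true) (hc : isPerm c = true)
    (h : mulL (mulL a b) c = d) : perm a * perm b * perm c = perm d := by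
  rw [← perm_mulL' ha hb, ← perm_mulL' (isPerm_mulL ha hb) hc, h]

theorem ok_x : okG xL = true := by decide +kernel
theorem ok_xi : okG xinvL = true := by decide +kernel
theorem ok_p : okG pL = true := by decide +kernel
theorem ok_q : okG qL = true := by decide +kernel
theorem ok_pi : okG pinvL = true := by decide +kernel
theorem ok_qi : okG qinvL = true := by decide +kernel
theorem ok_t1 : okG t1L = true := by decide +kernel
theorem ok_t2 : okG t2L = true := by decide +kernel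
theorem ok_x3 : okG x3L = true := by decide +kernel
theorem ok_x3i : okG x3invL = true := by decide +kernel
theorem ok_g1 : okG g1L = true := by decide +kernel
theorem ok_g2 : okG g2L = true := by decide +kernel
theorem ok_g1i : okG g1invL = true := by decide +kernel
theorem ok_g2i : okG g2invL = true := by decide +kernel
theorem ok_t0 : okG t0L = true := by decide +kernel
theorem ok_u : okG uL = true := by decide +kernel
theorem ok_a5 : okG a5L = true := by decide +kernel
theorem ok_a7 : okG a7L = true := by decide +kernel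
theorem ok_a11 : okG a11L = true := by decide +kernel
theorem ok_a23 : okG a23L = true := by decide +kernel
theorem ok_xx : okG xxL = true := by decide +kernel
theorem ok_yy : okG yyL = true := by decide +kernel
theorem ok_xxi : okG xxinvL = true := by decide +kernel
theorem ok_yyi : okG yyinvL = true := by decide +kernel
theorem ok_n : okG nL = true := by decide +kernel

theorem pm {l : List ℕ} (h : okG l = true) : isPerm l = true := okG_perm h

/-- The inverse in the subtype. -/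
theorem el_inv {a b : List ℕ} (ha : okG a = true) (hb : okG b = true) (h : mulL a b = idL) :
    (el a ha)⁻¹ = el b hb := by
  apply Subtype.ext
  show (perm a)⁻¹ = perm b
  exact (perm_inv_of_mul (pm ha) (pm hb) h).symm

theorem el_mul {a b c : List ℕ} (ha : okG a = true) (hb : okG b = true) (hc : okG c = true)
    (h : mulL a b = c) : el a ha * el b hb = el c hc := by
  apply Subtype.ext
  exact mul2 (pm ha) (pm hb) h

theorem el_mul3 {a b c d : List ℕ} (ha : okG a = true) (hb : okG b = true) (hc : okG c = true)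
    (hd : okG d = true) (h : mulL (mulL a b) c = d) : el a ha * el b hb * el c hc = el d hd := by
  apply Subtype.ext
  exact mul3 (pm ha) (pm hb) (pm hc) h

theorem hWok : W.all (fun w => okG w.1 && okG w.2.1 && okG w.2.2 && (mulL w.2.1 w.2.2 == idL) &&
    (mulL (mulL w.2.1 t0L) w.2.2 == w.1)) = true := by decide +kernel

/-- The involutions in the list lift to involutions, once `t₀` does. -/
theorem sq_of_W {Γ : Type*} [Group Γ] {σ : Γ →* Spor.M23} (hs : Function.Surjective σ)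
    (h0 : SqOne σ (el t0L ok_t0)) {w : List ℕ × List ℕ × List ℕ} (hw : w ∈ W) (v : Spor.M23)
    (hv : (v : Equiv.Perm GolayPt) = perm w.1) : SqOne σ v := by
  have h1 := List.all_eq_true.mp hWok w hw
  simp only [Bool.and_eq_true, beq_iff_eq] at h1
  obtain ⟨⟨⟨⟨h2, h3⟩, h4⟩, h5⟩, h6⟩ := h1
  have h7 : v = el w.2.1 h3 * el t0L ok_t0 * (el w.2.1 h3)⁻¹ := by
    rw [el_inv h3 h4 h5, el_mul3 h3 ok_t0 h4 h2 h6]
    exact Subtype.ext hv
  rw [h7]
  exact h0.conj hs _

theorem tableV : (∀ x, x ∈ Subgroup.closure (genSet gensV) ↔ ∃ e ∈ EV, perm e = x) ∧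
    Nat.card (Subgroup.closure (genSet gensV)) = EV.length := by
  apply table_spec
  · decide +kernel
  · decide +kernel
  · decide +kernel
  · decide +kernel
  · decide +kernel

theorem tableT : (∀ x, x ∈ Subgroup.closure (genSet allg) ↔ ∃ e ∈ ET, perm e = x) ∧
    Nat.card (Subgroup.closure (genSet allg)) = ET.length := by
  apply table_spec
  · decide +kernel
  · decide +kernel
  · decide +kernel
  · decide +kernel
  · decide +kernel

theorem table9 : (∀ x, x ∈ Subgroup.closure (genSet [xxL, yyL]) ↔ ∃ e ∈ slpRun [xxL, yyL] steps9, perm e = x) ∧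
    Nat.card (Subgroup.closure (genSet [xxL, yyL])) = (slpRun [xxL, yyL] steps9).length := by
  apply table_spec
  · decide +kernel
  · decide +kernel
  · decide +kernel
  · decide +kernel
  · decide +kernel

theorem hEVperm : ∀ e ∈ EV, okG e = true := by decide +kernel
theorem hallg : ∀ e ∈ allg, okG e = true := by decide +kernel
theorem hgensV : ∀ e ∈ gensV, okG e = true := by decide +kernel

/-- The elementary abelian subgroup. -/
noncomputable def V : Subgroup Spor.M23 := (Subgroup.closure (genSet gensV)).subgroupOf Spor.M23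

theorem mem_V {v : Spor.M23} : v ∈ V ↔ ∃ e ∈ EV, perm e = v := by
  rw [V, Subgroup.mem_subgroupOf]
  exact tableV.1 _

/-- The Sylow subgroup. -/
noncomputable def T : Subgroup Spor.M23 := (Subgroup.closure (genSet allg)).subgroupOf Spor.M23

theorem le_M23 (gens : List (List ℕ)) (h : ∀ e ∈ gens, okG e = true) :
    Subgroup.closure (genSet gens) ≤ Spor.M23 := by
  rw [Subgroup.closure_le]
  rintro x ⟨g, hg, rfl⟩
  exact okG_mem (h g hg)

theorem index_of {K : Subgroup (Equiv.Perm GolayPt)} (hK : K ≤ Spor.M23) {m : ℕ} (hm : Nat.card K = m) :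
    m * (K.subgroupOf Spor.M23).index = 10200960 := by
  have h1 := Subgroup.card_mul_index (K.subgroupOf Spor.M23)
  rw [card_M23, Nat.card_congr (Subgroup.subgroupOfEquivOfLe hK).toEquiv, hm] at h1
  exact h1

theorem index_T : T.index = 79695 := by
  have h1 := index_of (le_M23 allg hallg) tableT.2
  rw [show ET.length = 128 by decide +kernel] at h1
  have h2 : 128 * T.index = 10200960 := h1
  omega

theorem T_le : T ≤ Subgroup.closure ((V : Set Spor.M23) ∪ {el pL ok_p, el qL ok_q}) := by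
  set L := Subgroup.closure ((V : Set Spor.M23) ∪ {el pL ok_p, el qL ok_q}) with hL
  have h1 : Subgroup.closure (genSet allg) ≤ L.map Spor.M23.subtype := by
    rw [Subgroup.closure_le]
    rintro x ⟨g, hg, rfl⟩
    rcases List.mem_append.mp hg with hg | hg
    · have h2 : (⟨perm g, okG_mem (hgensV g hg)⟩ : Spor.M23) ∈ V := by
        rw [V, Subgroup.mem_subgroupOf]
        exact Subgroup.subset_closure ⟨g, hg, rfl⟩
      exact ⟨_, Subgroup.subset_closure (Or.inl h2), rfl⟩
    · simp only [List.mem_cons, List.not_mem_nil, or_false] at hg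
      rcases hg with rfl | rfl
      · exact ⟨el pL ok_p, Subgroup.subset_closure (Or.inr (Or.inl rfl)), rfl⟩
      · exact ⟨el qL ok_q, Subgroup.subset_closure (Or.inr (Or.inr rfl)), rfl⟩
  intro t ht
  rw [T, Subgroup.mem_subgroupOf] at ht
  obtain ⟨t', ht', he⟩ := h1 ht
  have : t' = t := Subtype.ext he
  rwa [← this]

theorem hV_x : EV.all (fun e => EV.elem (mulL (mulL xL e) xinvL)) = true := by decide +kernel
theorem hV_p : EV.all (fun e => EV.elem (mulL (mulL pL e) pinvL)) = true := by decide +kernel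
theorem hV_q : EV.all (fun e => EV.elem (mulL (mulL qL e) qinvL)) = true := by decide +kernel
theorem hV_fpf : EV.all (fun e =>
    mulL (mulL e (mulL (mulL xL e) xinvL)) (mulL (mulL xL (mulL (mulL xL e) xinvL)) xinvL) == idL) = true := by
  decide +kernel
theorem hV_sq : EV.all (fun e => (e == idL) || W.any (fun w => w.1 == e)) = true := by decide +kernel

theorem conj_mem_V {c ci : List ℕ} (hc : okG c = true) (hci : okG ci = true) (hinv : mulL c ci = idL)
    (h : EV.all (fun e => EV.elem (mulL (mulL c e) ci)) = true) {v : Spor.M23} (hv : v ∈ V) :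
    el c hc * v * (el c hc)⁻¹ ∈ V := by
  obtain ⟨e, he, hev⟩ := mem_V.mp hv
  have h1 := List.all_eq_true.mp h e he
  refine mem_V.mpr ⟨_, List.mem_of_elem_eq_true h1, ?_⟩
  rw [perm_mulL' (isPerm_mulL (pm hc) (okG_perm (hEVperm e he))) (pm hci), perm_mulL' (pm hc) (okG_perm (hEVperm e he)), hev,
    el_inv hc hci hinv]
  rfl

theorem ordp {l : List ℕ} {p : ℕ} [Fact p.Prime] (h : okG l = true) (h1 : powL l p = idL) (h2 : l ≠ idL) :
    p ∣ orderOf (el l h) := by
  rw [el, Subgroup.orderOf_mk, orderOf_perm (pm h) h1 h2]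

theorem primes_N {r : ℕ} (hr : r.Prime) (h : r ∣ 10200960) :
    r = 2 ∨ r = 3 ∨ r = 5 ∨ r = 7 ∨ r = 11 ∨ r = 23 := by
  have h1 : r ∈ Nat.primeFactors 10200960 := Nat.mem_primeFactors.mpr ⟨hr, h, by norm_num⟩
  have h2 : Nat.primeFactors 10200960 = {2, 3, 5, 7, 11, 23} := by
    have : (10200960 : ℕ) = 2 ^ 7 * 3 ^ 2 * 5 * 7 * 11 * 23 := by norm_num
    rw [this]
    rw [Nat.primeFactors_mul (by norm_num) (by norm_num), Nat.primeFactors_mul (by norm_num) (by norm_num),
      Nat.primeFactors_mul (by norm_num) (by norm_num), Nat.primeFactors_mul (by norm_num) (by norm_num),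
      Nat.primeFactors_mul (by norm_num) (by norm_num), Nat.primeFactors_prime_pow (by norm_num) Nat.prime_two,
      Nat.primeFactors_prime_pow (by norm_num) Nat.prime_three, Nat.Prime.primeFactors (by norm_num),
      Nat.Prime.primeFactors (by norm_num), Nat.Prime.primeFactors (by norm_num), Nat.Prime.primeFactors (by norm_num)]
    decide
  rw [h2] at h1
  simpa using h1

theorem case_two {Γ : Type} [Group Γ] [Finite Γ] (σ : Γ →* Spor.M23) (hs : Function.Surjective σ)
    (hK : σ.ker ≤ Subgroup.center Γ) (hK' : σ.ker ≤ commutator Γ) (hcard : Nat.card σ.ker = 2)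
    {z : Γ} (hz : z ∈ σ.ker) (hord : orderOf z = 2) : z = 1 := by
  have hk2 : ∀ k ∈ σ.ker, k * k = 1 := by
    intro k hk
    have h1 : (⟨k, hk⟩ : σ.ker) ^ Nat.card σ.ker = 1 := pow_card_eq_one'
    rw [hcard] at h1
    have h2 := congrArg Subtype.val h1
    simpa [pow_two] using h2
  -- involutions
  have h0 : SqOne σ (el t0L ok_t0) := by
    have e0 : el t1L ok_t1 * el t2L ok_t2 = el t0L ok_t0 := el_mul ok_t1 ok_t2 ok_t0 (by decide +kernel)
    rw [← e0]
    refine sqOne_of_commuting hs hK hk2 _ _ (el x3L ok_x3) (el g1L ok_g1) (el g2L ok_g2) ?_ ?_ ?_ ?_ ?_ ?_ ?_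
    · rw [e0]
      exact (el_mul ok_t2 ok_t1 ok_t0 (by decide +kernel)).symm
    · apply Subtype.ext
      show perm t1L * perm t1L = 1
      rw [mul2 (pm ok_t1) (pm ok_t1) (c := idL) (by decide +kernel), perm_idL]
    · apply Subtype.ext
      show perm t2L * perm t2L = 1
      rw [mul2 (pm ok_t2) (pm ok_t2) (c := idL) (by decide +kernel), perm_idL]
    · have h1 : mulL x3L t2L = mulL t2L x3L := by decide +kernel
      apply Subtype.ext
      show perm x3L * perm t2L = perm t2L * perm x3L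
      rw [← perm_mulL' (pm ok_x3) (pm ok_t2), ← perm_mulL' (pm ok_t2) (pm ok_x3), h1]
    · rw [el_inv ok_x3 ok_x3i (by decide +kernel)]
      apply Subtype.ext
      show perm t1L * (perm x3L * perm t1L * perm x3invL) *
        (perm x3L * (perm x3L * perm t1L * perm x3invL) * perm x3invL) = 1
      rw [mul3 (pm ok_x3) (pm ok_t1) (pm ok_x3i) rfl,
        mul3 (pm ok_x3) (isPerm_mulL (isPerm_mulL (pm ok_x3) (pm ok_t1)) (pm ok_x3i)) (pm ok_x3i) rfl,
        mul3 (pm ok_t1) (isPerm_mulL (isPerm_mulL (pm ok_x3) (pm ok_t1)) (pm ok_x3i))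
          (isPerm_mulL (isPerm_mulL (pm ok_x3) (isPerm_mulL (isPerm_mulL (pm ok_x3) (pm ok_t1)) (pm ok_x3i))) (pm ok_x3i))
          (d := idL) (by decide +kernel), perm_idL]
    · rw [el_inv ok_g1 ok_g1i (by decide +kernel), e0]
      exact el_mul3 ok_g1 ok_t1 ok_g1i ok_t0 (by decide +kernel)
    · rw [el_inv ok_g2 ok_g2i (by decide +kernel), e0]
      exact el_mul3 ok_g2 ok_t2 ok_g2i ok_t0 (by decide +kernel)
  have hW := fun (w) (hw) (v) (hv) => sq_of_W (σ := σ) hs h0 (w := w) hw v hv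
  have hl : ∀ l : List ℕ, (W.any (fun w => w.1 == l)) = true → ∀ v : Spor.M23,
      (v : Equiv.Perm GolayPt) = perm l → SqOne σ v := by
    intro l hl v hv
    obtain ⟨w, hw, hwl⟩ := List.any_eq_true.mp hl
    have : w.1 = l := by simpa using hwl
    exact hW w hw v (by rw [this]; exact hv)
  have hco : Nat.Coprime (orderOf z) T.index := by
    rw [hord, index_T]; norm_num
  have hzU := Cfsg.Agent.Lib.KnownSimple.mem_commutator_comap hs hK hK' T hz hco
  have hzU' := Subgroup.commutator_mono (Subgroup.comap_mono (f := σ) T_le) (Subgroup.comap_mono (f := σ) T_le) hzU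
  refine two_local hs hK hk2 V (el xL ok_x) (el pL ok_p) (el qL ok_q) ?_ ?_ ?_ ?_ ?_ ?_ ?_ ?_ ?_ ?_ ?_ ?_ hz hzU'
  · -- `V` lifts to involutions
    intro v hv w hw
    obtain ⟨e, he, hev⟩ := mem_V.mp hv
    have h1 := List.all_eq_true.mp hV_sq e he
    rcases Bool.or_eq_true _ _ |>.mp h1 with h2 | h2
    · have h3 : e = idL := by simpa using h2
      have h4 : σ w = 1 := by
        rw [hw]
        apply Subtype.ext
        rw [← hev, h3, perm_idL]
        rfl
      exact hk2 w h4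
    · exact hl e h2 v hev.symm w hw
  · exact fun v hv => conj_mem_V ok_x ok_xi (by decide +kernel) hV_x hv
  · apply Subtype.ext
    show perm xL * perm xL * perm xL = 1
    rw [mul3 (pm ok_x) (pm ok_x) (pm ok_x) (d := idL) (by decide +kernel), perm_idL]
  · intro v hv
    obtain ⟨e, he, hev⟩ := mem_V.mp hv
    have h1 := List.all_eq_true.mp hV_fpf e he
    have h2 : mulL (mulL e (mulL (mulL xL e) xinvL)) (mulL (mulL xL (mulL (mulL xL e) xinvL)) xinvL) = idL := by
      simpa using h1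
    have pe := okG_perm (hEVperm e he)
    have p1 := isPerm_mulL (isPerm_mulL (pm ok_x) pe) (pm ok_xi)
    have p2 := isPerm_mulL (isPerm_mulL (pm ok_x) p1) (pm ok_xi)
    rw [el_inv ok_x ok_xi (by decide +kernel)]
    apply Subtype.ext
    show (v : Equiv.Perm GolayPt) * (perm xL * v * perm xinvL) * (perm xL * (perm xL * v * perm xinvL) * perm xinvL) = 1
    rw [← hev, mul3 (pm ok_x) pe (pm ok_xi) rfl, mul3 (pm ok_x) p1 (pm ok_xi) rfl, mul3 pe p1 p2 h2, perm_idL]
  · exact fun v hv => conj_mem_V ok_p ok_pi (by decide +kernel) hV_p hv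
  · exact fun v hv => conj_mem_V ok_q ok_qi (by decide +kernel) hV_q hv
  · rw [el_inv ok_p ok_pi (by decide +kernel)]
    exact Or.inl (el_mul3 ok_p ok_x ok_pi ok_x (by decide +kernel))
  · rw [el_inv ok_q ok_qi (by decide +kernel)]
    exact Or.inr (by
      rw [el_inv ok_x ok_xi (by decide +kernel)]
      exact el_mul3 ok_q ok_x ok_qi ok_xi (by decide +kernel))
  · exact hl pL (by decide +kernel) _ rfl
  · exact hl qL (by decide +kernel) _ rfl
  · refine hl uL (by decide +kernel) _ ?_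
    show perm pL * perm qL * (perm pL * perm qL) = perm uL
    rw [mul2 (pm ok_p) (pm ok_q) rfl,
      mul2 (isPerm_mulL (pm ok_p) (pm ok_q)) (isPerm_mulL (pm ok_p) (pm ok_q)) (c := uL) (by decide +kernel)]
  · intro h
    obtain ⟨e, he, hev⟩ := mem_V.mp h
    have h1 : perm e = perm uL := by
      rw [hev]
      show perm pL * perm qL * (perm pL * perm qL) = perm uL
      rw [mul2 (pm ok_p) (pm ok_q) rfl,
        mul2 (isPerm_mulL (pm ok_p) (pm ok_q)) (isPerm_mulL (pm ok_p) (pm ok_q)) (c := uL) (by decide +kernel)]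
    have h2 := perm_injective (okG_perm (hEVperm e he)) (pm ok_u) h1
    rw [h2] at he
    revert he
    decide +kernel

theorem case_three {Γ : Type} [Group Γ] [Finite Γ] (σ : Γ →* Spor.M23) (hs : Function.Surjective σ)
    (hK : σ.ker ≤ Subgroup.center Γ) (hK' : σ.ker ≤ commutator Γ)
    {z : Γ} (hz : z ∈ σ.ker) (hord : orderOf z = 3) : z = 1 := by
  have hallp : ∀ e ∈ [xxL, yyL], okG e = true := by decide +kernel
  have hle := le_M23 _ hallp
  have h1 := index_of hle table9.2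
  rw [show (slpRun [xxL, yyL] steps9).length = 9 by decide +kernel] at h1
  set x := el xxL ok_xx with hx
  set y := el yyL ok_yy with hy
  have h2 : Subgroup.closure (genSet [xxL, yyL]) = (Subgroup.closure ({x, y} : Set Spor.M23)).map Spor.M23.subtype := by
    rw [MonoidHom.map_closure]
    congr 1
    ext g
    simp only [genSet, List.mem_cons, List.not_mem_nil, or_false, Set.mem_image, Set.mem_insert_iff,
      Set.mem_singleton_iff]
    constructor
    · rintro ⟨l, rfl | rfl, rfl⟩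
      · exact ⟨x, Or.inl rfl, rfl⟩
      · exact ⟨y, Or.inr rfl, rfl⟩
    · rintro ⟨l, rfl | rfl, rfl⟩
      · exact ⟨_, Or.inl rfl, rfl⟩
      · exact ⟨_, Or.inr rfl, rfl⟩
  have h3 : (Subgroup.closure (genSet [xxL, yyL])).subgroupOf Spor.M23 = Subgroup.closure ({x, y} : Set Spor.M23) := by
    rw [h2]
    exact Subgroup.comap_map_eq_self_of_injective Spor.M23.subtype_injective _
  rw [h3] at h1
  have hi : (Subgroup.closure ({x, y} : Set Spor.M23)).index = 1133440 := by omega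
  have hco : Nat.Coprime (orderOf z) (Subgroup.closure ({x, y} : Set Spor.M23)).index := by
    rw [hord, hi]; norm_num
  have hzU := Cfsg.Agent.Lib.KnownSimple.mem_commutator_comap hs hK hK' _ hz hco
  have hzz := eq_one_of_det_minus hs hK x y (el nL ok_n) ?_ ?_ ?_ hz hzU
  · have h5 : orderOf z ∣ 2 := by
      apply orderOf_dvd_of_pow_eq_one
      rw [pow_two]; exact hzz
    rw [hord] at h5
    omega
  · apply Subtype.ext
    show perm xxL * perm yyL = perm yyL * perm xxL
    rw [← perm_mulL' (pm ok_xx) (pm ok_yy), ← perm_mulL' (pm ok_yy) (pm ok_xx),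
      show mulL xxL yyL = mulL yyL xxL by decide +kernel]
  · apply Subtype.ext
    show perm nL * perm xxL * (perm nL)⁻¹ = perm xxL
    rw [mul_inv_eq_iff_eq_mul, ← perm_mulL' (pm ok_n) (pm ok_xx), ← perm_mulL' (pm ok_xx) (pm ok_n),
      show mulL nL xxL = mulL xxL nL by decide +kernel]
  · apply Subtype.ext
    show perm nL * perm yyL * (perm nL)⁻¹ = (perm yyL)⁻¹
    rw [← perm_inv_of_mul (pm ok_yy) (pm ok_yyi) (by decide +kernel), mul_inv_eq_iff_eq_mul,
      ← perm_mulL' (pm ok_n) (pm ok_yy), ← perm_mulL' (pm ok_yyi) (pm ok_n),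
      show mulL nL yyL = mulL yyinvL nL by decide +kernel]

/-- The Schur multiplier of the Mathieu group M₂₃ (the stabiliser of a point in the automorphism group of the length-24 binary code) is trivial; here the Schur multiplier is described through stem extensions, as in the definitions: surjective homomorphisms onto the group from a finite group, whose kernel is central in that finite group and contained in that finite group's commutator subgroup. -/
theorem result : Cfsg.HasCyclicSchurMultiplier ↥Cfsg.Spor.M23 1 := by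
  apply hasCyclicSchurMultiplier_one_of_prime
  intro Γ _ _ σ hσ hp
  obtain ⟨hs, hK, hK'⟩ := hσ
  obtain ⟨z, hz, hz1, hord⟩ := exists_elt_of_prime_kernel hp
  set r := Nat.card σ.ker with hr
  apply hz1
  have hcyc : ∀ {p : ℕ} [Fact p.Prime] (l : List ℕ) (h : okG l = true), r = p → powL l p = idL → l ≠ idL →
      ¬ p ^ 2 ∣ 10200960 → z = 1 := by
    intro p _ l h hrp h1 h2 h3
    refine eq_one_of_cyclic hs hK hK' (el l h) hz ?_
    rw [hord, hrp]
    exact coprime_index_zpowers Fact.out card_M23 (by norm_num) h3 _ (ordp h h1 h2)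
  by_cases hdvd : r ∣ 10200960
  · rcases primes_N hp hdvd with h | h | h | h | h | h
    · exact case_two σ hs hK hK' h hz (hord.trans h)
    · exact case_three σ hs hK hK' hz (hord.trans h)
    · have : Fact (Nat.Prime 5) := ⟨by norm_num⟩
      exact hcyc a5L ok_a5 h (by decide +kernel) (by decide +kernel) (by norm_num)
    · have : Fact (Nat.Prime 7) := ⟨by norm_num⟩
      exact hcyc a7L ok_a7 h (by decide +kernel) (by decide +kernel) (by norm_num)
    · have : Fact (Nat.Prime 11) := ⟨by norm_num⟩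
      exact hcyc a11L ok_a11 h (by decide +kernel) (by decide +kernel) (by norm_num)
    · have : Fact (Nat.Prime 23) := ⟨by norm_num⟩
      exact hcyc a23L ok_a23 h (by decide +kernel) (by decide +kernel) (by norm_num)
  · refine eq_one_of_cyclic hs hK hK' (1 : Spor.M23) hz ?_
    rw [hord]
    exact coprime_index_one card_M23 hp hdvd


end Cfsg.Agent.S2037
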