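-- Statement S2038: the Schur multiplier of M24 is trivial.
import Cfsg.Statements.S2038
import Cfsg.Agent.S2037
import Cfsg.Agent.Lib.KnownSimple.SchurFlat
import Cfsg.Agent.Lib.Golay.Simple
import Cfsg.Agent.Lib.Golay.Transfer

set_option autoImplicit false
open Cfsg

namespace Cfsg.Agent.S2038

open Cfsg.Agent.Lib.Golay Cfsg.Agent.Lib.KnownSimple.MathieuOut Cfsg.Agent.Lib.KnownSimple.SchurFlat
open MulAction

/-- An involution of `M24` swapping `pt 23` and `pt 0` and fixing `pt 1`. -/
def tL : List ℕ := [23,1,2,3,19,17,16,13,18,10,9,11,12,7,14,15,6,5,8,4,20,22,21,0]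

theorem htp : isPerm tL = true := by decide +kernel
theorem htu : autCheck tL = true := by decide +kernel

noncomputable def t : M24 := ⟨perm tL, perm_mem_M24 htp htu⟩

theorem smul_def' (g : M24) (p : GolayPt) : g • p = (g : Equiv.Perm GolayPt) p := rfl

theorem commutator_eq_top_of_equiv {A B : Type*} [Group A] [Group B] (e : A ≃* B) (h : commutator B = ⊤) :
    commutator A = ⊤ := by
  have h1 : (commutator B).map e.symm.toMonoidHom = commutator A := by
    rw [_root_.commutator_def, _root_.commutator_def, Subgroup.map_commutator]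
    have : (⊤ : Subgroup B).map e.symm.toMonoidHom = ⊤ := by
      rw [← MonoidHom.range_eq_map]
      exact MonoidHom.range_eq_top.mpr e.symm.surjective
    rw [this]
  rw [← h1, h]
  rw [← MonoidHom.range_eq_map]
  exact MonoidHom.range_eq_top.mpr e.symm.surjective

theorem le_commutator_of_perfect {G : Type*} [Group G] (P : Subgroup G) (h : commutator P = ⊤) : P ≤ ⁅P, P⁆ := by
  have h2 := Subgroup.map_subtype_commutator P
  rw [h] at h2
  intro x hx
  rw [← h2]
  exact ⟨⟨x, hx⟩, trivial, rfl⟩

theorem ker_bot_of_multiplier {G : Type} [Group G] (hm : Cfsg.HasCyclicSchurMultiplier G 1)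
    (Λ : Type) [Group Λ] [Finite Λ] (ρ : Λ →* G) (hρ : Cfsg.IsStemExtension ρ) : ρ.ker = ⊥ := by
  obtain ⟨π, hπ⟩ := hm.2 Λ ρ hρ
  rw [Subgroup.eq_bot_iff_forall]
  intro k hk
  obtain ⟨x, hx⟩ := hπ ⟨k, hk⟩
  have h1 : x = 1 := by
    have : Subsingleton (Multiplicative (ZMod 1)) := inferInstanceAs (Subsingleton (ZMod 1))
    exact Subsingleton.elim _ _
  rw [h1, map_one] at hx
  exact (congrArg Subtype.val hx).symm

theorem stem_transfer {A B : Type} [Group A] [Group B] (e : A ≃* B)
    (hm : ∀ (Λ : Type) [Group Λ] [Finite Λ] (ρ : Λ →* B), Cfsg.IsStemExtension ρ → ρ.ker = ⊥)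
    (Λ : Type) [Group Λ] [Finite Λ] (ρ : Λ →* A) (hρ : Cfsg.IsStemExtension ρ) : ρ.ker = ⊥ := by
  obtain ⟨h1, h2, h3⟩ := hρ
  have hker : (e.toMonoidHom.comp ρ).ker = ρ.ker := by
    ext x
    simp [MonoidHom.mem_ker]
  have := hm Λ (e.toMonoidHom.comp ρ) ⟨e.surjective.comp h1, by rw [hker]; exact h2, by rw [hker]; exact h3⟩
  rwa [hker] at this

theorem three_trans (x y z x' y' z' : GolayPt) (h1 : x ≠ y) (h2 : x ≠ z) (h3 : y ≠ z)
    (h4 : x' ≠ y') (h5 : x' ≠ z') (h6 : y' ≠ z') : ∃ g : M24, g • x = x' ∧ g • y = y' ∧ g • z = z' := by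
  have := M24_k_transitive (k := 3) (by norm_num)
  let f : Fin 3 ↪ GolayPt := ⟨![x, y, z], by
    intro i j hij
    fin_cases i <;> fin_cases j <;> first
      | rfl
      | exact absurd hij h1
      | exact absurd hij h1.symm
      | exact absurd hij h2
      | exact absurd hij h2.symm
      | exact absurd hij h3
      | exact absurd hij h3.symm⟩
  let f' : Fin 3 ↪ GolayPt := ⟨![x', y', z'], by
    intro i j hij
    fin_cases i <;> fin_cases j <;> first
      | rfl
      | exact absurd hij h4
      | exact absurd hij h4.symm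
      | exact absurd hij h5
      | exact absurd hij h5.symm
      | exact absurd hij h6
      | exact absurd hij h6.symm⟩
  obtain ⟨g, hg⟩ := MulAction.exists_smul_eq M24 f f'
  refine ⟨g, ?_, ?_, ?_⟩
  · exact DFunLike.congr_fun hg 0
  · exact DFunLike.congr_fun hg 1
  · exact DFunLike.congr_fun hg 2

/-- The Schur multiplier of the Mathieu group M₂₄ (the automorphism group of the length-24 binary code) is trivial; here the Schur multiplier is described through stem extensions, as in the definitions: surjective homomorphisms onto the group from a finite group, whose kernel is central in that finite group and contained in that finite group's commutator subgroup. -/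
theorem result : Cfsg.HasCyclicSchurMultiplier ↥Cfsg.M24 1 := by
  apply Cfsg.Agent.Lib.KnownSimple.hasCyclicSchurMultiplier_one_of
  intro Γ _ _ σ hσ
  obtain ⟨e1⟩ := stab_one_equiv (pt 23)
  obtain ⟨e2⟩ := stab_two_equiv (pt 23) (pt 0) (by decide)
  refine ker_eq_bot_of_three_trans hσ (pt 23) (pt 0) (pt 1) (by decide) (by decide) (by decide) three_trans t ?_ ?_ ?_
    (stabilizer M24 (pt 23)) (stabilizer M24 (pt 23) ⊓ stabilizer M24 (pt 0)) ?_ ?_ ?_ ?_ ?_
  · apply Subtype.ext
    show perm tL * perm tL = 1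
    rw [← perm_mulL' htp htp, show mulL tL tL = idL by decide +kernel, perm_idL]
  · show perm tL (pt 23) = pt 0
    rw [perm_pt htp (by norm_num), show lk tL 23 = 0 by decide +kernel]
  · show perm tL (pt 1) = pt 1
    rw [perm_pt htp (by norm_num), show lk tL 1 = 1 by decide +kernel]
  · intro g
    exact MulAction.mem_stabilizer_iff
  · intro g
    rw [Subgroup.mem_inf, MulAction.mem_stabilizer_iff, MulAction.mem_stabilizer_iff]
  · exact le_commutator_of_perfect _ (commutator_eq_top_of_equiv e2 H22_perfect)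
  · exact commutator_eq_top_of_equiv e1 H23_perfect
  · intro Λ _ _ ρ hρ
    exact stem_transfer e1 (fun Λ _ _ ρ hρ => ker_bot_of_multiplier Cfsg.Agent.S2037.result Λ ρ hρ) Λ ρ hρ

end Cfsg.Agent.S2038
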