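-- Statement S2060: Out(M11) is trivial.
import Cfsg.Statements.S2060
import Cfsg.Agent.S2061

set_option autoImplicit false
open Cfsg

namespace Cfsg.Agent.S2060

open Cfsg.Agent.Lib.Golay Cfsg.Agent.Lib.KnownSimple.MathieuOut
open Cfsg.Agent.S2061 (cL cinvL hcL hcinv hcinvE hcut mem_M12_iff mem_iff_conj card_M12 Dm Dm_lt)
open scoped Pointwise

def aL : List ℕ := [0,2,4,6,8,10,12,14,16,18,20,22,1,3,5,7,9,11,13,15,17,19,21,23]
def ainvL : List ℕ := [0,12,1,13,2,14,3,15,4,16,5,17,6,18,7,19,8,20,9,21,10,22,11,23]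
def bL : List ℕ := [0,1,12,4,3,14,9,7,8,6,10,23,2,16,5,21,13,22,18,19,20,15,17,11]
def nL : List ℕ := [0,1,8,4,18,5,9,22,6,16,17,10,3,12,15,20,2,7,13,14,21,19,11,23]

def reps : List RepD := [
  (262637, [2,3,5,6,10,7,17,1,4,11,19,15,20,13,18,12,9,8,22,14,21,23,16,0], [23,7,0,1,8,2,3,5,17,16,4,9,15,13,19,11,22,6,14,10,12,20,18,21]),
  (786999, [1,2,4,5,11,9,10,3,22,14,8,16,13,21,18,6,17,19,23,7,20,12,15,0], [23,0,1,7,2,3,15,19,10,5,6,4,21,12,9,22,11,16,14,17,20,13,8,18]),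
  (1312345, [3,4,6,9,12,18,1,5,13,7,14,19,2,15,20,23,11,10,17,16,22,21,8,0], [23,6,12,0,1,7,2,9,22,3,17,16,4,8,10,13,19,18,5,11,14,21,20,15]),
  (1836419, [1,7,8,10,17,20,21,3,15,12,16,23,5,13,19,6,2,18,4,11,22,14,9,0], [23,0,16,7,18,12,15,1,2,22,3,19,9,13,21,8,10,4,17,14,5,6,20,11]),
  (2363013, [2,7,9,10,19,11,23,22,8,6,16,17,1,14,18,4,20,21,13,5,15,12,3,0], [23,12,0,22,15,19,9,1,8,2,3,5,21,18,13,20,10,11,14,4,16,17,7,6]),
  (3410225, [4,5,8,11,2,18,15,1,19,22,13,10,3,16,21,9,12,20,14,23,6,7,17,0], [23,7,4,12,0,1,20,21,2,15,11,3,16,10,18,6,13,22,5,8,17,14,9,19]),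
  (4721045, [2,4,7,8,21,11,10,1,15,20,18,9,16,13,22,17,14,19,6,3,23,12,5,0], [23,7,0,19,1,22,18,2,3,11,6,5,21,13,16,8,12,15,10,17,9,4,14,20]),
  (5770785, [5,9,10,11,21,19,18,8,16,14,6,13,3,12,20,7,15,22,2,23,1,17,4,0], [23,20,18,12,22,0,10,15,7,1,2,3,13,11,9,16,8,21,6,5,14,4,17,19]),
  (6292775, [1,2,5,8,4,22,12,13,23,7,11,14,3,18,21,16,9,10,17,6,20,15,19,0], [23,0,1,12,4,2,19,9,3,16,17,10,6,7,11,21,15,18,13,22,20,14,5,8]),
  (7340691, [1,4,7,9,2,21,6,11,17,8,23,19,14,12,22,15,10,20,16,18,5,13,3,0], [23,0,4,22,1,20,6,2,9,3,16,7,13,21,12,15,18,8,19,11,17,5,14,10]),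
  (7864649, [3,6,8,19,7,21,14,9,12,23,1,11,4,18,20,13,5,22,15,16,10,17,2,0], [23,10,22,0,12,16,1,4,2,7,20,11,8,15,6,18,19,21,13,3,14,5,17,9]),
  (2916505, [3,4,7,15,16,21,2,1,5,14,22,17,11,20,19,6,13,18,9,10,23,12,8,0], [23,7,6,0,1,8,15,2,22,18,19,12,21,16,9,3,4,11,17,14,13,5,10,20]),
  (4752467, [1,4,6,10,23,22,5,16,13,8,20,18,7,17,19,2,9,15,11,21,14,3,12,0], [23,0,15,21,1,6,2,12,9,16,3,18,22,8,20,17,7,13,11,14,10,19,5,4]),
  (69395, [1,4,8,9,7,11,14,6,13,17,3,21,19,15,10,18,23,16,12,20,22,2,5,0], [23,0,21,10,1,22,7,4,2,3,14,5,18,8,6,13,17,9,15,12,19,11,20,16]),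
  (2162811, [1,3,4,5,19,16,14,15,2,18,17,7,12,23,21,8,11,6,10,13,22,9,20,0], [23,0,8,1,2,3,17,11,15,21,18,16,12,19,6,7,5,10,9,4,22,14,20,13]),
  (3277413, [2,5,6,9,7,17,14,19,15,4,11,12,13,8,20,10,18,21,1,22,23,16,3,0], [23,18,0,22,9,1,2,4,13,3,15,10,11,12,6,8,21,5,16,7,14,17,19,20]),
  (8391797, [2,4,5,6,16,23,21,13,22,19,18,15,20,12,11,1,17,10,3,7,9,14,8,0], [23,15,0,18,1,2,3,19,22,20,17,14,13,7,21,11,4,16,10,9,12,6,8,5]),
  (9440193, [6,7,8,9,4,23,18,3,22,13,19,16,1,17,20,14,21,11,12,2,15,5,10,0], [23,12,19,7,4,21,0,1,2,3,22,17,18,9,15,20,11,13,6,10,14,16,8,5]),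
  (9963547, [1,3,4,11,2,20,14,13,21,17,8,6,5,7,19,18,12,23,16,9,22,15,10,0], [23,0,4,1,2,12,11,13,10,19,22,3,16,7,6,21,18,9,15,14,5,8,20,17]),
  (10486557, [2,3,4,8,22,21,18,16,7,19,6,12,10,5,9,17,15,23,1,14,13,11,20,0], [23,18,0,1,2,13,10,8,3,14,12,21,11,20,19,16,7,15,6,9,22,5,4,17]),
  (11010247, [1,2,6,7,5,21,3,22,10,14,4,16,17,12,19,8,15,23,18,11,20,9,13,0], [23,0,1,6,10,4,2,3,15,21,8,19,13,22,9,16,11,12,18,14,20,5,7,17]),
  (11535529, [3,5,7,10,16,20,4,17,19,6,8,13,1,14,23,18,12,21,22,9,2,11,15,0], [23,12,20,0,6,1,9,2,10,19,3,21,16,11,13,22,4,7,15,8,5,17,18,14]),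
  (9471495, [1,2,9,10,3,23,16,14,17,19,18,7,8,6,20,5,11,15,13,12,4,21,22,0], [23,0,1,4,20,15,13,11,12,2,3,16,19,18,7,17,6,8,10,9,14,21,22,5])]

def mkW (exps : List ℕ) (m : ℕ) : List Bool :=
  (List.replicate m (exps.flatMap fun e => List.replicate e false ++ [true])).flatten

def rels : List (List Bool) := [mkW [6, 6, 1, 2] 2]

def steps : List (ℕ × ℕ) := [
  (1,0),(1,1),(3,0),(3,1),(4,1),(5,1),(7,1),(8,1),(8,1),(7,1),(5,5),(6,0),(1,1),(1,0),(0,4),(16,0),(0,15),(18,0),(18,0),(3,1),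
  (4,21),(22,0),(6,1),(7,1),(8,1),(9,1),(27,0),(11,11),(12,0),(19,1),(13,13),(0,0),(15,0),(0,3),(35,0),(0,14),(1,14),(38,1),(3,1),(4,23),
  (5,5),(6,1),(26,1),(4,7),(0,45),(6,6),(0,0),(7,7),(8,0),(0,9),(21,35),(14,14),(15,0),(1,1),(1,0),(0,4),(27,0),(0,56),(1,56),(2,42),
  (3,61),(4,40),(46,1),(28,1),(7,7),(8,0),(43,7),(8,8),(9,0),(1,1),(1,0),(0,4),(50,50),(51,0),(0,2),(5,76),(16,16),(0,0),(0,0),(2,0),
  (0,4),(58,58),(0,1),(55,3),(0,84),(5,0),(22,22),(0,0),(0,2),(54,48),(0,1),(0,90),(1,90),(2,94),(3,72),(4,79),(5,61),(6,40),(41,7),(8,34),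
  (94,94),(101,40),(0,5),(0,4),(101,10),(0,64),(0,6),(105,86),(0,60),(108,88),(0,45),(53,75),(0,47),(96,51),(0,73),(22,94),(0,88),(0,17),(26,24),(0,22),
  (0,20),(103,99),(0,82),(64,62),(0,89),(0,68),(90,91),(0,28),(65,80),(0,38),(131,90),(0,65),(71,33),(112,105),(0,77),(73,36),(42,39),(115,89),(0,81),(44,42),
  (0,41),(113,42),(94,51),(103,77),(109,87),(129,54),(50,81)]

def allT : List (List ℕ) := m12T1 ++ m12T2 ++ m12T3 ++ m12T4

/-- The filter: preservation of the dodecad and of the point `0`. -/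
def fD (c : List ℕ) : Bool := Nat.beq (pull c Dm) Dm && Nat.beq (lk c 0) 0

theorem ha : isPerm aL = true := by decide +kernel
theorem hb : isPerm bL = true := by decide +kernel
theorem hai : isPerm ainvL = true := by decide +kernel
theorem hn : isPerm nL = true := by decide +kernel
theorem haut : autCheck aL = true := by decide +kernel
theorem hbut : autCheck bL = true := by decide +kernel
theorem hnut : autCheck nL = true := by decide +kernel
theorem hr : repsOK reps = true := by decide +kernel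
theorem hc : coverOK (fun m => m.testBit 0) aL 11 reps = true := by decide +kernel
theorem hrels : rels.all (relOK aL bL) = true := by decide +kernel
theorem hplus : (cands reps).all (candOKplus aL bL rels fD) = true := by decide +kernel
theorem hminus : (cands reps).all (candOKminus ainvL rels fD) = true := by decide +kernel
theorem hslp : slpChk 2 steps = true := by decide +kernel
theorem htargets : allT.all (fun l => (slpRun [aL, bL] steps).elem (mulL (mulL cL l) cinvL)) = true := by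
  decide +kernel

theorem hord : orderOf (perm aL) = 11 := by
  have : Fact (Nat.Prime 11) := ⟨by norm_num⟩
  exact orderOf_perm ha (by decide +kernel) (by decide +kernel)

theorem hb2 : perm bL ^ 2 = 1 := by
  rw [← perm_powL hb, show powL bL 2 = idL by decide +kernel, perm_idL]

theorem hbne : perm bL ≠ 1 := by
  intro h
  have := eq_idL_of_perm hb h
  revert this
  decide +kernel

theorem hna : perm nL * perm aL * (perm nL)⁻¹ = perm aL ^ 3 := by
  rw [mul_inv_eq_iff_eq_mul, ← perm_powL ha, ← perm_mulL' hn ha, ← perm_mulL' (isPerm_powL ha _) hn,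
    show mulL nL aL = mulL (powL aL 3) nL by decide +kernel]

theorem hainv : perm ainvL = (perm aL)⁻¹ := perm_inv_of_mul ha hai (by decide +kernel)

/-! ### The group -/

theorem mem_M11_iff {g : Equiv.Perm GolayPt} : g ∈ Spor.M11 ↔ g ∈ Spor.M12 ∧ g (pt 0) = pt 0 := by
  show g ∈ Spor.M12 ⊓ MulAction.stabilizer (Equiv.Perm GolayPt) (some 0 : GolayPt) ↔ _
  rw [Subgroup.mem_inf, MulAction.mem_stabilizer_iff, Equiv.Perm.smul_def]
  have : pt 0 = (some 0 : GolayPt) := by decide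
  rw [this]

theorem mem_M11_of {l : List ℕ} (h : isPerm l = true) (hu : autCheck l = true) (hd : pull l Dm = Dm)
    (h0 : lk l 0 = 0) : perm l ∈ Spor.M11 :=
  mem_M11_iff.mpr ⟨Cfsg.Agent.S2061.mem_M12_of h hu hd, by rw [perm_pt h (by norm_num), h0]⟩

theorem haH : perm aL ∈ Spor.M11 := mem_M11_of ha haut (by decide +kernel) (by decide +kernel)
theorem hbH : perm bL ∈ Spor.M11 := mem_M11_of hb hbut (by decide +kernel) (by decide +kernel)
theorem hnH : perm nL ∈ Spor.M11 := mem_M11_of hn hnut (by decide +kernel) (by decide +kernel)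

theorem c23 : perm cL (pt 23) = pt 0 := by
  rw [perm_pt hcL (by norm_num), show lk cL 23 = 0 by decide +kernel]

theorem M11_eq_map : Spor.M11 = (M12B ⊓ MulAction.stabilizer (Equiv.Perm GolayPt) (pt 23)).map
    (MulAut.conj (perm cL)).toMonoidHom := by
  ext x
  rw [Subgroup.mem_map_equiv, mem_M11_iff, mem_iff_conj, Subgroup.mem_inf, MulAction.mem_stabilizer_iff,
    Equiv.Perm.smul_def]
  have h1 : (MulAut.conj (perm cL)).symm x = (perm cL)⁻¹ * x * perm cL := by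
    simp [MulAut.conj_symm_apply]
  rw [h1]
  refine and_congr_right fun _ => ?_
  simp only [Equiv.Perm.mul_apply, c23]
  constructor
  · intro h
    rw [h, ← c23]
    simp
  · intro h
    have := congrArg (fun q => perm cL q) h
    simpa [c23] using this

theorem card_M11 : Nat.card Spor.M11 = 7920 := by
  rw [M11_eq_map, Subgroup.card_map_of_injective (MulEquiv.injective _),
    card_of_chainOK _ _ m12_chainOK.2.2.2]
  simp only [chainCard, List.map_cons, List.length_map, List.map_nil, List.prod_cons, List.prod_nil]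
  decide +kernel

theorem hgen : Spor.M11 ≤ Subgroup.closure {perm aL, perm bL} := by
  set K := Subgroup.closure {perm aL, perm bL} with hK
  have htab : ∀ g ∈ [aL, bL], isPerm g = true ∧ perm g ∈ K := by
    intro g hg
    simp only [List.mem_cons, List.not_mem_nil, or_false] at hg
    rcases hg with rfl | rfl
    · exact ⟨ha, Subgroup.subset_closure (by simp)⟩
    · exact ⟨hb, Subgroup.subset_closure (by simp)⟩
  have hrun := slp_mem K steps [aL, bL] htab hslp
  have hall : ∀ l ∈ allT, perm (mulL (mulL cL l) cinvL) ∈ K := by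
    intro l hl
    have := List.all_eq_true.mp htargets l hl
    exact (hrun _ (List.mem_of_elem_eq_true this)).2
  rw [M11_eq_map, Subgroup.map_le_iff_le_comap]
  apply le_of_chainOK _ _ _ m12_chainOK.2.2.2
  have hperm : ∀ l ∈ allT, isPerm l = true := by decide +kernel
  intro x hx t ht'
  have key : ∀ l ∈ allT, perm l ∈ K.comap (MulAut.conj (perm cL)).toMonoidHom := by
    intro l hl
    rw [Subgroup.mem_comap]
    have h1 := hall l hl
    rw [perm_mulL' (isPerm_mulL hcL (hperm l hl)) hcinv, perm_mulL' hcL (hperm l hl), hcinvE] at h1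
    exact h1
  simp only [List.mem_cons, List.not_mem_nil, or_false] at hx
  rcases hx with rfl | rfl | rfl | rfl <;>
  · obtain ⟨l, hl, rfl⟩ := List.mem_map.mp ht'
    exact key l (by simp [allT, hl])

/-- The outer automorphism group of the Mathieu group M₁₁ (the stabiliser of a dodecad and one of its points in the automorphism group of the length-24 binary code) is trivial: every automorphism is inner. -/
theorem result : Nat.card (Cfsg.Out ↥Cfsg.Spor.M11) = 1 := by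
  have hfp : Fact (Nat.Prime 11) := ⟨by norm_num⟩
  have hM12 : ∀ x ∈ Spor.M11, x ∈ Spor.M12 ∧ x (pt 0) = pt 0 := fun x hx => mem_M11_iff.mp hx
  have hle : Spor.M11 ≤ M24 := fun x hx => (mem_M12_iff.mp (hM12 x hx).1).1
  refine out_one (p := 11) (r := 3) (H := Spor.M11) (aL := aL) (bL := bL) (nL := nL) (ainvL := ainvL)
    (cond := fun m => m.testBit 0) (f := fD) (N := 11) (reps := reps) (rels := rels)
    hle ha hb hai hainv haH hbH hnH hord
    (by rw [card_M11]; norm_num) hna ?_ hgen hr hc ?_ ?_ hrels hplus hminus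
    hb2 hbne ?_
  · intro k h0 h1
    have key : ∀ k : Fin 11, 0 < k.val → ∃ j : Fin 5,
        (k.val * 3 ^ j.val) % 11 = 1 ∨ (k.val * 3 ^ j.val) % 11 = 10 := by decide
    obtain ⟨j, hj⟩ := key ⟨k, h1⟩ h0
    exact ⟨j.val, hj⟩
  · intro t ht m hm
    have h1 : pt 0 ∈ fixF t := by
      rw [mem_fixF]
      exact (hM12 t ht).2
    rw [hm, mem_finOf, idx_pt (by norm_num)] at h1
    exact h1
  · intro c hcp hcH
    obtain ⟨h1, h5⟩ := mem_M11_iff.mp hcH
    obtain ⟨-, h2⟩ := mem_M12_iff.mp h1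
    have h3 : finOf (pull c Dm) = finOf Dm := by
      rw [finOf_pull hcp, inv_smul_eq_iff, h2]
    have h4 := finOf_injOn (pull_lt hcp Dm) Dm_lt h3
    have h6 : lk c 0 = 0 := by
      have h7 := congrArg idx h5
      rw [idx_perm hcp] at h7
      simpa [idx_pt (show 0 < 24 by norm_num)] using h7
    show (Nat.beq (pull c Dm) Dm && Nat.beq (lk c 0) 0) = true
    rw [h4, h6]
    simp [Nat.beq_refl]
  · intro ψ
    exact ⟨pt 0, (hM12 _ (ψ _).2).2⟩

end Cfsg.Agent.S2060
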