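import Cfsg.Statements.S4889
import Mathlib
import Cfsg.Agent.Lib.LocalAlg.OLoc
import Cfsg.Agent.Lib.H8Group.AbelianNil
import Cfsg.Agent.Lib.H8Group.RankOne

set_option autoImplicit false
open Cfsg

namespace Cfsg.Agent.S4889

/-- Let G be a finite group, p a prime, M a maximal ideal of the algebraic integers containing p, and B a p-block of G that has an abelian defect group and in which every irreducible character has height zero. Then all irreducible characters of B have the same degree if and only if B is a nilpotent block. -/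
theorem result {G : Type*} [Group G] [Finite G] (p : ℕ) [Fact p.Prime] (M : Ideal Cfsg.AlgInt) (hM : Cfsg.IsPModular p M) (B : Set (Cfsg.IrrCharacter G)) (hB : Cfsg.IsPBlock M B) (D : Subgroup G) (hD : Cfsg.IsDefectGroup p M B D) (hDab : IsMulCommutative ↥D) (h0 : ∀ χ : Cfsg.IrrCharacter G, χ ∈ B → Cfsg.blockHeight p B (χ : G → ℂ) = 0) : (∃ d : ℕ, ∀ χ : Cfsg.IrrCharacter G, χ ∈ B → Cfsg.charDegree (χ : G → ℂ) = d) ↔ Cfsg.IsNilpotentBlock p M B := by
  classical
  have hFT : Nonempty (Fintype G) := nonempty_fintype G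
  obtain ⟨_⟩ := hFT
  have := Cfsg.Agent.Lib.Blocks.isPrime_of_modular hM
  have hpp : p.Prime := Fact.out
  have hab : ∀ x ∈ D, ∀ y ∈ D, x * y = y * x := by
    intro x hx y hy
    have h1 := hDab.is_comm.comm (⟨x, hx⟩ : D) ⟨y, hy⟩
    exact congrArg Subtype.val h1
  constructor
  · rintro ⟨d, hd⟩
    obtain ⟨P, e, hmax⟩ := Cfsg.Agent.Lib.H8Group.exists_isMaximalBrauerPair (p := p) hM hB
    have hFC : Nonempty (Fintype (Subgroup.centralizer (P : Set G))) := nonempty_fintype _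
    obtain ⟨_⟩ := hFC
    have hDP := Cfsg.Agent.Lib.H8Group.isDefectGroup_of_isMaximalBrauerPair hM hmax
    obtain ⟨y, hy⟩ := Cfsg.Agent.Lib.Blocks.IsDefectGroup.exists_conj_eq hM hB hD hDP
    have habP : ∀ x ∈ P, ∀ z ∈ P, x * z = z * x := by
      intro a ha b hb
      rw [hy, Cfsg.Agent.Lib.Blocks.mem_conjS] at ha hb
      have h1 := hab _ ha _ hb
      have h2 : y⁻¹ * (a * b) * y = y⁻¹ * (b * a) * y := by
        calc y⁻¹ * (a * b) * y = (y⁻¹ * a * y) * (y⁻¹ * b * y) := by group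
          _ = (y⁻¹ * b * y) * (y⁻¹ * a * y) := h1
          _ = y⁻¹ * (b * a) * y := by group
      exact mul_left_cancel (mul_right_cancel h2)
    obtain ⟨χ₀, hχ₀⟩ := Cfsg.Agent.Lib.Blocks.IsPBlock.nonempty hB
    have hf : ∀ χ ∈ B, (χ : G → ℂ) 1 = (d : ℂ) := by
      intro χ hχ
      rw [Cfsg.Agent.Lib.Char.apply_one_eq_charDegree (Cfsg.Agent.Lib.Char.IsIrrCharacter.isCharacter χ.2), hd χ hχ]
    have hf0 : 0 < d := by
      rw [← hd χ₀ hχ₀]
      exact Cfsg.Agent.Lib.Char.charDegree_pos χ₀.2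
    have hfac : d.factorization p = Cfsg.Agent.Lib.H8Group.minVal p B := by
      have h1 := Cfsg.Agent.Lib.H8Group.val_eq_minVal_add_height (p := p) hχ₀
      rw [h0 χ₀ hχ₀, hd χ₀ hχ₀] at h1
      simpa using h1
    have ha := Cfsg.Agent.Lib.H8Group.card_val_eq_minVal_add_defect (p := p) (Cfsg.Agent.Lib.Blocks.IsPBlock.nonempty hB)
    have hPd := Cfsg.Agent.Lib.Blocks.card_defectGroup hM hB hDP
    exact Cfsg.Agent.Lib.LocalAlg.nilpotent_of_equal_degrees hM hmax habP hf0 hf hfac ha hPd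
  · intro hnil
    obtain ⟨hl, hk⟩ := Cfsg.Agent.Lib.H8Group.nilpotent_abelian_aux hM _ G rfl B D hnil hD hab
    obtain ⟨φ, d, ⟨n, hn⟩, hd, hdsum⟩ := Cfsg.Agent.Lib.H8Group.exists_rank_one_data hM hB hl
    set X := (Finset.univ.filter (· ∈ B) : Finset (Cfsg.IrrCharacter G)) with hXdef
    have hBX : B = (X : Set (Cfsg.IrrCharacter G)) := by
      ext χ
      simp [hXdef]
    have hmemX : ∀ χ, χ ∈ X ↔ χ ∈ B := fun χ => by simp [hXdef]
    have hXcard : X.card = Nat.card B := by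
      rw [hBX, Nat.card_coe_set_eq, Set.ncard_coe_finset]
    have h1reg : Cfsg.IsPRegular p (1 : G) := by
      show ¬ p ∣ orderOf (1 : G)
      rw [orderOf_one]
      exact hpp.one_lt.ne' ∘ Nat.dvd_one.mp
    have hsumd : ∑ χ ∈ X, d χ ^ 2 = p ^ Cfsg.blockDefect p B := by
      rw [← hdsum, hBX, finsum_mem_coe_finset]
    have hcardD := Cfsg.Agent.Lib.Blocks.card_defectGroup hM hB hD
    have hc : X.card = p ^ Cfsg.blockDefect p B := by
      rw [hXcard, hk, hcardD]
    have hdne : ∀ χ ∈ X, 1 ≤ d χ ^ 2 := by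
      intro χ hχ
      have h1 := hd χ ((hmemX χ).mp hχ) 1 h1reg
      have h2 : d χ ≠ 0 := by
        intro h3
        rw [h3] at h1
        simp only [Nat.cast_zero, zero_mul] at h1
        exact Cfsg.Agent.Lib.Blocks.irr_apply_one_ne_zero χ h1
      exact Nat.one_le_iff_ne_zero.mpr (pow_ne_zero 2 h2)
    have heq : ∀ χ ∈ X, 1 = d χ ^ 2 := by
      have h1 : ∑ χ ∈ X, 1 = ∑ χ ∈ X, d χ ^ 2 := by
        rw [hsumd, ← hc]
        simp
      exact (Finset.sum_eq_sum_iff_of_le hdne).mp h1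
    have hd1 : ∀ χ ∈ B, d χ = 1 := by
      intro χ hχ
      have h1 := heq χ ((hmemX χ).mpr hχ)
      nlinarith [Nat.zero_le (d χ), sq_nonneg (d χ)]
    refine ⟨⌊(φ 1).re⌋₊, fun χ hχ => ?_⟩
    show ⌊((χ : G → ℂ) 1).re⌋₊ = _
    rw [hd χ hχ 1 h1reg, hd1 χ hχ]
    simp

end Cfsg.Agent.S4889
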