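import Cfsg.Statements.S4035
import Cfsg.Agent.Lib.PGroups.Frobenius2

set_option autoImplicit false
open Cfsg

namespace Cfsg.Agent.S4035

open Finset Cfsg.Agent.Lib.PGroups Subgroup

private theorem set_eq_of_card {G : Type*} [Finite G] [Group G] (H : Subgroup G) (n : ℕ)
    (hH : Nat.card H = n) (hsub : ∀ x ∈ H, x ^ n = 1) (hs : sol G n = n) :
    ∀ x : G, x ^ n = 1 → x ∈ H := by
  have h1 : ((H : Set G)) ⊆ {x : G | x ^ n = 1} := fun x hx => hsub x hx
  have h2 : ({x : G | x ^ n = 1} : Set G).ncard ≤ ((H : Set G)).ncard := by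
    have e1 : ((H : Set G)).ncard = n := by rw [← Nat.card_coe_set_eq]; exact hH
    have e2 : ({x : G | x ^ n = 1} : Set G).ncard = n := by
      rw [← Nat.card_coe_set_eq]; exact hs
    omega
  have h3 := Set.eq_of_subset_of_ncard_le h1 h2 (Set.toFinite _)
  intro x hx
  have : x ∈ ((H : Set G)) := by rw [h3]; exact hx
  exact this


/-- Let G be a finite group and p a prime such that p divides the size of no conjugacy class of p-regular elements (elements of order prime to p). Then G is the internal direct product of a Sylow p-subgroup P and a normal subgroup H of order prime to p: P is normal, P ⊓ H = 1 and PH = G. -/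
theorem result {G : Type*} [Group G] [Finite G] {p : ℕ} [Fact p.Prime]
    (h : ∀ x : G, (orderOf x).Coprime p → ¬ p ∣ (ConjClasses.mk x).carrier.ncard) (P : Sylow p G) :
    (P : Subgroup G).Normal ∧ ∃ H : Subgroup G, H.Normal ∧ ¬ p ∣ Nat.card H ∧
      (P : Subgroup G) ⊓ H = ⊥ ∧ (P : Subgroup G) ⊔ H = ⊤ := by
  classical
  haveI := Fintype.ofFinite G
  have hp : p.Prime := Fact.out
  set N := Nat.card G with hNdef
  have hN : N ≠ 0 := Nat.card_pos.ne'
  set e := N.factorization p with he
  set t := N / p ^ e with ht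
  have hNet : p ^ e * t = N := Nat.ordProj_mul_ordCompl_eq_self N p
  have hpt : ¬ p ∣ t := Nat.not_dvd_ordCompl hp hN
  have htc : (p ^ e).Coprime t := Nat.Coprime.pow_left _ ((Nat.Prime.coprime_iff_not_dvd hp).mpr hpt)
  have htpos : 0 < t := Nat.pos_of_ne_zero (by rintro h; rw [h] at hNet; simp at hNet; omega)
  have hpepos : 0 < p ^ e := pow_pos hp.pos _
  -- (a)
  have hcnt : ∀ x : G, x ^ t = 1 → p ^ e ≤ cnt (p ^ e) x := by
    intro x hx
    have hco : (orderOf x).Coprime p :=
      Nat.Coprime.coprime_dvd_left (orderOf_dvd_of_pow_eq_one hx)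
        ((Nat.Prime.coprime_iff_not_dvd hp).mpr hpt).symm
    have h1 := h x hco
    have h2 : (ConjClasses.mk x).carrier.ncard = (centralizer ({x} : Set G)).index := by
      rw [← Cfsg.Agent.Lib.Struct.card_isConj_eq_index x, ← Nat.card_coe_set_eq]
      apply Nat.card_congr
      refine Equiv.subtypeEquivRight ?_
      intro y
      rw [ConjClasses.mem_carrier_iff_mk_eq, ConjClasses.mk_eq_mk_iff_isConj]
      exact ⟨fun h => h.symm, fun h => h.symm⟩
    rw [h2] at h1
    have h3 : (centralizer ({x} : Set G)).index * Nat.card (centralizer ({x} : Set G)) = N :=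
      Subgroup.index_mul_card _
    have h4 : p ^ e ∣ Nat.card (centralizer ({x} : Set G)) := by
      have h5 : p ^ e ∣ (centralizer ({x} : Set G)).index * Nat.card (centralizer ({x} : Set G)) := by
        rw [h3]; exact Dvd.intro _ hNet
      exact (Nat.Coprime.pow_left _ ((Nat.Prime.coprime_iff_not_dvd hp).mpr h1)).dvd_of_dvd_mul_left h5
    have h6 : p ^ e ∣ sol (centralizer ({x} : Set G)) (p ^ e) := frobenius h4
    rw [cnt_eq_sol]
    apply Nat.le_of_dvd _ h6
    unfold sol
    haveI : Nonempty {y : (centralizer ({x} : Set G)) // y ^ p ^ e = 1} := ⟨⟨1, one_pow _⟩⟩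
    exact Nat.card_pos
  -- (b)
  have hsolN : sol G (t * p ^ e) = N := by
    unfold sol
    rw [hNdef]
    apply Nat.card_congr
    refine Equiv.subtypeUnivEquiv ?_
    intro x
    rw [mul_comm, hNet]
    exact pow_card_eq_one'
  have hsum := sol_mul_eq_sum (G := G) (s := t) (t := p ^ e) htc.symm
  rw [hsolN] at hsum
  have hcardA : sol G t = (univ.filter fun u : G => u ^ t = 1).card := Nat.subtype_card _ (by simp)
  have hlow : (univ.filter fun u : G => u ^ t = 1).card * p ^ e ≤ N := by
    rw [hsum, ← smul_eq_mul]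
    apply Finset.card_nsmul_le_sum
    intro x hx
    exact hcnt x (Finset.mem_filter.mp hx).2
  have hsolt : sol G t = t := by
    have h1 : t ∣ sol G t := frobenius (Dvd.intro_left _ hNet)
    have h2 : 0 < sol G t := by
      unfold sol
      haveI : Nonempty {y : G // y ^ t = 1} := ⟨⟨1, one_pow _⟩⟩
      exact Nat.card_pos
    have h3 := Nat.le_of_dvd h2 h1
    have h4 : sol G t ≤ t := by
      rw [hcardA]
      have : (univ.filter fun u : G => u ^ t = 1).card * p ^ e ≤ t * p ^ e := by
        rw [mul_comm t, hNet]; exact hlow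
      exact Nat.le_of_mul_le_mul_right this hpepos
    omega
  -- each term is exactly `p ^ e`; we need only `x = 1`
  have hone : cnt (p ^ e) (1 : G) = p ^ e := by
    by_contra hne
    have hlt : p ^ e < cnt (p ^ e) (1 : G) := lt_of_le_of_ne (hcnt 1 (one_pow _)) (Ne.symm hne)
    have h1 : ∑ u ∈ univ.filter (fun u : G => u ^ t = 1), p ^ e <
        ∑ u ∈ univ.filter (fun u : G => u ^ t = 1), cnt (p ^ e) u := by
      apply Finset.sum_lt_sum
      · intro x hx
        exact hcnt x (Finset.mem_filter.mp hx).2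
      · exact ⟨1, Finset.mem_filter.mpr ⟨Finset.mem_univ _, one_pow _⟩, hlt⟩
    rw [← hsum, Finset.sum_const, smul_eq_mul, ← hcardA, hsolt, mul_comm, hNet] at h1
    omega
  have hsolp : sol G (p ^ e) = p ^ e := by
    rw [← cnt_of_mem_center _ (one_mem (center G)), hone]
  have hPcard : Nat.card (P : Subgroup G) = p ^ e := P.card_eq_multiplicity
  have hPmem : ∀ x : G, x ^ p ^ e = 1 → x ∈ (P : Subgroup G) := by
    apply set_eq_of_card (P : Subgroup G) (p ^ e) hPcard _ hsolp
    intro x hx
    have := pow_card_eq_one' (x := (⟨x, hx⟩ : (P : Subgroup G)))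
    rw [hPcard] at this
    simpa [Subtype.ext_iff] using this
  have hPpow : ∀ x ∈ (P : Subgroup G), x ^ p ^ e = 1 := by
    intro x hx
    have := pow_card_eq_one' (x := (⟨x, hx⟩ : (P : Subgroup G)))
    rw [hPcard] at this
    simpa [Subtype.ext_iff] using this
  have hPn : (P : Subgroup G).Normal := by
    constructor
    intro x hx g
    apply hPmem
    rw [conj_pow, hPpow x hx]; simp
  refine ⟨hPn, ?_⟩
  have hindex : (P : Subgroup G).index = t := by
    have h1 := Subgroup.card_mul_index (P : Subgroup G)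
    rw [hPcard, ← hNdef, ← hNet] at h1
    exact Nat.eq_of_mul_eq_mul_left hpepos h1
  have hco : Nat.Coprime (Nat.card (P : Subgroup G)) (P : Subgroup G).index := by
    rw [hPcard, hindex]; exact htc
  obtain ⟨H, hH⟩ := Subgroup.exists_right_complement'_of_coprime hco
  have hHcard : Nat.card H = t := by
    have h1 := hH.card_mul
    rw [hPcard, ← hNdef, ← hNet] at h1
    exact Nat.eq_of_mul_eq_mul_left hpepos h1
  have hHpow : ∀ x ∈ H, x ^ t = 1 := by
    intro x hx
    have := pow_card_eq_one' (x := (⟨x, hx⟩ : H))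
    rw [hHcard] at this
    simpa [Subtype.ext_iff] using this
  have hHmem := set_eq_of_card H t hHcard hHpow hsolt
  refine ⟨H, ?_, ?_, hH.disjoint.eq_bot, hH.sup_eq_top⟩
  · constructor
    intro x hx g
    apply hHmem
    rw [conj_pow, hHpow x hx]; simp
  · rw [hHcard]; exact hpt

end Cfsg.Agent.S4035
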