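import Cfsg.Statements.S1492
import Cfsg.Agent.Lib.OddChar.Inertia
import Cfsg.Agent.Lib.Char.Constituent
import Cfsg.Agent.Lib.Char.Coset

set_option autoImplicit false
open Cfsg

namespace Cfsg.Agent.S1492

open Cfsg.Agent.Lib.Char Module

/-- A value `1` on a character passes to the constituents. -/
private theorem apply_eq_of_constituent {K : Type*} [Group K] [Fintype K] {Φ θ : K → ℂ}
    (hΦ : Cfsg.IsCharacter K Φ) (hθ : Cfsg.IsIrrCharacter K θ) (h : Cfsg.classInner Φ θ ≠ 0)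
    {b : K} (hb : Φ b = Φ 1) : θ b = θ 1 := by
  classical
  obtain ⟨a, ha⟩ := IsCharacter.classInner_irr_eq_nat hΦ hθ
  obtain ⟨Δ, hΔ, hs⟩ := exists_complement hΦ hθ ha
  have ha0 : 0 < a := by
    rcases Nat.eq_zero_or_pos a with h0 | h0
    · exfalso
      apply h
      rw [ha, h0]
      simp
    · exact h0
  obtain ⟨d, hd⟩ := IsCharacter.apply_one (IsIrrCharacter.isCharacter hθ)
  obtain ⟨f, hf⟩ := IsCharacter.apply_one hΔ
  have h1 : (a : ℂ) * θ b + Δ b = (a : ℂ) * θ 1 + Δ 1 := by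
    have h2 : Φ b = (a : ℂ) * θ b + Δ b := by
      rw [hs]
      simp
    have h3 : Φ 1 = (a : ℂ) * θ 1 + Δ 1 := by
      rw [hs]
      simp
    rw [← h2, ← h3, hb]
  rw [hd, hf] at h1
  have hn1 : ‖θ b‖ ≤ d := by
    have := IsCharacter.norm_le (IsIrrCharacter.isCharacter hθ) b
    rw [hd] at this
    simpa using this
  have hn2 : ‖Δ b‖ ≤ f := by
    have := IsCharacter.norm_le hΔ b
    rw [hf] at this
    simpa using this
  have hre : (a : ℝ) * (θ b).re + (Δ b).re = a * d + f := by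
    have := congrArg Complex.re h1
    simpa using this
  have h4 : (θ b).re ≤ d := (Complex.re_le_norm _).trans hn1
  have h5 : (Δ b).re ≤ f := (Complex.re_le_norm _).trans hn2
  have ha0' : (0 : ℝ) < a := by exact_mod_cast ha0
  have h6 : (θ b).re = d := by nlinarith
  have h7 : ‖θ b‖ ^ 2 = (θ b).re * (θ b).re + (θ b).im * (θ b).im := by
    rw [Complex.sq_norm, Complex.normSq_apply]
  have hd0 : (0 : ℝ) ≤ d := Nat.cast_nonneg d
  have h8 : ‖θ b‖ ^ 2 ≤ (d : ℝ) ^ 2 := by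
    have := norm_nonneg (θ b)
    nlinarith
  rw [h6] at h7
  have h9 : (θ b).im = 0 := by nlinarith [mul_self_nonneg (θ b).im]
  rw [hd]
  apply Complex.ext
  · simp [h6]
  · simp [h9]

/-- Let ψ be an irreducible character of the finite group G and B ≤ D ≤ C subgroups with B normal in C, every commutator of an element of D with an element of C lying in B (so D/B is central in C/B), and ψ constant equal to ψ 1 on B. Then ψ(1) ^ 2 * |C| * |D| ≤ |G| ^ 2. -/
theorem result {G : Type*} [Group G] [Finite G] (ψ : G → ℂ) (hψ : Cfsg.IsIrrCharacter G ψ) (B C D : Subgroup G) (hBD : B ≤ D) (hDC : D ≤ C) (hBn : ∀ c ∈ C, ∀ b ∈ B, c * b * c⁻¹ ∈ B) (hcent : ∀ d ∈ D, ∀ c ∈ C, d * c * d⁻¹ * c⁻¹ ∈ B) (hker : ∀ b ∈ B, ψ b = ψ 1) : ‖ψ 1‖ ^ 2 * (Nat.card C : ℝ) * (Nat.card D : ℝ) ≤ (Nat.card G : ℝ) ^ 2 := by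
  classical
  letI := Fintype.ofFinite G
  letI : Fintype C := Fintype.ofFinite C
  obtain ⟨μ, hμ, hne⟩ := exists_under hψ C
  have hresc := isCharacter_resFun C (IsIrrCharacter.isCharacter hψ)
  -- `B` lies in the kernel of `μ`
  have hBk : ∀ b : C, (b : G) ∈ B → μ b = μ 1 :=
    fun b hb => apply_eq_of_constituent hresc hμ hne (hker b hb)
  obtain ⟨n, ρ, hirr, hρ⟩ := id hμ
  haveI := hirr
  have hdeg : μ 1 = (finrank ℂ (Fin n → ℂ) : ℂ) := by
    rw [← hρ, Representation.char_one]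
  have hBtriv : ∀ b : C, (b : G) ∈ B → ρ b = LinearMap.id := by
    intro b hb
    rw [← character_eq_finrank_iff, hρ, ← hdeg]
    exact hBk b hb
  -- `D` acts by scalars
  have hDs : ∀ d : C, (d : G) ∈ D → ‖μ d‖ = ‖μ 1‖ := by
    intro d hd
    obtain ⟨c, hc⟩ := schur_scalar ρ (ρ d) (by
      intro g
      change ρ d * ρ g = ρ g * ρ d
      have h1 : ((d * g * d⁻¹ * g⁻¹ : C) : G) ∈ B := hcent _ hd _ g.2
      have h2 := hBtriv _ h1
      rw [← map_mul, ← map_mul]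
      have h3 : d * g = (d * g * d⁻¹ * g⁻¹) * (g * d) := by group
      rw [h3, map_mul, h2]
      rfl)
    have h1 : ‖μ d‖ = (finrank ℂ (Fin n → ℂ) : ℝ) := by
      rw [← hρ]
      exact (norm_character_eq_finrank_iff ρ d).mpr ⟨c, hc⟩
    rw [h1, hdeg]
    simp
  -- the bound `μ(1)² ≤ [C:D]`
  have hsum := sum_norm_sq_irr hμ
  have hDle : (Nat.card D : ℝ) * ‖μ 1‖ ^ 2 ≤ Nat.card C := by
    rw [← hsum]
    let D' : Finset C := Finset.univ.filter fun c : C => (c : G) ∈ D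
    have h1 : ∑ c ∈ D', ‖μ c‖ ^ 2 ≤ ∑ c : C, ‖μ c‖ ^ 2 :=
      Finset.sum_le_sum_of_subset_of_nonneg (Finset.subset_univ _) fun _ _ _ => by positivity
    have h2 : ∑ c ∈ D', ‖μ c‖ ^ 2 = (D'.card : ℝ) * ‖μ 1‖ ^ 2 := by
      rw [Finset.sum_congr rfl (fun c hc => by rw [hDs c (Finset.mem_filter.mp hc).2]),
        Finset.sum_const, nsmul_eq_mul]
    have h3 : D'.card = Nat.card D := by
      rw [← Fintype.card_subtype, ← Nat.card_eq_fintype_card]
      exact Nat.card_congr ⟨fun c => ⟨c.1, c.2⟩, fun d => ⟨⟨d, hDC d.2⟩, d.2⟩, fun _ => rfl, fun _ => rfl⟩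
    rw [h2, h3] at h1
    exact h1
  -- the degree of `ψ`
  have hind : Cfsg.classInner (Cfsg.indFun C μ) ψ ≠ 0 := by
    rw [classInner_indFun_left C μ ψ (IsCharacter.isClassFunction (IsIrrCharacter.isCharacter hψ))]
    intro h
    apply hne
    rw [classInner_conj_symm]
    have : Cfsg.classInner μ (resFun C ψ) = 0 := h
    rw [this, map_zero]
  have hge := IsCharacter.degree_ge_of_classInner_ne_zero
    (isCharacter_indFun C (IsIrrCharacter.isCharacter hμ)) hψ hind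
  rw [indFun_one] at hge
  have hnormψ : ‖ψ 1‖ = (ψ 1).re := by
    obtain ⟨m, hm⟩ := IsCharacter.apply_one (IsIrrCharacter.isCharacter hψ)
    rw [hm]
    simp
  have hnormμ : ‖μ 1‖ = (μ 1).re := by
    rw [hdeg]
    simp
  have hre : (((C.index : ℂ) * μ 1)).re = (C.index : ℝ) * ‖μ 1‖ := by
    rw [hnormμ]
    simp
  rw [hre, ← hnormψ] at hge
  have hidx : (C.index : ℝ) * (Nat.card C : ℝ) = Nat.card G := by
    exact_mod_cast Subgroup.index_mul_card C
  have hCpos : (0 : ℝ) < Nat.card C := by exact_mod_cast Nat.card_pos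
  have hDpos : (0 : ℝ) < Nat.card D := by exact_mod_cast Nat.card_pos
  have h1 : ‖ψ 1‖ ^ 2 ≤ (C.index : ℝ) ^ 2 * ‖μ 1‖ ^ 2 := by
    rw [← mul_pow]
    exact pow_le_pow_left₀ (norm_nonneg _) hge 2
  calc ‖ψ 1‖ ^ 2 * (Nat.card C : ℝ) * (Nat.card D : ℝ)
      ≤ ((C.index : ℝ) ^ 2 * ‖μ 1‖ ^ 2) * (Nat.card C : ℝ) * (Nat.card D : ℝ) := by gcongr
    _ = (C.index : ℝ) ^ 2 * (Nat.card C : ℝ) * ((Nat.card D : ℝ) * ‖μ 1‖ ^ 2) := by ring
    _ ≤ (C.index : ℝ) ^ 2 * (Nat.card C : ℝ) * (Nat.card C : ℝ) := by gcongr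
    _ = ((C.index : ℝ) * (Nat.card C : ℝ)) ^ 2 := by ring
    _ = (Nat.card G : ℝ) ^ 2 := by rw [hidx]

end Cfsg.Agent.S1492
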