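import Cfsg.Statements.S1516
import Cfsg.Agent.Lib.OddChar.Coh2

set_option autoImplicit false
open Cfsg

namespace Cfsg.Agent.S1516

open Cfsg.Agent.Lib.Char Cfsg.Agent.Lib.OddChar

private theorem zapply {X : Type*} (n : ℤ) (f : X → ℂ) (x : X) : (n • f) x = (n : ℂ) * f x := by
  simp

/-- Let (S, τ, R) be a coherence system from L to G with degrees φ 1 = d φ and squared norms ⟨φ, φ⟩ = n φ for φ ∈ S. Let S₁ ⊆ S be a finite subset closed under complex conjugation such that (S₁, L minus 1, τ) is coherent, let χ ∈ S with χ ∉ S₁ and conj χ ∉ S₁, and let χ₁ ∈ S₁ with d χ₁ dividing d χ and 2 d χ d χ₁ < Σ_{φ ∈ S₁} (d φ)² / n φ. Then S₁ together with χ and conj χ is coherent. -/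
theorem result {L : Type*} [Group L] [Fintype L] {G : Type*} [Group G] [Fintype G] (S : Set (L → ℂ)) (τ : (L → ℂ) → (G → ℂ)) (R : (L → ℂ) → Finset (G → ℂ)) (hS : Cfsg.IsCoherenceSystem S τ R) (d n : (L → ℂ) → ℕ) (hd : ∀ φ ∈ S, φ 1 = (d φ : ℂ)) (hn : ∀ φ ∈ S, Cfsg.classInner φ φ = (n φ : ℂ)) (S₁ : Finset (L → ℂ)) (hS₁ : ↑S₁ ⊆ S) (hS₁c : ∀ φ ∈ S₁, Cfsg.conjFun φ ∈ S₁) (hcoh : Cfsg.IsCoherent (↑S₁ : Set (L → ℂ)) {1}ᶜ τ) (χ : L → ℂ) (hχ : χ ∈ S) (hχ₁ : χ ∉ S₁) (hχ₂ : Cfsg.conjFun χ ∉ S₁) (χ₁ : L → ℂ) (hχ₁S : χ₁ ∈ S₁) (hdvd : d χ₁ ∣ d χ) (hineq : (2 * d χ * d χ₁ : ℝ) < ∑ φ ∈ S₁, ((d φ : ℝ) ^ 2 / (n φ : ℝ))) : Cfsg.IsCoherent (↑S₁ ∪ {χ, Cfsg.conjFun χ} : Set (L → ℂ)) {1}ᶜ τ := by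
  classical
  obtain ⟨-, τ₁, hτ₁, hτ₁τ⟩ := hcoh
  have hE := coh_isom hS
  have hτ₁' : IsLinearIsometryOn ((zspanSub (↑S₁ : Set (L → ℂ)) : Submodule ℤ (L → ℂ)) : Set (L → ℂ)) τ₁ := hτ₁
  have hS₁' : (↑S₁ : Set (L → ℂ)) ⊆ S := hS₁
  have hS₁c' : ∀ φ ∈ (↑S₁ : Set (L → ℂ)), Cfsg.conjFun φ ∈ (↑S₁ : Set (L → ℂ)) := fun φ h => hS₁c φ h
  have hχ₁S' : χ₁ ∈ S := hS₁ hχ₁S
  have hmemS₁ : ∀ φ ∈ S₁, φ ∈ zspanSub (↑S₁ : Set (L → ℂ)) := fun φ h => Submodule.subset_span h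
  have hcχ : Cfsg.conjFun χ ∈ S := hS.conj_mem χ hχ
  have hne : ∀ φ ∈ S₁, φ ≠ χ := fun φ h e => hχ₁ (e ▸ h)
  have hne' : ∀ φ ∈ S₁, φ ≠ Cfsg.conjFun χ := fun φ h e => hχ₂ (e ▸ h)
  have horth1 : ∀ φ ∈ S₁, Cfsg.classInner φ χ = 0 := fun φ h => hS.orthogonal φ (hS₁ h) χ hχ (hne φ h)
  have horth2 : ∀ φ ∈ S₁, Cfsg.classInner φ (Cfsg.conjFun χ) = 0 :=
    fun φ h => hS.orthogonal φ (hS₁ h) _ hcχ (hne' φ h)
  have horth1' : ∀ φ ∈ S₁, Cfsg.classInner χ φ = 0 := fun φ h => classInner_comm_zero (horth1 φ h)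
  have horth2' : ∀ φ ∈ S₁, Cfsg.classInner (Cfsg.conjFun χ) φ = 0 := fun φ h => classInner_comm_zero (horth2 φ h)
  have hχcχ := coh_inner_conj_self hS hχ
  have hτ₁R : ∀ φ ∈ S₁, ∀ α ∈ R χ, Cfsg.classInner (τ₁ φ) α = 0 := by
    intro φ hφ α hα
    refine coh_ext_orth hS hS₁' hS₁c' hτ₁ hτ₁τ hφ (fun β hβ => ?_)
    exact hS.disjoint χ hχ φ (hS₁ hφ) (horth1 φ hφ) (horth2 φ hφ) β hβ α hα
  obtain ⟨a, ha⟩ := hdvd
  have hdχ₁ : (d χ₁ : ℂ) ≠ 0 := by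
    rw [← hd χ₁ hχ₁S']
    exact coh_deg_ne_zero hS hχ₁S'
  have hdχ₁R : (d χ₁ : ℝ) ≠ 0 := by exact_mod_cast hdχ₁
  have hnpos : ∀ φ ∈ S, (0 : ℝ) < (n φ : ℝ) := by
    intro φ hφ
    have h1 := classInner_self_ne_zero (coh_ne_zero hS hφ)
    rw [hn φ hφ] at h1
    have h2 : n φ ≠ 0 := by
      intro h
      apply h1
      rw [h]
      simp
    exact_mod_cast Nat.pos_of_ne_zero h2
  have hχre : (Cfsg.classInner χ χ).re = (n χ : ℝ) := by
    rw [hn χ hχ]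
    simp
  let γ₀ : L → ℂ := χ - (a : ℤ) • χ₁
  have hγ₀val : γ₀ 1 = 0 := by
    simp only [γ₀, Pi.sub_apply, zapply, hd χ hχ, hd χ₁ hχ₁S', ha]
    push_cast
    ring
  have hγ₀ : γ₀ ∈ zspanOnSub S {1}ᶜ :=
    mem_zspanOn_of (sub_mem_zspan (mem_zspan_of_mem hχ)
      (Submodule.smul_mem _ _ (mem_zspan_of_mem hχ₁S'))) hγ₀val
  have hTmem := coh_sub_conj_mem hS hχ
  let X : G → ℂ := τ γ₀
  let T : G → ℂ := τ (χ - Cfsg.conjFun χ)
  let W : G → ℂ := τ₁ ((a : ℤ) • χ₁)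
  have hWmem : (a : ℤ) • χ₁ ∈ zspanSub (↑S₁ : Set (L → ℂ)) := Submodule.smul_mem _ _ (hmemS₁ χ₁ hχ₁S)
  have hWdef : W = (a : ℤ) • τ₁ χ₁ := IsoLat.map_zsmul hτ₁' (hmemS₁ χ₁ hχ₁S) a
  let y : G → ℂ := X + W
  have hXv : IsGeneralizedCharacter G X := IsoLat.virtual hE hγ₀
  have hTv : IsGeneralizedCharacter G T := IsoLat.virtual hE hTmem
  have hWv : IsGeneralizedCharacter G W := IsoLat.virtual hτ₁' hWmem
  have hyv : IsGeneralizedCharacter G y := IsGeneralizedCharacter.add hXv hWv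
  -- `y` is orthogonal to the image of the combinations vanishing at `1`
  have hH : ∀ γ ∈ Cfsg.zspanOn (↑S₁ : Set (L → ℂ)) {1}ᶜ, Cfsg.classInner y (τ₁ γ) = 0 := by
    intro γ hγ
    have hγS : γ ∈ zspanOnSub S {1}ᶜ := zspanOn_mono hS₁' hγ
    have hγS₁ : γ ∈ zspanSub (↑S₁ : Set (L → ℂ)) := hγ.1
    have h0 : Cfsg.classInner χ γ = 0 :=
      classInner_comm_zero (classInner_left_eq_zero_of_span (fun s hs => horth1 s hs) hγ.1)
    show Cfsg.classInner (τ γ₀ + τ₁ ((a : ℤ) • χ₁)) (τ₁ γ) = 0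
    rw [classInner_add_left, hτ₁τ γ hγ, IsoLat.inner hE hγ₀ hγS, ← hτ₁τ γ hγ,
      IsoLat.inner hτ₁' hWmem hγS₁]
    simp only [γ₀, classInner_sub_left, h0, sub_add_cancel]
  obtain ⟨b, hb⟩ := IsGeneralizedCharacter.classInner_int hyv (IsoLat.virtual hτ₁' (hmemS₁ χ₁ hχ₁S))
  have hval : ∀ φ ∈ S₁, (d χ₁ : ℂ) * Cfsg.classInner y (τ₁ φ) = (d φ : ℂ) * (b : ℂ) := by
    intro φ hφ
    have hφS := hS₁ hφ
    have hmem : ((d χ₁ : ℤ) • φ - (d φ : ℤ) • χ₁) ∈ Cfsg.zspanOn (↑S₁ : Set (L → ℂ)) {1}ᶜ := by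
      refine mem_zspanOn_of (sub_mem_zspan (Submodule.smul_mem _ _ (hmemS₁ φ hφ))
        (Submodule.smul_mem _ _ (hmemS₁ χ₁ hχ₁S))) ?_
      simp only [Pi.sub_apply, zapply, hd φ hφS, hd χ₁ hχ₁S']
      push_cast
      ring
    have h1 := hH _ hmem
    rw [IsoLat.map_sub hτ₁' (Submodule.smul_mem _ _ (hmemS₁ φ hφ)) (Submodule.smul_mem _ _ (hmemS₁ χ₁ hχ₁S)),
      IsoLat.map_zsmul hτ₁' (hmemS₁ φ hφ), IsoLat.map_zsmul hτ₁' (hmemS₁ χ₁ hχ₁S)] at h1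
    simp only [classInner_sub_right, classInner_zsmul_right, hb] at h1
    push_cast at h1
    linear_combination h1
  -- norm of `y`
  have hn₁ := hn χ₁ hχ₁S'
  have hχχ₁ := horth1' χ₁ hχ₁S
  have hχ₁χ := horth1 χ₁ hχ₁S
  have hXX : Cfsg.classInner X X = (n χ : ℂ) + (a : ℂ) ^ 2 * (n χ₁ : ℂ) := by
    show Cfsg.classInner (τ γ₀) (τ γ₀) = _
    rw [IsoLat.inner hE hγ₀ hγ₀]
    simp only [γ₀, classInner_sub_left, classInner_sub_right, classInner_zsmul_left, classInner_zsmul_right,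
      hχχ₁, hχ₁χ, hn₁, hn χ hχ]
    push_cast
    ring
  have hWW : Cfsg.classInner W W = (a : ℂ) ^ 2 * (n χ₁ : ℂ) := by
    show Cfsg.classInner (τ₁ _) (τ₁ _) = _
    rw [IsoLat.inner hτ₁' hWmem hWmem]
    simp only [classInner_zsmul_left, classInner_zsmul_right, hn₁]
    push_cast
    ring
  have hyW : Cfsg.classInner y W = (a : ℂ) * (b : ℂ) := by
    rw [hWdef, classInner_zsmul_right, hb]
    push_cast
    ring
  have hyWadd : Cfsg.classInner X W + Cfsg.classInner W W = (a : ℂ) * (b : ℂ) := by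
    rw [← hyW]
    show _ = Cfsg.classInner (X + W) W
    rw [classInner_add_left]
  have hconjb : (starRingEnd ℂ) ((a : ℂ) * (b : ℂ)) = (a : ℂ) * (b : ℂ) := by
    simp
  have hWyadd : Cfsg.classInner W X + Cfsg.classInner W W = (a : ℂ) * (b : ℂ) := by
    have h1 : Cfsg.classInner W y = (a : ℂ) * (b : ℂ) := by
      rw [classInner_conj_symm, hyW, hconjb]
    rw [← h1]
    show _ = Cfsg.classInner W (X + W)
    rw [classInner_add_right]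
  have hyy : Cfsg.classInner y y = (n χ : ℂ) + 2 * (a : ℂ) * (b : ℂ) := by
    show Cfsg.classInner (X + W) (X + W) = _
    simp only [classInner_add_left, classInner_add_right]
    rw [hXX]
    have e1 : Cfsg.classInner X W = (a : ℂ) * (b : ℂ) - (a : ℂ) ^ 2 * (n χ₁ : ℂ) := by
      rw [← hyWadd, hWW]
      ring
    have e2 : Cfsg.classInner W X = (a : ℂ) * (b : ℂ) - (a : ℂ) ^ 2 * (n χ₁ : ℂ) := by
      rw [← hWyadd, hWW]
      ring
    rw [e1, e2, hWW]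
    ring
  have hyyre : (Cfsg.classInner y y).re = (n χ : ℝ) + 2 * (a : ℝ) * (b : ℝ) := by
    rw [hyy]
    simp
  -- on `R χ`
  have hRχ : ∀ α ∈ R χ, Cfsg.classInner y α = Cfsg.classInner X α := by
    intro α hα
    show Cfsg.classInner (X + W) α = _
    rw [classInner_add_left, hWdef, classInner_zsmul_left, hτ₁R χ₁ hχ₁S α hα, mul_zero, add_zero]
  have hspan₁ : Cfsg.zspan {χ - (a : ℤ) • χ₁, χ - Cfsg.conjFun χ} ⊆
      ((zspanOnSub S {1}ᶜ : Submodule ℤ (L → ℂ)) : Set (L → ℂ)) := by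
    refine Submodule.span_le.mpr ?_
    rintro x (rfl | rfl)
    · exact hγ₀
    · exact hTmem
  obtain ⟨a1, -⟩ := Cfsg.Agent.S1515.result S τ R hS χ hχ ((a : ℤ) • χ₁)
    (Submodule.smul_mem _ _ (mem_zspan_of_mem hχ₁S'))
    (by rw [classInner_zsmul_right, hχχ₁, mul_zero]) (by rw [classInner_zsmul_right, horth2' χ₁ hχ₁S, mul_zero])
    τ (isLinearIsometryOn_mono hspan₁ hE) (fun _ => rfl)
  have a1' : (n χ : ℝ) ≤ ∑ α ∈ R χ, ‖Cfsg.classInner y α‖ ^ 2 := by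
    rw [hχre] at a1
    refine a1.trans (le_of_eq (Finset.sum_congr rfl fun α hα => ?_))
    rw [hRχ α hα]
  -- Bessel
  have hbes := bessel (S₁.disjSum (R χ)) (Sum.elim τ₁ id) (Sum.elim (fun φ => (n φ : ℝ)) (fun _ => (1 : ℝ))) ?_ ?_ y
  rotate_left
  · rintro (φ | α) hi
    · simp only [Finset.inl_mem_disjSum] at hi
      simpa using hnpos φ (hS₁ hi)
    · simp
  · rintro (φ | α) hi (φ' | α') hj
    · simp only [Finset.inl_mem_disjSum] at hi hj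
      simp only [Sum.elim_inl]
      rw [IsoLat.inner hτ₁' (hmemS₁ φ hi) (hmemS₁ φ' hj)]
      by_cases e : φ = φ'
      · subst e
        rw [hn φ (hS₁ hi)]
        simp
      · rw [hS.orthogonal φ (hS₁ hi) φ' (hS₁ hj) e]
        simp [e]
    · simp only [Finset.inl_mem_disjSum, Finset.inr_mem_disjSum] at hi hj
      simpa using hτ₁R φ hi α' hj
    · simp only [Finset.inl_mem_disjSum, Finset.inr_mem_disjSum] at hi hj
      simpa using classInner_comm_zero (hτ₁R φ' hj α hi)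
    · simp only [Finset.inr_mem_disjSum] at hi hj
      by_cases e : α = α'
      · subst e
        simpa using coh_ortho_self hS hχ hi
      · simpa [e] using coh_ortho_ne hS hχ hi hj e
  rw [Finset.sum_disjSum] at hbes
  simp only [Sum.elim_inl, Sum.elim_inr, id, div_one] at hbes
  -- the values on `S₁`
  have hvalφ : ∀ φ ∈ S₁, ‖Cfsg.classInner y (τ₁ φ)‖ ^ 2 / (n φ : ℝ) =
      ((b : ℝ) / (d χ₁ : ℝ)) ^ 2 * ((d φ : ℝ) ^ 2 / (n φ : ℝ)) := by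
    intro φ hφ
    have h1 : Cfsg.classInner y (τ₁ φ) = (((d φ : ℝ) * (b : ℝ) / (d χ₁ : ℝ) : ℝ) : ℂ) := by
      have h2 := hval φ hφ
      push_cast
      field_simp
      linear_combination h2
    rw [h1, Complex.norm_real, Real.norm_eq_abs, sq_abs]
    field_simp
  rw [Finset.sum_congr rfl hvalφ, ← Finset.mul_sum] at hbes
  have hb0 : b = 0 := by
    by_contra hbne
    have hbR : (b : ℝ) ≠ 0 := by exact_mod_cast hbne
    have hdeg : (d χ : ℝ) = (d χ₁ : ℝ) * (a : ℝ) := by exact_mod_cast ha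
    rw [hdeg] at hineq
    have hsqpos : 0 < ((b : ℝ) / (d χ₁ : ℝ)) ^ 2 := by positivity
    have h1 := mul_lt_mul_of_pos_left hineq hsqpos
    have h2 : ((b : ℝ) / (d χ₁ : ℝ)) ^ 2 * (2 * ((d χ₁ : ℝ) * (a : ℝ)) * (d χ₁ : ℝ)) = 2 * (a : ℝ) * (b : ℝ) ^ 2 := by
      field_simp
    rw [h2] at h1
    rw [hyyre] at hbes
    have h3 : 2 * (a : ℝ) * (b : ℝ) ^ 2 < 2 * (a : ℝ) * (b : ℝ) := by linarith
    have ha0 : (0 : ℝ) ≤ (a : ℝ) := by positivity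
    have ha1 : (0 : ℝ) < (a : ℝ) := by
      rcases ha0.lt_or_eq with h | h
      · exact h
      · rw [← h] at h3
        simp at h3
    have h4 : (b : ℝ) ^ 2 < (b : ℝ) := by
      have h5 : 0 < 2 * (a : ℝ) := by positivity
      nlinarith
    have h5 : b ^ 2 < b := by exact_mod_cast h4
    nlinarith
  have hb0C : (b : ℂ) = 0 := by rw [hb0]; simp
  have hyφ : ∀ φ ∈ S₁, Cfsg.classInner y (τ₁ φ) = 0 := by
    intro φ hφ
    have h1 := hval φ hφ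
    rw [hb0C, mul_zero] at h1
    exact (mul_eq_zero.mp h1).resolve_left hdχ₁
  have hyθ : ∀ θ ∈ zspanSub (↑S₁ : Set (L → ℂ)), Cfsg.classInner y (τ₁ θ) = 0 := by
    intro θ hθ
    have := classInner_span_induction (S := (↑S₁ : Set (L → ℂ))) hτ₁ y 0 (by simp)
      (fun s hs => by simpa using hyφ s hs) hθ
    simpa using this
  have hTθ : ∀ θ ∈ zspanSub (↑S₁ : Set (L → ℂ)), Cfsg.classInner T (τ₁ θ) = 0 := by
    intro θ hθ
    have := classInner_span_induction (S := (↑S₁ : Set (L → ℂ))) hτ₁ T 0 (by simp)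
      (fun s hs => by
        simp only [AddMonoidHom.zero_apply]
        apply classInner_comm_zero
        show Cfsg.classInner (τ₁ s) (τ (χ - Cfsg.conjFun χ)) = 0
        rw [coh_inner_T hS hχ]
        exact Finset.sum_eq_zero fun α hα => hτ₁R s hs α hα) hθ
    simpa using this
  have hyT : Cfsg.classInner y T = (n χ : ℂ) := by
    show Cfsg.classInner y (τ (χ - Cfsg.conjFun χ)) = _
    rw [coh_inner_T hS hχ, Finset.sum_congr rfl hRχ, ← coh_inner_T hS hχ]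
    show Cfsg.classInner (τ γ₀) (τ (χ - Cfsg.conjFun χ)) = _
    rw [IsoLat.inner hE hγ₀ hTmem]
    simp only [γ₀, classInner_sub_left, classInner_sub_right, classInner_zsmul_left, hχcχ, hχ₁χ,
      horth2 χ₁ hχ₁S, hn χ hχ]
    simp
  have hTy : Cfsg.classInner T y = (n χ : ℂ) := by
    rw [classInner_conj_symm, hyT]
    simp
  have hTT : Cfsg.classInner T T = 2 * (n χ : ℂ) := by
    show Cfsg.classInner (τ _) (τ _) = _
    rw [IsoLat.inner hE hTmem hTmem]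
    simp only [classInner_sub_left, classInner_sub_right, hχcχ, classInner_comm_zero hχcχ, coh_inner_self_conj,
      hn χ hχ]
    ring
  have hyy0 : Cfsg.classInner y y = (n χ : ℂ) := by
    rw [hyy, hb0C]
    ring
  -- the isometry
  let y' : G → ℂ := y - T
  have hy'v : IsGeneralizedCharacter G y' := IsGeneralizedCharacter.sub hyv hTv
  have hy'y' : Cfsg.classInner y' y' = (n χ : ℂ) := by
    simp only [y', classInner_sub_left, classInner_sub_right, hyy0, hyT, hTy, hTT]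
    ring
  have hyy' : Cfsg.classInner y y' = 0 := by
    simp only [y', classInner_sub_right, hyy0, hyT, sub_self]
  obtain ⟨σ₁, hσ₁, hσ₁n⟩ := exists_isometry_zsmul χ y hyv (by rw [hyy0, hn χ hχ])
  obtain ⟨σ₂, hσ₂, hσ₂n⟩ := exists_isometry_zsmul (Cfsg.conjFun χ) y' hy'v
    (by rw [hy'y', coh_inner_self_conj, hn χ hχ])
  obtain ⟨σ₃, hσ₃, hσ₃₁, hσ₃₂⟩ := exists_isometry_sup (Submodule.span ℤ {χ}) (Submodule.span ℤ {Cfsg.conjFun χ})
    σ₁ σ₂ hσ₁ hσ₂ (by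
      intro u hu v hv
      obtain ⟨p, rfl⟩ := Submodule.mem_span_singleton.mp hu
      obtain ⟨q, rfl⟩ := Submodule.mem_span_singleton.mp hv
      rw [hσ₁n, hσ₂n]
      simp only [classInner_zsmul_left, classInner_zsmul_right, hyy', hχcχ])
  have hσ₃val : ∀ p q : ℤ, σ₃ (p • χ + q • Cfsg.conjFun χ) = p • y + q • y' := by
    intro p q
    have h1 : p • χ ∈ Submodule.span ℤ {χ} := Submodule.smul_mem _ _ (Submodule.mem_span_singleton_self _)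
    have h2 : q • Cfsg.conjFun χ ∈ Submodule.span ℤ {Cfsg.conjFun χ} :=
      Submodule.smul_mem _ _ (Submodule.mem_span_singleton_self _)
    rw [IsoLat.map_add hσ₃ (Submodule.mem_sup_left h1) (Submodule.mem_sup_right h2), hσ₃₁ _ h1, hσ₃₂ _ h2,
      hσ₁n, hσ₂n]
  obtain ⟨ρ, hρ, hρ₁, hρ₂⟩ := exists_isometry_sup (zspanSub (↑S₁ : Set (L → ℂ)))
    (Submodule.span ℤ {χ} ⊔ Submodule.span ℤ {Cfsg.conjFun χ}) τ₁ σ₃ hτ₁' hσ₃ (by
      intro u hu v hv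
      obtain ⟨b₁, hb₁, b₂, hb₂, rfl⟩ := Submodule.mem_sup.mp hv
      obtain ⟨p, rfl⟩ := Submodule.mem_span_singleton.mp hb₁
      obtain ⟨q, rfl⟩ := Submodule.mem_span_singleton.mp hb₂
      have hu1 : Cfsg.classInner u χ = 0 := classInner_left_eq_zero_of_span (fun s hs => horth1 s hs) hu
      have hu2 : Cfsg.classInner u (Cfsg.conjFun χ) = 0 := classInner_left_eq_zero_of_span (fun s hs => horth2 s hs) hu
      have hu3 : Cfsg.classInner (τ₁ u) y = 0 := classInner_comm_zero (hyθ u hu)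
      have hu4 : Cfsg.classInner (τ₁ u) T = 0 := classInner_comm_zero (hTθ u hu)
      rw [hσ₃val]
      simp only [y', classInner_add_right, classInner_zsmul_right, classInner_sub_right, hu1, hu2, hu3, hu4]
      simp)
  have hspan : Cfsg.zspan ((↑S₁ : Set (L → ℂ)) ∪ {χ, Cfsg.conjFun χ}) =
      ((zspanSub (↑S₁ : Set (L → ℂ)) ⊔ (Submodule.span ℤ {χ} ⊔ Submodule.span ℤ {Cfsg.conjFun χ}) :
        Submodule ℤ (L → ℂ)) : Set (L → ℂ)) := by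
    have h1 : Submodule.span ℤ ({χ, Cfsg.conjFun χ} : Set (L → ℂ)) =
        Submodule.span ℤ {χ} ⊔ Submodule.span ℤ {Cfsg.conjFun χ} := Submodule.span_insert _ _
    simp only [Cfsg.zspan, zspanSub, Submodule.span_union, h1]
  refine ⟨⟨χ - Cfsg.conjFun χ, ⟨?_, hTmem.2⟩, ?_⟩, ρ, hspan ▸ hρ, ?_⟩
  · exact sub_mem_zspan (mem_zspan_of_mem (Or.inr (Or.inl rfl))) (mem_zspan_of_mem (Or.inr (Or.inr rfl)))
  · intro h0
    exact hS.conj_ne χ hχ (sub_eq_zero.mp h0).symm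
  · intro θ hθ
    have hθ' : θ ∈ (zspanSub (↑S₁ : Set (L → ℂ)) ⊔ (Submodule.span ℤ {χ} ⊔ Submodule.span ℤ {Cfsg.conjFun χ}) :
        Submodule ℤ (L → ℂ)) := by
      have : θ ∈ Cfsg.zspan ((↑S₁ : Set (L → ℂ)) ∪ {χ, Cfsg.conjFun χ}) := hθ.1
      rw [hspan] at this
      exact this
    have hθ1 : θ 1 = 0 := hθ.2 1 (by simp)
    obtain ⟨θ₀, hθ₀, v, hv, rfl⟩ := Submodule.mem_sup.mp hθ'
    obtain ⟨b₁, hb₁, b₂, hb₂, rfl⟩ := Submodule.mem_sup.mp hv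
    obtain ⟨p, rfl⟩ := Submodule.mem_span_singleton.mp hb₁
    obtain ⟨q, rfl⟩ := Submodule.mem_span_singleton.mp hb₂
    have hcone : Cfsg.conjFun χ 1 = (d χ : ℂ) := by rw [coh_conj_one hS hχ, hd χ hχ]
    have hθ2 : θ₀ 1 + (p : ℂ) * (d χ : ℂ) + (q : ℂ) * (d χ : ℂ) = 0 := by
      simp only [Pi.add_apply, zapply, hd χ hχ, hcone] at hθ1
      linear_combination hθ1
    let θ' : L → ℂ := θ₀ + ((p + q) * (a : ℤ)) • χ₁
    have hθ'S₁ : θ' ∈ Cfsg.zspanOn (↑S₁ : Set (L → ℂ)) {1}ᶜ := by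
      refine mem_zspanOn_of (Submodule.add_mem _ hθ₀ (Submodule.smul_mem _ _ (hmemS₁ χ₁ hχ₁S))) ?_
      simp only [θ', Pi.add_apply, zapply, hd χ₁ hχ₁S']
      rw [ha] at hθ2
      push_cast at hθ2 ⊢
      linear_combination hθ2
    have hθ'S : θ' ∈ zspanOnSub S {1}ᶜ := zspanOn_mono hS₁' hθ'S₁
    have hdecomp : θ₀ + (p • χ + q • Cfsg.conjFun χ) = θ' + ((p + q) • γ₀ - q • (χ - Cfsg.conjFun χ)) := by
      funext x
      simp only [θ', γ₀, Pi.add_apply, Pi.sub_apply, zapply]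
      push_cast
      ring
    have hτval : τ (θ₀ + (p • χ + q • Cfsg.conjFun χ)) = τ₁ θ' + ((p + q) • X - q • T) := by
      rw [hdecomp, IsoLat.map_add hE hθ'S (Submodule.sub_mem _ (Submodule.smul_mem _ _ hγ₀)
        (Submodule.smul_mem _ _ hTmem)), IsoLat.map_sub hE (Submodule.smul_mem _ _ hγ₀)
        (Submodule.smul_mem _ _ hTmem), IsoLat.map_zsmul hE hγ₀, IsoLat.map_zsmul hE hTmem, hτ₁τ θ' hθ'S₁]
    rw [hτval, IsoLat.map_add hρ (Submodule.mem_sup_left hθ₀) (Submodule.mem_sup_right hv), hρ₁ _ hθ₀,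
      hρ₂ _ hv, hσ₃val]
    have hτ₁θ' : τ₁ θ' = τ₁ θ₀ + ((p + q) * (a : ℤ)) • τ₁ χ₁ := by
      simp only [θ']
      rw [IsoLat.map_add hτ₁' hθ₀ (Submodule.smul_mem _ _ (hmemS₁ χ₁ hχ₁S)), IsoLat.map_zsmul hτ₁' (hmemS₁ χ₁ hχ₁S)]
    rw [hτ₁θ']
    funext x
    simp only [y', y, hWdef, Pi.add_apply, Pi.sub_apply, zapply]
    push_cast
    ring

end Cfsg.Agent.S1516
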