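import Cfsg.Statements.S1517
import Cfsg.Agent.Lib.OddChar.Coh

set_option autoImplicit false
open Cfsg

namespace Cfsg.Agent.S1517

open Cfsg.Agent.Lib.Char Cfsg.Agent.Lib.OddChar

private theorem zapply {X : Type*} (n : ℤ) (f : X → ℂ) (x : X) : (n • f) x = (n : ℂ) * f x := by
  simp

/-- Let (S, τ, R) be a coherence system from L to G such that φ 1 = ψ 1 for all φ, ψ ∈ S. Then (S, L minus 1, τ) is coherent. -/
theorem result {L : Type*} [Group L] [Fintype L] {G : Type*} [Group G] [Fintype G] (S : Set (L → ℂ)) (τ : (L → ℂ) → (G → ℂ)) (R : (L → ℂ) → Finset (G → ℂ)) (hS : Cfsg.IsCoherenceSystem S τ R) (hdeg : ∀ φ ∈ S, ∀ ψ ∈ S, φ 1 = ψ 1) : Cfsg.IsCoherent S {1}ᶜ τ := by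
  classical
  obtain ⟨χ₁, hχ₁⟩ := hS.nonempty
  have hE := coh_isom hS
  have hc₁ : Cfsg.conjFun χ₁ ∈ S := hS.conj_mem χ₁ hχ₁
  obtain ⟨n₁, hn₁⟩ := classInner_self_eq_nat (hS.isCharacter χ₁ hχ₁)
  have hcard : (R χ₁).card = 2 * n₁ := by
    have h := coh_card hS hχ₁
    rw [hn₁] at h
    exact_mod_cast h
  have hdec : ∀ {φ}, φ ∈ S → χ₁ - φ ∈ zspanOnSub S {1}ᶜ := fun {φ} hφ =>
    coh_sub_mem hχ₁ hφ (hdeg χ₁ hχ₁ φ hφ)
  have hT : ∀ {ξ}, ξ ∈ S → χ₁ - Cfsg.conjFun ξ ∈ zspanOnSub S {1}ᶜ := fun {ξ} hξ =>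
    hdec (hS.conj_mem ξ hξ)
  -- the integers `a`
  obtain ⟨a, ha01, hasum, hclaim⟩ : ∃ a : (G → ℂ) → ℂ, (∀ α ∈ R χ₁, a α = 0 ∨ a α = 1) ∧
      ∑ α ∈ R χ₁, a α = (n₁ : ℂ) ∧
      ∀ φ ∈ S, φ ≠ χ₁ → φ ≠ Cfsg.conjFun χ₁ →
        Cfsg.classInner (∑ α ∈ R χ₁, a α • α) (τ (χ₁ - φ)) = (n₁ : ℂ) := by
    by_cases h : ∃ φ₀ ∈ S, φ₀ ≠ χ₁ ∧ φ₀ ≠ Cfsg.conjFun χ₁
    · obtain ⟨φ₀, hφ₀, h1, h2⟩ := h
      obtain ⟨p1, p2, p3⟩ := coh_pair hS hχ₁ hφ₀ h1 h2 (hdeg χ₁ hχ₁ φ₀ hφ₀)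
      refine ⟨fun α => Cfsg.classInner (τ (χ₁ - φ₀)) α, p1, ?_, ?_⟩
      · rw [coh_sum_inner hS hχ₁ (hdec hφ₀), classInner_sub_left, classInner_sub_right,
          classInner_sub_right, coh_inner_conj_self hS hχ₁,
          hS.orthogonal φ₀ hφ₀ _ hχ₁ h1, hS.orthogonal φ₀ hφ₀ _ hc₁ h2, hn₁]
        simp
      · -- the key computation
        intro φ hφ h3 h4
        have hsq : ∑ α ∈ R χ₁, ‖Cfsg.classInner (τ (χ₁ - φ₀)) α‖ ^ 2 = (n₁ : ℝ) := by
          rw [p2, hn₁]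
          simp
        have hself : Cfsg.classInner (∑ α ∈ R χ₁, Cfsg.classInner (τ (χ₁ - φ₀)) α • α) (τ (χ₁ - φ₀)) =
            (n₁ : ℂ) := by
          rw [classInner_sum_left]
          have h5 : ∀ α ∈ R χ₁, Cfsg.classInner (Cfsg.classInner (τ (χ₁ - φ₀)) α • α) (τ (χ₁ - φ₀)) =
              ((‖Cfsg.classInner (τ (χ₁ - φ₀)) α‖ ^ 2 : ℝ) : ℂ) := by
            intro α _
            rw [classInner_smul_left, classInner_conj_symm α, Complex.mul_conj, Complex.normSq_eq_norm_sq]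
          rw [Finset.sum_congr rfl h5, ← Complex.ofReal_sum, hsq]
          simp
        -- orthogonality of `Y` to `R φ₀`
        have hYQ : ∀ β ∈ R φ₀, Cfsg.classInner (∑ α ∈ R χ₁, Cfsg.classInner (τ (χ₁ - φ₀)) α • α) β = 0 := by
          intro β hβ
          rw [classInner_sum_left]
          refine Finset.sum_eq_zero fun α hα => ?_
          rw [classInner_smul_left, classInner_comm_zero (hS.disjoint χ₁ hχ₁ φ₀ hφ₀
            (hS.orthogonal φ₀ hφ₀ _ hχ₁ h1) (hS.orthogonal φ₀ hφ₀ _ hc₁ h2) β hβ α hα), mul_zero]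
        by_cases h5 : φ = φ₀
        · subst h5
          exact hself
        by_cases h6 : φ = Cfsg.conjFun φ₀
        · subst h6
          have e : χ₁ - Cfsg.conjFun φ₀ = (χ₁ - φ₀) + (φ₀ - Cfsg.conjFun φ₀) := by abel
          rw [e, IsoLat.map_add hE (hdec hφ₀) (coh_sub_conj_mem hS hφ₀), classInner_add_right, hself,
            coh_inner_T hS hφ₀, Finset.sum_eq_zero hYQ, add_zero]
        · -- general position
          obtain ⟨-, -, q3⟩ := coh_pair hS hχ₁ hφ h3 h4 (hdeg χ₁ hχ₁ φ hφ)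
          have h7 : φ₀ ≠ φ := fun e => h5 e.symm
          have h8 : φ₀ ≠ Cfsg.conjFun φ := by
            intro e
            apply h6
            rw [e, conjFun_conjFun]
          have hβφ : ∀ β ∈ R φ₀, Cfsg.classInner β (τ (χ₁ - φ)) = 0 := by
            intro β hβ
            rw [q3, classInner_add_right, classInner_sum_right, classInner_sum_right]
            rw [Finset.sum_eq_zero, Finset.sum_eq_zero, add_zero]
            · intro β' hβ'
              rw [classInner_smul_right, hS.disjoint φ hφ φ₀ hφ₀ (hS.orthogonal φ₀ hφ₀ φ hφ h7)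
                (hS.orthogonal φ₀ hφ₀ _ (hS.conj_mem φ hφ) h8) β hβ β' hβ', mul_zero]
            · intro α hα
              rw [classInner_smul_right, hS.disjoint χ₁ hχ₁ φ₀ hφ₀ (hS.orthogonal φ₀ hφ₀ _ hχ₁ h1)
                (hS.orthogonal φ₀ hφ₀ _ hc₁ h2) β hβ α hα, mul_zero]
          have hY : ∑ α ∈ R χ₁, Cfsg.classInner (τ (χ₁ - φ₀)) α • α = τ (χ₁ - φ₀) -
              ∑ β ∈ R φ₀, Cfsg.classInner (τ (χ₁ - φ₀)) β • β := by
            exact eq_sub_of_add_eq p3.symm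
          rw [hY, classInner_sub_left, IsoLat.inner hE (hdec hφ₀) (hdec hφ), classInner_sum_left,
            Finset.sum_eq_zero, classInner_sub_left, classInner_sub_right, classInner_sub_right,
            hS.orthogonal φ₀ hφ₀ _ hχ₁ h1, hS.orthogonal χ₁ hχ₁ φ hφ h3.symm,
            hS.orthogonal φ₀ hφ₀ φ hφ h7, hn₁]
          · simp
          · intro β hβ
            rw [classInner_smul_left, hβφ β hβ, mul_zero]
    · obtain ⟨A, hA, hAc⟩ := Finset.exists_subset_card_eq (s := R χ₁) (n := n₁) (by omega)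
      refine ⟨fun α => if α ∈ A then 1 else 0, fun α _ => ?_, ?_, ?_⟩
      · by_cases h : α ∈ A <;> simp [h]
      · rw [Finset.sum_ite_mem, Finset.inter_eq_right.mpr hA]
        simp [hAc]
      · intro φ hφ h3 h4
        exact absurd ⟨φ, hφ, h3, h4⟩ h
  set Y : G → ℂ := ∑ α ∈ R χ₁, a α • α with hYdef
  have hYα : ∀ β ∈ R χ₁, Cfsg.classInner Y β = a β := by
    intro β hβ
    rw [hYdef, classInner_sum_left, Finset.sum_eq_single β]
    · rw [classInner_smul_left, coh_ortho_self hS hχ₁ hβ, mul_one]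
    · intro γ hγ hne
      rw [classInner_smul_left, coh_ortho_ne hS hχ₁ hγ hβ hne, mul_zero]
    · intro h
      exact absurd hβ h
  have hY_T : Cfsg.classInner Y (τ (χ₁ - Cfsg.conjFun χ₁)) = (n₁ : ℂ) := by
    rw [coh_inner_T hS hχ₁, Finset.sum_congr rfl hYα, hasum]
  have hYY : Cfsg.classInner Y Y = Cfsg.classInner χ₁ χ₁ := by
    conv_lhs => rhs; rw [hYdef]
    rw [classInner_sum_right, hn₁, ← hasum]
    refine Finset.sum_congr rfl fun α hα => ?_
    rw [classInner_smul_right, hYα α hα]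
    rcases ha01 α hα with h | h <;> rw [h] <;> simp
  have hYv : IsGeneralizedCharacter G Y := by
    rw [hYdef]
    refine Finset.sum_induction _ (IsGeneralizedCharacter G) (fun _ _ h1 h2 => IsGeneralizedCharacter.add h1 h2) ?_ ?_
    · have h0 := hS.virtual χ₁ hχ₁
      have hv := (hS.isometry).2.2.2 _ (coh_sub_conj_mem hS hχ₁)
      simpa using IsGeneralizedCharacter.sub hv hv
    · intro α hα
      rcases ha01 α hα with h | h
      · rw [h, zero_smul]
        have hv := (hS.isometry).2.2.2 _ (coh_sub_conj_mem hS hχ₁)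
        simpa using IsGeneralizedCharacter.sub hv hv
      · rw [h, one_smul]
        exact hS.virtual χ₁ hχ₁ α hα
  -- the generators
  let gens : Set (L → ℂ) := {γ | ∃ φ ∈ S, γ = χ₁ - φ}
  have hgens_le : Cfsg.zspan gens ⊆ ((zspanOnSub S {1}ᶜ : Submodule ℤ (L → ℂ)) : Set (L → ℂ)) := by
    refine Submodule.span_le.mpr ?_
    rintro x ⟨φ, hφ, rfl⟩
    exact hdec hφ
  let fχ : (L → ℂ) →+ ℂ :=
    { toFun := fun γ => Cfsg.classInner χ₁ γ
      map_zero' := classInner_zero_right _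
      map_add' := fun a b => classInner_add_right _ _ _ }
  have hkey : ∀ γ ∈ Cfsg.zspan gens, Cfsg.classInner Y (τ γ) = Cfsg.classInner χ₁ γ := by
    intro γ hγ
    refine classInner_span_induction (S := gens) (isLinearIsometryOn_mono hgens_le hE) Y fχ ?_ ?_ hγ
    · intro n b
      show Cfsg.classInner χ₁ (n • b) = (n : ℂ) * Cfsg.classInner χ₁ b
      exact classInner_zsmul_right n _ _
    · rintro x ⟨φ, hφ, rfl⟩
      show Cfsg.classInner Y (τ (χ₁ - φ)) = Cfsg.classInner χ₁ (χ₁ - φ)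
      by_cases h3 : φ = χ₁
      · subst h3
        rw [sub_self, IsoLat.map_zero hE, classInner_zero_right, classInner_zero_right]
      by_cases h4 : φ = Cfsg.conjFun χ₁
      · subst h4
        rw [hY_T, classInner_sub_right, coh_inner_conj_self hS hχ₁, hn₁, sub_zero]
      · rw [hclaim φ hφ h3 h4, classInner_sub_right, hS.orthogonal χ₁ hχ₁ φ hφ (fun e => h3 e.symm), hn₁, sub_zero]
  -- decomposition of the span
  have hd1 : χ₁ 1 ≠ 0 := by
    intro h0
    have h1 := eq_zero_of_apply_one_eq_zero (hS.isCharacter χ₁ hχ₁) h0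
    apply hS.conj_ne χ₁ hχ₁
    rw [h1]
    funext x
    simp [Cfsg.conjFun]
  have hgensval : ∀ γ ∈ Cfsg.zspan gens, γ 1 = 0 := fun γ hγ => (hgens_le hγ).2 1 (by simp)
  have hsplit : ∀ θ ∈ Cfsg.zspan S, ∃ u : ℤ, θ - u • χ₁ ∈ Cfsg.zspan gens := by
    intro θ hθ
    refine Submodule.span_induction (p := fun (θ : L → ℂ) _ => ∃ u : ℤ, θ - u • χ₁ ∈ Cfsg.zspan gens)
      ?_ ?_ ?_ ?_ hθ
    · intro s hs
      refine ⟨1, ?_⟩
      have : s - (1 : ℤ) • χ₁ = (-1 : ℤ) • (χ₁ - s) := by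
        simp
      rw [this]
      exact Submodule.smul_mem _ _ (Submodule.subset_span ⟨s, hs, rfl⟩)
    · exact ⟨0, by rw [zero_smul, sub_self]; exact Submodule.zero_mem _⟩
    · rintro a b _ _ ⟨u, hu⟩ ⟨v, hv⟩
      refine ⟨u + v, ?_⟩
      have : a + b - (u + v) • χ₁ = (a - u • χ₁) + (b - v • χ₁) := by
        rw [add_smul]
        abel
      rw [this]
      exact Submodule.add_mem _ hu hv
    · rintro n a _ ⟨u, hu⟩
      refine ⟨n * u, ?_⟩
      have : n • a - (n * u) • χ₁ = n • (a - u • χ₁) := by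
        rw [smul_sub, mul_smul]
      rw [this]
      exact Submodule.smul_mem _ _ hu
  have hEgens : ∀ θ ∈ zspanOnSub S {1}ᶜ, θ ∈ Cfsg.zspan gens := by
    intro θ hθ
    obtain ⟨u, hu⟩ := hsplit θ hθ.1
    have h1 := hgensval _ hu
    have h2 : θ 1 = 0 := hθ.2 1 (by simp)
    simp only [Pi.sub_apply, zapply, h2, zero_sub, neg_eq_zero, mul_eq_zero, hd1, or_false] at h1
    have h3 : u = 0 := by exact_mod_cast h1
    subst h3
    simpa using hu
  obtain ⟨τ₂, hτ₂, hτ₂n⟩ := exists_isometry_zsmul χ₁ Y hYv hYY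
  obtain ⟨ρ, hρ, hρ₁, hρ₂⟩ := exists_isometry_sup (Submodule.span ℤ {χ₁}) (zspanOnSub S {1}ᶜ) τ₂ τ hτ₂ hE (by
    intro b hb γ hγ
    obtain ⟨n, rfl⟩ := Submodule.mem_span_singleton.mp hb
    rw [hτ₂n, classInner_zsmul_left, classInner_zsmul_left, hkey γ (hEgens γ hγ)])
  have hspan : Cfsg.zspan S = ((Submodule.span ℤ {χ₁} ⊔ zspanOnSub S {1}ᶜ : Submodule ℤ (L → ℂ)) : Set (L → ℂ)) := by
    ext θ
    constructor
    · intro hθ
      obtain ⟨u, hu⟩ := hsplit θ hθ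
      have : θ = u • χ₁ + (θ - u • χ₁) := by abel
      rw [this]
      exact Submodule.add_mem_sup (Submodule.smul_mem _ _ (Submodule.mem_span_singleton_self _)) (hgens_le hu)
    · intro hθ
      obtain ⟨x, hx, y, hy, rfl⟩ := Submodule.mem_sup.mp hθ
      refine Submodule.add_mem _ ?_ hy.1
      obtain ⟨n, rfl⟩ := Submodule.mem_span_singleton.mp hx
      exact Submodule.smul_mem _ _ (Submodule.subset_span hχ₁)
  refine ⟨⟨χ₁ - Cfsg.conjFun χ₁, coh_sub_conj_mem hS hχ₁, ?_⟩, ρ, hspan ▸ hρ, fun α hα => hρ₂ α hα⟩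
  intro h0
  exact hS.conj_ne χ₁ hχ₁ (sub_eq_zero.mp h0).symm

end Cfsg.Agent.S1517
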