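import Cfsg.Statements.S1519
import Cfsg.Agent.Lib.OddChar.Above
import Cfsg.Agent.S1492
import Cfsg.Agent.S1516
import Cfsg.Agent.Lib.OddLocal.Sup

set_option autoImplicit false
open Cfsg

namespace Cfsg.Agent.S1519

open Cfsg.Agent.Lib.Char Cfsg.Agent.Lib.OddChar

/-- The arithmetic of the degree bound. -/
private theorem degree_bound_aux {t e m cC cD c r cK : ℕ} (ht : t ^ 2 * cC * cD ≤ cK ^ 2)
    (hcK : cK = c * cC) (hcC : cC = r * cD) (hC : 0 < cC) (hD : 0 < cD)
    (hlt : 4 * (c * e) ^ 2 * r < m ^ 2) : 2 * e * t < m := by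
  subst hcK
  have h1 : t ^ 2 * cC * cD ≤ (c ^ 2 * r) * cC * cD := by
    calc t ^ 2 * cC * cD ≤ (c * cC) ^ 2 := ht
      _ = c ^ 2 * cC * cC := by ring
      _ = c ^ 2 * cC * (r * cD) := by rw [← hcC]
      _ = (c ^ 2 * r) * cC * cD := by ring
  have h2 : t ^ 2 ≤ c ^ 2 * r :=
    Nat.le_of_mul_le_mul_right (Nat.le_of_mul_le_mul_right h1 hD) hC
  have h3 : (2 * e * t) ^ 2 < m ^ 2 := by
    calc (2 * e * t) ^ 2 = 4 * e ^ 2 * t ^ 2 := by ring
      _ ≤ 4 * e ^ 2 * (c ^ 2 * r) := Nat.mul_le_mul_left _ h2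
      _ = 4 * (c * e) ^ 2 * r := by ring
      _ < m ^ 2 := hlt
  exact lt_of_pow_lt_pow_left₀ 2 (Nat.zero_le _) h3

/-- Let K be a solvable normal subgroup of the finite group L and (S, τ, R) a coherence system from L to G where S is the set of functions induced from non-principal irreducible characters of K; write S(A) for those induced from characters whose kernel contains A. Let A, B, C, D be normal subgroups of L with A < K, B < K, B ≤ D ≤ C ≤ K and every commutator of D with C in B. If S(A) is coherent and 4 * [L:C]^2 * [C:D] < ([K:A] − 1)^2, then S(B) is coherent. -/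
theorem result {L : Type*} [Group L] [Fintype L] {G : Type*} [Group G] [Fintype G] (K : Subgroup L) [hK : K.Normal] (hsolv : Group.IsSolvable K) (τ : (L → ℂ) → (G → ℂ)) (R : (L → ℂ) → Finset (G → ℂ)) (hS : Cfsg.IsCoherenceSystem (Cfsg.inducedIrrAbove K ⊥) τ R) (A B C D : Subgroup L) [A.Normal] [B.Normal] [C.Normal] [D.Normal] (hAK : A < K) (hBK : B < K) (hBD : B ≤ D) (hDC : D ≤ C) (hCK : C ≤ K) (hcent : ∀ x ∈ D, ∀ y ∈ C, x * y * x⁻¹ * y⁻¹ ∈ B) (hA : Cfsg.IsCoherent (Cfsg.inducedIrrAbove K A) {1}ᶜ τ) (hlt : 4 * C.index ^ 2 * D.relIndex C < (A.relIndex K - 1) ^ 2) : Cfsg.IsCoherent (Cfsg.inducedIrrAbove K B) {1}ᶜ τ := by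
  classical
  haveI : Fintype K := Fintype.ofFinite _
  haveI := hsolv
  have hsubS : ∀ X : Subgroup L, Cfsg.inducedIrrAbove K X ⊆ Cfsg.inducedIrrAbove K ⊥ :=
    fun X => inducedIrrAbove_mono K bot_le
  have hdeg_ex : ∀ φ ∈ Cfsg.inducedIrrAbove K ⊥, ∃ n : ℕ, φ 1 = n :=
    fun φ hφ => IsCharacter.apply_one (hS.isCharacter φ hφ)
  choose! d hd using hdeg_ex
  have hn_ex : ∀ φ ∈ Cfsg.inducedIrrAbove K ⊥, ∃ n : ℕ, Cfsg.classInner φ φ = n :=
    fun φ hφ => classInner_self_eq_nat (hS.isCharacter φ hφ)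
  choose! n hn using hn_ex
  have hnpos : ∀ φ ∈ Cfsg.inducedIrrAbove K ⊥, (0 : ℝ) ≤ (n φ : ℝ) := fun _ _ => Nat.cast_nonneg _
  -- the finite set `S(A)`
  let T₀ : Finset (L → ℂ) := (inducedIrrAbove_finite K A).toFinset
  have hT₀ : ∀ φ, φ ∈ T₀ ↔ φ ∈ Cfsg.inducedIrrAbove K A := fun φ => Set.Finite.mem_toFinset _
  have hT₀c : (↑T₀ : Set (L → ℂ)) = Cfsg.inducedIrrAbove K A := Set.Finite.coe_toFinset _
  have hsum := sum_induced_above K A T₀ hT₀
    (fun φ hφ φ' hφ' h => hS.orthogonal φ (hsubS A ((hT₀ φ).mp hφ)) φ' (hsubS A ((hT₀ φ').mp hφ')) h)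
    (fun φ hφ => classInner_self_ne_zero (coh_ne_zero hS (hsubS A ((hT₀ φ).mp hφ))))
  have hDT₀ : ∑ φ ∈ T₀, ((d φ : ℝ) ^ 2 / (n φ : ℝ)) = (K.index : ℝ) * ((A.relIndex K : ℝ) - 1) := by
    apply Complex.ofReal_injective
    push_cast
    rw [← hsum]
    refine Finset.sum_congr rfl fun φ hφ => ?_
    have h1 := hsubS A ((hT₀ φ).mp hφ)
    rw [hd φ h1, hn φ h1]
  -- index facts
  have hAindex : 1 < A.relIndex K := by
    have hne : A.subgroupOf K ≠ ⊤ := by
      intro h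
      have h1 : K ≤ A := Subgroup.subgroupOf_eq_top.mp h
      exact absurd h1 (not_le_of_gt hAK)
    have h2 : (A.subgroupOf K).index ≠ 1 := fun h => hne (Subgroup.index_eq_one.mp h)
    have h3 : (A.subgroupOf K).index ≠ 0 := Subgroup.index_ne_zero_of_finite
    show 1 < (A.subgroupOf K).index
    omega
  have hKindex : 0 < K.index := Nat.pos_of_ne_zero Subgroup.index_ne_zero_of_finite
  -- linear character trivial on A
  have hAne : A.subgroupOf K ≠ ⊤ := by
    intro h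
    have h1 : K ≤ A := Subgroup.subgroupOf_eq_top.mp h
    exact absurd h1 (not_le_of_gt hAK)
  have hBne : B.subgroupOf K ≠ ⊤ := by
    intro h
    have h1 : K ≤ B := Subgroup.subgroupOf_eq_top.mp h
    exact absurd h1 (not_le_of_gt hBK)
  obtain ⟨lam, hlam, hlamA⟩ := exists_linear_trivial_on (A.subgroupOf K) hAne
  obtain ⟨lamB, hlamB, hlamBB⟩ := exists_linear_trivial_on (B.subgroupOf K) hBne
  let θ₁ : K → ℂ := fun k => (lam k : ℂ)
  have hθ₁irr : IsIrrCharacter K θ₁ := isIrrCharacter_of_monoidHom lam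
  have hθ₁ne : θ₁ ≠ fun _ => 1 := by
    intro h
    apply hlam
    ext k
    have := congrFun h k
    simpa [θ₁] using this
  let χ₁ : L → ℂ := indFun K θ₁
  have hχ₁A : χ₁ ∈ Cfsg.inducedIrrAbove K A := by
    refine ⟨θ₁, hθ₁irr, hθ₁ne, fun a ha => ?_, rfl⟩
    simp only [θ₁]
    rw [hlamA a (Subgroup.mem_subgroupOf.mpr ha)]
    simp
  have hχ₁1 : χ₁ 1 = (K.index : ℂ) := by
    simp only [χ₁, indFun_one, θ₁]
    simp
  have hdχ₁ : d χ₁ = K.index := by
    have h1 := hd χ₁ (hsubS A hχ₁A)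
    rw [hχ₁1] at h1
    exact_mod_cast h1.symm
  -- the one step extension
  have hstep : ∀ T : Finset (L → ℂ), (↑T : Set (L → ℂ)) ⊆ Cfsg.inducedIrrAbove K ⊥ →
      (∀ φ ∈ T, Cfsg.conjFun φ ∈ T) → T₀ ⊆ T → Cfsg.IsCoherent (↑T : Set (L → ℂ)) {1}ᶜ τ →
      ∀ χ ∈ Cfsg.inducedIrrAbove K B, χ ∉ T →
        Cfsg.IsCoherent ((↑T : Set (L → ℂ)) ∪ {χ, Cfsg.conjFun χ}) {1}ᶜ τ := by
    intro T hTS hTc hT₀T hTcoh χ hχ hχT
    have hχS := hsubS B hχ
    have hχ₂ : Cfsg.conjFun χ ∉ T := by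
      intro h
      apply hχT
      have := hTc _ h
      rwa [conjFun_conjFun] at this
    have hχ₁T : χ₁ ∈ T := hT₀T ((hT₀ χ₁).mpr hχ₁A)
    obtain ⟨θ, hθ, -, hθB, rfl⟩ := hχ
    obtain ⟨t, ht0, ht⟩ := IsIrrCharacter.apply_one hθ
    have hχ1 : indFun K θ 1 = ((K.index * t : ℕ) : ℂ) := by
      rw [indFun_one, ht]
      push_cast
      ring
    have hdχ : d (indFun K θ) = K.index * t := by
      have h1 := hd _ hχS
      rw [hχ1] at h1
      exact_mod_cast h1.symm
    have hdvd : d χ₁ ∣ d (indFun K θ) := by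
      rw [hdχ₁, hdχ]
      exact Nat.dvd_mul_right _ _
    -- the bound on the degree
    have hbound := Cfsg.Agent.S1492.result (G := K) θ hθ (B.subgroupOf K) (C.subgroupOf K) (D.subgroupOf K)
      (fun x hx => Subgroup.mem_subgroupOf.mpr (hBD (Subgroup.mem_subgroupOf.mp hx)))
      (fun x hx => Subgroup.mem_subgroupOf.mpr (hDC (Subgroup.mem_subgroupOf.mp hx)))
      (fun c _ b hb => Subgroup.mem_subgroupOf.mpr (by
        have := (inferInstance : B.Normal).conj_mem _ (Subgroup.mem_subgroupOf.mp hb) (c : L)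
        simpa using this))
      (fun x hx y hy => Subgroup.mem_subgroupOf.mpr (by
        have := hcent _ (Subgroup.mem_subgroupOf.mp hx) _ (Subgroup.mem_subgroupOf.mp hy)
        simpa using this))
      (fun b hb => hθB b (Subgroup.mem_subgroupOf.mp hb))
    rw [Cfsg.Agent.Lib.OddLocal.card_subgroupOf_of_le hCK, Cfsg.Agent.Lib.OddLocal.card_subgroupOf_of_le (hDC.trans hCK),
      ht, Complex.norm_natCast] at hbound
    have hbound' : t ^ 2 * Nat.card C * Nat.card D ≤ Nat.card K ^ 2 := by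
      exact_mod_cast hbound
    have hcK : Nat.card K = C.relIndex K * Nat.card C := by
      have h1 := (C.subgroupOf K).card_mul_index
      rw [Cfsg.Agent.Lib.OddLocal.card_subgroupOf_of_le hCK] at h1
      rw [← h1, mul_comm]
      rfl
    have hcC : Nat.card C = D.relIndex C * Nat.card D := by
      have h1 := (D.subgroupOf C).card_mul_index
      rw [Cfsg.Agent.Lib.OddLocal.card_subgroupOf_of_le hDC] at h1
      rw [← h1, mul_comm]
      rfl
    have hCidx : C.index = C.relIndex K * K.index := (Subgroup.relIndex_mul_index hCK).symm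
    rw [hCidx] at hlt
    have hbd2 := degree_bound_aux (e := K.index) (m := A.relIndex K - 1) hbound' hcK hcC Nat.card_pos Nat.card_pos hlt
    have hbd3 : (2 * (K.index : ℝ) * (t : ℝ)) < (A.relIndex K : ℝ) - 1 := by
      have h1 : ((2 * K.index * t : ℕ) : ℝ) < ((A.relIndex K - 1 : ℕ) : ℝ) := by exact_mod_cast hbd2
      rw [Nat.cast_sub hAindex.le] at h1
      push_cast at h1
      exact h1
    have hineq : (2 * d (indFun K θ) * d χ₁ : ℝ) < ∑ φ ∈ T, ((d φ : ℝ) ^ 2 / (n φ : ℝ)) := by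
      have h1 : ∑ φ ∈ T₀, ((d φ : ℝ) ^ 2 / (n φ : ℝ)) ≤ ∑ φ ∈ T, ((d φ : ℝ) ^ 2 / (n φ : ℝ)) :=
        Finset.sum_le_sum_of_subset_of_nonneg hT₀T fun φ hφ _ =>
          div_nonneg (sq_nonneg _) (Nat.cast_nonneg _)
      rw [hDT₀] at h1
      refine lt_of_lt_of_le ?_ h1
      rw [hdχ₁, hdχ]
      have hKpos : (0 : ℝ) < (K.index : ℝ) := by exact_mod_cast hKindex
      push_cast
      have h2 := mul_lt_mul_of_pos_left hbd3 hKpos
      calc (2 * ((K.index : ℝ) * (t : ℝ)) * (K.index : ℝ))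
          = (K.index : ℝ) * (2 * (K.index : ℝ) * (t : ℝ)) := by ring
        _ < _ := h2
    exact Cfsg.Agent.S1516.result _ τ R hS d n hd hn T hTS hTc hTcoh _ hχS hχT hχ₂ χ₁ hχ₁T hdvd hineq
  -- maximal member
  have hUfin : (Cfsg.inducedIrrAbove K A ∪ Cfsg.inducedIrrAbove K B).Finite :=
    (inducedIrrAbove_finite K A).union (inducedIrrAbove_finite K B)
  let UF : Finset (L → ℂ) := hUfin.toFinset
  have hUF : ∀ φ, φ ∈ UF ↔ φ ∈ Cfsg.inducedIrrAbove K A ∪ Cfsg.inducedIrrAbove K B := fun φ => Set.Finite.mem_toFinset _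
  let P : Finset (L → ℂ) → Prop := fun T => (∀ φ ∈ T, Cfsg.conjFun φ ∈ T) ∧ T₀ ⊆ T ∧
    Cfsg.IsCoherent (↑T : Set (L → ℂ)) {1}ᶜ τ
  let X : Finset (Finset (L → ℂ)) := UF.powerset.filter P
  have hT₀X : T₀ ∈ X := by
    refine Finset.mem_filter.mpr ⟨Finset.mem_powerset.mpr fun φ hφ => (hUF φ).mpr (Or.inl ((hT₀ φ).mp hφ)), ?_,
      subset_rfl, ?_⟩
    · intro φ hφ
      exact (hT₀ _).mpr (inducedIrrAbove_conj K ((hT₀ φ).mp hφ))
    · rw [hT₀c]
      exact hA
  obtain ⟨T, hTX, hTmax⟩ := Finset.exists_max_image X Finset.card ⟨T₀, hT₀X⟩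
  obtain ⟨hTU, hTc, hT₀T, hTcoh⟩ := Finset.mem_filter.mp hTX
  have hTU' := Finset.mem_powerset.mp hTU
  have hTS : (↑T : Set (L → ℂ)) ⊆ Cfsg.inducedIrrAbove K ⊥ := by
    intro φ hφ
    rcases (hUF φ).mp (hTU' hφ) with h | h
    · exact hsubS A h
    · exact hsubS B h
  have hBT : Cfsg.inducedIrrAbove K B ⊆ (↑T : Set (L → ℂ)) := by
    intro χ hχ
    by_contra hχT
    have hχT' : χ ∉ T := hχT
    have hcoh' := hstep T hTS hTc hT₀T hTcoh χ hχ hχT'
    let T' : Finset (L → ℂ) := T ∪ {χ, Cfsg.conjFun χ}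
    have hT'coe : (↑T' : Set (L → ℂ)) = (↑T : Set (L → ℂ)) ∪ {χ, Cfsg.conjFun χ} := by
      simp [T']
    have hT'X : T' ∈ X := by
      refine Finset.mem_filter.mpr ⟨Finset.mem_powerset.mpr ?_, ?_, ?_, ?_⟩
      · intro φ hφ
        rcases Finset.mem_union.mp hφ with h | h
        · exact hTU' h
        · rcases Finset.mem_insert.mp h with rfl | h
          · exact (hUF _).mpr (Or.inr hχ)
          · rw [Finset.mem_singleton.mp h]
            exact (hUF _).mpr (Or.inr (inducedIrrAbove_conj K hχ))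
      · intro φ hφ
        rcases Finset.mem_union.mp hφ with h | h
        · exact Finset.mem_union_left _ (hTc φ h)
        · rcases Finset.mem_insert.mp h with rfl | h
          · exact Finset.mem_union_right _ (by simp)
          · rw [Finset.mem_singleton.mp h, conjFun_conjFun]
            exact Finset.mem_union_right _ (by simp)
      · exact hT₀T.trans Finset.subset_union_left
      · rw [hT'coe]
        exact hcoh'
    have h1 := hTmax T' hT'X
    have h2 : T.card < T'.card := by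
      apply Finset.card_lt_card
      refine ⟨Finset.subset_union_left, fun h => hχT' (h ?_)⟩
      exact Finset.mem_union_right _ (by simp)
    omega
  -- conclusion
  have hχB : indFun K (fun k => (lamB k : ℂ)) ∈ Cfsg.inducedIrrAbove K B := by
    refine ⟨fun k => (lamB k : ℂ), isIrrCharacter_of_monoidHom lamB, ?_, fun a ha => ?_, rfl⟩
    · intro h
      apply hlamB
      ext k
      simpa using congrFun h k
    · simp only
      rw [hlamBB a (Subgroup.mem_subgroupOf.mpr ha)]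
      simp
  refine IsCoherent.mono hBT hTcoh ⟨_ - Cfsg.conjFun _, ⟨sub_mem_zspan (mem_zspan_of_mem hχB)
    (mem_zspan_of_mem (inducedIrrAbove_conj K hχB)), ?_⟩, ?_⟩
  · intro x hx
    have h1 : x = 1 := by simpa using hx
    subst h1
    have h2 := coh_conj_one hS (hsubS B hχB)
    simp [h2]
  · intro h0
    exact hS.conj_ne _ (hsubS B hχB) (sub_eq_zero.mp h0).symm

end Cfsg.Agent.S1519
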