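import Cfsg.Statements.S1520
import Cfsg.Agent.S1519

set_option autoImplicit false
open Cfsg

namespace Cfsg.Agent.S1520

open Cfsg.Agent.Lib.Char Cfsg.Agent.Lib.OddChar
open scoped commutatorElement

private def chainX {L : Type*} [Group L] (H₁ H M : Subgroup L) : ℕ → Subgroup L
  | 0 => H₁
  | i + 1 => ⁅chainX H₁ H M i, H⁆ ⊔ M

private theorem chain_arith (u k e : ℕ) (hk : 1 ≤ k) (hu : 4 * e ^ 2 + 1 < u) :
    4 * (k * e) ^ 2 * u < (u * k - 1) ^ 2 := by
  obtain ⟨w, hw⟩ : ∃ w, u * k = w + 1 := by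
    have : 1 ≤ u * k := Nat.mul_pos (by omega) hk
    exact ⟨u * k - 1, by omega⟩
  have h1 : u * k - 1 = w := by omega
  rw [h1]
  have h2 : (4 * e ^ 2 + 2) * k ≤ w + 1 := by
    rw [← hw]
    exact Nat.mul_le_mul_right _ (by omega)
  have h3 : 4 * e ^ 2 * k + 1 ≤ w := by nlinarith
  have h4 : 4 * (k * e) ^ 2 * u = 4 * e ^ 2 * k * (w + 1) := by
    rw [← hw]
    ring
  rw [h4, sq w]
  nlinarith

/-- Let K be a solvable normal subgroup of the finite group L and (S, τ, R) a coherence system from L to G with S the functions induced from non-principal irreducible characters of K; S(A) the members of S induced from characters whose kernel contains A. Let M ≤ H₁ ≤ H ≤ K be normal subgroups of L such that every term of the lower central series of H eventually lies in M (H/M nilpotent), S(H₁) is coherent and [H:H₁] > 4 * [L:K]^2 + 1. Then S(M) is coherent. -/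
theorem result {L : Type*} [Group L] [Fintype L] {G : Type*} [Group G] [Fintype G] (K : Subgroup L) [hK : K.Normal] (hsolv : Group.IsSolvable K) (τ : (L → ℂ) → (G → ℂ)) (R : (L → ℂ) → Finset (G → ℂ)) (hS : Cfsg.IsCoherenceSystem (Cfsg.inducedIrrAbove K ⊥) τ R) (M H₁ H : Subgroup L) [M.Normal] [H₁.Normal] [H.Normal] (hMH₁ : M ≤ H₁) (hH₁H : H₁ ≤ H) (hHK : H ≤ K) [(M.subgroupOf H).Normal] (hnil : Group.IsNilpotent (↥H ⧸ M.subgroupOf H)) (hcoh : Cfsg.IsCoherent (Cfsg.inducedIrrAbove K H₁) {1}ᶜ τ) (hbig : 4 * K.index ^ 2 + 1 < H₁.relIndex H) : Cfsg.IsCoherent (Cfsg.inducedIrrAbove K M) {1}ᶜ τ := by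
  classical
  haveI := hsolv
  have hH₁lt : H₁ < K := by
    refine lt_of_le_of_ne (hH₁H.trans hHK) ?_
    intro h
    have h1 : H ≤ H₁ := by
      rw [h]
      exact hHK
    have h2 : H₁.relIndex H = 1 := Subgroup.relIndex_eq_one.mpr h1
    omega
  obtain ⟨n, hn⟩ := Subgroup.nilpotent_iff_lowerCentralSeries.mp hnil
  -- normality
  have hnorm : ∀ i, (chainX H₁ H M i).Normal := by
    intro i
    induction i with
    | zero => exact (inferInstance : H₁.Normal)
    | succ i ih =>
      haveI := ih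
      show (⁅chainX H₁ H M i, H⁆ ⊔ M).Normal
      infer_instance
  have hMle : ∀ i, M ≤ chainX H₁ H M i := by
    intro i
    cases i with
    | zero => exact hMH₁
    | succ i => exact le_sup_right
  have hdec : ∀ i, chainX H₁ H M (i + 1) ≤ chainX H₁ H M i := by
    intro i
    haveI := hnorm i
    exact sup_le (Subgroup.commutator_le_left _ _) (hMle i)
  have hleH₁ : ∀ i, chainX H₁ H M i ≤ H₁ := by
    intro i
    induction i with
    | zero => exact le_rfl
    | succ i ih => exact (hdec i).trans ih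
  have hcoh' : ∀ i, Cfsg.IsCoherent (Cfsg.inducedIrrAbove K (chainX H₁ H M i)) {1}ᶜ τ := by
    intro i
    induction i with
    | zero => exact hcoh
    | succ i ih =>
      haveI := hnorm i
      haveI := hnorm (i + 1)
      refine Cfsg.Agent.S1519.result K hsolv τ R hS (chainX H₁ H M i) (chainX H₁ H M (i + 1)) H (chainX H₁ H M i)
        ((lt_of_le_of_lt (hleH₁ i) hH₁lt)) ((lt_of_le_of_lt ((hdec i).trans (hleH₁ i)) hH₁lt))
        (hdec i) ((hleH₁ i).trans hH₁H) hHK ?_ ih ?_
      · intro x hx y hy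
        exact Subgroup.mem_sup_left (Subgroup.commutator_mem_commutator hx hy)
      · have h1 : (chainX H₁ H M i).relIndex K = (chainX H₁ H M i).relIndex H * H.relIndex K :=
          (Subgroup.relIndex_mul_relIndex _ _ _ ((hleH₁ i).trans hH₁H) hHK).symm
        have h2 : H.index = H.relIndex K * K.index := (Subgroup.relIndex_mul_index hHK).symm
        have h3 : (chainX H₁ H M i).relIndex H = (chainX H₁ H M i).relIndex H₁ * H₁.relIndex H :=
          (Subgroup.relIndex_mul_relIndex _ _ _ (hleH₁ i) hH₁H).symm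
        have h4 : 1 ≤ (chainX H₁ H M i).relIndex H₁ :=
          Nat.pos_of_ne_zero (Subgroup.index_ne_zero_of_finite)
        have h5 : 4 * K.index ^ 2 + 1 < (chainX H₁ H M i).relIndex H := by
          rw [h3]
          exact lt_of_lt_of_le hbig (Nat.le_mul_of_pos_left _ h4)
        have h6 : 1 ≤ H.relIndex K := Nat.pos_of_ne_zero (Subgroup.index_ne_zero_of_finite)
        rw [h1, h2]
        exact chain_arith _ _ _ h6 h5
  -- the chain reaches `M`
  let π : ↥H →* ↥H ⧸ M.subgroupOf H := QuotientGroup.mk' _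
  have hseries : ∀ i, ∀ x (hx : x ∈ H), x ∈ chainX H₁ H M i → π ⟨x, hx⟩ ∈ Subgroup.lowerCentralSeries (⊤ : Subgroup (↥H ⧸ M.subgroupOf H)) i := by
    intro i
    induction i with
    | zero =>
      intro x hx _
      simp [Subgroup.lowerCentralSeries_zero]
    | succ i ih =>
      have hle : chainX H₁ H M (i + 1) ≤
          ((Subgroup.lowerCentralSeries (⊤ : Subgroup (↥H ⧸ M.subgroupOf H)) (i + 1)).comap π).map H.subtype := by
        refine sup_le ?_ ?_
        · rw [Subgroup.commutator_le]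
          intro a ha b hb
          have haH : a ∈ H := (hleH₁ i).trans hH₁H ha
          refine ⟨⁅(⟨a, haH⟩ : H), (⟨b, hb⟩ : H)⁆, ?_, rfl⟩
          show π ⁅(⟨a, haH⟩ : H), (⟨b, hb⟩ : H)⁆ ∈ Subgroup.lowerCentralSeries (⊤ : Subgroup (↥H ⧸ M.subgroupOf H)) (i + 1)
          rw [map_commutatorElement]
          exact Subgroup.commutator_mem_commutator (ih a haH ha) (Subgroup.mem_top _)
        · intro m hm
          refine ⟨⟨m, (hMH₁.trans hH₁H) hm⟩, ?_, rfl⟩
          show π ⟨m, (hMH₁.trans hH₁H) hm⟩ ∈ Subgroup.lowerCentralSeries (⊤ : Subgroup (↥H ⧸ M.subgroupOf H)) (i + 1)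
          have : π ⟨m, (hMH₁.trans hH₁H) hm⟩ = 1 := (QuotientGroup.eq_one_iff _).mpr (Subgroup.mem_subgroupOf.mpr hm)
          rw [this]
          exact Subgroup.one_mem _
      intro x hx hxi
      obtain ⟨y, hy, hyx⟩ := hle hxi
      have : y = ⟨x, hx⟩ := Subtype.ext hyx
      rw [← this]
      exact hy
  have hend : chainX H₁ H M n = M := by
    refine le_antisymm ?_ (hMle n)
    intro x hx
    have hxH : x ∈ H := ((hleH₁ n).trans hH₁H) hx
    have h1 := hseries n x hxH hx
    rw [hn, Subgroup.mem_bot] at h1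
    exact Subgroup.mem_subgroupOf.mp ((QuotientGroup.eq_one_iff _).mp h1)
  have := hcoh' n
  rwa [hend] at this

end Cfsg.Agent.S1520
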