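import Cfsg.Statements.S1521
import Cfsg.Agent.S1520
import Cfsg.Agent.S1517
import Cfsg.Agent.Lib.OddChar.NilpAux
import Cfsg.Agent.Lib.Char.Linear
import Cfsg.Agent.Lib.OddChar.Inertia

set_option autoImplicit false
open Cfsg

namespace Cfsg.Agent.S1521

open Cfsg.Agent.Lib.Char Cfsg.Agent.Lib.OddChar

/-- An irreducible character trivial on a subgroup with abelian quotient is linear. -/
private theorem degree_one_of_trivial {K₀ : Type*} [Group K₀] [Fintype K₀] (N : Subgroup K₀) [N.Normal]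
    (hcomm : ∀ a b : K₀, a * b * a⁻¹ * b⁻¹ ∈ N) {θ : K₀ → ℂ} (hθ : IsIrrCharacter K₀ θ)
    (htriv : ∀ n ∈ N, θ n = θ 1) : θ 1 = 1 := by
  classical
  haveI : Fintype N := Fintype.ofFinite _
  haveI : Fintype (K₀ ⧸ N) := Fintype.ofFinite _
  have hle : N ≤ charKer θ := fun n hn => (mem_charKer (IsIrrCharacter.isCharacter hθ)).mpr (htriv n hn)
  obtain ⟨β, hβ, rfl⟩ := exists_deflate N hθ hle
  have hQ : ∀ a b : K₀ ⧸ N, a * b = b * a := by
    intro a b
    induction a using QuotientGroup.induction_on with | H x => ?_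
    induction b using QuotientGroup.induction_on with | H y => ?_
    rw [← QuotientGroup.mk_mul, ← QuotientGroup.mk_mul, QuotientGroup.eq]
    have h1 := hcomm y⁻¹ x⁻¹
    have e : (x * y)⁻¹ * (y * x) = y⁻¹ * x⁻¹ * y⁻¹⁻¹ * x⁻¹⁻¹ := by group
    rw [e]
    exact h1
  have h2 := comm_iff_irr_degree_one.mp hQ ⟨β, hβ⟩
  exact h2

/-- Let K be a solvable normal subgroup of the finite group L of odd order and (S, τ, R) a coherence system from L to G with S the functions induced from non-principal irreducible characters of K; S(A) as before. Let M ≤ K be normal in L with K/M nilpotent, H₁ = [K, K] ⊔ M, H₁ < K < L, and suppose every element of K outside H₁ is centralised modulo H₁ only from inside K (L/H₁ is a Frobenius group with kernel K/H₁). Suppose one of the following: some normal subgroup of L lies strictly between H₁ and K; or [K:H₁] > 4[L:K]^2 + 1; or [K:M] is not a prime power; or [K,K] ≤ M; or [K:M] is a power of a prime p with [L:K] dividing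 p − 1. Then S(M) is coherent. -/
theorem result {L : Type*} [Group L] [Fintype L] {G : Type*} [Group G] [Fintype G] (K : Subgroup L) [hK : K.Normal] (hsolv : Group.IsSolvable K) (τ : (L → ℂ) → (G → ℂ)) (R : (L → ℂ) → Finset (G → ℂ)) (hS : Cfsg.IsCoherenceSystem (Cfsg.inducedIrrAbove K ⊥) τ R) (hodd : Odd (Nat.card L)) (M : Subgroup L) [M.Normal] (hMK : M ≤ K) [(M.subgroupOf K).Normal] (hnil : Group.IsNilpotent (↥K ⧸ M.subgroupOf K)) (H₁ : Subgroup L) (hH₁ : H₁ = ⁅K, K⁆ ⊔ M) (hH₁K : H₁ < K) (hKL : K < ⊤) (hfrob : ∀ k ∈ K, k ∉ H₁ → ∀ x : L, x * k * x⁻¹ * k⁻¹ ∈ H₁ → x ∈ K) (hgood : (∃ N : Subgroup L, N.Normal ∧ H₁ < N ∧ N < K) ∨ 4 * K.index ^ 2 + 1 < H₁.relIndex K ∨ (¬ ∃ p m : ℕ, p.Prime ∧ M.relIndex K = p ^ m) ∨ ⁅K, K⁆ ≤ M ∨ (∃ p m : ℕ, p.Prime ∧ M.relIndex K = p ^ m ∧ K.index ∣ p - 1)) : Cfsg.IsCoherent (Cfsg.inducedIrrAbove K M) {1}ᶜ τ := by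
  classical
  haveI : Fintype K := Fintype.ofFinite _
  haveI := hsolv
  have hH₁n : H₁.Normal := by
    rw [hH₁]
    infer_instance
  have hMH₁ : M ≤ H₁ := by
    rw [hH₁]
    exact le_sup_right
  have hcommH : ∀ a ∈ K, ∀ b ∈ K, a * b * a⁻¹ * b⁻¹ ∈ H₁ := by
    intro a ha b hb
    rw [hH₁]
    exact Subgroup.mem_sup_left (Subgroup.commutator_mem_commutator ha hb)
  have hH₁le : H₁ ≤ K := hH₁K.le
  have hsubS : ∀ X : Subgroup L, Cfsg.inducedIrrAbove K X ⊆ Cfsg.inducedIrrAbove K ⊥ :=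
    fun X => inducedIrrAbove_mono K bot_le
  -- the base case
  have hbase : Cfsg.IsCoherent (Cfsg.inducedIrrAbove K H₁) {1}ᶜ τ := by
    have hne' : H₁.subgroupOf K ≠ ⊤ := by
      intro h
      exact absurd (Subgroup.subgroupOf_eq_top.mp h) (not_le_of_gt hH₁K)
    obtain ⟨lam, hlam, hlamT⟩ := exists_linear_trivial_on (H₁.subgroupOf K) hne'
    have hne : (Cfsg.inducedIrrAbove K H₁).Nonempty := by
      refine ⟨_, fun k => (lam k : ℂ), isIrrCharacter_of_monoidHom lam, ?_, fun a ha => ?_, rfl⟩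
      · intro h
        apply hlam
        ext k
        have := congrFun h k
        simpa using this
      · simp only
        rw [hlamT a (Subgroup.mem_subgroupOf.mpr ha)]
        simp
    have hS' := IsCoherenceSystem.mono hS (hsubS H₁) hne (fun χ hχ => inducedIrrAbove_conj K hχ)
    refine Cfsg.Agent.S1517.result _ τ R hS' ?_
    have hdeg : ∀ φ ∈ Cfsg.inducedIrrAbove K H₁, φ 1 = (K.index : ℂ) := by
      rintro φ ⟨θ, hθ, -, htriv, rfl⟩
      rw [indFun_one, degree_one_of_trivial (H₁.subgroupOf K) (fun a b => Subgroup.mem_subgroupOf.mpr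
        (by simpa using hcommH a a.2 b b.2)) hθ (fun n hn => htriv n (Subgroup.mem_subgroupOf.mp hn)), mul_one]
    intro φ hφ ψ hψ
    rw [hdeg φ hφ, hdeg ψ hψ]
  have hbig : 4 * K.index ^ 2 + 1 < H₁.relIndex K → Cfsg.IsCoherent (Cfsg.inducedIrrAbove K M) {1}ᶜ τ := by
    intro h
    haveI := hH₁n
    exact Cfsg.Agent.S1520.result K hsolv τ R hS M H₁ K hMH₁ hH₁le le_rfl hnil hbase h
  have hcomm₂ : ⁅K, K⁆ ≤ M → Cfsg.IsCoherent (Cfsg.inducedIrrAbove K M) {1}ᶜ τ := by
    intro h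
    have h1 : H₁ = M := by
      rw [hH₁]
      exact sup_eq_right.mpr h
    rw [h1] at hbase
    exact hbase
  have hLodd : Odd (Nat.card L) := hodd
  have hodd_of_dvd : ∀ x : ℕ, x ∣ Nat.card L → Odd x := fun x hx => Odd.of_dvd_nat hodd hx
  have heodd : Odd K.index := hodd_of_dvd _ (Subgroup.index_dvd_card K)
  have hrelodd : ∀ X Y : Subgroup L, Odd (X.relIndex Y) := by
    intro X Y
    apply hodd_of_dvd
    exact (Subgroup.index_dvd_card (X.subgroupOf Y)).trans (Subgroup.card_subgroup_dvd_card Y)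
  have hK₁ : 1 < H₁.relIndex K := by
    have h1 : H₁.relIndex K ≠ 1 := fun h =>
      absurd (Subgroup.relIndex_eq_one.mp h) (not_le_of_gt hH₁K)
    have h2 : H₁.relIndex K ≠ 0 := Subgroup.index_ne_zero_of_finite
    omega
  haveI := hH₁n
  have hcount : ∀ N : Subgroup L, N.Normal → H₁ ≤ N → N ≤ K → K.index ∣ H₁.relIndex N - 1 := by
    intro N hN h1 h2
    haveI := hN
    exact index_dvd_relIndex_sub_one h1 h2 hcommH hfrob
  have hbetween : (∃ N : Subgroup L, N.Normal ∧ H₁ < N ∧ N < K) → 4 * K.index ^ 2 + 1 < H₁.relIndex K := by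
    rintro ⟨N, hN, h1, h2⟩
    have e : H₁.relIndex K = H₁.relIndex N * N.relIndex K :=
      (Subgroup.relIndex_mul_relIndex _ _ _ h1.le h2.le).symm
    have h3 := hcount N hN h1.le h2.le
    have h4 := hcount K inferInstance hH₁le le_rfl
    rw [e] at h4 ⊢
    have h5 : 1 < H₁.relIndex N := by
      have h1' : H₁.relIndex N ≠ 1 := fun h => absurd (Subgroup.relIndex_eq_one.mp h) (not_le_of_gt h1)
      have h2' : H₁.relIndex N ≠ 0 := Subgroup.index_ne_zero_of_finite
      omega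
    have h6 : 1 < N.relIndex K := by
      have h1' : N.relIndex K ≠ 1 := fun h => absurd (Subgroup.relIndex_eq_one.mp h) (not_le_of_gt h2)
      have h2' : N.relIndex K ≠ 0 := Subgroup.index_ne_zero_of_finite
      omega
    exact big_of_two_factors heodd (hrelodd _ _) (hrelodd _ _) h5 h6 h3 h4
  -- facts in `K`
  let M' : Subgroup K := M.subgroupOf K
  let H' : Subgroup K := H₁.subgroupOf K
  have hH'gen : ∀ Z : Subgroup K, (∀ a b, a * b * a⁻¹ * b⁻¹ ∈ Z) → M' ≤ Z → H' ≤ Z := by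
    intro Z h1 h2 x hx
    have hx' : (x : L) ∈ H₁ := Subgroup.mem_subgroupOf.mp hx
    rw [hH₁] at hx'
    have hle : (⁅K, K⁆ ⊔ M) ≤ Z.map K.subtype := by
      refine sup_le ?_ ?_
      · rw [Subgroup.commutator_le]
        intro a ha b hb
        exact ⟨_, h1 ⟨a, ha⟩ ⟨b, hb⟩, rfl⟩
      · intro m hm
        exact ⟨⟨m, hMK hm⟩, h2 (Subgroup.mem_subgroupOf.mpr hm), rfl⟩
    obtain ⟨y, hy, hyx⟩ := hle hx'
    have : y = x := Subtype.ext hyx
    rwa [← this]
  rcases hgood with h | h | h | h | h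
  · exact hbig (hbetween h)
  · exact hbig h
  · have h1 : ¬ ∃ p m : ℕ, p.Prime ∧ H₁.relIndex K = p ^ m := by
      rintro ⟨p, m, hp, hm⟩
      obtain ⟨b, hb⟩ := exists_index_eq_prime_pow M' H' hnil hH'gen hp hm
      exact h ⟨p, b, hp, hb⟩
    exact hbig (hbetween (exists_between_of_not_prime_power hH₁le hcommH h1))
  · exact hcomm₂ h
  · obtain ⟨p, m, hp, hm, hdvd⟩ := h
    -- `[K : H₁]` is a power of `p`
    have hdvd₂ : H₁.relIndex K ∣ M.relIndex K := by
      have h1 : M.subgroupOf K ≤ H₁.subgroupOf K := fun x hx =>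
        Subgroup.mem_subgroupOf.mpr (hMH₁ (Subgroup.mem_subgroupOf.mp hx))
      exact Subgroup.index_dvd_of_le h1
    rw [hm] at hdvd₂
    obtain ⟨s, -, hs⟩ := (Nat.dvd_prime_pow hp).mp hdvd₂
    have hs0 : s ≠ 0 := by
      rintro rfl
      rw [pow_zero] at hs
      omega
    have hpodd : Odd p := by
      have h1 : p ∣ H₁.relIndex K := by
        rw [hs]
        exact dvd_pow_self p hs0
      have h2 := hrelodd H₁ K
      exact Odd.of_dvd_nat h2 h1
    have hp2e : 2 * K.index + 1 ≤ p := by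
      have h4 : 2 ∣ p - 1 := by
        obtain ⟨y, hy⟩ := hpodd
        omega
      have h5 : Nat.Coprime 2 K.index := (Nat.coprime_two_left).mpr heodd
      have h6 : 2 * K.index ∣ p - 1 := h5.mul_dvd_of_dvd_of_dvd h4 hdvd
      have h7 := Nat.le_of_dvd (by have := hp.one_lt; omega) h6
      have := hp.one_lt
      omega
    by_cases hs1 : s = 1
    · subst hs1
      rw [pow_one] at hs
      have hcomm₃ := comm_mem_of_index_prime M' H' hnil hH'gen hp hs
      refine hcomm₂ ?_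
      rw [Subgroup.commutator_le]
      intro a ha b hb
      exact Subgroup.mem_subgroupOf.mp (hcomm₃ ⟨a, ha⟩ ⟨b, hb⟩)
    · refine hbig ?_
      rw [hs]
      have hs2 : 2 ≤ s := by omega
      have h1 : p ^ 2 ≤ p ^ s := Nat.pow_le_pow_right hp.pos hs2
      have h2 : (2 * K.index + 1) ^ 2 ≤ p ^ 2 := Nat.pow_le_pow_left hp2e 2
      have h3 : 0 < K.index := heodd.pos
      nlinarith

end Cfsg.Agent.S1521
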