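import Cfsg.Statements.S1522
import Cfsg.Agent.S1516
import Cfsg.Agent.S1517
import Cfsg.Agent.S1521
import Cfsg.Agent.Lib.OddChar.Above
import Cfsg.Agent.Lib.OddChar.NilpAux
import Cfsg.Agent.Lib.Char.Degree
import Cfsg.Agent.Lib.Char.Extraspecial

set_option autoImplicit false
open Cfsg

namespace Cfsg.Agent.S1522

open Cfsg.Agent.Lib.Char Cfsg.Agent.Lib.OddChar
open scoped ComplexConjugate

section Aux

variable {L : Type*} [Group L] [Fintype L] (K : Subgroup L) [hK : K.Normal] [Fintype K]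

private theorem triv_of_ind_triv {θ : K → ℂ} (hθ : IsIrrCharacter K θ) (a : K)
    (h : indFun K θ (a : L) = indFun K θ 1) : θ a = θ 1 := by
  have hK0 : (Nat.card K : ℂ)⁻¹ ≠ 0 := inv_ne_zero (by exact_mod_cast Nat.card_pos.ne')
  have h1 := indFun_coe_normal K θ a
  have h2 := indFun_coe_normal K θ 1
  have hone : ((1 : K) : L) = 1 := rfl
  rw [hone] at h2
  rw [h1, h2] at h
  have h3 := mul_left_cancel₀ hK0 h
  have h4 : ∑ x : L, (Lib.Char.conjFun K x θ a).re = ∑ x : L, (Lib.Char.conjFun K x θ 1).re := by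
    have := congrArg Complex.re h3
    simpa [Complex.re_sum] using this
  have hval : ∀ x : L, Lib.Char.conjFun K x θ 1 = θ 1 := by
    intro x
    simp only [conjFun_apply]
    refine congrArg _ (Subtype.ext ?_)
    show x⁻¹ * 1 * x = 1
    group
  obtain ⟨n, -, hn⟩ := IsIrrCharacter.apply_one hθ
  have hle : ∀ x ∈ (Finset.univ : Finset L), (Lib.Char.conjFun K x θ a).re ≤ (Lib.Char.conjFun K x θ 1).re := by
    intro x _
    have hx := isIrrCharacter_conjFun K x hθ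
    calc _ ≤ ‖Lib.Char.conjFun K x θ a‖ := Complex.re_le_norm _
      _ ≤ ‖Lib.Char.conjFun K x θ 1‖ := IsCharacter.norm_le (IsIrrCharacter.isCharacter hx) a
      _ = (Lib.Char.conjFun K x θ 1).re := by rw [hval, hn]; simp
  have h5 := (Finset.sum_eq_sum_iff_of_le hle).mp h4 1 (Finset.mem_univ _)
  have h6 : Lib.Char.conjFun K 1 θ = θ := by
    funext k
    simp only [conjFun_apply]
    refine congrArg _ (Subtype.ext ?_)
    show (1 : L)⁻¹ * k * 1 = k
    group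
  rw [h6] at h5
  have hnorm := IsCharacter.norm_le (IsIrrCharacter.isCharacter hθ) a
  rw [hn] at h5 hnorm ⊢
  simp only [Complex.norm_natCast, Complex.natCast_re] at h5 hnorm
  apply Complex.ext
  · simpa using h5
  · have h7 : ‖θ a‖ ^ 2 = (θ a).re ^ 2 + (θ a).im ^ 2 := by
      rw [Complex.sq_norm, Complex.normSq_apply]; ring
    have h8 : ‖θ a‖ ^ 2 ≤ (n : ℝ) ^ 2 := by
      gcongr
    rw [h5] at h7
    have h9 : (θ a).im ^ 2 ≤ 0 := by linarith
    have h10 : (θ a).im = 0 := by nlinarith [sq_nonneg (θ a).im]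
    simpa using h10

private theorem exists_constituent {χ : L → ℂ} (hχ : IsIrrCharacter L χ) (a : K) (h : χ a ≠ χ 1) :
    ∃ θ : IrrCharacter K, (θ : K → ℂ) a ≠ (θ : K → ℂ) 1 ∧
      Cfsg.classInner (resFun K χ) (θ : K → ℂ) ≠ 0 := by
  classical
  obtain ⟨m, hm, heq⟩ := IsCharacter.exists_eq_sum (isCharacter_resFun K (IsIrrCharacter.isCharacter hχ))
  by_contra hcon
  push Not at hcon
  apply h
  have h1 : ∀ b : K, χ b = ∑ ψ : IrrCharacter K, (m ψ : ℂ) * (ψ : K → ℂ) b := by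
    intro b
    have := congrFun heq b
    simpa [resFun, Finset.sum_apply] using this
  have hone : (1 : L) = ((1 : K) : L) := rfl
  rw [h1 a, hone, h1 1]
  refine Finset.sum_congr rfl fun ψ _ => ?_
  by_cases hψ : (m ψ : ℂ) = 0
  · rw [hψ]; ring
  · have : (ψ : K → ℂ) a = (ψ : K → ℂ) 1 := by
      by_contra hne
      apply hψ
      rw [← hm ψ]
      exact hcon ψ hne
    rw [this]

private theorem deg_sq_mul_card_le {K₀ : Type*} [Group K₀] [Fintype K₀] {θ : K₀ → ℂ}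
    (hθ : IsIrrCharacter K₀ θ) (Z₀ : Subgroup K₀) (hZ : Z₀ ≤ Subgroup.center K₀) {d : ℕ}
    (hd : θ 1 = d) : d ^ 2 * Nat.card Z₀ ≤ Nat.card K₀ := by
  classical
  have h1 : Cfsg.classInner θ θ = 1 := classInner_irr_self hθ
  have h2 : (∑ g : K₀, θ g * conj (θ g)) = (Nat.card K₀ : ℂ) := by
    rw [Cfsg.classInner] at h1
    have hK0 : (Nat.card K₀ : ℂ) ≠ 0 := by exact_mod_cast Nat.card_pos.ne'
    field_simp at h1
    exact h1
  have h3 : ∀ g : K₀, θ g * conj (θ g) = ((‖θ g‖ ^ 2 : ℝ) : ℂ) := by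
    intro g
    rw [Complex.mul_conj, Complex.normSq_eq_norm_sq]
  have h4 : (∑ g : K₀, ‖θ g‖ ^ 2) = (Nat.card K₀ : ℝ) := by
    have : ((∑ g : K₀, ‖θ g‖ ^ 2 : ℝ) : ℂ) = ((Nat.card K₀ : ℝ) : ℂ) := by
      push_cast
      rw [← h2]
      refine Finset.sum_congr rfl fun g _ => ?_
      rw [h3]
      push_cast
      rfl
    exact_mod_cast this
  have h5 : ∑ g ∈ Finset.univ.filter (· ∈ Z₀), ‖θ g‖ ^ 2 ≤ ∑ g : K₀, ‖θ g‖ ^ 2 :=
    Finset.sum_le_sum_of_subset_of_nonneg (Finset.filter_subset _ _) (fun _ _ _ => by positivity)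
  have h6 : ∀ g ∈ Finset.univ.filter (· ∈ Z₀), ‖θ g‖ ^ 2 = (d : ℝ) ^ 2 := by
    intro g hg
    have h7 := mul_conj_center_eq hθ (hZ (Finset.mem_filter.mp hg).2)
    rw [h3, hd] at h7
    exact_mod_cast h7
  rw [Finset.sum_congr rfl h6, Finset.sum_const, h4, nsmul_eq_mul] at h5
  have h8 : (Finset.univ.filter (· ∈ Z₀)).card = Nat.card Z₀ := by
    rw [Nat.card_eq_fintype_card, Fintype.card_subtype]
  rw [h8] at h5
  have h9 : ((Nat.card Z₀ * d ^ 2 : ℕ) : ℝ) ≤ (Nat.card K₀ : ℝ) := by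
    push_cast
    exact h5
  have h10 := Nat.cast_le.mp h9
  rwa [mul_comm] at h10

variable (Z : Subgroup L) [Z.Normal]

open scoped Classical in
private noncomputable def thetaZ : Finset (IrrCharacter K) := aboveFin K ⊥ \ aboveFin K Z

private theorem mem_thetaZ {θ : IrrCharacter K} :
    θ ∈ thetaZ K Z ↔ ∃ a : K, (a : L) ∈ Z ∧ (θ : K → ℂ) a ≠ (θ : K → ℂ) 1 := by
  classical
  simp only [thetaZ, Finset.mem_sdiff, mem_aboveFin]
  constructor
  · rintro ⟨⟨h1, -⟩, h2⟩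
    by_contra h3
    push Not at h3
    exact h2 ⟨h1, h3⟩
  · rintro ⟨a, ha, hne⟩
    refine ⟨⟨?_, ?_⟩, ?_⟩
    · intro h
      apply hne
      rw [h]
    · intro b hb
      have hb1 : b = 1 := Subtype.ext (by simpa using hb)
      rw [hb1]
    · rintro ⟨-, h⟩
      exact hne (h a ha)

private theorem ind_ne_zero (θ : IrrCharacter K) : indFun K (θ : K → ℂ) ≠ 0 := by
  intro h
  have h1 := congrFun h 1
  rw [indFun_one] at h1
  have h2 : (K.index : ℂ) ≠ 0 := by exact_mod_cast (Subgroup.index_ne_zero_of_finite (H := K))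
  exact mul_ne_zero h2 (IsIrrCharacter.apply_one_ne_zero θ.2) h1

private theorem ind_mem {θ : IrrCharacter K} (h : θ ∈ thetaZ K Z) :
    indFun K (θ : K → ℂ) ∈ Cfsg.inducedIrrAbove K ⊥ \ Cfsg.inducedIrrAbove K Z := by
  classical
  obtain ⟨h1, h2⟩ := Finset.mem_sdiff.mp h
  refine ⟨indFun_mem_above K h1, ?_⟩
  rintro ⟨θ', h3, h4, h5, h6⟩
  have hmem : (⟨θ', h3⟩ : IrrCharacter K) ∈ aboveFin K Z := (mem_aboveFin K).mpr ⟨h4, h5⟩
  have h7 := inner_above_notMem K hmem h2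
  simp only at h7
  rw [← h6] at h7
  exact ind_ne_zero K θ (eq_zero_of_classInner_self h7)

private theorem exists_rep {φ : L → ℂ}
    (h : φ ∈ Cfsg.inducedIrrAbove K ⊥ \ Cfsg.inducedIrrAbove K Z) :
    ∃ θ ∈ thetaZ K Z, φ = indFun K (θ : K → ℂ) := by
  classical
  obtain ⟨⟨θ, h1, h2, h3, rfl⟩, h4⟩ := h
  refine ⟨⟨θ, h1⟩, Finset.mem_sdiff.mpr ⟨(mem_aboveFin K).mpr ⟨h2, h3⟩, ?_⟩, rfl⟩
  intro h5
  exact h4 (indFun_mem_above K h5)

variable {K Z}

private theorem fiber_sum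
    (hirr : ∀ χ ∈ Cfsg.inducedIrrAbove K ⊥ \ Cfsg.inducedIrrAbove K Z, Cfsg.IsIrrCharacter L χ)
    {θ₀ : IrrCharacter K} (h₀ : θ₀ ∈ thetaZ K Z) :
    open scoped Classical in
    ∑ θ ∈ (thetaZ K Z).filter (fun θ : IrrCharacter K => indFun K (θ : K → ℂ) = indFun K (θ₀ : K → ℂ)),
      (θ : K → ℂ) 1 = indFun K (θ₀ : K → ℂ) 1 := by
  classical
  obtain ⟨h01, h02⟩ := Finset.mem_sdiff.mp h₀
  have h := sum_above_inner K h01
  rw [← h]
  have hsub : thetaZ K Z ⊆ aboveFin K ⊥ := Finset.sdiff_subset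
  rw [Finset.sum_filter, ← Finset.sum_subset hsub]
  · refine Finset.sum_congr rfl fun θ hθ => ?_
    have hi1 := hirr _ (ind_mem K Z hθ)
    have hi2 := hirr _ (ind_mem K Z h₀)
    rw [classInner_irr hi1 hi2]
    split_ifs <;> simp
  · intro θ hθ hθ'
    have h3 : θ ∈ aboveFin K Z := by
      by_contra h4
      exact hθ' (Finset.mem_sdiff.mpr ⟨hθ, h4⟩)
    rw [inner_above_notMem K h3 h02, mul_zero]

private theorem deg_ind (θ : K → ℂ) (hθ : IsCharacter K θ) :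
    charDegree (indFun K θ) = K.index * charDegree θ := by
  apply charDegree_eq
  rw [indFun_one, apply_one_eq_charDegree hθ]
  push_cast
  ring

private theorem fiber_nat
    (hirr : ∀ χ ∈ Cfsg.inducedIrrAbove K ⊥ \ Cfsg.inducedIrrAbove K Z, Cfsg.IsIrrCharacter L χ)
    {θ₀ : IrrCharacter K} (h₀ : θ₀ ∈ thetaZ K Z) :
    open scoped Classical in
    K.index * ∑ θ ∈ (thetaZ K Z).filter (fun θ : IrrCharacter K => indFun K (θ : K → ℂ) = indFun K (θ₀ : K → ℂ)),
      charDegree (θ : K → ℂ) ^ 2 = charDegree (indFun K (θ₀ : K → ℂ)) ^ 2 := by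
  classical
  have h1 := fiber_sum hirr h₀
  set φ := indFun K (θ₀ : K → ℂ) with hφ
  have hc : IsCharacter L φ := isCharacter_indFun K (IsIrrCharacter.isCharacter θ₀.2)
  have h2 : ∑ θ ∈ (thetaZ K Z).filter (fun θ : IrrCharacter K => indFun K (θ : K → ℂ) = φ),
      charDegree (θ : K → ℂ) = charDegree φ := by
    have : ((∑ θ ∈ (thetaZ K Z).filter (fun θ : IrrCharacter K => indFun K (θ : K → ℂ) = φ),
      charDegree (θ : K → ℂ) : ℕ) : ℂ) = (charDegree φ : ℂ) := by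
      rw [← apply_one_eq_charDegree hc, ← h1]
      push_cast
      refine Finset.sum_congr rfl fun θ _ => ?_
      rw [apply_one_eq_charDegree (IsIrrCharacter.isCharacter θ.2)]
    exact_mod_cast this
  rw [Finset.mul_sum, sq (charDegree φ)]
  nth_rewrite 1 [← h2]
  rw [Finset.sum_mul]
  refine Finset.sum_congr rfl fun θ hθ => ?_
  have h3 : K.index * charDegree (θ : K → ℂ) = charDegree φ := by
    rw [← deg_ind _ (IsIrrCharacter.isCharacter θ.2), (Finset.mem_filter.mp hθ).2]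
  rw [← h3]
  ring

open scoped Classical in
private noncomputable def imgZ (K Z : Subgroup L) [K.Normal] [Z.Normal] [Fintype K] : Finset (L → ℂ) :=
  (thetaZ K Z).image (fun θ : IrrCharacter K => indFun K (θ : K → ℂ))

private theorem mem_imgZ {φ : L → ℂ} : φ ∈ imgZ K Z ↔
    φ ∈ Cfsg.inducedIrrAbove K ⊥ \ Cfsg.inducedIrrAbove K Z := by
  classical
  simp only [imgZ, Finset.mem_image]
  constructor
  · rintro ⟨θ, hθ, rfl⟩
    exact ind_mem K Z hθ
  · intro h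
    obtain ⟨θ, hθ, rfl⟩ := exists_rep K Z h
    exact ⟨θ, hθ, rfl⟩

private theorem sum_mass
    (hirr : ∀ χ ∈ Cfsg.inducedIrrAbove K ⊥ \ Cfsg.inducedIrrAbove K Z, Cfsg.IsIrrCharacter L χ) (B : ℕ) :
    open scoped Classical in
    ∑ φ ∈ (imgZ K Z).filter (fun φ => charDegree φ < K.index * B), charDegree φ ^ 2 =
      K.index * ∑ θ ∈ (thetaZ K Z).filter (fun θ : IrrCharacter K => charDegree (θ : K → ℂ) < B),
        charDegree (θ : K → ℂ) ^ 2 := by
  classical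
  have hpos : 0 < K.index := Nat.pos_of_ne_zero (Subgroup.index_ne_zero_of_finite (H := K))
  have hmaps : ∀ θ ∈ (thetaZ K Z).filter (fun θ : IrrCharacter K => charDegree (θ : K → ℂ) < B),
      indFun K (θ : K → ℂ) ∈ (imgZ K Z).filter (fun φ => charDegree φ < K.index * B) := by
    intro θ hθ
    obtain ⟨h1, h2⟩ := Finset.mem_filter.mp hθ
    refine Finset.mem_filter.mpr ⟨mem_imgZ.mpr (ind_mem K Z h1), ?_⟩
    rw [deg_ind _ (IsIrrCharacter.isCharacter θ.2)]
    exact Nat.mul_lt_mul_of_pos_left h2 hpos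
  rw [← Finset.sum_fiberwise_of_maps_to hmaps, Finset.mul_sum]
  refine Finset.sum_congr rfl fun φ hφ => ?_
  obtain ⟨hφ1, hφ2⟩ := Finset.mem_filter.mp hφ
  obtain ⟨θ₀, h₀, rfl⟩ := exists_rep K Z (mem_imgZ.mp hφ1)
  rw [← fiber_nat hirr h₀]
  congr 1
  apply Finset.sum_congr _ fun _ _ => rfl
  ext θ
  simp only [Finset.mem_filter]
  constructor
  · rintro ⟨h1, h2⟩
    refine ⟨⟨h1, ?_⟩, h2⟩
    rw [← h2, deg_ind _ (IsIrrCharacter.isCharacter θ.2)] at hφ2
    exact Nat.lt_of_mul_lt_mul_left hφ2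
  · rintro ⟨⟨h1, -⟩, h2⟩
    exact ⟨h1, h2⟩

private theorem total_mass :
    ∑ θ ∈ thetaZ K Z, charDegree (θ : K → ℂ) ^ 2 + (Z.subgroupOf K).index = Nat.card K := by
  classical
  have h1 := sum_irr_trivial_on (Z.subgroupOf K)
  have h2 := sum_irr_degree_sq (G := K)
  have h3 := Finset.sum_filter_add_sum_filter_not (Finset.univ : Finset (IrrCharacter K))
    (fun θ : IrrCharacter K => ∀ n : (Z.subgroupOf K), (θ : K → ℂ) n = (θ : K → ℂ) 1)
    (fun θ : IrrCharacter K => (θ : K → ℂ) 1 ^ 2)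
  have h4 : (Finset.univ.filter (fun θ : IrrCharacter K =>
      ¬ ∀ n : (Z.subgroupOf K), (θ : K → ℂ) n = (θ : K → ℂ) 1)) = thetaZ K Z := by
    ext θ
    rw [mem_thetaZ]
    simp only [Finset.mem_filter, Finset.mem_univ, true_and]
    constructor
    · intro h
      push Not at h
      obtain ⟨n, hn⟩ := h
      exact ⟨n, Subgroup.mem_subgroupOf.mp n.2, hn⟩
    · rintro ⟨a, ha, hne⟩ h
      exact hne (h ⟨a, Subgroup.mem_subgroupOf.mpr ha⟩)
  rw [h4, h2] at h3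
  have h5 : ∑ θ ∈ Finset.univ.filter (fun θ : IrrCharacter K => ∀ n : (Z.subgroupOf K), (θ : K → ℂ) n = (θ : K → ℂ) 1),
      (θ : K → ℂ) 1 ^ 2 = ((Z.subgroupOf K).index : ℂ) := by
    rw [← h1]
  rw [h5] at h3
  have h6 : ((∑ θ ∈ thetaZ K Z, charDegree (θ : K → ℂ) ^ 2 + (Z.subgroupOf K).index : ℕ) : ℂ) =
      (Nat.card K : ℂ) := by
    rw [← h3, add_comm]
    push_cast
    congr 1
    refine Finset.sum_congr rfl fun θ _ => ?_
    rw [apply_one_eq_charDegree (IsIrrCharacter.isCharacter θ.2)]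
  exact_mod_cast h6

private theorem key_bound
    (hirr : ∀ χ ∈ Cfsg.inducedIrrAbove K ⊥ \ Cfsg.inducedIrrAbove K Z, Cfsg.IsIrrCharacter L χ)
    (hZc : ∀ z ∈ Z, ∀ k ∈ K, z * k = k * z)
    {p m : ℕ} (hp : p.Prime) (hKp : Nat.card K = p ^ m) (hcop : Nat.Coprime p K.index)
    {θ₁ : IrrCharacter K} (hθ₁ : θ₁ ∈ thetaZ K Z)
    (hne : ∃ φ, φ ∈ imgZ K Z ∧ charDegree φ < K.index * charDegree (θ₁ : K → ℂ)) :
    open scoped Classical in
    K.index ^ 2 * charDegree (θ₁ : K → ℂ) ^ 2 ≤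
      ∑ φ ∈ (imgZ K Z).filter (fun φ => charDegree φ < K.index * charDegree (θ₁ : K → ℂ)), charDegree φ ^ 2 := by
  classical
  set t := charDegree (θ₁ : K → ℂ) with ht
  set e := K.index with he
  have hepos : 0 < e := Nat.pos_of_ne_zero (Subgroup.index_ne_zero_of_finite (H := K))
  -- prime powers
  have hpow : ∀ θ : IrrCharacter K, ∃ a, charDegree (θ : K → ℂ) = p ^ a := by
    intro θ
    have h1 : charDegree (θ : K → ℂ) ∣ Nat.card K :=
      degree_dvd_card θ.2 (apply_one_eq_charDegree (IsIrrCharacter.isCharacter θ.2))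
    rw [hKp] at h1
    obtain ⟨a, -, ha⟩ := (Nat.dvd_prime_pow hp).mp h1
    exact ⟨a, ha⟩
  obtain ⟨a, ha0⟩ := hpow θ₁
  have ha : t = p ^ a := ha0
  -- divisibility of the index
  have hidx : t ^ 2 ∣ (Z.subgroupOf K).index := by
    have h0 : Z.subgroupOf K ≤ Subgroup.center K := by
      intro z hz
      rw [Subgroup.mem_center_iff]
      intro k
      exact Subtype.ext (hZc z (Subgroup.mem_subgroupOf.mp hz) k k.2).symm
    have h1 := deg_sq_mul_card_le θ₁.2 (Z.subgroupOf K) h0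
      (apply_one_eq_charDegree (IsIrrCharacter.isCharacter θ₁.2))
    have h2 := Subgroup.card_mul_index (Z.subgroupOf K)
    rw [← h2, mul_comm] at h1
    have h3 : t ^ 2 ≤ (Z.subgroupOf K).index := Nat.le_of_mul_le_mul_left h1 Nat.card_pos
    have h4 : (Z.subgroupOf K).index ∣ p ^ m := by
      rw [← hKp]
      exact Subgroup.index_dvd_card _
    obtain ⟨c, -, hc⟩ := (Nat.dvd_prime_pow hp).mp h4
    rw [hc] at h3 ⊢
    rw [ha, ← pow_mul] at h3 ⊢
    exact pow_dvd_pow _ ((Nat.pow_le_pow_iff_right hp.one_lt).mp h3)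
  have hKdvd : t ^ 2 ∣ Nat.card K := by
    rw [← Subgroup.card_mul_index (Z.subgroupOf K)]
    exact Dvd.dvd.mul_left hidx _
  have htot : t ^ 2 ∣ ∑ θ ∈ thetaZ K Z, charDegree (θ : K → ℂ) ^ 2 := by
    have h := total_mass (K := K) (Z := Z)
    rw [← h] at hKdvd
    exact (Nat.dvd_add_left hidx).mp hKdvd
  have hR : t ^ 2 ∣ ∑ θ ∈ (thetaZ K Z).filter (fun θ : IrrCharacter K => ¬ charDegree (θ : K → ℂ) < t),
      charDegree (θ : K → ℂ) ^ 2 := by
    refine Finset.dvd_sum fun θ hθ => ?_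
    have h1 := (Finset.mem_filter.mp hθ).2
    obtain ⟨b, hb⟩ := hpow θ
    rw [hb, ha] at h1 ⊢
    have h2 : a ≤ b := by
      by_contra h3
      exact h1 (Nat.pow_lt_pow_right hp.one_lt (by omega))
    exact pow_dvd_pow_of_dvd (pow_dvd_pow _ h2) 2
  have hM : t ^ 2 ∣ ∑ θ ∈ (thetaZ K Z).filter (fun θ : IrrCharacter K => charDegree (θ : K → ℂ) < t),
      charDegree (θ : K → ℂ) ^ 2 := by
    rw [← Finset.sum_filter_add_sum_filter_not (thetaZ K Z)
      (fun θ : IrrCharacter K => charDegree (θ : K → ℂ) < t)] at htot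
    exact (Nat.dvd_add_left hR).mp htot
  have hmass := sum_mass hirr (K := K) (Z := Z) t
  -- degrees divisible by `e`
  have hdvd : ∀ φ ∈ imgZ K Z, e ∣ charDegree φ := by
    intro φ hφ
    obtain ⟨θ₀, -, rfl⟩ := exists_rep K Z (mem_imgZ.mp hφ)
    rw [deg_ind _ (IsIrrCharacter.isCharacter θ₀.2)]
    exact dvd_mul_right _ _
  set U := (imgZ K Z).filter (fun φ => charDegree φ < e * t) with hU
  have hD : ∑ φ ∈ U, charDegree φ ^ 2 = e ^ 2 * ∑ φ ∈ U, (charDegree φ / e) ^ 2 := by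
    rw [Finset.mul_sum]
    refine Finset.sum_congr rfl fun φ hφ => ?_
    obtain ⟨s, hs⟩ := hdvd φ (Finset.mem_filter.mp hφ).1
    rw [hs, Nat.mul_div_cancel_left _ hepos]
    ring
  set M' := ∑ φ ∈ U, (charDegree φ / e) ^ 2 with hM'
  have h5 : ∑ θ ∈ (thetaZ K Z).filter (fun θ : IrrCharacter K => charDegree (θ : K → ℂ) < t),
      charDegree (θ : K → ℂ) ^ 2 = e * M' := by
    apply Nat.eq_of_mul_eq_mul_left hepos
    rw [← hmass, hD]
    ring
  rw [h5] at hM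
  have hcop2 : Nat.Coprime (t ^ 2) e := by
    rw [ha]
    exact Nat.Coprime.pow_left _ (Nat.Coprime.pow_left _ hcop)
  have h6 : t ^ 2 ∣ M' := hcop2.dvd_of_dvd_mul_left hM
  have h7 : 0 < M' := by
    obtain ⟨φ, hφ1, hφ2⟩ := hne
    have hφU : φ ∈ U := Finset.mem_filter.mpr ⟨hφ1, hφ2⟩
    obtain ⟨θ₀, h₀, rfl⟩ := exists_rep K Z (mem_imgZ.mp hφ1)
    have h8 : 0 < (charDegree (indFun K (θ₀ : K → ℂ)) / e) ^ 2 := by
      rw [deg_ind _ (IsIrrCharacter.isCharacter θ₀.2), Nat.mul_div_cancel_left _ hepos]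
      have : 0 < charDegree (θ₀ : K → ℂ) := by
        obtain ⟨n, hn, h1⟩ := IsIrrCharacter.apply_one θ₀.2
        rw [charDegree_eq h1]
        exact hn
      positivity
    exact lt_of_lt_of_le h8 (Finset.single_le_sum (f := fun φ => (charDegree φ / e) ^ 2)
      (fun _ _ => Nat.zero_le _) hφU)
  have h8 := Nat.le_of_dvd h7 h6
  rw [hD]
  exact Nat.mul_le_mul_left _ h8

end Aux

private theorem coh_p_case {L : Type*} [Group L] [Fintype L] {G : Type*} [Group G] [Fintype G]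
    (K : Subgroup L) [hK : K.Normal] [Fintype K] (τ : (L → ℂ) → (G → ℂ)) (R : (L → ℂ) → Finset (G → ℂ))
    (Z : Subgroup L) [Z.Normal]
    (hS : Cfsg.IsCoherenceSystem (Cfsg.inducedIrrAbove K ⊥ \ Cfsg.inducedIrrAbove K Z) τ R)
    (hZc : ∀ z ∈ Z, ∀ k ∈ K, z * k = k * z)
    (hirr : ∀ χ ∈ Cfsg.inducedIrrAbove K ⊥ \ Cfsg.inducedIrrAbove K Z, Cfsg.IsIrrCharacter L χ)
    {p m : ℕ} (hp : p.Prime) (hp3 : 3 ≤ p) (hKp : Nat.card K = p ^ m) (hcop : Nat.Coprime p K.index) :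
    Cfsg.IsCoherent (Cfsg.inducedIrrAbove K ⊥ \ Cfsg.inducedIrrAbove K Z) {1}ᶜ τ := by
  classical
  set e := K.index with he
  have hepos : 0 < e := Nat.pos_of_ne_zero (Subgroup.index_ne_zero_of_finite (H := K))
  set S₀ := Cfsg.inducedIrrAbove K ⊥ \ Cfsg.inducedIrrAbove K Z with hS₀
  set F := imgZ K Z with hF
  have hFmem : ∀ φ, φ ∈ F ↔ φ ∈ S₀ := fun φ => mem_imgZ
  have hFne : F.Nonempty := by
    obtain ⟨φ, hφ⟩ := hS.nonempty
    exact ⟨φ, (hFmem φ).mpr hφ⟩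
  let d : (L → ℂ) → ℕ := charDegree
  have hd : ∀ φ ∈ S₀, φ 1 = (d φ : ℂ) := fun φ hφ => apply_one_eq_charDegree (hS.isCharacter φ hφ)
  have hn : ∀ φ ∈ S₀, Cfsg.classInner φ φ = ((1 : ℕ) : ℂ) := fun φ hφ => by
    rw [classInner_irr_self (hirr φ hφ)]; simp
  have hdconj : ∀ φ ∈ S₀, d (Cfsg.conjFun φ) = d φ := by
    intro φ hφ
    have h1 : Cfsg.conjFun φ 1 = φ 1 := by
      rw [Cfsg.conjFun, hd φ hφ]
      simp
    show charDegree _ = charDegree _
    apply charDegree_eq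
    rw [h1, hd φ hφ]
  -- structure of degrees
  have hpowd : ∀ φ ∈ F, ∃ θ ∈ thetaZ K Z, φ = indFun K (θ : K → ℂ) ∧ ∃ a, d φ = e * p ^ a ∧ charDegree (θ : K → ℂ) = p ^ a := by
    intro φ hφ
    obtain ⟨θ, hθ, rfl⟩ := exists_rep K Z ((hFmem φ).mp hφ)
    refine ⟨θ, hθ, rfl, ?_⟩
    have h1 : charDegree (θ : K → ℂ) ∣ Nat.card K :=
      degree_dvd_card θ.2 (apply_one_eq_charDegree (IsIrrCharacter.isCharacter θ.2))
    rw [hKp] at h1
    obtain ⟨a, -, ha⟩ := (Nat.dvd_prime_pow hp).mp h1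
    refine ⟨a, ?_, ha⟩
    show charDegree _ = _
    rw [deg_ind _ (IsIrrCharacter.isCharacter θ.2), ha]
  -- base
  obtain ⟨χ₁, hχ₁, hmin⟩ := Finset.exists_min_image F d hFne
  let F₀ : Finset (L → ℂ) := F.filter (fun φ => d φ = d χ₁)
  have hF₀sub : (↑F₀ : Set (L → ℂ)) ⊆ S₀ := fun φ hφ => (hFmem φ).mp (Finset.mem_filter.mp hφ).1
  have hconjS : ∀ φ ∈ S₀, Cfsg.conjFun φ ∈ S₀ := hS.conj_mem
  have hF₀conj : ∀ φ ∈ F₀, Cfsg.conjFun φ ∈ F₀ := by
    intro φ hφ
    obtain ⟨h1, h2⟩ := Finset.mem_filter.mp hφ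
    refine Finset.mem_filter.mpr ⟨(hFmem _).mpr (hconjS φ ((hFmem φ).mp h1)), ?_⟩
    rw [hdconj φ ((hFmem φ).mp h1), h2]
  have hχ₁F₀ : χ₁ ∈ F₀ := Finset.mem_filter.mpr ⟨hχ₁, rfl⟩
  have hF₀coh : Cfsg.IsCoherent (↑F₀ : Set (L → ℂ)) {1}ᶜ τ := by
    refine Cfsg.Agent.S1517.result _ τ R
      (IsCoherenceSystem.mono hS hF₀sub ⟨χ₁, hχ₁F₀⟩ (fun φ hφ => hF₀conj φ hφ)) ?_
    intro φ hφ ψ hψ
    rw [hd φ (hF₀sub hφ), hd ψ (hF₀sub hψ), (Finset.mem_filter.mp hφ).2, (Finset.mem_filter.mp hψ).2]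
  -- induction
  suffices hmain : ∀ k : ℕ, ∀ S' : Finset (L → ℂ), F₀ ⊆ S' → S' ⊆ F → (∀ φ ∈ S', Cfsg.conjFun φ ∈ S') →
      Cfsg.IsCoherent (↑S' : Set (L → ℂ)) {1}ᶜ τ → F.card - S'.card = k → Cfsg.IsCoherent S₀ {1}ᶜ τ from
    hmain _ F₀ subset_rfl (Finset.filter_subset _ _) hF₀conj hF₀coh rfl
  intro k
  induction' k using Nat.strong_induction_on with k ih
  intro S' h1 h2 h3 h4 h5
  by_cases hEq : S' = F
  · have : (↑S' : Set (L → ℂ)) = S₀ := by
      ext φ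
      rw [hEq, Finset.mem_coe]
      exact hFmem φ
    rwa [this] at h4
  have hnon : (F \ S').Nonempty := by
    rw [Finset.sdiff_nonempty]
    exact fun h => hEq (Finset.Subset.antisymm h2 h)
  obtain ⟨χ, hχ, hχmin⟩ := Finset.exists_min_image (F \ S') d hnon
  obtain ⟨hχF, hχS'⟩ := Finset.mem_sdiff.mp hχ
  have hχS₀ : χ ∈ S₀ := (hFmem χ).mp hχF
  have hconjχ : Cfsg.conjFun χ ∉ S' := by
    intro h
    have := h3 _ h
    rw [conjFun_conjFun] at this
    exact hχS' this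
  obtain ⟨θ, hθ, hχθ, b, hb, hθb⟩ := hpowd χ hχF
  obtain ⟨θ₁, hθ₁, hχ₁θ, a, ha, hθa⟩ := hpowd χ₁ hχ₁
  have hab : a < b := by
    have h6 : d χ₁ ≤ d χ := hmin χ hχF
    have h7 : d χ ≠ d χ₁ := fun h => hχS' (h1 (Finset.mem_filter.mpr ⟨hχF, h⟩))
    rw [ha, hb] at h6 h7
    have h8 : p ^ a ≤ p ^ b := Nat.le_of_mul_le_mul_left h6 hepos
    have h9 : a ≤ b := (Nat.pow_le_pow_iff_right hp.one_lt).mp h8
    rcases h9.lt_or_eq with h10 | h10
    · exact h10
    · exact absurd (by rw [h10]) h7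
  have hcoh' := Cfsg.Agent.S1516.result S₀ τ R hS d (fun _ => 1) hd hn S'
    (fun φ hφ => (hFmem φ).mp (h2 hφ)) h3 h4 χ hχS₀ hχS' hconjχ χ₁ (h1 hχ₁F₀)
    (by rw [ha, hb]; exact mul_dvd_mul_left _ (pow_dvd_pow _ hab.le))
    (by
      -- the inequality
      have hbound := key_bound hirr hZc hp hKp hcop hθ (⟨χ₁, hχ₁, by
        show d χ₁ < _
        rw [ha, hθb]
        exact Nat.mul_lt_mul_of_pos_left (Nat.pow_lt_pow_right hp.one_lt hab) hepos⟩)
      rw [hθb] at hbound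
      have hU : ∀ φ ∈ (imgZ K Z).filter (fun φ => charDegree φ < e * p ^ b), φ ∈ S' := by
        intro φ hφ
        obtain ⟨hφ1, hφ2⟩ := Finset.mem_filter.mp hφ
        by_contra hφS'
        have := hχmin φ (Finset.mem_sdiff.mpr ⟨hφ1, hφS'⟩)
        rw [hb] at this
        exact absurd hφ2 (not_lt.mpr this)
      have hle : ∑ φ ∈ (imgZ K Z).filter (fun φ => charDegree φ < e * p ^ b), charDegree φ ^ 2 ≤
          ∑ φ ∈ S', d φ ^ 2 :=
        Finset.sum_le_sum_of_subset (fun φ hφ => hU φ hφ)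
      have h10 : e ^ 2 * (p ^ b) ^ 2 ≤ ∑ φ ∈ S', d φ ^ 2 := hbound.trans hle
      have h11 : (∑ φ ∈ S', ((d φ : ℝ) ^ 2 / ((1 : ℕ) : ℝ))) = ((∑ φ ∈ S', d φ ^ 2 : ℕ) : ℝ) := by
        push_cast
        simp
      rw [h11]
      have h12 : ((e ^ 2 * (p ^ b) ^ 2 : ℕ) : ℝ) ≤ ((∑ φ ∈ S', d φ ^ 2 : ℕ) : ℝ) := by
        exact_mod_cast h10
      refine lt_of_lt_of_le ?_ h12
      rw [ha, hb]
      have h13 : 3 * p ^ a ≤ p ^ b := by
        calc 3 * p ^ a ≤ p * p ^ a := Nat.mul_le_mul_right _ hp3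
          _ = p ^ (a + 1) := by ring
          _ ≤ p ^ b := Nat.pow_le_pow_right hp.pos hab
      have h14 : (3 : ℝ) * (p : ℝ) ^ a ≤ (p : ℝ) ^ b := by exact_mod_cast h13
      have h15 : (0 : ℝ) < (p : ℝ) ^ a := by
        have : (0 : ℝ) < p := by exact_mod_cast hp.pos
        positivity
      have h16 : (0 : ℝ) < (p : ℝ) ^ b := by
        have : (0 : ℝ) < p := by exact_mod_cast hp.pos
        positivity
      have h17 : (0 : ℝ) < e := by exact_mod_cast hepos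
      push_cast
      have h18 : 2 * (p : ℝ) ^ a < (p : ℝ) ^ b := by linarith
      have h19 : (0 : ℝ) < (e : ℝ) ^ 2 * (p : ℝ) ^ b := by positivity
      nlinarith [mul_lt_mul_of_pos_left h18 h19])
  have hS'' : (↑S' ∪ {χ, Cfsg.conjFun χ} : Set (L → ℂ)) = ↑(S' ∪ {χ, Cfsg.conjFun χ}) := by
    simp [Finset.coe_union]
  rw [hS''] at hcoh'
  have hsub : S' ⊆ S' ∪ {χ, Cfsg.conjFun χ} := Finset.subset_union_left
  have hcard : S'.card < (S' ∪ {χ, Cfsg.conjFun χ}).card := by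
    apply Finset.card_lt_card
    refine ⟨hsub, fun h => hχS' (h ?_)⟩
    simp
  have hsubF : S' ∪ {χ, Cfsg.conjFun χ} ⊆ F := by
    intro φ hφ
    rcases Finset.mem_union.mp hφ with h | h
    · exact h2 h
    · simp only [Finset.mem_insert, Finset.mem_singleton] at h
      rcases h with rfl | rfl
      · exact hχF
      · exact (hFmem _).mpr (hconjS χ hχS₀)
  have hlt : F.card - (S' ∪ {χ, Cfsg.conjFun χ}).card < k := by
    have := Finset.card_le_card hsubF
    have h6 : S'.card < F.card := lt_of_lt_of_le hcard this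
    omega
  refine ih _ hlt _ (h1.trans hsub) hsubF ?_ hcoh' rfl
  intro φ hφ
  rcases Finset.mem_union.mp hφ with h | h
  · exact Finset.mem_union_left _ (h3 φ h)
  · simp only [Finset.mem_insert, Finset.mem_singleton] at h
    rcases h with rfl | rfl
    · simp
    · rw [conjFun_conjFun]; simp

/-- Let K be a nilpotent normal subgroup of the finite group L of odd order with [K,K] < K < L and L/[K,K] a Frobenius group with kernel K/[K,K] (elements of K outside [K,K] are centralised modulo [K,K] only from inside K); let (S, τ, R) be a coherence system from L to G with S the functions induced from non-principal irreducible characters of K. Let Z be a nontrivial normal subgroup of L contained in the centre of K, and suppose every member of S outside S(Z) is an irreducible character of L. Then S minus S(Z) is the set of irreducible characters χ of L with χ z ≠ χ 1 for some z ∈ Z, and it is coherent. -/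
theorem result {L : Type*} [Group L] [Fintype L] {G : Type*} [Group G] [Fintype G] (K : Subgroup L) [hK : K.Normal] (hsolv : Group.IsSolvable K) (τ : (L → ℂ) → (G → ℂ)) (R : (L → ℂ) → Finset (G → ℂ)) (hS : Cfsg.IsCoherenceSystem (Cfsg.inducedIrrAbove K ⊥) τ R) (hodd : Odd (Nat.card L)) (hnil : Group.IsNilpotent K) (hH₁K : ⁅K, K⁆ < K) (hKL : K < ⊤) (hfrob : ∀ k ∈ K, k ∉ ⁅K, K⁆ → ∀ x : L, x * k * x⁻¹ * k⁻¹ ∈ ⁅K, K⁆ → x ∈ K) (Z : Subgroup L) [Z.Normal] (hZ1 : Z ≠ ⊥) (hZK : Z ≤ K) (hZc : ∀ z ∈ Z, ∀ k ∈ K, z * k = k * z) (hirr : ∀ χ ∈ Cfsg.inducedIrrAbove K ⊥ \ Cfsg.inducedIrrAbove K Z, Cfsg.IsIrrCharacter L χ) : Cfsg.inducedIrrAbove K ⊥ \ Cfsg.inducedIrrAbove K Z = {χ | Cfsg.IsIrrCharacter L χ ∧ ∃ z ∈ Z, χ z ≠ χ 1} ∧ Cfsg.IsCoherent (Cfsg.inducedIrrAbove K ⊥ \ Cfsg.inducedIrrAbove K Z) {1}ᶜ τ := by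
  classical
  haveI : Fintype K := Fintype.ofFinite _
  have hcomp : ∀ a ∈ K, ∀ b ∈ K, a * b * a⁻¹ * b⁻¹ ∈ ⁅K, K⁆ := fun a ha b hb =>
    Subgroup.commutator_mem_commutator ha hb
  constructor
  · -- the set equality
    ext χ
    constructor
    · intro hχ
      refine ⟨hirr χ hχ, ?_⟩
      obtain ⟨θ, hθ, rfl⟩ := exists_rep K Z hχ
      obtain ⟨a, ha, hne⟩ := (mem_thetaZ K Z).mp hθ
      exact ⟨a, ha, fun h => hne (triv_of_ind_triv K θ.2 a h)⟩
    · rintro ⟨hχ, z, hz, hne⟩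
      obtain ⟨θ, h1, h2⟩ := exists_constituent K hχ ⟨z, hZK hz⟩ hne
      have hθ : θ ∈ thetaZ K Z := (mem_thetaZ K Z).mpr ⟨⟨z, hZK hz⟩, hz, h1⟩
      have hmem := ind_mem K Z hθ
      have hi := hirr _ hmem
      have hcl : IsClassFunction L χ := IsCharacter.isClassFunction (IsIrrCharacter.isCharacter hχ)
      have h3 : Cfsg.classInner (indFun K (θ : K → ℂ)) χ ≠ 0 := by
        rw [classInner_indFun_left K _ _ hcl, classInner_conj_symm]
        intro h
        apply h2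
        have := congrArg (starRingEnd ℂ) h
        simpa using this
      by_cases he : indFun K (θ : K → ℂ) = χ
      · rwa [← he]
      · exact absurd (classInner_irr_of_ne hi hχ he) h3
  · -- coherence
    have hZne : ∃ z ∈ Z, z ≠ 1 := by
      by_contra h
      push Not at h
      exact hZ1 ((Subgroup.eq_bot_iff_forall Z).mpr h)
    obtain ⟨z, hz, hz1⟩ := hZne
    -- nonemptiness
    have hθex : ∃ θ : IrrCharacter K, θ ∈ thetaZ K Z := by
      by_contra h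
      push Not at h
      have h1 := sum_irr_degree_mul_apply (⟨z, hZK hz⟩ : K)
      have h2 : (⟨z, hZK hz⟩ : K) ≠ 1 := fun e => hz1 (congrArg Subtype.val e)
      rw [if_neg h2] at h1
      have h3 := sum_irr_degree_sq (G := K)
      have h4 : ∀ θ : IrrCharacter K, (θ : K → ℂ) ⟨z, hZK hz⟩ = (θ : K → ℂ) 1 := by
        intro θ
        by_contra hne
        exact h θ ((mem_thetaZ K Z).mpr ⟨_, hz, hne⟩)
      have h5 : ∑ θ : IrrCharacter K, (θ : K → ℂ) 1 * (θ : K → ℂ) ⟨z, hZK hz⟩ = ∑ θ : IrrCharacter K, (θ : K → ℂ) 1 ^ 2 :=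
        Finset.sum_congr rfl fun θ _ => by rw [h4 θ]; ring
      rw [h5, h3] at h1
      have : (Nat.card K : ℂ) ≠ 0 := by exact_mod_cast Nat.card_pos.ne'
      exact this h1
    obtain ⟨θ₀, hθ₀⟩ := hθex
    have hφ₀ := ind_mem K Z hθ₀
    have hsub : Cfsg.inducedIrrAbove K ⊥ \ Cfsg.inducedIrrAbove K Z ⊆ Cfsg.inducedIrrAbove K ⊥ :=
      Set.diff_subset
    have hconj : ∀ χ ∈ Cfsg.inducedIrrAbove K ⊥ \ Cfsg.inducedIrrAbove K Z,
        Cfsg.conjFun χ ∈ Cfsg.inducedIrrAbove K ⊥ \ Cfsg.inducedIrrAbove K Z := by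
      rintro χ ⟨h1, h2⟩
      refine ⟨inducedIrrAbove_conj K h1, fun h3 => h2 ?_⟩
      have := inducedIrrAbove_conj K h3
      rwa [conjFun_conjFun] at this
    have hSZ := IsCoherenceSystem.mono hS hsub ⟨_, hφ₀⟩ hconj
    by_cases hpp : ∃ p m : ℕ, p.Prime ∧ (⊥ : Subgroup L).relIndex K = p ^ m
    · obtain ⟨p, m, hp, hm⟩ := hpp
      rw [Subgroup.relIndex_bot_left] at hm
      have hKne : 1 < Nat.card K := by
        obtain ⟨x, hx, hx'⟩ := SetLike.exists_of_lt hH₁K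
        haveI : Nontrivial K := ⟨⟨⟨x, hx⟩, 1, fun h => hx' (by
          have : x = 1 := congrArg Subtype.val h
          rw [this]; exact one_mem _)⟩⟩
        exact Finite.one_lt_card
      have hm0 : m ≠ 0 := by
        rintro rfl
        rw [pow_zero] at hm
        rw [hm] at hKne
        exact lt_irrefl _ hKne
      have hpdvd : p ∣ Nat.card L := by
        have h1 : p ∣ Nat.card K := by rw [hm]; exact dvd_pow_self _ hm0
        exact h1.trans (Subgroup.card_subgroup_dvd_card K)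
      have hpodd : Odd p := Odd.of_dvd_nat hodd hpdvd
      have hp3 : 3 ≤ p := by
        have h2 := hp.two_le
        obtain ⟨j, hj⟩ := hpodd
        omega
      -- coprimality
      have hdvd := index_dvd_relIndex_sub_one (K := K) (H₁ := ⁅K, K⁆) (N := K)
        (Subgroup.commutator_le_left K K) le_rfl hcomp hfrob
      have hcop : Nat.Coprime p K.index := by
        rw [Nat.Prime.coprime_iff_not_dvd hp]
        intro h
        have h1 := h.trans hdvd
        have h2 : ⁅K, K⁆.relIndex K ∣ p ^ m := by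
          rw [← hm]
          exact Subgroup.relIndex_dvd_card _ _
        obtain ⟨c, -, hc⟩ := (Nat.dvd_prime_pow hp).mp h2
        have hgt : 1 < ⁅K, K⁆.relIndex K := by
          obtain ⟨x, hx, hx'⟩ := SetLike.exists_of_lt hH₁K
          by_contra h3
          have h4 : ⁅K, K⁆.relIndex K = 1 := by
            have h5 : ⁅K, K⁆.relIndex K ≠ 0 := Subgroup.index_ne_zero_of_finite
            omega
          exact hx' (Subgroup.relIndex_eq_one.mp h4 hx)
        have hc0 : c ≠ 0 := by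
          rintro rfl
          simp [hc] at hgt
        rw [hc] at h1
        have h2' : p ∣ p ^ c := dvd_pow_self _ hc0
        have h3 : p ∣ 1 := by
          have h4 : p ^ c = (p ^ c - 1) + 1 := by
            have : 1 ≤ p ^ c := Nat.one_le_pow _ _ hp.pos
            omega
          rw [h4] at h2'
          exact (Nat.dvd_add_right h1).mp h2'
        exact hp.one_lt.ne' (Nat.dvd_one.mp h3)
      exact coh_p_case K τ R Z hSZ hZc hirr hp hp3 hm hcop
    · have h1 : Cfsg.IsCoherent (Cfsg.inducedIrrAbove K ⊥) {1}ᶜ τ :=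
        Cfsg.Agent.S1521.result K hsolv τ R hS hodd ⊥ bot_le (by infer_instance) (⁅K, K⁆ ⊔ ⊥) rfl
          (by rwa [sup_bot_eq]) hKL (by rwa [sup_bot_eq])
          (Or.inr (Or.inr (Or.inl hpp)))
      refine IsCoherent.mono hsub h1 ⟨indFun K (θ₀ : K → ℂ) - Cfsg.conjFun (indFun K (θ₀ : K → ℂ)),
        coh_sub_conj_mem hSZ hφ₀, ?_⟩
      intro h
      exact hSZ.conj_ne _ hφ₀ (sub_eq_zero.mp h).symm

end Cfsg.Agent.S1522
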