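import Cfsg.Statements.S1523
import Cfsg.Agent.Lib.OddChar.Above

set_option autoImplicit false
open Cfsg

namespace Cfsg.Agent.S1523

open Cfsg.Agent.Lib.Char Cfsg.Agent.Lib.OddChar

/-- A function invariant under a free conjugation action of a subgroup has sum divisible by the
subgroup's order, in the algebraic integers. -/
private theorem exists_sum_eq_card_mul_of_free {G : Type*} [Group G] [Fintype G] [DecidableEq G]
    (A : Subgroup G) (F : G → ℂ) (X : Finset G) (hinv : ∀ u ∈ A, ∀ g ∈ X, u * g * u⁻¹ ∈ X)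
    (hfree : ∀ u ∈ A, ∀ g ∈ X, u * g * u⁻¹ = g → u = 1)
    (hint : ∀ g ∈ X, IsIntegral ℤ (F g))
    (hF : ∀ u ∈ A, ∀ g ∈ X, F (u * g * u⁻¹) = F g) :
    ∃ c : ℂ, IsIntegral ℤ c ∧ ∑ g ∈ X, F g = (Nat.card A : ℂ) * c := by
  classical
  haveI : Fintype A := Fintype.ofFinite _
  induction' hn : X.card using Nat.strong_induction_on with n ih generalizing X
  rcases X.eq_empty_or_nonempty with rfl | ⟨g, hg⟩
  · exact ⟨0, isIntegral_zero, by simp⟩
  let O : Finset G := Finset.univ.image (fun u : A => (u : G) * g * (u : G)⁻¹)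
  have hOX : O ⊆ X := by
    intro y hy
    obtain ⟨u, -, rfl⟩ := Finset.mem_image.mp hy
    exact hinv u u.2 g hg
  have hgO : g ∈ O := Finset.mem_image.mpr ⟨1, Finset.mem_univ _, by simp⟩
  have hlt : (X \ O).card < n := by
    rw [← hn]
    exact Finset.card_lt_card (Finset.sdiff_ssubset hOX ⟨g, hgO⟩)
  obtain ⟨c, hc, hcs⟩ := ih _ hlt (X \ O) (by
      intro u hu y hy
      obtain ⟨hyX, hyO⟩ := Finset.mem_sdiff.mp hy
      refine Finset.mem_sdiff.mpr ⟨hinv u hu y hyX, fun h => hyO ?_⟩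
      obtain ⟨v, -, hv⟩ := Finset.mem_image.mp h
      refine Finset.mem_image.mpr ⟨⟨u, hu⟩⁻¹ * v, Finset.mem_univ _, ?_⟩
      have : (v : G) * g * (v : G)⁻¹ = u * y * u⁻¹ := hv
      simp only [Subgroup.coe_mul, Subgroup.coe_inv, mul_inv_rev, inv_inv]
      calc (u : G)⁻¹ * (v : G) * g * ((v : G)⁻¹ * u) = u⁻¹ * ((v : G) * g * (v : G)⁻¹) * u := by group
        _ = y := by rw [this]; group)
    (fun u hu y hy h => hfree u hu y (Finset.mem_sdiff.mp hy).1 h)
    (fun y hy => hint y (Finset.mem_sdiff.mp hy).1)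
    (fun u hu y hy => hF u hu y (Finset.mem_sdiff.mp hy).1) rfl
  refine ⟨F g + c, (hint g hg).add hc, ?_⟩
  rw [← Finset.sum_sdiff hOX, hcs, mul_add, add_comm]
  congr 1
  rw [Finset.sum_image]
  · have h0 : ∑ u : A, F ((u : G) * g * (u : G)⁻¹) = ∑ _u : A, F g :=
      Finset.sum_congr rfl fun u _ => hF u u.2 g hg
    rw [h0]
    simp [Finset.sum_const, Finset.card_univ, Nat.card_eq_fintype_card]
  · intro u _ v _ huv
    have huv' : (u : G) * g * (u : G)⁻¹ = v * g * (v : G)⁻¹ := huv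
    have : ((v : G)⁻¹ * u) = 1 := by
      apply hfree _ (A.mul_mem (A.inv_mem v.2) u.2) g hg
      calc (v : G)⁻¹ * u * g * ((v : G)⁻¹ * u)⁻¹ = (v : G)⁻¹ * ((u : G) * g * (u : G)⁻¹) * v := by group
        _ = g := by rw [huv']; group
    apply Subtype.ext
    rw [inv_mul_eq_one] at this
    exact this.symm

private theorem sum_antisymm_mem {G : Type*} [Group G] [Fintype G] [DecidableEq G] (H : Subgroup G)
    [DecidablePred (· ∈ H)] (a : G → ℂ) (ha : ∀ g, a g⁻¹ = - a g) :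
    ∑ g ∈ Finset.univ.filter (· ∈ H), a g = 0 := by
  have h : ∑ g ∈ Finset.univ.filter (· ∈ H), a g = ∑ g ∈ Finset.univ.filter (· ∈ H), (- a g) := by
    refine Finset.sum_equiv (Equiv.inv G) ?_ ?_
    · intro g
      simp
    · intro g _
      simp [ha]
  rw [Finset.sum_neg_distrib] at h
  have h2 : (2 : ℂ) * ∑ g ∈ Finset.univ.filter (· ∈ H), a g = 0 := by
    rw [two_mul]
    nth_rewrite 1 [h]
    ring
  simpa using h2

private theorem int_of_rat_integral {x : ℂ} {q : ℚ} (hx : x = (q : ℂ)) (h : IsIntegral ℤ x) :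
    ∃ k : ℤ, x = k := by
  have h2 : IsIntegral ℤ (algebraMap ℚ ℂ q) := by
    have : algebraMap ℚ ℂ q = x := by rw [hx]; rfl
    rw [this]; exact h
  have hq : IsIntegral ℤ q := (isIntegral_algebraMap_iff (algebraMap ℚ ℂ).injective).mp h2
  obtain ⟨k, hk⟩ := IsIntegrallyClosed.isIntegral_iff.mp hq
  refine ⟨k, ?_⟩
  rw [hx, ← hk]
  simp

private theorem isConj_inv_iff {G : Type*} [Group G] (a b : G) :
    IsConj a b⁻¹ ↔ IsConj a⁻¹ b := by
  constructor
  · intro h
    obtain ⟨c, hc⟩ := isConj_iff.mp h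
    refine isConj_iff.mpr ⟨c, ?_⟩
    have : (c * a * c⁻¹)⁻¹ = (b⁻¹)⁻¹ := by rw [hc]
    rw [inv_inv] at this
    rw [← this]; group
  · intro h
    obtain ⟨c, hc⟩ := isConj_iff.mp h
    refine isConj_iff.mpr ⟨c, ?_⟩
    rw [← hc]; group

private theorem main {G : Type*} [Group G] [Fintype G] [DecidableEq G] (p : ℕ) [Fact p.Prime] (P : Sylow p G)
    (hTI : Cfsg.IsTISubset ((P : Subgroup G) : Set G))
    (hodd : Odd (Nat.card (Subgroup.normalizer ((P : Subgroup G) : Set G)))) (Z : Subgroup G)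
    (hZP : Z ≤ P)
    (hZn : ∀ x ∈ Subgroup.normalizer ((P : Subgroup G) : Set G), ∀ z ∈ Z, x * z * x⁻¹ ∈ Z)
    (hZc : ∀ z ∈ Z, ∀ y ∈ (P : Subgroup G), z * y = y * z)
    (ψ : G → ℂ) (hψ : Cfsg.IsIrrCharacter G ψ)
    (hconst : ∀ z ∈ Z, ∀ z' ∈ Z, z ≠ 1 → z' ≠ 1 → ψ z = ψ z') (z : G) (hz : z ∈ Z) (hz1 : z ≠ 1) :
    ∃ n d : ℤ, ψ z = n ∧ ψ 1 = d ∧ (Nat.card (P : Subgroup G) : ℤ) ∣ d - n := by
  classical
  set L := Subgroup.normalizer ((P : Subgroup G) : Set G) with hL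
  have hcl := IsCharacter.isClassFunction (IsIrrCharacter.isCharacter hψ)
  -- TI
  have T1 : ∀ x ∈ (P : Subgroup G), x ≠ 1 → ∀ g, g * x * g⁻¹ ∈ (P : Subgroup G) → g ∈ L := by
    intro x hx hx1 g hg
    by_contra hgL
    exact hx1 (hTI g hgL x hx hg)
  have hLP : ∀ g ∈ L, ∀ x ∈ (P : Subgroup G), g * x * g⁻¹ ∈ (P : Subgroup G) := by
    intro g hg x hx
    exact (Subgroup.mem_normalizer_iff.mp hg x).mp hx
  have hPL : (P : Subgroup G) ≤ L := by
    intro x hx
    refine Subgroup.mem_normalizer_iff.mpr fun y => ?_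
    constructor
    · intro hy; exact (P : Subgroup G).mul_mem ((P : Subgroup G).mul_mem hx hy) ((P : Subgroup G).inv_mem hx)
    · intro hy
      have := (P : Subgroup G).mul_mem ((P : Subgroup G).mul_mem ((P : Subgroup G).inv_mem hx) hy) hx
      simpa [mul_assoc] using this
  have hzinv : z⁻¹ ∈ Z := Z.inv_mem hz
  have hzinv1 : z⁻¹ ≠ 1 := inv_ne_one.mpr hz1
  have hzP : z ∈ (P : Subgroup G) := hZP hz
  -- the elements w
  have hw : ∀ w, (IsConj z w ∨ IsConj z⁻¹ w) → ∃ w₀ h, w₀ ∈ Z ∧ w₀ ≠ 1 ∧ h * w₀ * h⁻¹ = w := by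
    rintro w (h | h)
    · obtain ⟨c, hc⟩ := isConj_iff.mp h
      exact ⟨z, c, hz, hz1, hc⟩
    · obtain ⟨c, hc⟩ := isConj_iff.mp h
      exact ⟨z⁻¹, c, hzinv, hzinv1, hc⟩
  have T2 : ∀ w, (IsConj z w ∨ IsConj z⁻¹ w) → w ∈ (P : Subgroup G) → w ∈ Z := by
    intro w hw' hwP
    obtain ⟨w₀, h, hw₀, hw₀1, rfl⟩ := hw w hw'
    exact hZn h (T1 w₀ (hZP hw₀) hw₀1 h hwP) w₀ hw₀
  have T3 : ¬ IsConj z⁻¹ z := by
    intro h
    obtain ⟨c, hc⟩ := isConj_iff.mp h.symm
    have hcL : c ∈ L := T1 z hzP hz1 c (by rw [hc]; exact (P : Subgroup G).inv_mem hzP)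
    haveI : Fintype L := Fintype.ofFinite _
    have : IsConj (⟨z, hPL hzP⟩ : L) (⟨z, hPL hzP⟩ : L)⁻¹ := by
      refine isConj_iff.mpr ⟨⟨c, hcL⟩, ?_⟩
      apply Subtype.ext
      simpa using hc
    have h1 := eq_one_of_isConj_inv_of_odd hodd this
    exact hz1 (congrArg Subtype.val h1)
  -- p-elements
  have hpel : ∀ u ∈ (P : Subgroup G), ∀ h, h⁻¹ * u * h ∈ L → h⁻¹ * u * h ∈ (P : Subgroup G) := by
    intro u hu h hL'
    set v := h⁻¹ * u * h with hv
    have hp : IsPGroup p (Subgroup.zpowers v) := by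
      obtain ⟨k, hk⟩ := P.isPGroup' ⟨u, hu⟩
      have hk' : u ^ (p ^ k) = 1 := by simpa using congrArg Subtype.val hk
      intro y
      refine ⟨k, ?_⟩
      obtain ⟨m, hm⟩ := Subgroup.mem_zpowers_iff.mp y.2
      apply Subtype.ext
      have h3 : v ^ (p ^ k) = 1 := by
        have : v ^ (p ^ k) = h⁻¹ * u ^ (p ^ k) * h := by
          rw [hv]
          have := conj_pow (a := h⁻¹) (b := u) (i := p ^ k)
          simpa using this
        rw [this, hk']; group
      simp only [Subgroup.coe_pow, Subgroup.coe_one]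
      rw [← hm, ← zpow_natCast, ← zpow_mul, mul_comm, zpow_mul, zpow_natCast, h3, one_zpow]
    have hle : Subgroup.zpowers v ≤ Subgroup.normalizer ((P : Subgroup G) : Set G) := by
      rw [Subgroup.zpowers_le]
      exact hL'
    have h1 := IsPGroup.to_sup_of_normal_right' hp P.isPGroup' hle
    have h2 := P.is_maximal' h1 le_sup_right
    rw [← h2]
    exact (le_sup_left : Subgroup.zpowers v ≤ _) (Subgroup.mem_zpowers v)
  -- freeness
  have hfree : ∀ u ∈ (P : Subgroup G), ∀ g, (IsConj z g ∨ IsConj z⁻¹ g) → g ∉ (P : Subgroup G) →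
      u * g * u⁻¹ = g → u = 1 := by
    intro u hu g hg hgP huv
    obtain ⟨w₀, h, hw₀, hw₀1, rfl⟩ := hw g hg
    by_contra hu1
    have hcomm : (h⁻¹ * u * h) * w₀ * (h⁻¹ * u * h)⁻¹ = w₀ := by
      calc (h⁻¹ * u * h) * w₀ * (h⁻¹ * u * h)⁻¹ = h⁻¹ * (u * (h * w₀ * h⁻¹) * u⁻¹) * h := by group
        _ = w₀ := by rw [huv]; group
    have hvL : h⁻¹ * u * h ∈ L := T1 w₀ (hZP hw₀) hw₀1 _ (by rw [hcomm]; exact hZP hw₀)
    have hvP := hpel u hu h hvL
    have hv1 : h⁻¹ * u * h ≠ 1 := by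
      intro h'
      apply hu1
      have : u = h * (h⁻¹ * u * h) * h⁻¹ := by group
      rw [this, h']; group
    have hhL : h ∈ L := T1 _ hvP hv1 h (by
      have : h * (h⁻¹ * u * h) * h⁻¹ = u := by group
      rw [this]; exact hu)
    exact hgP (hLP h hhL w₀ (hZP hw₀))
  -- the class function
  let a : G → ℂ := fun y => (if IsConj z y then 1 else 0) - (if IsConj z⁻¹ y then 1 else 0)
  have ha_conj : ∀ g h, a (h * g * h⁻¹) = a g := by
    intro g h
    have h1 : ∀ w, IsConj w (h * g * h⁻¹) ↔ IsConj w g := by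
      intro w
      have : IsConj g (h * g * h⁻¹) := isConj_iff.mpr ⟨h, rfl⟩
      exact ⟨fun h' => h'.trans this.symm, fun h' => h'.trans this⟩
    simp only [a, h1]
  have ha_cf : IsClassFunction G a := fun g h => ha_conj g h
  have ha_inv : ∀ g, a g⁻¹ = - a g := by
    intro g
    simp only [a]
    have h1 : IsConj z g⁻¹ ↔ IsConj z⁻¹ g := isConj_inv_iff z g
    have h2 : IsConj z⁻¹ g⁻¹ ↔ IsConj z g := by
      have := isConj_inv_iff z⁻¹ g
      rwa [inv_inv] at this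
    simp only [h1, h2]
    ring
  have ha_ne : ∀ g, a g ≠ 0 → (IsConj z g ∨ IsConj z⁻¹ g) := by
    intro g hg
    by_contra hcon
    push Not at hcon
    apply hg
    simp only [a]
    rw [if_neg hcon.1, if_neg hcon.2]
    ring
  have haz : a z = 1 := by
    simp only [a]
    rw [if_pos (IsConj.refl z), if_neg T3]
    ring
  have ha_int : ∀ g, IsIntegral ℤ (a g) := by
    intro g
    simp only [a]
    split_ifs <;> simp only [sub_zero, zero_sub, sub_self] <;>
      first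
        | exact isIntegral_one
        | exact isIntegral_zero
        | exact isIntegral_one.neg
  -- Sum over G
  have hψinv : ψ z⁻¹ = ψ z := hconst _ hzinv _ hz hzinv1 hz1
  have hψa : ∀ g, a g ≠ 0 → ψ g = ψ z := by
    intro g hg
    rcases ha_ne g hg with h | h
    · obtain ⟨c, rfl⟩ := isConj_iff.mp h
      exact hcl z c
    · obtain ⟨c, rfl⟩ := isConj_iff.mp h
      rw [hcl z⁻¹ c, hψinv]
  have hsum0 : ∑ g, a g * ψ g = 0 := by
    have h1 : ∑ g, a g * ψ g = ∑ g, a g * ψ z := by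
      refine Finset.sum_congr rfl fun g _ => ?_
      by_cases hg : a g = 0
      · rw [hg]; ring
      · rw [hψa g hg]
    rw [h1, ← Finset.sum_mul]
    have h2 := sum_antisymm_mem (⊤ : Subgroup G) a ha_inv
    simp only [Subgroup.mem_top, Finset.filter_true] at h2
    rw [h2, zero_mul]
  have hsum : ∑ g, a g * ψ (g * z⁻¹) = 0 := by
    rw [sum_classFun_mul_irr a ha_cf hψ, hsum0]
    ring
  -- split
  have hsplit := Finset.sum_filter_add_sum_filter_not (Finset.univ : Finset G) (· ∈ Z) (fun g => a g * ψ (g * z⁻¹))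
  rw [hsum] at hsplit
  have hSZ : ∑ g ∈ Finset.univ.filter (· ∈ Z), a g * ψ (g * z⁻¹) = ψ 1 - ψ z := by
    have h1 : ∀ g ∈ Finset.univ.filter (· ∈ Z), a g * ψ (g * z⁻¹) =
        a g * ψ z + (if g = z then (ψ 1 - ψ z) else 0) := by
      intro g hg
      have hgZ : g ∈ Z := (Finset.mem_filter.mp hg).2
      by_cases hgz : g = z
      · subst hgz
        rw [if_pos rfl, haz, mul_inv_cancel]
        ring
      · rw [if_neg hgz, add_zero]
        congr 1
        apply hconst _ (Z.mul_mem hgZ hzinv) _ hz _ hz1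
        intro h
        exact hgz (mul_inv_eq_one.mp h)
    rw [Finset.sum_congr rfl h1, Finset.sum_add_distrib, ← Finset.sum_mul, sum_antisymm_mem Z a ha_inv,
      zero_mul, zero_add, Finset.sum_ite_eq' (Finset.univ.filter (· ∈ Z))]
    rw [if_pos (Finset.mem_filter.mpr ⟨Finset.mem_univ _, hz⟩)]
  -- outside
  let X : Finset G := Finset.univ.filter (fun g => a g ≠ 0 ∧ g ∉ (P : Subgroup G))
  have hSout : ∑ g ∈ Finset.univ.filter (fun g => ¬ (g ∈ Z)), a g * ψ (g * z⁻¹) =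
      ∑ g ∈ X, a g * ψ (g * z⁻¹) := by
    symm
    apply Finset.sum_subset
    · intro g hg
      obtain ⟨-, hg1, hg2⟩ := Finset.mem_filter.mp hg
      exact Finset.mem_filter.mpr ⟨Finset.mem_univ _, fun h => hg2 (hZP h)⟩
    · intro g hg hgX
      have hgZ : g ∉ Z := (Finset.mem_filter.mp hg).2
      by_contra hne
      have hag : a g ≠ 0 := fun h => hne (by rw [h]; ring)
      apply hgX
      refine Finset.mem_filter.mpr ⟨Finset.mem_univ _, hag, fun hgP => hgZ (T2 g (ha_ne g hag) hgP)⟩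
  obtain ⟨c, hc, hcs⟩ := exists_sum_eq_card_mul_of_free (P : Subgroup G) (fun g => a g * ψ (g * z⁻¹)) X
    (by
      intro u hu g hg
      obtain ⟨-, hg1, hg2⟩ := Finset.mem_filter.mp hg
      refine Finset.mem_filter.mpr ⟨Finset.mem_univ _, by rwa [ha_conj], fun h => hg2 ?_⟩
      have := (P : Subgroup G).mul_mem ((P : Subgroup G).mul_mem ((P : Subgroup G).inv_mem hu) h) hu
      have h2 : u⁻¹ * (u * g * u⁻¹) * u = g := by group
      rwa [h2] at this)
    (by
      intro u hu g hg h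
      obtain ⟨-, hg1, hg2⟩ := Finset.mem_filter.mp hg
      exact hfree u hu g (ha_ne g hg1) hg2 h)
    (by
      intro g _
      exact (ha_int g).mul (IsCharacter.isIntegral (IsIrrCharacter.isCharacter hψ) _))
    (by
      intro u hu g _
      simp only [ha_conj]
      congr 1
      have h1 : u * g * u⁻¹ * z⁻¹ = u * (g * z⁻¹) * u⁻¹ := by
        have h2 : z⁻¹ * u = u * z⁻¹ := by
          have := hZc z hz u hu
          calc z⁻¹ * u = z⁻¹ * (u * z) * z⁻¹ := by group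
            _ = z⁻¹ * (z * u) * z⁻¹ := by rw [this]
            _ = u * z⁻¹ := by group
        have h3 : u⁻¹ * z⁻¹ = z⁻¹ * u⁻¹ := by
          calc u⁻¹ * z⁻¹ = u⁻¹ * (z⁻¹ * u) * u⁻¹ := by group
            _ = u⁻¹ * (u * z⁻¹) * u⁻¹ := by rw [h2]
            _ = z⁻¹ * u⁻¹ := by group
        calc u * g * u⁻¹ * z⁻¹ = u * g * (u⁻¹ * z⁻¹) := by group
          _ = u * g * (z⁻¹ * u⁻¹) := by rw [h3]
          _ = u * (g * z⁻¹) * u⁻¹ := by group
      rw [h1, hcl])
  rw [hSZ, hSout, hcs] at hsplit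
  -- integrality of the value
  obtain ⟨d, hd⟩ := IsCharacter.apply_one (IsIrrCharacter.isCharacter hψ)
  haveI : Fintype Z := Fintype.ofFinite _
  have hzZ1 : 1 < Nat.card Z := by
    haveI : Nontrivial Z := ⟨⟨⟨z, hz⟩, 1, fun h => hz1 (congrArg Subtype.val h)⟩⟩
    exact Finite.one_lt_card
  obtain ⟨m, hm⟩ := IsCharacter.classInner_nat (isCharacter_resFun Z (IsIrrCharacter.isCharacter hψ))
    (IsIrrCharacter.isCharacter (isIrrCharacter_one (G := Z)))
  have hZsum : ∑ g : Z, ψ g = (Nat.card Z : ℂ) * ψ z + (ψ 1 - ψ z) := by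
    have h1 : ∀ g : Z, ψ g = ψ z + if g = 1 then (ψ 1 - ψ z) else 0 := by
      intro g
      by_cases hg : g = 1
      · subst hg; simp
      · rw [if_neg hg, add_zero]
        exact hconst _ g.2 _ hz (fun h => hg (Subtype.ext h)) hz1
    rw [Finset.sum_congr rfl (fun g _ => h1 g), Finset.sum_add_distrib, Finset.sum_const,
      Finset.sum_ite_eq' Finset.univ, if_pos (Finset.mem_univ _)]
    simp [Finset.card_univ, Nat.card_eq_fintype_card]
  have hZne : (Nat.card Z : ℂ) ≠ 0 := by exact_mod_cast (by omega : Nat.card Z ≠ 0)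
  have hm' : ∑ g : Z, ψ g = (Nat.card Z : ℂ) * m := by
    rw [classInner] at hm
    have h2 : ∑ g : Z, resFun Z ψ g * (starRingEnd ℂ) ((1 : ℂ)) = ∑ g : Z, ψ g := by
      refine Finset.sum_congr rfl fun g _ => ?_
      simp [resFun]
    rw [h2] at hm
    rw [← hm]
    field_simp
  have hne1 : ((Nat.card Z : ℂ) - 1) ≠ 0 := by
    have : ((Nat.card Z : ℤ) - 1) ≠ 0 := by omega
    exact_mod_cast this
  have hnq : ψ z = (((((Nat.card Z : ℚ) * m - d) / ((Nat.card Z : ℚ) - 1)) : ℚ) : ℂ) := by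
    push_cast
    rw [eq_div_iff hne1]
    rw [hZsum, hd] at hm'
    linear_combination hm'
  obtain ⟨n, hn⟩ := int_of_rat_integral hnq (IsCharacter.isIntegral (IsIrrCharacter.isCharacter hψ) z)
  refine ⟨n, d, hn, by rw [hd]; simp, ?_⟩
  have hPne : (Nat.card (P : Subgroup G) : ℂ) ≠ 0 := by
    exact_mod_cast (Nat.card_pos.ne' : Nat.card (P : Subgroup G) ≠ 0)
  have hcq : c = ((((n - d) / (Nat.card (P : Subgroup G) : ℚ)) : ℚ) : ℂ) := by
    push_cast
    rw [eq_div_iff hPne]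
    rw [hn, hd] at hsplit
    have : (d : ℂ) = ((d : ℤ) : ℂ) := by simp
    rw [this] at hsplit
    linear_combination hsplit
  obtain ⟨k, hk⟩ := int_of_rat_integral hcq hc
  refine ⟨-k, ?_⟩
  rw [hn, hd, hk] at hsplit
  have h5 : (((d : ℤ) - n : ℤ) : ℂ) = (((Nat.card (P : Subgroup G) : ℤ) * (-k) : ℤ) : ℂ) := by
    push_cast
    linear_combination hsplit
  exact_mod_cast h5

/-- Let G be a finite group, p a prime, P a Sylow p-subgroup whose underlying set is a TI-subset of G, with L the set normaliser of P of odd order. Let Z ≠ ⊥ be a subgroup of P, normal in L and central in P, such that the centralisers in L of any two non-identity elements of Z have the same order. If ψ is an irreducible character of G taking the same value at all non-identity elements of Z, then for z ∈ Z, z ≠ 1, the value ψ z is an integer n with Nat.card P dividing ψ(1) − n (as integers, ψ 1 being the degree). -/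
theorem result {G : Type*} [Group G] [Finite G] (p : ℕ) [Fact p.Prime] (P : Sylow p G) (hTI : Cfsg.IsTISubset ((P : Subgroup G) : Set G)) (hodd : Odd (Nat.card (Subgroup.normalizer ((P : Subgroup G) : Set G)))) (Z : Subgroup G) (hZ1 : Z ≠ ⊥) (hZP : Z ≤ P) (hZn : ∀ x ∈ Subgroup.normalizer ((P : Subgroup G) : Set G), ∀ z ∈ Z, x * z * x⁻¹ ∈ Z) (hZc : ∀ z ∈ Z, ∀ y ∈ (P : Subgroup G), z * y = y * z) (hCL : ∀ z ∈ Z, ∀ z' ∈ Z, z ≠ 1 → z' ≠ 1 → Nat.card ↥(Subgroup.normalizer ((P : Subgroup G) : Set G) ⊓ Subgroup.centralizer ({z} : Set G)) = Nat.card ↥(Subgroup.normalizer ((P : Subgroup G) : Set G) ⊓ Subgroup.centralizer ({z'} : Set G))) (ψ : G → ℂ) (hψ : Cfsg.IsIrrCharacter G ψ) (hconst : ∀ z ∈ Z, ∀ z' ∈ Z, z ≠ 1 → z' ≠ 1 → ψ z = ψ z') (z : G) (hz : z ∈ Z) (hz1 : z ≠ 1) : ∃ n d : ℤ, ψ z = n ∧ ψ 1 = d ∧ (Nat.card (P : Subgroup G) : ℤ) ∣ d - n := by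
  classical
  haveI := Fintype.ofFinite G
  exact main p P hTI hodd Z hZP hZn hZc ψ hψ hconst z hz hz1

end Cfsg.Agent.S1523
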