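import Cfsg.Statements.S1524
import Cfsg.Agent.S1516
import Cfsg.Agent.S1521
import Cfsg.Agent.S1522
import Cfsg.Agent.S1523
import Cfsg.Agent.Lib.OddChar.Sibley

set_option autoImplicit false
open Cfsg

namespace Cfsg.Agent.S1524

open Cfsg.Agent.Lib.Char Cfsg.Agent.Lib.OddChar
open scoped ComplexConjugate

private theorem zapply {X : Type*} (n : ℤ) (f : X → ℂ) (x : X) : (n • f) x = (n : ℂ) * f x := by
  simp

section Aux

private theorem index_dvd_card_sub_one_of_le {L : Type*} [Group L] [Finite L] {K : Subgroup L}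
    [hK : K.Normal] (hfpf : ∀ x : L, x ∉ K → ∀ k ∈ K, x * k = k * x → k = 1)
    (Z : Subgroup L) [hZ : Z.Normal] (hZK : Z ≤ K) : K.index ∣ Nat.card Z - 1 := by
  classical
  let X := {k : L // k ∈ Z ∧ k ≠ 1}
  letI : MulAction L X :=
    { smul := fun g x => ⟨g * x.1 * g⁻¹, hZ.conj_mem _ x.2.1 g, fun h => x.2.2 (by
        have : g⁻¹ * (g * x.1 * g⁻¹) * g = x.1 := by group
        rw [← this, h]; group)⟩
      one_smul := fun x => Subtype.ext (by show 1 * x.1 * 1⁻¹ = x.1; group)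
      mul_smul := fun a b x => Subtype.ext (by
        show (a * b) * x.1 * (a * b)⁻¹ = a * (b * x.1 * b⁻¹) * a⁻¹
        group) }
  have h1 : K.index ∣ Nat.card X := by
    apply index_dvd_card_of_stabilizer_le K
    intro x g hg
    have hg' : g • x = x := hg
    have hg'' : g * x.1 * g⁻¹ = x.1 := congrArg Subtype.val hg'
    by_contra hgK
    apply x.2.2
    apply hfpf g hgK x.1 (hZK x.2.1)
    calc g * x.1 = (g * x.1 * g⁻¹) * g := by group
      _ = x.1 * g := by rw [hg'']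
  have h2 : Nat.card X = Nat.card Z - 1 := by
    haveI : Fintype L := Fintype.ofFinite _
    haveI : Fintype Z := Fintype.ofFinite _
    have e1 : Nat.card Z = (Finset.univ.filter (· ∈ Z) : Finset L).card := by
      rw [Nat.card_eq_fintype_card, Fintype.card_subtype]
    have e2 : Nat.card X = ((Finset.univ.filter (· ∈ Z) : Finset L).erase 1).card := by
      rw [Nat.card_eq_fintype_card, Fintype.card_subtype]
      congr 1
      ext x
      simp only [Finset.mem_filter, Finset.mem_univ, true_and, Finset.mem_erase]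
      tauto
    rw [e1, e2, Finset.card_erase_of_mem (by simp [Z.one_mem])]
  rwa [h2] at h1

variable {L : Type*} [Group L] [Fintype L] {K : Subgroup L} [hK : K.Normal] [Fintype K]
  {Z : Subgroup L} [Z.Normal]

private theorem deg_sq_lt_index {θ : IrrCharacter K} (h1 : (θ : K → ℂ) ≠ fun _ => 1)
    (h2 : ∀ a : K, (a : L) ∈ Z → (θ : K → ℂ) a = (θ : K → ℂ) 1) :
    charDegree (θ : K → ℂ) ^ 2 + 1 ≤ (Z.subgroupOf K).index := by
  classical
  have hs := sum_irr_trivial_on (Z.subgroupOf K)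
  let θ₁ : IrrCharacter K := ⟨fun _ => 1, isIrrCharacter_one⟩
  have hnat : ∑ φ ∈ (Finset.univ.filter fun φ : IrrCharacter K => ∀ n : (Z.subgroupOf K), (φ : K → ℂ) n = (φ : K → ℂ) 1),
      charDegree (φ : K → ℂ) ^ 2 = (Z.subgroupOf K).index := by
    have e : ((∑ φ ∈ (Finset.univ.filter fun φ : IrrCharacter K => ∀ n : (Z.subgroupOf K), (φ : K → ℂ) n = (φ : K → ℂ) 1),
      charDegree (φ : K → ℂ) ^ 2 : ℕ) : ℂ) = ((Z.subgroupOf K).index : ℂ) := by
      rw [← hs]
      push_cast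
      refine Finset.sum_congr (by ext; simp) fun φ _ => ?_
      rw [apply_one_eq_charDegree (IsIrrCharacter.isCharacter φ.2)]
    exact_mod_cast e
  have hne : θ ≠ θ₁ := fun e => h1 (congrArg Subtype.val e)
  have hsub : ({θ, θ₁} : Finset (IrrCharacter K)) ⊆
      (Finset.univ.filter fun φ : IrrCharacter K => ∀ n : (Z.subgroupOf K), (φ : K → ℂ) n = (φ : K → ℂ) 1) := by
    intro φ hφ
    simp only [Finset.mem_insert, Finset.mem_singleton] at hφ
    rcases hφ with rfl | rfl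
    · exact Finset.mem_filter.mpr ⟨Finset.mem_univ _, fun n => h2 n (Subgroup.mem_subgroupOf.mp n.2)⟩
    · exact Finset.mem_filter.mpr ⟨Finset.mem_univ _, fun n => rfl⟩
  have hle := Finset.sum_le_sum_of_subset (f := fun φ : IrrCharacter K => charDegree (φ : K → ℂ) ^ 2) hsub
  rw [Finset.sum_pair hne, hnat] at hle
  have h3 : charDegree (θ₁ : K → ℂ) = 1 := charDegree_eq (n := 1) (by simp [θ₁])
  simp only [h3] at hle
  simpa using hle

private theorem sum_img (hirr : ∀ χ ∈ Cfsg.inducedIrrAbove K ⊥ \ Cfsg.inducedIrrAbove K Z, Cfsg.IsIrrCharacter L χ) :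
    ∑ φ ∈ imgZ K Z, charDegree φ ^ 2 = K.index * (Nat.card K - (Z.subgroupOf K).index) := by
  classical
  have h1 := sum_mass (K := K) (Z := Z) hirr (Nat.card K + 1)
  have h2 : (imgZ K Z).filter (fun φ => charDegree φ < K.index * (Nat.card K + 1)) = imgZ K Z := by
    apply Finset.filter_true_of_mem
    intro φ hφ
    obtain ⟨θ, -, rfl⟩ := exists_rep K Z (mem_imgZ.mp hφ)
    rw [deg_ind _ (IsIrrCharacter.isCharacter θ.2)]
    have h3 : charDegree (θ : K → ℂ) ≤ Nat.card K := Nat.le_of_dvd Nat.card_pos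
      (degree_dvd_card θ.2 (apply_one_eq_charDegree (IsIrrCharacter.isCharacter θ.2)))
    have hpos : 0 < K.index := Nat.pos_of_ne_zero (Subgroup.index_ne_zero_of_finite (H := K))
    exact Nat.mul_lt_mul_of_pos_left (by omega) hpos
  have h3 : (thetaZ K Z).filter (fun θ : IrrCharacter K => charDegree (θ : K → ℂ) < Nat.card K + 1) = thetaZ K Z := by
    apply Finset.filter_true_of_mem
    intro θ _
    have h3 : charDegree (θ : K → ℂ) ≤ Nat.card K := Nat.le_of_dvd Nat.card_pos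
      (degree_dvd_card θ.2 (apply_one_eq_charDegree (IsIrrCharacter.isCharacter θ.2)))
    omega
  rw [h2, h3] at h1
  rw [h1]
  have h4 := total_mass (K := K) (Z := Z)
  congr 1
  omega

end Aux

section Cong

variable {G : Type*} [Group G] [Fintype G] {N : Subgroup G} [Fintype N] {K : Subgroup N} [hK : K.Normal]
  [Fintype K] {Z : Subgroup N} [Z.Normal]

private theorem cong_core (ψ : G → ℂ) (hψ : IsIrrCharacter G ψ)
    (h1523 : (∀ z ∈ Z, ∀ z' ∈ Z, z ≠ 1 → z' ≠ 1 → ψ (z : G) = ψ (z' : G)) →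
      ∀ z ∈ Z, z ≠ 1 → ∃ n d : ℤ, ψ (z : G) = n ∧ ψ 1 = d ∧ (Nat.card K : ℤ) ∣ d - n)
    (hZK : Z ≤ K) {z₀ : N} (hz₀ : z₀ ∈ Z) (hz₀1 : z₀ ≠ 1)
    (hratio : ∀ θ ∈ thetaZ K Z, ∀ θ' ∈ thetaZ K Z,
      (charDegree (θ' : K → ℂ) : ℂ) * Cfsg.classInner (fun k : K => ψ ((k : N) : G)) (θ : K → ℂ) =
      (charDegree (θ : K → ℂ) : ℂ) * Cfsg.classInner (fun k : K => ψ ((k : N) : G)) (θ' : K → ℂ)) :
    ∃ w : ℤ, ∀ θ ∈ thetaZ K Z,
      Cfsg.classInner (fun k : K => ψ ((k : N) : G)) (θ : K → ℂ) = w * (charDegree (θ : K → ℂ) : ℂ) := by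
  classical
  set ψK : K → ℂ := fun k : K => ψ ((k : N) : G) with hψK
  have hψKc : IsCharacter K ψK :=
    isCharacter_resFun K (isCharacter_resFun N (IsIrrCharacter.isCharacter hψ))
  have hdeg : ∀ θ : IrrCharacter K, (θ : K → ℂ) 1 = charDegree (θ : K → ℂ) := fun θ =>
    apply_one_eq_charDegree (IsIrrCharacter.isCharacter θ.2)
  have hdeg0 : ∀ θ : IrrCharacter K, (charDegree (θ : K → ℂ) : ℂ) ≠ 0 := fun θ => by
    rw [← hdeg θ]
    exact IsIrrCharacter.apply_one_ne_zero θ.2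
  -- an element of the set
  obtain ⟨θ₀, hθ₀⟩ : ∃ θ : IrrCharacter K, θ ∈ thetaZ K Z := by
    by_contra h
    push Not at h
    have h1 := sum_irr_degree_mul_apply (⟨z₀, hZK hz₀⟩ : K)
    have h2 : (⟨z₀, hZK hz₀⟩ : K) ≠ 1 := fun e => hz₀1 (congrArg Subtype.val e)
    rw [if_neg h2] at h1
    have h3 := sum_irr_degree_sq (G := K)
    have h4 : ∀ θ : IrrCharacter K, (θ : K → ℂ) ⟨z₀, hZK hz₀⟩ = (θ : K → ℂ) 1 := by
      intro θ
      by_contra hne
      exact h θ ((mem_thetaZ K Z).mpr ⟨_, hz₀, hne⟩)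
    have h5 : ∑ θ : IrrCharacter K, (θ : K → ℂ) 1 * (θ : K → ℂ) ⟨z₀, hZK hz₀⟩ = ∑ θ : IrrCharacter K, (θ : K → ℂ) 1 ^ 2 :=
      Finset.sum_congr rfl fun θ _ => by rw [h4 θ]; ring
    rw [h5, h3] at h1
    have : (Nat.card K : ℂ) ≠ 0 := by exact_mod_cast Nat.card_pos.ne'
    exact this h1
  let c : ℂ := Cfsg.classInner ψK (θ₀ : K → ℂ) / (charDegree (θ₀ : K → ℂ) : ℂ)
  have hc : ∀ θ ∈ thetaZ K Z, Cfsg.classInner ψK (θ : K → ℂ) = c * (charDegree (θ : K → ℂ) : ℂ) := by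
    intro θ hθ
    have h1 := hratio θ hθ θ₀ hθ₀
    simp only [c]
    field_simp [hdeg0 θ₀]
    linear_combination h1
  have hexp : ∀ k : K, ψK k = ∑ θ : IrrCharacter K, Cfsg.classInner ψK (θ : K → ℂ) * (θ : K → ℂ) k := by
    intro k
    have := congrFun (classFunction_eq_sum ψK (IsCharacter.isClassFunction hψKc)) k
    simpa [Finset.sum_apply] using this
  have hK0 : (Nat.card K : ℂ) ≠ 0 := by exact_mod_cast Nat.card_pos.ne'
  have hall : ∀ z ∈ Z, z ≠ 1 → ψ 1 - ψ (z : G) = c * (Nat.card K : ℂ) := by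
    intro z hz hz1
    have hzK := hZK hz
    let z' : K := ⟨z, hzK⟩
    have hz'1 : z' ≠ 1 := fun e => hz1 (congrArg Subtype.val e)
    have hψ1 : ψ 1 = ψK 1 := rfl
    have hψz : ψ (z : G) = ψK z' := rfl
    rw [hψ1, hψz, hexp 1, hexp z', ← Finset.sum_sub_distrib]
    have hterm : ∀ θ : IrrCharacter K, θ ∉ thetaZ K Z → (θ : K → ℂ) z' = (θ : K → ℂ) 1 := by
      intro θ hθ
      by_contra hne
      exact hθ ((mem_thetaZ K Z).mpr ⟨z', hz, hne⟩)
    have h1 : ∑ θ : IrrCharacter K, (Cfsg.classInner ψK (θ : K → ℂ) * (θ : K → ℂ) 1 - Cfsg.classInner ψK (θ : K → ℂ) * (θ : K → ℂ) z') =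
        ∑ θ : IrrCharacter K, c * ((θ : K → ℂ) 1 * ((θ : K → ℂ) 1 - (θ : K → ℂ) z')) := by
      refine Finset.sum_congr rfl fun θ _ => ?_
      by_cases hθ : θ ∈ thetaZ K Z
      · rw [hc θ hθ, hdeg θ]
        ring
      · rw [hterm θ hθ]
        ring
    rw [h1, ← Finset.mul_sum]
    congr 1
    have h2 := sum_irr_degree_sq (G := K)
    have h3 := sum_irr_degree_mul_apply z'
    rw [if_neg hz'1] at h3
    have h4 : ∑ θ : IrrCharacter K, ((θ : K → ℂ) 1 * ((θ : K → ℂ) 1 - (θ : K → ℂ) z')) =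
        ∑ θ : IrrCharacter K, (θ : K → ℂ) 1 ^ 2 - ∑ θ : IrrCharacter K, (θ : K → ℂ) 1 * (θ : K → ℂ) z' := by
      rw [← Finset.sum_sub_distrib]
      exact Finset.sum_congr rfl fun θ _ => by ring
    rw [h4, h2, h3, sub_zero]
  have hconst : ∀ z ∈ Z, ∀ z' ∈ Z, z ≠ 1 → z' ≠ 1 → ψ (z : G) = ψ (z' : G) := by
    intro z hz z' hz' h1 h2
    have e1 := hall z hz h1
    have e2 := hall z' hz' h2
    linear_combination e2 - e1
  obtain ⟨n, d, hn, hd, w, hw⟩ := h1523 hconst z₀ hz₀ hz₀1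
  refine ⟨w, fun θ hθ => ?_⟩
  rw [hc θ hθ]
  congr 1
  have e1 := hall z₀ hz₀ hz₀1
  rw [hn, hd] at e1
  have e2 : ((d : ℂ) - n) = (Nat.card K : ℂ) * w := by
    have : ((d - n : ℤ) : ℂ) = (((Nat.card K : ℤ) * w : ℤ) : ℂ) := by rw [hw]
    push_cast at this
    exact this
  apply mul_right_cancel₀ hK0
  rw [← e1, e2]
  ring

end Cong

private theorem p_case {G : Type*} [Group G] [Fintype G] {N : Subgroup G} [Fintype N] {K : Subgroup N}
    [hK : K.Normal] [Fintype K] (R : (N → ℂ) → Finset (G → ℂ))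
    (hS : Cfsg.IsCoherenceSystem (Cfsg.inducedIrrAbove K ⊥) (fun α => indFun N α) R)
    (hodd : Odd (Nat.card N)) (hfpf : ∀ x : N, x ∉ K → ∀ k ∈ K, x * k = k * x → k = 1)
    {p m : ℕ} (hp : p.Prime) (hKp : Nat.card K = p ^ m) (hcop : Nat.Coprime p K.index)
    {Z : Subgroup N} [Z.Normal] (hZK : Z ≤ K) {z₀ : N} (hz₀ : z₀ ∈ Z) (hz₀1 : z₀ ≠ 1)
    (hZres : Cfsg.IsCoherent (Cfsg.inducedIrrAbove K ⊥ \ Cfsg.inducedIrrAbove K Z) {1}ᶜ (fun α => indFun N α))
    (h1523 : ∀ ψ : G → ℂ, IsIrrCharacter G ψ → (∀ z ∈ Z, ∀ z' ∈ Z, z ≠ 1 → z' ≠ 1 → ψ (z : G) = ψ (z' : G)) →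
      ∀ z ∈ Z, z ≠ 1 → ∃ n d : ℤ, ψ (z : G) = n ∧ ψ 1 = d ∧ (Nat.card K : ℤ) ∣ d - n) :
    Cfsg.IsCoherent (Cfsg.inducedIrrAbove K ⊥) {1}ᶜ (fun α => indFun N α) := by
  classical
  set e := K.index with he
  have hepos : 0 < e := Nat.pos_of_ne_zero (Subgroup.index_ne_zero_of_finite (H := K))
  have hirrS : ∀ χ ∈ Cfsg.inducedIrrAbove K ⊥, IsIrrCharacter N χ := fun χ hχ => frob_irr K hfpf hχ
  have hirr : ∀ χ ∈ Cfsg.inducedIrrAbove K ⊥ \ Cfsg.inducedIrrAbove K Z, IsIrrCharacter N χ :=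
    fun χ hχ => hirrS χ hχ.1
  let F : Finset (N → ℂ) := (inducedIrrAbove_finite K ⊥).toFinset
  have hFmem : ∀ φ, φ ∈ F ↔ φ ∈ Cfsg.inducedIrrAbove K ⊥ := fun φ => Set.Finite.mem_toFinset _
  let B : Finset (N → ℂ) := imgZ K Z
  have hBmem : ∀ φ, φ ∈ B ↔ φ ∈ Cfsg.inducedIrrAbove K ⊥ \ Cfsg.inducedIrrAbove K Z := fun φ => mem_imgZ
  have hBF : B ⊆ F := fun φ hφ => (hFmem φ).mpr ((hBmem φ).mp hφ).1
  let d : (N → ℂ) → ℕ := charDegree
  have hd : ∀ φ ∈ Cfsg.inducedIrrAbove K ⊥, φ 1 = (d φ : ℂ) := fun φ hφ =>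
    apply_one_eq_charDegree (hS.isCharacter φ hφ)
  have hn : ∀ φ ∈ Cfsg.inducedIrrAbove K ⊥, Cfsg.classInner φ φ = ((1 : ℕ) : ℂ) := fun φ hφ => by
    rw [classInner_irr_self (hirrS φ hφ)]; simp
  have hdconj : ∀ φ ∈ Cfsg.inducedIrrAbove K ⊥, d (Cfsg.conjFun φ) = d φ := by
    intro φ hφ
    have h1 : Cfsg.conjFun φ 1 = φ 1 := by
      rw [Cfsg.conjFun, hd φ hφ]
      simp
    show charDegree _ = charDegree _
    apply charDegree_eq
    rw [h1, hd φ hφ]
  have hconjS := hS.conj_mem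
  have hBconj : ∀ φ ∈ B, Cfsg.conjFun φ ∈ B := by
    intro φ hφ
    obtain ⟨h1, h2⟩ := (hBmem φ).mp hφ
    refine (hBmem _).mpr ⟨hconjS φ h1, fun h3 => h2 ?_⟩
    have := inducedIrrAbove_conj K h3
    rwa [conjFun_conjFun] at this
  have hpowd : ∀ φ ∈ F, ∃ θ : IrrCharacter K, φ = indFun K (θ : K → ℂ) ∧ (θ : K → ℂ) ≠ (fun _ => 1) ∧
      ∃ a, d φ = e * p ^ a ∧ charDegree (θ : K → ℂ) = p ^ a := by
    intro φ hφ
    obtain ⟨θ, h1, h2, -, rfl⟩ := (hFmem φ).mp hφ
    refine ⟨⟨θ, h1⟩, rfl, h2, ?_⟩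
    have h3 : charDegree θ ∣ Nat.card K :=
      degree_dvd_card h1 (apply_one_eq_charDegree (IsIrrCharacter.isCharacter h1))
    rw [hKp] at h3
    obtain ⟨a, -, ha⟩ := (Nat.dvd_prime_pow hp).mp h3
    refine ⟨a, ?_, ha⟩
    show charDegree _ = _
    rw [deg_ind _ (IsIrrCharacter.isCharacter h1), ha]
  have hBne : B.Nonempty := by
    by_contra hB
    rw [Finset.not_nonempty_iff_eq_empty] at hB
    obtain ⟨⟨α, hα, hα0⟩, -⟩ := hZres
    have hempty : Cfsg.inducedIrrAbove K ⊥ \ Cfsg.inducedIrrAbove K Z = ∅ := by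
      ext φ
      simp only [Set.mem_empty_iff_false, iff_false]
      intro h
      have : φ ∈ B := (hBmem φ).mpr h
      rw [hB] at this
      simp at this
    rw [hempty] at hα
    have h2 : α ∈ (Submodule.span ℤ (∅ : Set (N → ℂ)) : Submodule ℤ (N → ℂ)) := hα.1
    rw [Submodule.span_empty] at h2
    exact hα0 ((Submodule.mem_bot _).mp h2)
  obtain ⟨b₁, hb₁, hbmax⟩ := Finset.exists_max_image B d hBne
  have hb₁F := hBF hb₁
  have hb₁S := (hFmem b₁).mp hb₁F
  obtain ⟨θ₁, hb₁θ, -, j, hj, hθ₁j⟩ := hpowd b₁ hb₁F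
  let U : Finset (N → ℂ) := F.filter (fun x => x ∈ B ∨ d b₁ ≤ d x)
  let A : Finset (N → ℂ) := F.filter (fun x => x ∉ B ∧ d x < d b₁)
  have hBU : B ⊆ U := fun x hx => Finset.mem_filter.mpr ⟨hBF hx, Or.inl hx⟩
  have hUF : U ⊆ F := Finset.filter_subset _ _
  have hUc : ∀ x ∈ U, Cfsg.conjFun x ∈ U := by
    intro x hx
    obtain ⟨h1, h2⟩ := Finset.mem_filter.mp hx
    have h1S := (hFmem x).mp h1
    refine Finset.mem_filter.mpr ⟨(hFmem _).mpr (hconjS x h1S), ?_⟩
    rcases h2 with h2 | h2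
    · exact Or.inl (hBconj x h2)
    · right
      rw [hdconj x h1S]
      exact h2
  -- the big ones, by the extension criterion
  have hDB : 2 * e ^ 2 * (Z.subgroupOf K).index ≤ ∑ φ ∈ B, d φ ^ 2 := by
    have h1 : ∑ φ ∈ B, d φ ^ 2 = e * (Nat.card K - (Z.subgroupOf K).index) := sum_img hirr
    rw [h1]
    have hZz : e ∣ Nat.card Z - 1 := index_dvd_card_sub_one_of_le hfpf Z hZK
    have hZ1 : 1 < Nat.card Z := by
      haveI : Nontrivial Z := ⟨⟨⟨z₀, hz₀⟩, 1, fun h => hz₀1 (congrArg Subtype.val h)⟩⟩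
      exact Finite.one_lt_card
    have hZodd : Odd (Nat.card Z) := Odd.of_dvd_nat hodd (Subgroup.card_subgroup_dvd_card Z)
    have heodd : Odd e := Odd.of_dvd_nat hodd (Subgroup.index_dvd_card K)
    have h2 : 2 ∣ Nat.card Z - 1 := by
      obtain ⟨r, hr⟩ := hZodd
      exact ⟨r, by omega⟩
    have h3 : 2 * e ∣ Nat.card Z - 1 :=
      Nat.Coprime.mul_dvd_of_dvd_of_dvd (by simpa using heodd.coprime_two_left.symm) h2 hZz
    have h4 : 2 * e ≤ Nat.card Z - 1 := Nat.le_of_dvd (by omega) h3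
    have h5 : Nat.card (Z.subgroupOf K) = Nat.card Z := by
      exact Nat.card_congr (Subgroup.subgroupOfEquivOfLe hZK).toEquiv
    have h6 := Subgroup.card_mul_index (Z.subgroupOf K)
    rw [h5] at h6
    set q := (Z.subgroupOf K).index with hq
    have h7 : Nat.card K - q = (Nat.card Z - 1) * q := by
      rw [← h6, Nat.sub_mul, one_mul]
    rw [h7]
    calc 2 * e ^ 2 * q = e * ((2 * e) * q) := by ring
      _ ≤ e * ((Nat.card Z - 1) * q) := Nat.mul_le_mul_left _ (Nat.mul_le_mul_right _ h4)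
  -- the big ones, by the extension criterion
  have hpowθ : ∀ θ : IrrCharacter K, ∃ a, charDegree (θ : K → ℂ) = p ^ a := by
    intro θ
    have h3 : charDegree (θ : K → ℂ) ∣ Nat.card K :=
      degree_dvd_card θ.2 (apply_one_eq_charDegree (IsIrrCharacter.isCharacter θ.2))
    rw [hKp] at h3
    obtain ⟨a, -, ha⟩ := (Nat.dvd_prime_pow hp).mp h3
    exact ⟨a, ha⟩
  have hUcoh : Cfsg.IsCoherent (↑U : Set (N → ℂ)) {1}ᶜ (fun α => indFun N α) := by
    have hB0 : Cfsg.IsCoherent (↑B : Set (N → ℂ)) {1}ᶜ (fun α => indFun N α) := by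
      have : (↑B : Set (N → ℂ)) = Cfsg.inducedIrrAbove K ⊥ \ Cfsg.inducedIrrAbove K Z := by
        ext φ
        exact hBmem φ
      rw [this]
      exact hZres
    suffices hmain : ∀ k : ℕ, ∀ S' : Finset (N → ℂ), B ⊆ S' → S' ⊆ U → (∀ φ ∈ S', Cfsg.conjFun φ ∈ S') →
        Cfsg.IsCoherent (↑S' : Set (N → ℂ)) {1}ᶜ (fun α => indFun N α) → U.card - S'.card = k →
        Cfsg.IsCoherent (↑U : Set (N → ℂ)) {1}ᶜ (fun α => indFun N α) from
      hmain _ B subset_rfl hBU hBconj hB0 rfl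
    intro k
    induction' k using Nat.strong_induction_on with k ih
    intro S' h1 h2 h3 h4 h5
    by_cases hEq : S' = U
    · rw [← hEq]
      exact h4
    have hnon : (U \ S').Nonempty := by
      rw [Finset.sdiff_nonempty]
      exact fun h => hEq (Finset.Subset.antisymm h2 h)
    obtain ⟨χ, hχ⟩ := hnon
    obtain ⟨hχU, hχS'⟩ := Finset.mem_sdiff.mp hχ
    have hχF := hUF hχU
    have hχS₀ := (hFmem χ).mp hχF
    have hconjχ : Cfsg.conjFun χ ∉ S' := by
      intro h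
      have := h3 _ h
      rw [conjFun_conjFun] at this
      exact hχS' this
    have hχB : χ ∉ B := fun h => hχS' (h1 h)
    have hχbig : d b₁ ≤ d χ := by
      rcases (Finset.mem_filter.mp hχU).2 with h | h
      · exact absurd h hχB
      · exact h
    obtain ⟨θ, hχθ, hθ1, i, hi, hθi⟩ := hpowd χ hχF
    have hθtriv : ∀ a : K, (a : N) ∈ Z → (θ : K → ℂ) a = (θ : K → ℂ) 1 := by
      intro a ha
      by_contra hne
      apply hχB
      rw [hχθ]
      exact (hBmem _).mpr (ind_mem K Z ((mem_thetaZ K Z).mpr ⟨a, ha, hne⟩))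
    have hq := deg_sq_lt_index hθ1 hθtriv
    rw [hθi] at hq
    have hji : j ≤ i := by
      rw [hi, hj] at hχbig
      exact (Nat.pow_le_pow_iff_right hp.one_lt).mp (Nat.le_of_mul_le_mul_left hχbig hepos)
    have hdvd : d b₁ ∣ d χ := by
      rw [hi, hj]
      exact mul_dvd_mul_left _ (pow_dvd_pow _ hji)
    have hineq : (2 * (d χ : ℝ) * (d b₁ : ℝ)) < ∑ φ ∈ S', ((d φ : ℝ) ^ 2 / ((1 : ℕ) : ℝ)) := by
      have hle : ∑ φ ∈ B, d φ ^ 2 ≤ ∑ φ ∈ S', d φ ^ 2 := Finset.sum_le_sum_of_subset h1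
      have hlt : 2 * d χ * d b₁ < ∑ φ ∈ S', d φ ^ 2 := by
        refine lt_of_lt_of_le ?_ (hDB.trans hle)
        rw [hi, hj]
        have h6 : p ^ j ≤ p ^ i := Nat.pow_le_pow_right hp.pos hji
        have h7 : (p ^ i) ^ 2 < (Z.subgroupOf K).index := by omega
        calc 2 * (e * p ^ i) * (e * p ^ j) = 2 * e ^ 2 * (p ^ i * p ^ j) := by ring
          _ ≤ 2 * e ^ 2 * (p ^ i * p ^ i) := Nat.mul_le_mul_left _ (Nat.mul_le_mul_left _ h6)
          _ = 2 * e ^ 2 * (p ^ i) ^ 2 := by ring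
          _ < 2 * e ^ 2 * (Z.subgroupOf K).index := Nat.mul_lt_mul_of_pos_left h7 (by positivity)
      have h11 : (∑ φ ∈ S', ((d φ : ℝ) ^ 2 / ((1 : ℕ) : ℝ))) = ((∑ φ ∈ S', d φ ^ 2 : ℕ) : ℝ) := by
        push_cast
        simp
      rw [h11]
      exact_mod_cast hlt
    have hcoh' := Cfsg.Agent.S1516.result (Cfsg.inducedIrrAbove K ⊥) (fun α => indFun N α) R hS d (fun _ => 1) hd hn S'
      (fun φ hφ => (hFmem φ).mp (hUF (h2 hφ))) h3 h4 χ hχS₀ hχS' hconjχ b₁ (h1 hb₁) hdvd hineq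
    have hS'' : (↑S' ∪ {χ, Cfsg.conjFun χ} : Set (N → ℂ)) = ↑(S' ∪ {χ, Cfsg.conjFun χ}) := by
      simp [Finset.coe_union]
    rw [hS''] at hcoh'
    have hsub : S' ⊆ S' ∪ {χ, Cfsg.conjFun χ} := Finset.subset_union_left
    have hcard : S'.card < (S' ∪ {χ, Cfsg.conjFun χ}).card := by
      apply Finset.card_lt_card
      refine ⟨hsub, fun h => hχS' (h ?_)⟩
      simp
    have hsubU : S' ∪ {χ, Cfsg.conjFun χ} ⊆ U := by
      intro φ hφ
      rcases Finset.mem_union.mp hφ with h | h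
      · exact h2 h
      · simp only [Finset.mem_insert, Finset.mem_singleton] at h
        rcases h with rfl | rfl
        · exact hχU
        · exact hUc χ hχU
    have hlt : U.card - (S' ∪ {χ, Cfsg.conjFun χ}).card < k := by
      have := Finset.card_le_card hsubU
      have h6 : S'.card < U.card := lt_of_lt_of_le hcard this
      omega
    refine ih _ hlt _ (h1.trans hsub) hsubU ?_ hcoh' rfl
    intro φ hφ
    rcases Finset.mem_union.mp hφ with h | h
    · exact Finset.mem_union_left _ (h3 φ h)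
    · simp only [Finset.mem_insert, Finset.mem_singleton] at h
      rcases h with rfl | rfl
      · simp
      · rw [conjFun_conjFun]; simp
  obtain ⟨-, τp, hτp, hag⟩ := hUcoh
  have D : SibData (Cfsg.inducedIrrAbove K ⊥) (fun α => indFun N α) U τp d b₁ :=
    { hT := hS.isometry
      hU := fun x hx => (hFmem x).mp (hUF hx)
      hirr := hirrS
      hd := hd
      hτ := hτp
      hag := hag
      hb₁ := hBU hb₁ }
  -- the small ones, by Sibley's argument
  have hAF : A ⊆ F := Finset.filter_subset _ _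
  have hdisj : Disjoint U A := by
    rw [Finset.disjoint_left]
    intro x hx hx'
    obtain ⟨-, h1⟩ := Finset.mem_filter.mp hx
    obtain ⟨-, h2, h3⟩ := Finset.mem_filter.mp hx'
    rcases h1 with h1 | h1
    · exact h2 h1
    · omega
  have hUA : U ∪ A = F := by
    ext x
    constructor
    · intro hx
      rcases Finset.mem_union.mp hx with h | h
      · exact hUF h
      · exact hAF h
    · intro hx
      by_cases h1 : x ∈ B
      · exact Finset.mem_union_left _ (hBU h1)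
      by_cases h2 : d b₁ ≤ d x
      · exact Finset.mem_union_left _ (Finset.mem_filter.mpr ⟨hx, Or.inr h2⟩)
      · exact Finset.mem_union_right _ (Finset.mem_filter.mpr ⟨hx, h1, by omega⟩)
  have hAc : ∀ a ∈ A, Cfsg.conjFun a ∈ A := by
    intro a ha
    obtain ⟨h1, h2, h3⟩ := Finset.mem_filter.mp ha
    have h1S := (hFmem a).mp h1
    refine Finset.mem_filter.mpr ⟨(hFmem _).mpr (hconjS a h1S), fun h => h2 ?_, ?_⟩
    · have := hBconj _ h
      rwa [conjFun_conjFun] at this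
    · rw [hdconj a h1S]
      exact h3
  let f : (N → ℂ) → ℕ := fun a => d b₁ / d a
  obtain ⟨θ₁', hθ₁', hb₁θ'⟩ := exists_rep K Z ((hBmem b₁).mp hb₁)
  have hdθ : ∀ θ : IrrCharacter K, d (indFun K (θ : K → ℂ)) = e * charDegree (θ : K → ℂ) := fun θ =>
    deg_ind _ (IsIrrCharacter.isCharacter θ.2)
  have hAdata : ∀ a ∈ A, ∃ θ : IrrCharacter K, a = indFun K (θ : K → ℂ) ∧ d b₁ = f a * d a ∧ 1 < f a ∧
      charDegree (θ₁' : K → ℂ) = f a * charDegree (θ : K → ℂ) := by
    intro a ha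
    obtain ⟨h1, h2, h3⟩ := Finset.mem_filter.mp ha
    obtain ⟨θ, haθ, -, i, hi, hθi⟩ := hpowd a h1
    refine ⟨θ, haθ, ?_⟩
    have hij : i < j := by
      rw [hi, hj] at h3
      exact (Nat.pow_lt_pow_iff_right hp.one_lt).mp (Nat.lt_of_mul_lt_mul_left h3)
    have hfa : f a = p ^ (j - i) := by
      simp only [f]
      rw [hi, hj]
      rw [Nat.mul_div_mul_left _ _ hepos]
      exact Nat.pow_div hij.le hp.pos
    have hpow : p ^ j = p ^ (j - i) * p ^ i := by
      rw [← pow_add]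
      congr 1
      omega
    refine ⟨?_, ?_, ?_⟩
    · rw [hfa, hi, hj, hpow]
      ring
    · rw [hfa]
      exact Nat.one_lt_pow (by omega) hp.one_lt
    · have h4 : charDegree (θ₁' : K → ℂ) = p ^ j := by
        have h5 : d b₁ = e * charDegree (θ₁' : K → ℂ) := by
          rw [hb₁θ']
          exact hdθ θ₁'
        rw [hj] at h5
        exact (Nat.eq_of_mul_eq_mul_left hepos h5).symm
      rw [h4, hfa, hθi, hpow]
  have hψcl : ∀ ψ : G → ℂ, IsIrrCharacter G ψ → IsClassFunction N (fun h : N => ψ h) := fun ψ hψ =>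
    IsCharacter.isClassFunction (isCharacter_resFun N (IsIrrCharacter.isCharacter hψ))
  have hFrob : ∀ ψ : G → ℂ, IsIrrCharacter G ψ → ∀ θ : IrrCharacter K,
      Cfsg.classInner (indFun N (indFun K (θ : K → ℂ))) ψ =
        Cfsg.classInner (fun k : K => ψ ((k : N) : G)) (θ : K → ℂ) := by
    intro ψ hψ θ
    rw [classInner_indFun_left N _ _ (IsCharacter.isClassFunction (IsIrrCharacter.isCharacter hψ)),
      classInner_indFun_left K _ _ (hψcl ψ hψ), classInner_conj_symm]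
    have hψKc : IsCharacter K (fun k : K => ψ ((k : N) : G)) :=
      isCharacter_resFun K (isCharacter_resFun N (IsIrrCharacter.isCharacter hψ))
    obtain ⟨q, hq⟩ := IsCharacter.classInner_nat hψKc (IsIrrCharacter.isCharacter θ.2)
    rw [hq]
    simp
  have hcong : ∀ a ∈ A, ∀ ψ : G → ℂ, IsIrrCharacter G ψ → (∀ x ∈ U, Cfsg.classInner (τp x) ψ = 0) →
      ∃ k : ℤ, Cfsg.classInner (indFun N (b₁ - (f a : ℤ) • a)) ψ = (f a : ℂ) * k := by
    intro a ha ψ hψ hortho
    have hratio : ∀ θ ∈ thetaZ K Z, ∀ θ' ∈ thetaZ K Z,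
        (charDegree (θ' : K → ℂ) : ℂ) * Cfsg.classInner (fun k : K => ψ ((k : N) : G)) (θ : K → ℂ) =
        (charDegree (θ : K → ℂ) : ℂ) * Cfsg.classInner (fun k : K => ψ ((k : N) : G)) (θ' : K → ℂ) := by
      intro θ hθ θ' hθ'
      have hb : indFun K (θ : K → ℂ) ∈ U := hBU ((hBmem _).mpr (ind_mem K Z hθ))
      have hb' : indFun K (θ' : K → ℂ) ∈ U := hBU ((hBmem _).mpr (ind_mem K Z hθ'))
      have h0 := D.hd _ (D.hU hb)
      have h0' := D.hd _ (D.hU hb')
      have hαmem : ((d (indFun K (θ' : K → ℂ)) : ℤ) • indFun K (θ : K → ℂ) -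
          (d (indFun K (θ : K → ℂ)) : ℤ) • indFun K (θ' : K → ℂ)) ∈ Cfsg.zspanOn (↑U : Set (N → ℂ)) {1}ᶜ := by
        refine mem_zspanOn_of (sub_mem_zspan (Submodule.smul_mem _ _ (mem_zspan_of_mem hb))
          (Submodule.smul_mem _ _ (mem_zspan_of_mem hb'))) ?_
        simp only [Pi.sub_apply, zapply, h0, h0']
        push_cast
        ring
      have h1 : τp ((d (indFun K (θ' : K → ℂ)) : ℤ) • indFun K (θ : K → ℂ) -
          (d (indFun K (θ : K → ℂ)) : ℤ) • indFun K (θ' : K → ℂ)) = indFun N ((d (indFun K (θ' : K → ℂ)) : ℤ) • indFun K (θ : K → ℂ) -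
          (d (indFun K (θ : K → ℂ)) : ℤ) • indFun K (θ' : K → ℂ)) := hag _ hαmem
      rw [IsoLat.map_sub D.hτ' (Submodule.smul_mem _ _ (D.mem_span hb)) (Submodule.smul_mem _ _ (D.mem_span hb')),
        IsoLat.map_zsmul D.hτ' (D.mem_span hb), IsoLat.map_zsmul D.hτ' (D.mem_span hb'), indFun_sub,
        indFun_zsmul', indFun_zsmul'] at h1
      have h2 := congrArg (fun f => Cfsg.classInner f ψ) h1
      simp only [classInner_sub_left, classInner_zsmul_left, hortho _ hb, hortho _ hb', hFrob ψ hψ,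
        hdθ] at h2
      push_cast at h2
      have heC : (e : ℂ) ≠ 0 := by exact_mod_cast hepos.ne'
      apply mul_left_cancel₀ heC
      linear_combination -h2
    obtain ⟨w, hw⟩ := cong_core ψ hψ (h1523 ψ hψ) hZK hz₀ hz₀1 hratio
    obtain ⟨θ, haθ, -, -, hdeg⟩ := hAdata a ha
    have hψKc : IsCharacter K (fun k : K => ψ ((k : N) : G)) :=
      isCharacter_resFun K (isCharacter_resFun N (IsIrrCharacter.isCharacter hψ))
    obtain ⟨q, hq⟩ := IsCharacter.classInner_nat hψKc (IsIrrCharacter.isCharacter θ.2)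
    refine ⟨w * charDegree (θ : K → ℂ) - q, ?_⟩
    have h2 : Cfsg.classInner (indFun N a) ψ = q := by rw [haθ, hFrob ψ hψ, hq]
    have h3 : Cfsg.classInner (indFun N b₁) ψ = w * (charDegree (θ₁' : K → ℂ) : ℂ) := by
      rw [hb₁θ', hFrob ψ hψ, hw θ₁' hθ₁']
    rw [indFun_sub, indFun_zsmul', classInner_sub_left, classInner_zsmul_left, h2, h3, hdeg]
    push_cast
    ring
  have hfinal := sibley_main D (fun x hx => (hFmem x).mp (hAF hx)) hdisj hAc
    (fun a ha => hS.conj_ne a ((hFmem a).mp (hAF ha))) hUc (hS.conj_ne b₁ hb₁S)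
    (fun x hx _ => hdconj x hx) f
    (fun a ha => by obtain ⟨-, -, h, -, -⟩ := hAdata a ha; exact h)
    (fun a ha => by obtain ⟨-, -, -, h, -⟩ := hAdata a ha; exact h) hcong
  have hset : (↑(U ∪ A) : Set (N → ℂ)) = Cfsg.inducedIrrAbove K ⊥ := by
    rw [hUA]
    ext φ
    exact hFmem φ
  rwa [hset] at hfinal

private theorem apply_1523 {G : Type*} [Group G] [Fintype G] (p : ℕ) [Fact p.Prime] (H L : Subgroup G)
    (hN : Subgroup.normalizer (H : Set G) = L) (hodd : Odd (Nat.card L))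
    (hTI : Cfsg.IsTISubset (H : Set G)) (hpH : IsPGroup p H)
    (hord : ∀ x ∈ L, x ∉ H → Nat.Coprime p (orderOf x))
    (Zg : Subgroup G) (hZg1 : Zg ≠ ⊥) (hZgH : Zg ≤ H) (hZn : ∀ x ∈ L, ∀ z ∈ Zg, x * z * x⁻¹ ∈ Zg)
    (hZc : ∀ z ∈ Zg, ∀ y ∈ H, z * y = y * z)
    (hCL : ∀ z ∈ Zg, z ≠ 1 → L ⊓ Subgroup.centralizer ({z} : Set G) = H)
    (ψ : G → ℂ) (hψ : IsIrrCharacter G ψ) (hconst : ∀ z ∈ Zg, ∀ z' ∈ Zg, z ≠ 1 → z' ≠ 1 → ψ z = ψ z')
    (z : G) (hz : z ∈ Zg) (hz1 : z ≠ 1) :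
    ∃ n d : ℤ, ψ z = n ∧ ψ 1 = d ∧ (Nat.card H : ℤ) ∣ d - n := by
  classical
  obtain ⟨P, hP⟩ : ∃ P : Sylow p G, (P : Subgroup G) = H := by
    obtain ⟨Q, hQ⟩ := hpH.exists_le_sylow
    refine ⟨Q, ?_⟩
    by_contra hne
    have hlt : H < Q := lt_of_le_of_ne hQ (Ne.symm hne)
    let H' : Subgroup (Q : Subgroup G) := H.subgroupOf (Q : Subgroup G)
    have hH'top : H' < ⊤ := by
      obtain ⟨x, hx, hx'⟩ := SetLike.exists_of_lt hlt
      refine lt_of_le_of_ne le_top fun h => hx' ?_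
      have : (⟨x, hx⟩ : (Q : Subgroup G)) ∈ H' := by rw [h]; trivial
      exact this
    haveI : Group.IsNilpotent (Q : Subgroup G) := Q.isPGroup'.isNilpotent
    have h1 := Group.normalizerCondition_of_isNilpotent (G := (Q : Subgroup G)) H' hH'top
    obtain ⟨x, hx, hx'⟩ := SetLike.exists_of_lt h1
    have hxN : (x : G) ∈ Subgroup.normalizer (H : Set G) := by
      rw [Subgroup.mem_normalizer_iff]
      intro y
      constructor
      · intro hy
        have h2 : (⟨y, hQ hy⟩ : (Q : Subgroup G)) ∈ H' := hy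
        have h3 := (Subgroup.mem_normalizer_iff.mp hx _).mp h2
        exact h3
      · intro hy
        have h2 : y ∈ (Q : Subgroup G) := by
          have h3 := (Q : Subgroup G).mul_mem ((Q : Subgroup G).mul_mem ((Q : Subgroup G).inv_mem x.2) (hQ hy)) x.2
          have h4 : (x : G)⁻¹ * ((x : G) * y * (x : G)⁻¹) * x = y := by group
          rwa [h4] at h3
        have h3 : x * (⟨y, h2⟩ : (Q : Subgroup G)) * x⁻¹ ∈ H' := hy
        have h4 := (Subgroup.mem_normalizer_iff.mp hx _).mpr h3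
        exact h4
    rw [hN] at hxN
    have hc := hord x hxN hx'
    obtain ⟨k, hk⟩ := Q.isPGroup' x
    have h5 : (x : G) ^ p ^ k = 1 := by simpa using congrArg Subtype.val hk
    have h6 : orderOf (x : G) ∣ p ^ k := orderOf_dvd_of_pow_eq_one h5
    have h7 : orderOf (x : G) = 1 :=
      (Nat.Coprime.pow_left k hc).symm.eq_one_of_dvd h6
    have h8 : (x : G) = 1 := orderOf_eq_one_iff.mp h7
    exact hx' (by
      show (x : G) ∈ H
      rw [h8]
      exact H.one_mem)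
  subst hP
  refine Cfsg.Agent.S1523.result p P hTI (by rw [hN]; exact hodd) Zg hZg1 hZgH (by rwa [hN]) hZc ?_ ψ hψ hconst z hz hz1
  intro z₁ hz₁ z₂ hz₂ h1 h2
  rw [hN, hCL z₁ hz₁ h1, hCL z₂ hz₂ h2]

/-- Let G be a finite group and H ≤ L subgroups with L of odd order, H ≠ ⊥ nilpotent and normal in L with a nontrivial complement W₁ in L (H ⊓ W₁ = ⊥, H ⊔ W₁ = L) acting on H without non-identity fixed points (L is a Frobenius group with kernel H), and suppose the underlying set of H is a TI-subset of G whose normaliser is L. Let S be the set of functions on L induced from the non-principal irreducible characters of H. Then (S, L minus 1, induction to G) is coherent. -/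
theorem result {G : Type*} [Group G] [Fintype G] (H L W₁ : Subgroup G) [Fintype L] (hodd : Odd (Nat.card L)) (hHL : H ≤ L) (hW₁L : W₁ ≤ L) (hH1 : H ≠ ⊥) (hW1 : W₁ ≠ ⊥) (hnil : Group.IsNilpotent H) (hHn : ∀ x ∈ L, ∀ h ∈ H, x * h * x⁻¹ ∈ H) (hinf : H ⊓ W₁ = ⊥) (hsup : H ⊔ W₁ = L) (hfpf : ∀ w ∈ W₁, w ≠ 1 → ∀ h ∈ H, w * h = h * w → h = 1) (hTI : Cfsg.IsTISubset (H : Set G)) (hN : Subgroup.normalizer (H : Set G) = L) : Cfsg.IsCoherent (Cfsg.inducedIrrAbove (H.subgroupOf L) ⊥) {1}ᶜ (fun α : L → ℂ => Cfsg.indFun L α) := by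
  classical
  let K : Subgroup L := H.subgroupOf L
  haveI hKn : K.Normal := by
    constructor
    intro n hn g
    rw [Subgroup.mem_subgroupOf] at hn ⊢
    exact hHn g g.2 n hn
  haveI : Fintype K := Fintype.ofFinite _
  -- the Frobenius property
  have hfpfL : ∀ x : L, x ∉ K → ∀ k ∈ K, x * k = k * x → k = 1 := by
    intro x hx k hk hcomm
    let W' : Subgroup L := W₁.subgroupOf L
    have hsup' : K ⊔ W' = ⊤ := by
      rw [eq_top_iff]
      rintro ⟨y, hy⟩ -
      have hy' : y ∈ H ⊔ W₁ := by rw [hsup]; exact hy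
      have e1 : W'.map L.subtype = W₁ := Subgroup.map_subgroupOf_eq_of_le hW₁L
      have e2 : K.map L.subtype = H := Subgroup.map_subgroupOf_eq_of_le hHL
      have h2 : (K ⊔ W').map L.subtype = H ⊔ W₁ := by
        rw [Subgroup.map_sup, e1, e2]
      rw [← h2] at hy'
      obtain ⟨z, hz, hzy⟩ := hy'
      have : z = ⟨y, hy⟩ := Subtype.ext hzy
      rwa [← this]
    have hxmem : x ∈ (↑(K ⊔ W') : Set L) := by rw [hsup']; trivial
    rw [Subgroup.normal_mul] at hxmem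
    obtain ⟨c, hc, w, hw, rfl⟩ := Set.mem_mul.mp hxmem
    have hw1 : w ≠ 1 := by
      rintro rfl
      apply hx
      simpa using hc
    have hfw : ∀ k ∈ K, w * k = k * w → k = 1 := by
      intro k hk hcomm
      have h1 : (w : G) ≠ 1 := fun h => hw1 (Subtype.ext h)
      have h2 := hfpf (w : G) (Subgroup.mem_subgroupOf.mp hw) h1 (k : G) (Subgroup.mem_subgroupOf.mp hk)
        (congrArg Subtype.val hcomm)
      exact Subtype.ext h2
    obtain ⟨u, hu, hxu⟩ := exists_conj_of_coset_of_fpf K hfw c hc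
    rw [hxu] at hcomm
    have h3 : u⁻¹ * k * u = 1 := by
      apply hfw _ (hKn.conj_mem' k hk u)
      calc w * (u⁻¹ * k * u) = u⁻¹ * ((u * w * u⁻¹) * k) * u := by group
        _ = u⁻¹ * (k * (u * w * u⁻¹)) * u := by rw [hcomm]
        _ = u⁻¹ * k * u * w := by group
    have h4 : k = u * (u⁻¹ * k * u) * u⁻¹ := by group
    rw [h4, h3]
    group
  have hK1 : K ≠ ⊥ := by
    intro h
    obtain ⟨y, hy, hy1⟩ := (Subgroup.bot_or_exists_ne_one H).resolve_left hH1
    have h1 : (⟨y, hHL hy⟩ : L) ∈ K := hy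
    rw [h] at h1
    exact hy1 (congrArg Subtype.val ((Subgroup.mem_bot).mp h1))
  have hKtop : K < ⊤ := by
    obtain ⟨w, hw, hw1⟩ := (Subgroup.bot_or_exists_ne_one W₁).resolve_left hW1
    refine lt_of_le_of_ne le_top fun h => hw1 ?_
    have h1 : (⟨w, hW₁L hw⟩ : L) ∈ K := by rw [h]; trivial
    have h2 : w ∈ H ⊓ W₁ := ⟨h1, hw⟩
    rw [hinf] at h2
    exact (Subgroup.mem_bot).mp h2
  have hnil' : Group.IsNilpotent K :=
    Group.nilpotent_of_surjective (Subgroup.subgroupOfEquivOfLe hHL).symm.toMonoidHom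
      (Subgroup.subgroupOfEquivOfLe hHL).symm.surjective
  have hsolv : Group.IsSolvable K := inferInstance
  have hcl : ⁅K, K⁆ < K := by
    have h1 : ⁅(⊤ : Subgroup K), (⊤ : Subgroup K)⁆ < ⊤ := by
      haveI : Nontrivial K := by
        obtain ⟨k, hk, hk1⟩ := (Subgroup.bot_or_exists_ne_one K).resolve_left hK1
        exact ⟨⟨⟨k, hk⟩, 1, fun h => hk1 (congrArg Subtype.val h)⟩⟩
      exact Group.IsSolvable.commutator_lt_top_of_nontrivial K
    have h2 : ⁅K, K⁆ = (⁅(⊤ : Subgroup K), (⊤ : Subgroup K)⁆ : Subgroup K).map K.subtype := by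
      rw [Subgroup.map_commutator, ← MonoidHom.range_eq_map, Subgroup.range_subtype]
    rw [h2]
    obtain ⟨k, -, hk⟩ := SetLike.exists_of_lt h1
    refine lt_of_le_of_ne ?_ ?_
    · rintro _ ⟨y, -, rfl⟩
      exact y.2
    · intro h
      apply hk
      have : (k : L) ∈ (⁅(⊤ : Subgroup K), (⊤ : Subgroup K)⁆ : Subgroup K).map K.subtype := by
        rw [h]
        exact k.2
      obtain ⟨y, hy, hyk⟩ := this
      have : y = k := Subtype.ext hyk
      exact this ▸ hy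
  have hfrob := frob_quotient hfpfL ⁅K, K⁆ (Subgroup.commutator_le_left K K)
  have hTI' : ∀ g : G, g ∉ L → ∀ t ∈ (H : Set G), g * t * g⁻¹ ∈ (H : Set G) → t = 1 := by
    intro g hg t ht h
    exact hTI g (by rwa [hN]) t ht h
  obtain ⟨R, hS⟩ := exists_frob_system (K := K) hK1 hodd hfpfL (H : Set G) (fun x => Iff.rfl) hTI'
  by_cases hpp : ∃ p m : ℕ, p.Prime ∧ (⊥ : Subgroup L).relIndex K = p ^ m
  · obtain ⟨p, m, hp, hm⟩ := hpp
    rw [Subgroup.relIndex_bot_left] at hm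
    haveI : Fact p.Prime := ⟨hp⟩
    have hKne : 1 < Nat.card K := by
      obtain ⟨k, hk, hk1⟩ := (Subgroup.bot_or_exists_ne_one K).resolve_left hK1
      haveI : Nontrivial K := ⟨⟨⟨k, hk⟩, 1, fun h => hk1 (congrArg Subtype.val h)⟩⟩
      exact Finite.one_lt_card
    have hm0 : m ≠ 0 := by
      rintro rfl
      rw [pow_zero] at hm
      rw [hm] at hKne
      exact lt_irrefl _ hKne
    have hcop : Nat.Coprime p K.index :=
      Nat.Coprime.coprime_dvd_left (by rw [hm]; exact dvd_pow_self p hm0)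
        (coprime_index_of_fpf hfpfL)
    have hpK : IsPGroup p K := IsPGroup.of_card hm
    have hpH : IsPGroup p H := by
      have e : Nat.card H = p ^ m := by
        rw [← hm]
        exact Nat.card_congr (Subgroup.subgroupOfEquivOfLe hHL).symm.toEquiv
      exact IsPGroup.of_card e
    -- the centre
    let Z : Subgroup L :=
      { carrier := {x | x ∈ K ∧ ∀ k ∈ K, x * k = k * x}
        mul_mem' := by
          rintro a b ⟨ha, ha'⟩ ⟨hb, hb'⟩
          refine ⟨K.mul_mem ha hb, fun k hk => ?_⟩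
          rw [mul_assoc, hb' k hk, ← mul_assoc, ha' k hk, mul_assoc]
        one_mem' := ⟨K.one_mem, fun k _ => by simp⟩
        inv_mem' := by
          rintro a ⟨ha, ha'⟩
          refine ⟨K.inv_mem ha, fun k hk => ?_⟩
          have := ha' k hk
          calc a⁻¹ * k = a⁻¹ * (k * a) * a⁻¹ := by group
            _ = a⁻¹ * (a * k) * a⁻¹ := by rw [this]
            _ = k * a⁻¹ := by group }
    haveI hZn : Z.Normal := by
      constructor
      rintro a ⟨ha, ha'⟩ g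
      refine ⟨hKn.conj_mem a ha g, fun k hk => ?_⟩
      have h1 := ha' (g⁻¹ * k * g) (hKn.conj_mem' k hk g)
      calc g * a * g⁻¹ * k = g * (a * (g⁻¹ * k * g)) * g⁻¹ := by group
        _ = g * ((g⁻¹ * k * g) * a) * g⁻¹ := by rw [h1]
        _ = k * (g * a * g⁻¹) := by group
    have hZK : Z ≤ K := fun x hx => hx.1
    obtain ⟨z₀, hz₀, hz₀1⟩ : ∃ z₀ ∈ Z, z₀ ≠ 1 := by
      haveI : Nontrivial K := by
        obtain ⟨k, hk, hk1⟩ := (Subgroup.bot_or_exists_ne_one K).resolve_left hK1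
        exact ⟨⟨⟨k, hk⟩, 1, fun h => hk1 (congrArg Subtype.val h)⟩⟩
      haveI := hpK.center_nontrivial
      obtain ⟨c, hc⟩ := exists_ne (1 : Subgroup.center K)
      refine ⟨((c : K) : L), ⟨(c : K).2, fun k hk => ?_⟩, fun h => hc ?_⟩
      · have := Subgroup.mem_center_iff.mp c.2 ⟨k, hk⟩
        exact (congrArg Subtype.val this).symm
      · exact Subtype.ext (Subtype.ext h)
    have hZ1 : Z ≠ ⊥ := by
      intro h
      rw [h] at hz₀
      exact hz₀1 ((Subgroup.mem_bot).mp hz₀)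
    have hmain := Cfsg.Agent.S1522.result K hsolv (fun α => indFun L α) R hS hodd hnil' hcl hKtop hfrob Z hZ1 hZK
      (fun z hz k hk => hz.2 k hk) (fun χ hχ => frob_irr K hfpfL hχ.1)
    have hcardH : Nat.card H = Nat.card K :=
      Nat.card_congr (Subgroup.subgroupOfEquivOfLe hHL).symm.toEquiv
    refine p_case R hS hodd hfpfL hp hm hcop hZK hz₀ hz₀1 hmain.2 ?_
    intro ψ hψ hconst z hz hz1
    let Zg : Subgroup G := Z.map L.subtype
    have hZg : ∀ y ∈ Zg, ∃ y' ∈ Z, (y' : G) = y := by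
      rintro y ⟨y', hy', rfl⟩
      exact ⟨y', hy', rfl⟩
    have hr := apply_1523 p H L hN hodd hTI hpH
      (fun x hx hxH => by
        have h1 : (⟨x, hx⟩ : L) ∉ K := hxH
        have h2 := orderOf_dvd_index_of_fpf hfpfL h1
        have h3 : orderOf (⟨x, hx⟩ : L) = orderOf x := Subgroup.orderOf_mk x hx
        rw [h3] at h2
        exact Nat.Coprime.coprime_dvd_right h2 hcop) Zg
      (by
        intro h
        have h1 : (z : G) ∈ Zg := ⟨z, hz, rfl⟩
        rw [h] at h1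
        exact hz1 (Subtype.ext ((Subgroup.mem_bot).mp h1)))
      (by
        intro y hy
        obtain ⟨y', hy', rfl⟩ := hZg y hy
        exact hy'.1)
      (by
        intro x hx y hy
        obtain ⟨y', hy', rfl⟩ := hZg y hy
        exact ⟨⟨x, hx⟩ * y' * (⟨x, hx⟩ : L)⁻¹, hZn.conj_mem y' hy' _, rfl⟩)
      (by
        intro y hy k hk
        obtain ⟨y', hy', rfl⟩ := hZg y hy
        exact congrArg Subtype.val (hy'.2 ⟨k, hHL hk⟩ hk))
      (by
        intro y hy hy1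
        obtain ⟨y', hy', rfl⟩ := hZg y hy
        ext t
        simp only [Subgroup.mem_inf, Subgroup.mem_centralizer_iff, Set.mem_singleton_iff, forall_eq]
        constructor
        · rintro ⟨ht, htc⟩
          by_contra htH
          have h1 : (⟨t, ht⟩ : L) ∉ K := htH
          apply hy1
          have h2 := hfpfL ⟨t, ht⟩ h1 y' hy'.1 (Subtype.ext htc.symm)
          rw [h2]
          rfl
        · intro htH
          refine ⟨hHL htH, ?_⟩
          have := hy'.2 ⟨t, hHL htH⟩ htH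
          exact congrArg Subtype.val this)
      ψ hψ
      (by
        intro y hy y₂ hy₂ h1 h2
        obtain ⟨y', hy', rfl⟩ := hZg y hy
        obtain ⟨y₂', hy₂', rfl⟩ := hZg y₂ hy₂
        exact hconst y' hy' y₂' hy₂' (fun e => h1 (by rw [e]; rfl)) (fun e => h2 (by rw [e]; rfl)))
      (z : G) ⟨z, hz, rfl⟩ (fun e => hz1 (Subtype.ext e))
    rwa [hcardH] at hr
  · exact Cfsg.Agent.S1521.result K hsolv (fun α => indFun L α) R hS hodd ⊥ bot_le (by infer_instance) (⁅K, K⁆ ⊔ ⊥) rfl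
      (by rwa [sup_bot_eq]) hKtop (by rwa [sup_bot_eq]) (Or.inr (Or.inr (Or.inl hpp)))

end Cfsg.Agent.S1524
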