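import Cfsg.Statements.S1529
import Cfsg.Agent.Lib.OddChar.Inner

set_option autoImplicit false
open Cfsg

namespace Cfsg.Agent.S1529

open Cfsg.Agent.Lib.Char Cfsg.Agent.Lib.OddChar

/-- Let N be a subgroup of the finite group G, S a set of irreducible characters of N with at least two members, and τ₁ a linear isometry on the integer combinations of S with virtual-character values such that τ₁ α vanishes at 1 whenever α ∈ ℤ[S] does. Then there is ε ∈ {1, −1} such that ε • τ₁ χ is an irreducible character of G for every χ ∈ S, and distinct members of S give distinct characters. -/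
theorem result {G : Type*} [Group G] [Fintype G] (N : Subgroup G) [Fintype N] (S : Set (N → ℂ)) (hirr : ∀ χ ∈ S, Cfsg.IsIrrCharacter N χ) (htwo : ∃ χ ∈ S, ∃ ψ ∈ S, χ ≠ ψ) (τ₁ : (N → ℂ) → (G → ℂ)) (hτ₁ : Cfsg.IsLinearIsometryOn (Cfsg.zspan S) τ₁) (h0 : ∀ α ∈ Cfsg.zspan S, α 1 = 0 → τ₁ α 1 = 0) : ∃ ε : ℂ, (ε = 1 ∨ ε = -1) ∧ (∀ χ ∈ S, Cfsg.IsIrrCharacter G (ε • τ₁ χ)) ∧ (∀ χ ∈ S, ∀ ψ ∈ S, τ₁ χ = τ₁ ψ → χ = ψ) := by
  classical
  obtain ⟨hadd, hsmul, hinner, hvirt⟩ := hτ₁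
  have hmem : ∀ χ ∈ S, χ ∈ Cfsg.zspan S := fun χ h => mem_zspan_of_mem h
  have hpm : ∀ χ ∈ S, IsPMIrr G (τ₁ χ) := by
    intro χ hχ
    apply isPMIrr_of_norm_one (hvirt χ (hmem χ hχ))
    rw [hinner χ (hmem χ hχ) χ (hmem χ hχ)]
    exact classInner_irr_self (hirr χ hχ)
  have hzsmul : ∀ (n : ℤ) (α : N → ℂ), α ∈ Cfsg.zspan S → n • α ∈ Cfsg.zspan S := fun n α h =>
    Submodule.smul_mem _ n h
  have hzadd : ∀ (α β : N → ℂ), α ∈ Cfsg.zspan S → β ∈ Cfsg.zspan S → α + β ∈ Cfsg.zspan S :=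
    fun α β h h' => Submodule.add_mem _ h h'
  -- the degree relation
  have hz : ∀ {X : Type _} (n : ℤ) (f : X → ℂ) (x : X), (n • f) x = (n : ℂ) * f x := by
    intro X n f x
    simp
  have hrel : ∀ χ ∈ S, ∀ ψ ∈ S, ∀ a b : ℕ, χ 1 = a → ψ 1 = b → (b : ℂ) * τ₁ χ 1 = (a : ℂ) * τ₁ ψ 1 := by
    intro χ hχ ψ hψ a b ha hb
    have h1 : ((b : ℤ) • χ + (-(a : ℤ)) • ψ) ∈ Cfsg.zspan S :=
      hzadd _ _ (hzsmul _ _ (hmem χ hχ)) (hzsmul _ _ (hmem ψ hψ))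
    have h2 : ((b : ℤ) • χ + (-(a : ℤ)) • ψ) 1 = 0 := by
      rw [Pi.add_apply, hz, hz, ha, hb]
      push_cast
      ring
    have h3 := h0 _ h1 h2
    rw [hadd _ (hzsmul _ _ (hmem χ hχ)) _ (hzsmul _ _ (hmem ψ hψ)), hsmul _ (hmem χ hχ), hsmul _ (hmem ψ hψ)] at h3
    rw [Pi.add_apply, hz, hz] at h3
    push_cast at h3
    linear_combination h3
  have key : ∀ χ ∈ S, ∀ ψ ∈ S, IsIrrCharacter G (τ₁ χ) → IsIrrCharacter G (-τ₁ ψ) → False := by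
    intro χ hχ ψ hψ h1 h2
    obtain ⟨a, ha0, ha⟩ := IsIrrCharacter.apply_one (hirr χ hχ)
    obtain ⟨b, hb0, hb⟩ := IsIrrCharacter.apply_one (hirr ψ hψ)
    obtain ⟨c, hc0, hc⟩ := IsIrrCharacter.apply_one h1
    obtain ⟨d, hd0, hd⟩ := IsIrrCharacter.apply_one h2
    have h3 := hrel χ hχ ψ hψ a b ha hb
    have h4 : τ₁ ψ 1 = -(d : ℂ) := by
      simp only [Pi.neg_apply] at hd
      linear_combination -hd
    rw [hc, h4] at h3
    have h5 : ((b * c + a * d : ℕ) : ℂ) = 0 := by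
      push_cast
      linear_combination h3
    have h6 : b * c + a * d = 0 := by exact_mod_cast h5
    have : 0 < b * c := Nat.mul_pos hb0 hc0
    omega
  obtain ⟨χ₀, hχ₀, -, -, -⟩ := htwo
  have hinj : ∀ χ ∈ S, ∀ ψ ∈ S, τ₁ χ = τ₁ ψ → χ = ψ := by
    intro χ hχ ψ hψ he
    by_contra hne
    have h1 := hinner χ (hmem χ hχ) ψ (hmem ψ hψ)
    rw [classInner_irr_of_ne (hirr χ hχ) (hirr ψ hψ) hne, he, IsPMIrr.classInner_self (hpm ψ hψ)] at h1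
    norm_num at h1
  rcases hpm χ₀ hχ₀ with h | h
  · refine ⟨1, Or.inl rfl, ?_, hinj⟩
    intro χ hχ
    rw [one_smul]
    rcases hpm χ hχ with h' | h'
    · exact h'
    · exact (key χ₀ hχ₀ χ hχ h h').elim
  · refine ⟨-1, Or.inr rfl, ?_, hinj⟩
    intro χ hχ
    rw [neg_smul, one_smul]
    rcases hpm χ hχ with h' | h'
    · exact (key χ hχ χ₀ hχ₀ h' h).elim
    · exact h'

end Cfsg.Agent.S1529
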