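import Cfsg.Statements.S0646
import Cfsg.Agent.Lib.Transfer.Rank

set_option autoImplicit false
open Cfsg

namespace Cfsg.Agent.S0646

lemma abelian_of_commute {G : Type*} [Group G] {a b : G} (hsup : Subgroup.zpowers a ⊔ Subgroup.zpowers b = ⊤)
    (hab : a * b = b * a) : ∀ x y : G, x * y = y * x := by
  have h1 : ∀ y : G, y * a = a * y := by
    intro y
    have hle : (⊤ : Subgroup G) ≤ Subgroup.centralizer ({a} : Set G) := by
      rw [← hsup]
      apply sup_le
      · rw [Subgroup.zpowers_le, Subgroup.mem_centralizer_singleton_iff]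
      · rw [Subgroup.zpowers_le, Subgroup.mem_centralizer_singleton_iff]
        exact hab.symm
    have := hle (Subgroup.mem_top y)
    rwa [Subgroup.mem_centralizer_singleton_iff] at this
  have h2 : ∀ y : G, y * b = b * y := by
    intro y
    have hle : (⊤ : Subgroup G) ≤ Subgroup.centralizer ({b} : Set G) := by
      rw [← hsup]
      apply sup_le
      · rw [Subgroup.zpowers_le, Subgroup.mem_centralizer_singleton_iff]
        exact hab
      · rw [Subgroup.zpowers_le, Subgroup.mem_centralizer_singleton_iff]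
    have := hle (Subgroup.mem_top y)
    rwa [Subgroup.mem_centralizer_singleton_iff] at this
  have hZ : (⊤ : Subgroup G) ≤ Subgroup.center G := by
    rw [← hsup]
    apply sup_le
    · rw [Subgroup.zpowers_le, Subgroup.mem_center_iff]
      exact h1
    · rw [Subgroup.zpowers_le, Subgroup.mem_center_iff]
      exact h2
  intro x y
  have := hZ (Subgroup.mem_top x)
  rw [Subgroup.mem_center_iff] at this
  exact (this y).symm

lemma two_dvd_aux {k m : ℕ} (hk : Odd k) (hm : 1 ≤ m) (h : 2 ^ m ∣ k * k - 1) :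
    2 ^ (m - 1) ∣ k - 1 ∨ 2 ^ (m - 1) ∣ k + 1 := by
  obtain ⟨j, rfl⟩ := hk
  have h1 : (2 * j + 1) * (2 * j + 1) - 1 = j * (4 * (j + 1)) := by
    have : (2 * j + 1) * (2 * j + 1) = j * (4 * (j + 1)) + 1 := by ring
    omega
  have h2 : (2 * j + 1) * (2 * j + 1) - 1 = (j + 1) * (4 * j) := by
    have : (2 * j + 1) * (2 * j + 1) = (j + 1) * (4 * j) + 1 := by ring
    omega
  have hm2 : 2 ^ m = 2 * 2 ^ (m - 1) := by
    rw [← pow_succ']; congr 1; omega
  rcases Nat.even_or_odd j with hj | hj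
  · left
    have hc : (2 ^ m).Coprime (j + 1) := by
      apply Nat.Coprime.pow_left
      rw [Nat.coprime_two_left]
      exact hj.add_one
    rw [h2] at h
    have h3 : 2 ^ m ∣ 4 * j := hc.dvd_of_dvd_mul_left h
    rw [hm2] at h3
    have h4 : 2 * 2 ^ (m - 1) ∣ 2 * (2 * j) := by
      have : 2 * (2 * j) = 4 * j := by ring
      rwa [this]
    have h5 := Nat.dvd_of_mul_dvd_mul_left (by norm_num) h4
    simpa using h5
  · right
    have hc : (2 ^ m).Coprime j := by
      apply Nat.Coprime.pow_left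
      rw [Nat.coprime_two_left]
      exact hj
    rw [h1] at h
    have h3 : 2 ^ m ∣ 4 * (j + 1) := hc.dvd_of_dvd_mul_left h
    rw [hm2] at h3
    have h4 : 2 * 2 ^ (m - 1) ∣ 2 * (2 * j + 1 + 1) := by
      have : 2 * (2 * j + 1 + 1) = 4 * (j + 1) := by ring
      rwa [this]
    exact Nat.dvd_of_mul_dvd_mul_left (by norm_num) h4


/-- Classification of non-abelian 2-groups with a cyclic maximal subgroup: dihedral, generalized quaternion, and for order at least 16 the modular group and the semidihedral group, each given by generators a (of index 2) and b with the stated relations. -/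
theorem result {G : Type*} [Group G] [Finite G] (n : ℕ) (hn : 3 ≤ n) (hG : Nat.card G = 2 ^ n) (C : Subgroup G) (hC : IsCyclic C) (hCi : C.index = 2) (hna : ∃ x y : G, x * y ≠ y * x) : ∃ a b : G, orderOf a = 2 ^ (n - 1) ∧ b ∉ Subgroup.zpowers a ∧ ((b ^ 2 = 1 ∧ b * a * b⁻¹ = a⁻¹) ∨ (b ^ 2 = a ^ (2 ^ (n - 2)) ∧ b * a * b⁻¹ = a⁻¹) ∨ (4 ≤ n ∧ b ^ 2 = 1 ∧ b * a * b⁻¹ = a ^ (1 + 2 ^ (n - 2))) ∨ (4 ≤ n ∧ b ^ 2 = 1 ∧ b * a * b⁻¹ = a ^ (2 ^ (n - 2) - 1))) := by
  classical
  have hC2 : Nat.card C = 2 ^ (n - 1) := by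
    have h1 := C.card_mul_index
    rw [hCi, hG] at h1
    have h2 : 2 ^ (n - 1) * 2 = 2 ^ n := by
      rw [← pow_succ]; congr 1; omega
    exact Nat.eq_of_mul_eq_mul_right (by norm_num) (h1.trans h2.symm)
  have hCn : C.Normal := Subgroup.normal_of_index_eq_two hCi
  obtain ⟨g, hg⟩ := hC.exists_generator
  let a : G := g
  have hordA : orderOf a = 2 ^ (n - 1) := by
    have h1 : orderOf g = Nat.card C := orderOf_eq_card_of_forall_mem_zpowers hg
    rw [hC2] at h1
    rw [← h1]
    exact Subgroup.orderOf_coe g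
  have hmemC : ∀ x ∈ C, ∃ k : ℕ, a ^ k = x := by
    intro x hx
    have h1 : (⟨x, hx⟩ : C) ∈ Submonoid.powers g := by
      rw [mem_powers_iff_mem_zpowers]
      exact hg _
    obtain ⟨k, hk⟩ := h1
    exact ⟨k, by simpa [a] using congrArg Subtype.val hk⟩
  have haC : a ∈ C := g.2
  have hCeq : C = Subgroup.zpowers a := by
    apply le_antisymm
    · intro x hx
      obtain ⟨k, rfl⟩ := hmemC x hx
      exact pow_mem (Subgroup.mem_zpowers a) k
    · rw [Subgroup.zpowers_le]; exact haC
  -- an element outside `C`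
  obtain ⟨b, hbC⟩ : ∃ b : G, b ∉ C := by
    by_contra hcon
    push Not at hcon
    have : C = ⊤ := by
      ext x
      simp [hcon x]
    rw [this, Subgroup.index_top] at hCi
    omega
  have hsup : Subgroup.zpowers a ⊔ Subgroup.zpowers b = ⊤ := by
    have hco : IsCoatom C := Cfsg.Agent.Lib.Transfer.isCoatom_of_index_prime (by rw [hCi]; exact Nat.prime_two)
    rw [← hCeq]
    apply hco.2
    refine lt_of_le_of_ne le_sup_left ?_
    intro heq
    apply hbC
    have : b ∈ C ⊔ Subgroup.zpowers b := Subgroup.mem_sup_right (Subgroup.mem_zpowers b)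
    rwa [← heq] at this
  have hnotcomm : b * a * b⁻¹ ≠ a := by
    intro h
    obtain ⟨x, y, hxy⟩ := hna
    apply hxy
    refine abelian_of_commute hsup ?_ x y
    calc a * b = (b * a * b⁻¹) * b := by rw [h]
      _ = b * a := by group
  have hm : 2 ≤ n - 1 := by omega
  obtain ⟨k, hk⟩ := hmemC _ (hCn.conj_mem a haC b)
  obtain ⟨s, hs⟩ := hmemC (b ^ 2) (Subgroup.sq_mem_of_index_two hCi b)
  have hconjpow : ∀ j : ℕ, b * a ^ j * b⁻¹ = (b * a * b⁻¹) ^ j := fun j => (conj_pow).symm
  -- `k² ≡ 1`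
  have hkk : a ^ (k * k) = a := by
    have h1 : b ^ 2 * a * (b ^ 2)⁻¹ = a := by
      rw [← hs]
      calc a ^ s * a * (a ^ s)⁻¹ = a * a ^ s * (a ^ s)⁻¹ := by
            rw [(Commute.refl a).pow_left s |>.eq]
        _ = a := by group
    have h2 : b ^ 2 * a * (b ^ 2)⁻¹ = b * (b * a * b⁻¹) * b⁻¹ := by
      rw [pow_two]; group
    rw [h2, ← hk, hconjpow, ← hk, ← pow_mul] at h1
    exact h1
  have hkpos : 1 ≤ k * k := by
    by_contra h
    have h0 : k * k = 0 := by omega
    rw [h0, pow_zero] at hkk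
    rw [← hkk, orderOf_one] at hordA
    have : 1 < 2 ^ (n - 1) := Nat.one_lt_two_pow (by omega)
    omega
  have hdvd : 2 ^ (n - 1) ∣ k * k - 1 := by
    have h1 : a ^ (k * k) = a ^ 1 := by rw [hkk, pow_one]
    rw [pow_eq_pow_iff_modEq, hordA] at h1
    exact (Nat.modEq_iff_dvd' hkpos).1 h1.symm
  have hkodd : Odd k := by
    by_contra hne
    rw [Nat.not_odd_iff_even] at hne
    obtain ⟨j, rfl⟩ := hne
    have h4 : 2 ∣ 2 ^ (n - 1) := dvd_pow_self 2 (by omega)
    have h5 := h4.trans hdvd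
    have h6 : (j + j) * (j + j) = 2 * (2 * (j * j)) := by ring
    omega
  -- the involution of `⟨a⟩`
  let y : G := a ^ 2 ^ (n - 2)
  have hpow : 2 ^ (n - 2) * 2 = 2 ^ (n - 1) := by
    rw [← pow_succ]; congr 1; omega
  have hy2 : y * y = 1 := by
    show a ^ 2 ^ (n - 2) * a ^ 2 ^ (n - 2) = 1
    rw [← pow_add, ← two_mul, mul_comm, hpow, ← hordA, pow_orderOf_eq_one]
  have hypow : ∀ t : ℕ, y ^ t = 1 ∨ y ^ t = y := by
    intro t
    induction t with
    | zero => left; simp
    | succ t ih =>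
      rcases ih with h | h
      · right; rw [pow_succ, h, one_mul]
      · left; rw [pow_succ, h, hy2]
  have hypar : ∀ t : ℕ, Even t → y ^ t = 1 := by
    rintro t ⟨j, rfl⟩
    rw [← two_mul, pow_mul, pow_two, hy2, one_pow]
  have hyodd : ∀ t : ℕ, Odd t → y ^ t = y := by
    rintro t ⟨j, rfl⟩
    rw [pow_succ, pow_mul, pow_two, hy2, one_pow, one_mul]
  have hyc : a * y = y * a := ((Commute.refl a).pow_right _)
  have hy1 : y ≠ 1 := by
    intro h
    have h1 : orderOf a ∣ 2 ^ (n - 2) := orderOf_dvd_of_pow_eq_one h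
    rw [hordA] at h1
    have h2 := (Nat.pow_dvd_pow_iff_le_right (by norm_num : 1 < 2)).1 h1
    omega
  -- trichotomy
  have htri : b * a * b⁻¹ = a⁻¹ ∨ (4 ≤ n ∧ b * a * b⁻¹ = a * y) ∨ (4 ≤ n ∧ b * a * b⁻¹ = a⁻¹ * y) := by
    rcases two_dvd_aux hkodd (by omega) hdvd with ⟨t, ht⟩ | ⟨t, ht⟩
    · have hn2 : n - 1 - 1 = n - 2 := by omega
      rw [hn2] at ht
      have hk1 : k = 1 + 2 ^ (n - 2) * t := by
        have : 1 ≤ k := hkodd.pos
        omega
      have hkform : a ^ k = a * y ^ t := by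
        rw [hk1, pow_add, pow_one, pow_mul]
      rw [← hk, hkform]
      rcases Nat.even_or_odd t with ht' | ht'
      · exfalso
        apply hnotcomm
        rw [← hk, hkform, hypar t ht', mul_one]
      · rw [hyodd t ht']
        by_cases hn4 : 4 ≤ n
        · right; left; exact ⟨hn4, rfl⟩
        · left
          have hn3 : n = 3 := by omega
          subst hn3
          have h4 : a ^ 4 = 1 := by
            have : (2 : ℕ) ^ (3 - 1) = 4 := by norm_num
            rw [this] at hordA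
            rw [← hordA, pow_orderOf_eq_one]
          show a * a ^ 2 ^ (3 - 2) = a⁻¹
          rw [eq_inv_iff_mul_eq_one]
          have h22 : (2 : ℕ) ^ (3 - 2) = 2 := by norm_num
          rw [h22]
          have : a * a ^ 2 * a = a ^ 4 := by group
          rw [this, h4]
    · have hn2 : n - 1 - 1 = n - 2 := by omega
      rw [hn2] at ht
      have hkform : a ^ k = a⁻¹ * y ^ t := by
        have : a ^ k * a = y ^ t := by
          show a ^ k * a = (a ^ 2 ^ (n - 2)) ^ t
          rw [← pow_succ, ht, pow_mul]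
        have c : a ^ k * a = a * a ^ k := ((Commute.refl a).pow_left k)
        rw [← this, c, inv_mul_cancel_left]
      rw [← hk, hkform]
      rcases Nat.even_or_odd t with ht' | ht'
      · left
        rw [hypar t ht', mul_one]
      · rw [hyodd t ht']
        by_cases hn4 : 4 ≤ n
        · right; right; exact ⟨hn4, rfl⟩
        · exfalso
          have hn3 : n = 3 := by omega
          subst hn3
          apply hnotcomm
          rw [← hk, hkform, hyodd t ht']
          show a⁻¹ * a ^ 2 ^ (3 - 2) = a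
          have h22 : (2 : ℕ) ^ (3 - 2) = 2 := by norm_num
          rw [h22]
          group
  have hbz : b ∉ Subgroup.zpowers a := by rw [← hCeq]; exact hbC
  have hSq : a ^ s * a ^ s = 1 → a ^ s = 1 ∨ a ^ s = y := by
    intro h
    rw [← pow_add] at h
    have h1 : orderOf a ∣ s + s := orderOf_dvd_of_pow_eq_one h
    rw [hordA, ← hpow, ← two_mul, mul_comm] at h1
    have h2 : 2 ^ (n - 2) ∣ s := Nat.dvd_of_mul_dvd_mul_left (by norm_num) h1
    obtain ⟨r, rfl⟩ := h2
    rw [pow_mul]
    exact hypow r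
  have hbb : b * a ^ s * b⁻¹ = a ^ s := by
    rw [hs, pow_two]; group
  have hbzu : ∀ u : ℕ, b * a ^ u ∉ Subgroup.zpowers a := by
    intro u h
    apply hbz
    have h2 := mul_mem h (inv_mem (pow_mem (Subgroup.mem_zpowers a) u))
    simpa using h2
  have hconju : ∀ (u : ℕ) (x : G), b * a * b⁻¹ = x → (b * a ^ u) * a * (b * a ^ u)⁻¹ = x := by
    intro u x hx
    have c : a ^ u * a = a * a ^ u := ((Commute.refl a).pow_left u)
    rw [← hx]
    calc (b * a ^ u) * a * (b * a ^ u)⁻¹ = b * (a ^ u * a) * (a ^ u)⁻¹ * b⁻¹ := by group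
      _ = b * (a * a ^ u) * (a ^ u)⁻¹ * b⁻¹ := by rw [c]
      _ = b * a * b⁻¹ := by group
  rcases htri with hT | ⟨hn4, hT⟩ | ⟨hn4, hT⟩
  · -- dihedral or quaternion
    refine ⟨a, b, hordA, hbz, ?_⟩
    have h1 : a ^ s * a ^ s = 1 := by
      have h2 := hbb
      rw [hconjpow, hT, inv_pow] at h2
      calc a ^ s * a ^ s = a ^ s * (a ^ s)⁻¹ := by rw [h2]
        _ = 1 := by group
    rcases hSq h1 with h3 | h3
    · left
      exact ⟨by rw [← hs, h3], hT⟩
    · right; left
      exact ⟨by rw [← hs, h3], hT⟩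
  · -- modular
    have h1 : y ^ s = 1 := by
      have h2 := hbb
      rw [hconjpow, hT, (show Commute a y from hyc).mul_pow] at h2
      exact mul_eq_left.1 h2
    have hse : Even s := by
      by_contra hne
      rw [Nat.not_even_iff_odd] at hne
      rw [hyodd s hne] at h1
      exact hy1 h1
    obtain ⟨t, rfl⟩ := hse
    -- the correction
    obtain ⟨d', hd'⟩ : ∃ d' : ℕ, 2 ^ (n - 3) = 2 * d' := by
      refine ⟨2 ^ (n - 4), ?_⟩
      rw [← pow_succ']; congr 1; omega
    have hdpos : 1 ≤ 2 ^ (n - 3) := Nat.one_le_two_pow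
    obtain ⟨e, he⟩ : ∃ e : ℕ, 2 ^ (n - 3) = e + 1 := ⟨2 ^ (n - 3) - 1, by omega⟩
    have hy22 : 2 ^ (n - 2) = 2 * (e + 1) := by
      rw [← he, ← pow_succ']; congr 1; omega
    have hy23 : 2 ^ (n - 1) = 4 * (e + 1) := by
      rw [← hpow, hy22]; ring
    let u : ℕ := t * e
    have hsq : (b * a ^ u) ^ 2 = 1 := by
      have e1 : (b * a ^ u) ^ 2 = (b * a ^ u * b⁻¹) * b ^ 2 * a ^ u := by
        rw [pow_two, pow_two]; group
      rw [e1, hconjpow, hT, (show Commute a y from hyc).mul_pow, ← hs]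
      have e2 : y ^ u = a ^ (2 * (e + 1) * u) := by
        show (a ^ 2 ^ (n - 2)) ^ u = _
        rw [hy22, ← pow_mul]
      have e3 : a ^ u * y ^ u * a ^ (t + t) * a ^ u = a ^ (u + (2 * (e + 1) * u) + (t + t) + u) := by
        rw [e2]
        simp only [pow_add, mul_assoc]
      rw [e3]
      have e4 : u + (2 * (e + 1) * u) + (t + t) + u = 4 * (e + 1) * (t * d') := by
        show t * e + (2 * (e + 1) * (t * e)) + (t + t) + t * e = _
        have h5 : e + 1 = 2 * d' := by rw [← he, hd']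
        have h6 : t * e + (2 * (e + 1) * (t * e)) + (t + t) + t * e = 2 * t * ((e + 1) * (e + 1)) := by ring
        rw [h6]
        have h7 : 2 * t * ((e + 1) * (e + 1)) = 2 * t * ((e + 1) * (2 * d')) := by rw [← h5]
        rw [h7]; ring
      rw [e4, ← hy23, pow_mul, ← hordA, pow_orderOf_eq_one, one_pow]
    refine ⟨a, b * a ^ u, hordA, hbzu u, ?_⟩
    right; right; left
    refine ⟨hn4, hsq, hconju u _ ?_⟩
    rw [hT, pow_add, pow_one]
  · -- semidihedral
    have h1 : a ^ s * a ^ s = y ^ s := by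
      have h2 := hbb
      rw [hconjpow, hT, (show Commute a⁻¹ y from (Commute.inv_left (show Commute a y from hyc))).mul_pow, inv_pow] at h2
      calc a ^ s * a ^ s = a ^ s * ((a ^ s)⁻¹ * y ^ s) := by rw [h2]
        _ = y ^ s := by group
    have h3 : a ^ (4 * s) = 1 := by
      have h4 : a ^ (4 * s) = (a ^ s * a ^ s) * (a ^ s * a ^ s) := by
        rw [← pow_add, ← pow_add]; congr 1; ring
      rw [h4, h1, ← pow_add, ← two_mul, pow_mul, pow_two, hy2, one_pow]
    have h5 : 2 ^ (n - 1) ∣ 4 * s := by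
      rw [← hordA]; exact orderOf_dvd_of_pow_eq_one h3
    have hse : Even s := by
      have h6 : (2 : ℕ) ^ (n - 1) = 4 * 2 ^ (n - 3) := by
        have : (4 : ℕ) = 2 ^ 2 := by norm_num
        rw [this, ← pow_add]; congr 1; omega
      rw [h6] at h5
      have h7 := Nat.dvd_of_mul_dvd_mul_left (by norm_num) h5
      have h8 : 2 ∣ 2 ^ (n - 3) := dvd_pow_self 2 (by omega)
      exact even_iff_two_dvd.2 (h8.trans h7)
    have hconjform : a⁻¹ * y = a ^ (2 ^ (n - 2) - 1) := by
      have h6 : 1 ≤ 2 ^ (n - 2) := Nat.one_le_two_pow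
      have c : a⁻¹ * y = a ^ (2 ^ (n - 2) - 1) * (a⁻¹ * a) := by
        show a⁻¹ * a ^ 2 ^ (n - 2) = _
        have hc : a ^ 2 ^ (n - 2) = a ^ (2 ^ (n - 2) - 1) * a := by
          rw [← pow_succ]; congr 1; omega
        rw [hc]
        have c2 : a ^ (2 ^ (n - 2) - 1) * a = a * a ^ (2 ^ (n - 2) - 1) := ((Commute.refl a).pow_left _)
        rw [c2]; group
      rw [c]; group
    rw [hypar s hse] at h1
    rcases hSq h1 with h3 | h3
    · refine ⟨a, b, hordA, hbz, ?_⟩
      right; right; right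
      exact ⟨hn4, by rw [← hs, h3], by rw [hT, hconjform]⟩
    · refine ⟨a, b * a ^ 1, hordA, hbzu 1, ?_⟩
      right; right; right
      refine ⟨hn4, ?_, hconju 1 _ (by rw [hT, hconjform])⟩
      have e1 : (b * a ^ 1) ^ 2 = (b * a * b⁻¹) * b ^ 2 * a := by
        rw [pow_one, pow_two, pow_two]; group
      rw [e1, hT, ← hs, h3]
      have c3 : y * a = a * y := hyc.symm
      calc a⁻¹ * y * y * a = a⁻¹ * (y * y) * a := by group
        _ = 1 := by rw [hy2]; group

end Cfsg.Agent.S0646
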