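import Cfsg.Statements.S0989
import Mathlib
import Cfsg.Agent.Lib.SmallSimple.Count

set_option autoImplicit false
open Cfsg

namespace Cfsg.Agent.S0989


/-- In the symmetric group on p or p + 1 letters, p a prime, the normalizer of a Sylow p-subgroup has order p * (p - 1). -/
theorem result {α : Type*} [Fintype α] [DecidableEq α] (p : ℕ) [Fact p.Prime] (hα : Fintype.card α = p ∨ Fintype.card α = p + 1) (P : Sylow p (Equiv.Perm α)) : Nat.card ↥(Subgroup.normalizer ((P : Subgroup (Equiv.Perm α)) : Set (Equiv.Perm α))) = p * (p - 1) := by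
  classical
  open Cfsg.Agent.Lib.SmallSimple in
  have hp : p.Prime := Fact.out
  have hp2 := hp.two_le
  have hG : Nat.card (Equiv.Perm α) = (Fintype.card α).factorial := by
    rw [Nat.card_eq_fintype_card, Fintype.card_perm]
  -- The order-p elements are exactly the p-cycles
  have hord : ∀ σ : Equiv.Perm α, orderOf σ = p ↔ σ.cycleType = {p} := by
    intro σ
    constructor
    · intro h
      have hs : σ.support.card ≤ Fintype.card α := Finset.card_le_univ _
      have hc : σ.IsCycle := by
        apply Equiv.Perm.isCycle_of_prime_order (by rwa [h])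
        rw [h]
        rcases hα with h1 | h1 <;> omega
      have h2 : σ.cycleType = {σ.support.card} := hc.cycleType
      have h3 : orderOf σ = σ.support.card := hc.orderOf
      rw [h2, ← h3, h]
    · intro h
      rw [← Equiv.Perm.lcm_cycleType, h]
      simp
  have hcount : Nat.card {σ : Equiv.Perm α // orderOf σ = p} = (Fintype.card α).choose p * (p - 1).factorial := by
    have := Equiv.Perm.card_of_cycleType_singleton (α := α) (n := p) hp2 (by rcases hα with h1 | h1 <;> omega)
    rw [Nat.card_eq_fintype_card, Fintype.card_subtype, mul_comm, ← this]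
    congr 1
    ext σ
    simp [hord]
  have hfac : ∃ m, (Fintype.card α).factorial = p ^ 1 * m ∧ ¬ p ∣ m ∧ 0 < m := by
    have hnd : ¬ p ∣ (p - 1).factorial := by
      rw [hp.dvd_factorial]; omega
    have hf : p.factorial = p * (p - 1).factorial := by
      obtain ⟨q, rfl⟩ : ∃ q, p = q + 1 := ⟨p - 1, by omega⟩
      simp [Nat.factorial_succ]
    rcases hα with h1 | h1
    · refine ⟨(p - 1).factorial, ?_, hnd, Nat.factorial_pos _⟩
      rw [h1, hf, pow_one]
    · refine ⟨(p + 1) * (p - 1).factorial, ?_, ?_, by positivity⟩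
      · rw [h1, Nat.factorial_succ, hf, pow_one]; ring
      · intro h
        rcases (Nat.Prime.dvd_mul hp).mp h with h | h
        · have := (Nat.dvd_add_right (dvd_refl p)).mp h
          exact hp.one_lt.ne' (Nat.dvd_one.mp this)
        · exact hnd h
  obtain ⟨m, hm, hmd, hm0⟩ := hfac
  have hcard : Nat.card (Equiv.Perm α) = p ^ 1 * m := by rw [hG, hm]
  have hP' : ∀ Q : Sylow p (Equiv.Perm α), Nat.card (Q : Subgroup (Equiv.Perm α)) = p := fun Q => by
    simpa using sylow_card_of_eq Q hcard hmd
  have h1 := card_orderOf_eq_prime hP'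
  rw [hcount] at h1
  have h2 := card_normalizer_mul_card_sylow p P
  rw [hG] at h2
  set n := Nat.card (Sylow p (Equiv.Perm α))
  set N := Nat.card ↥(Subgroup.normalizer ((P : Subgroup (Equiv.Perm α)) : Set (Equiv.Perm α)))
  have hf1 : 0 < (p - 1).factorial := Nat.factorial_pos _
  have hf : p.factorial = p * (p - 1).factorial := by
    obtain ⟨q, rfl⟩ : ∃ q, p = q + 1 := ⟨p - 1, by omega⟩
    simp [Nat.factorial_succ]
  have h2' : N * n = (Fintype.card α).factorial := h2
  rcases hα with h3 | h3
  · rw [h3, Nat.choose_self, one_mul] at h1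
    rw [h3, hf] at h2'
    apply Nat.eq_of_mul_eq_mul_right hf1
    calc N * (p - 1).factorial = N * (n * (p - 1)) := by rw [h1]
      _ = (N * n) * (p - 1) := by ring
      _ = p * (p - 1) * (p - 1).factorial := by rw [h2']; ring
  · rw [h3, Nat.choose_succ_self_right] at h1
    rw [h3, Nat.factorial_succ, hf] at h2'
    have hpos : 0 < (p + 1) * (p - 1).factorial := by positivity
    apply Nat.eq_of_mul_eq_mul_right hpos
    calc N * ((p + 1) * (p - 1).factorial) = N * (n * (p - 1)) := by rw [h1]
      _ = (N * n) * (p - 1) := by ring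
      _ = p * (p - 1) * ((p + 1) * (p - 1).factorial) := by rw [h2']; ring

end Cfsg.Agent.S0989
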