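import Cfsg.Statements.S0990
import Mathlib
import Cfsg.Agent.Lib.SmallSimple.Count

set_option autoImplicit false
open Cfsg

namespace Cfsg.Agent.S0990


/-- Let p be an odd prime and P a Sylow p-subgroup of the symmetric group on a finite set with at least two elements. Then P is contained in the alternating group, and twice the order of the normalizer of P inside the alternating group equals the order of the normalizer of P in the symmetric group. -/
theorem result {α : Type*} [Fintype α] [DecidableEq α] (hα : 2 ≤ Fintype.card α) (p : ℕ) [Fact p.Prime] (hp : p ≠ 2) (P : Sylow p (Equiv.Perm α)) : (P : Subgroup (Equiv.Perm α)) ≤ alternatingGroup α ∧ 2 * Nat.card ↥(Subgroup.normalizer ((((P : Subgroup (Equiv.Perm α)).subgroupOf (alternatingGroup α) : Subgroup ↥(alternatingGroup α)) : Set ↥(alternatingGroup α)))) = Nat.card ↥(Subgroup.normalizer ((P : Subgroup (Equiv.Perm α)) : Set (Equiv.Perm α))) := by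
  classical
  have hpp : p.Prime := Fact.out
  have hodd : Odd p := hpp.odd_of_ne_two hp
  have hPA : (P : Subgroup (Equiv.Perm α)) ≤ alternatingGroup α := by
    intro x hx
    rw [Equiv.Perm.mem_alternatingGroup]
    obtain ⟨n, hn⟩ := P.isPGroup' ⟨x, hx⟩
    have h1 : x ^ p ^ n = 1 := congrArg Subtype.val hn
    have h2 : (Equiv.Perm.sign x) ^ p ^ n = 1 := by
      rw [← map_pow, h1, map_one]
    rcases Int.units_eq_one_or (Equiv.Perm.sign x) with h | h
    · exact h
    · rw [h, Odd.neg_one_pow (hodd.pow)] at h2
      exact absurd h2 (by decide)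
  refine ⟨hPA, ?_⟩
  set A := alternatingGroup α with hA
  set N := Subgroup.normalizer ((P : Subgroup (Equiv.Perm α)) : Set (Equiv.Perm α)) with hN
  -- the Sylow subgroup of A
  let PA : Sylow p A := P.subtype hPA
  -- Frattini: N contains an odd permutation
  have hFr := Sylow.normalizer_sup_eq_top PA
  have hmap : ((PA : Subgroup A).map A.subtype) = (P : Subgroup (Equiv.Perm α)) := by
    have : (PA : Subgroup A) = (P : Subgroup (Equiv.Perm α)).subgroupOf A := rfl
    rw [this, Subgroup.subgroupOf_map_subtype, inf_eq_left.mpr hPA]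
  rw [hmap] at hFr
  have hnt : Nontrivial α := Fintype.one_lt_card_iff_nontrivial.mp (by omega)
  have hodd_elt : ∃ g ∈ N, Equiv.Perm.sign g = -1 := by
    by_contra hcon
    push Not at hcon
    have hle : N ≤ A := by
      intro g hg
      rw [hA, Equiv.Perm.mem_alternatingGroup]
      rcases Int.units_eq_one_or (Equiv.Perm.sign g) with h | h
      · exact h
      · exact absurd h (hcon g hg)
    have htop : A = ⊤ := by
      rw [← hFr, sup_eq_right.mpr hle]
    obtain ⟨a, b, hab⟩ := exists_pair_ne α
    have : Equiv.swap a b ∈ A := by rw [htop]; trivial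
    rw [hA, Equiv.Perm.mem_alternatingGroup, Equiv.Perm.sign_swap hab] at this
    exact absurd this (by decide)
  -- Index of N ∩ A in N
  have hidx : A.relIndex N = 2 := by
    rw [hA, alternatingGroup_eq_sign_ker, Subgroup.relIndex_ker]
    have : N.map (Equiv.Perm.sign : Equiv.Perm α →* ℤˣ) = ⊤ := by
      rw [eq_top_iff]
      intro u _
      rcases Int.units_eq_one_or u with rfl | rfl
      · exact one_mem _
      · obtain ⟨g, hg, hs⟩ := hodd_elt
        exact ⟨g, hg, hs⟩
    rw [this, Subgroup.card_top, Nat.card_eq_fintype_card, Fintype.card_units_int]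
  -- Cardinality of the normalizer in A
  have hcard : Nat.card ↥(Subgroup.normalizer (((P : Subgroup (Equiv.Perm α)).subgroupOf A : Subgroup A) : Set A)) = Nat.card ↥(A.subgroupOf N) := by
    refine Nat.card_congr ?_
    refine
      { toFun := fun g => ⟨⟨g.1.1, ?_⟩, ?_⟩
        invFun := fun g => ⟨⟨g.1.1, ?_⟩, ?_⟩
        left_inv := ?_
        right_inv := ?_ }
    · -- g normalizes P in A, so in G
      rw [hN, Subgroup.mem_normalizer_iff]
      intro h
      have hg := Subgroup.mem_normalizer_iff.mp g.2
      constructor
      · intro hh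
        have hhA : h ∈ A := hPA hh
        have := (hg ⟨h, hhA⟩).mp hh
        exact this
      · intro hh
        have hhA : g.1.1 * h * g.1.1⁻¹ ∈ A := hPA hh
        have hhA' : h ∈ A := by
          have h1 := A.mul_mem (A.mul_mem (A.inv_mem g.1.2) hhA) g.1.2
          simpa [mul_assoc] using h1
        exact (hg ⟨h, hhA'⟩).mpr hh
    · exact g.1.2
    · exact g.2
    · rw [Subgroup.mem_normalizer_iff]
      intro h
      have hg := Subgroup.mem_normalizer_iff.mp g.1.2 h.1
      exact hg
    · intro g; rfl
    · intro g; rfl
  rw [hcard]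
  have h2 := Subgroup.card_mul_index (A.subgroupOf N)
  have h3 : (A.subgroupOf N).index = 2 := hidx
  rw [h3] at h2
  rw [mul_comm]
  exact h2

end Cfsg.Agent.S0990
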