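import Cfsg.Statements.S4729
import Cfsg.Agent.Lib.Char.PBlock
import Cfsg.Agent.Lib.H8Group.Det

set_option autoImplicit false
open Cfsg

namespace Cfsg.Agent.S4729

open Cfsg.Agent.Lib.Char Cfsg.Agent.Lib.Blocks Module
open scoped ComplexConjugate

/-- Centralizers of Sylow subgroups: the block congruence gives `χ(a) ≡ χ(1)`. -/
theorem apply_sub_memLocalIdeal {G : Type*} [Group G] [Fintype G] {p : ℕ} [Fact p.Prime]
    {M : Ideal Cfsg.AlgInt} (hM : Cfsg.IsPModular p M) (P : Sylow p G) (χ : Cfsg.IrrCharacter G)
    (hχ : χ ∈ Cfsg.principalBlock M G) {a : G}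
    (ha : a ∈ Subgroup.centralizer ((P : Subgroup G) : Set G)) :
    MemLocalIdeal M ((χ : G → ℂ) a - (χ : G → ℂ) 1) := by
  haveI := isPrime_of_modular hM
  have h1 := mem_principalBlock_iff.mp hχ a
  have hle : (P : Subgroup G) ≤ Subgroup.centralizer ({a} : Set G) := by
    intro x hx
    rw [Subgroup.mem_centralizer_iff]
    intro z hz
    rw [Set.mem_singleton_iff] at hz
    subst hz
    exact (Subgroup.mem_centralizer_iff.mp ha x hx).symm
  have hidx : ¬ p ∣ (Subgroup.centralizer ({a} : Set G)).index := fun hd =>
    P.not_dvd_index (hd.trans (Subgroup.index_dvd_of_le hle))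
  have hd0 : (χ : G → ℂ) 1 ≠ 0 := IsIrrCharacter.apply_one_ne_zero χ.2
  have hint : IsIntegral ℤ ((χ : G → ℂ) a - (χ : G → ℂ) 1) :=
    (IsCharacter.isIntegral (IsIrrCharacter.isCharacter χ.2) a).sub
      (IsCharacter.isIntegral (IsIrrCharacter.isCharacter χ.2) 1)
  refine (MemLocalIdeal.of_mul (MemLocalRing.natCast _) (memLocalRing_of_isIntegral hint)
    ?_).resolve_left (natCast_not_memLocalIdeal hM hidx)
  have h2 : (((Subgroup.centralizer ({a} : Set G)).index : ℕ) : ℂ) *
      ((χ : G → ℂ) a - (χ : G → ℂ) 1) =
      - ((χ : G → ℂ) 1) * (Cfsg.centralChar (fun _ : G => (1 : ℂ)) a -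
        Cfsg.centralChar (χ : G → ℂ) a) := by
    simp only [Cfsg.centralChar]
    field_simp
    ring
  rw [h2]
  exact MemLocalIdeal.mul_left
    (memLocalRing_of_isIntegral (IsCharacter.isIntegral (IsIrrCharacter.isCharacter χ.2) 1).neg) h1

/-- Let p be a prime, M a maximal ideal of the algebraic integers containing p, G a finite perfect group and P a Sylow p-subgroup. If the principal p-block of G contains a faithful irreducible character of degree less than 2p, then the centralizer of P is a p-group. -/
theorem result {G : Type*} [Group G] [Finite G] (p : ℕ) [Fact p.Prime] (M : Ideal Cfsg.AlgInt) (hM : Cfsg.IsPModular p M) (hperf : commutator G = ⊤) (P : Sylow p G) (χ : Cfsg.IrrCharacter G) (hχ : χ ∈ Cfsg.principalBlock M G) (hfaith : ∀ g : G, (χ : G → ℂ) g = (χ : G → ℂ) 1 → g = 1) (hdeg : Cfsg.charDegree (χ : G → ℂ) < 2 * p) : IsPGroup p ↥(Subgroup.centralizer ((P : Subgroup G) : Set G)) := by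
  classical
  cases nonempty_fintype G
  haveI := isPrime_of_modular hM
  have hpp : p.Prime := Fact.out
  have hχc : IsCharacter G (χ : G → ℂ) := IsIrrCharacter.isCharacter χ.2
  have key : ∀ y ∈ Subgroup.centralizer ((P : Subgroup G) : Set G), ¬ p ∣ orderOf y → y = 1 := by
    intro y hy hyp
    obtain ⟨n, ρ, hρ⟩ := hχc
    have hρa : ∀ g, (χ : G → ℂ) g = ρ.character g := fun g => congrFun hρ.symm g
    obtain ⟨b, μ, h1, h2, -, -⟩ := exists_eigenbasis_rep ρ y
    obtain ⟨d, hd⟩ : ∃ d, d = finrank ℂ (Fin n → ℂ) := ⟨_, rfl⟩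
    set m := orderOf y with hm
    have hm0 : 0 < m := orderOf_pos y
    have hm0c : (m : ℂ) ≠ 0 := by exact_mod_cast hm0.ne'
    have hχ1 : (χ : G → ℂ) 1 = (d : ℂ) := by
      rw [hρa, Representation.char_one, hd]
    have hdeg' : d < 2 * p := by
      have : Cfsg.charDegree (χ : G → ℂ) = d := by
        unfold Cfsg.charDegree
        rw [hχ1]
        simp
      omega
    -- the values of `χ` at powers of `y`
    have hpow : ∀ k : ℕ, (χ : G → ℂ) (y ^ k) = ∑ i, μ i ^ k := by
      intro k
      rw [hρa]
      apply trace_eq_sum_of_eigenbasis b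
      intro i
      rw [map_pow]
      exact pow_apply_of_eigen _ (h1 i) k
    -- multiplicities
    have hmult : ∀ ζ : ℂ, ζ ^ m = 1 → ζ ≠ 1 → p ∣ (Finset.univ.filter fun i => μ i = ζ).card := by
      intro ζ hζ hζ1
      have hζ0 : ζ ≠ 0 := by
        intro h0
        rw [h0, zero_pow hm0.ne'] at hζ
        exact zero_ne_one hζ
      set η := ζ⁻¹ with hη
      have hηm : η ^ m = 1 := by rw [hη, inv_pow, hζ, inv_one]
      have hη1 : η ≠ 1 := by
        intro h
        apply hζ1
        rw [hη] at h
        exact inv_eq_one.mp h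
      have hgeom : ∑ k ∈ Finset.range m, η ^ k = 0 := by
        have := mul_neg_geom_sum η m
        rw [hηm, sub_self] at this
        exact (mul_eq_zero.mp this).resolve_left (sub_ne_zero.mpr (Ne.symm hη1))
      have hS : ∑ k ∈ Finset.range m, (χ : G → ℂ) (y ^ k) * η ^ k =
          (m : ℂ) * ((Finset.univ.filter fun i => μ i = ζ).card : ℂ) := by
        simp_rw [hpow, Finset.sum_mul]
        rw [Finset.sum_comm]
        have : ∀ i : Fin (finrank ℂ (Fin n → ℂ)), ∑ k ∈ Finset.range m, μ i ^ k * η ^ k =
            if μ i = ζ then (m : ℂ) else 0 := by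
          intro i
          simp_rw [← mul_pow]
          split_ifs with h
          · rw [h, hη, mul_inv_cancel₀ hζ0]
            simp
          · have hne : μ i * η ≠ 1 := by
              intro h3
              apply h
              rw [hη] at h3
              field_simp at h3
              exact h3
            have h4 := mul_neg_geom_sum (μ i * η) m
            rw [mul_pow, h2 i, hηm, one_mul, sub_self] at h4
            exact (mul_eq_zero.mp h4).resolve_left (sub_ne_zero.mpr (Ne.symm hne))
        simp_rw [this]
        rw [Finset.sum_ite, Finset.sum_const_zero, add_zero, Finset.sum_const, nsmul_eq_mul, mul_comm]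
      have hS2 : ∑ k ∈ Finset.range m, (χ : G → ℂ) (y ^ k) * η ^ k =
          ∑ k ∈ Finset.range m, ((χ : G → ℂ) (y ^ k) - (χ : G → ℂ) 1) * η ^ k := by
        simp_rw [sub_mul]
        rw [Finset.sum_sub_distrib, ← Finset.mul_sum, hgeom, mul_zero, sub_zero]
      have hηint : IsIntegral ℤ η := by
        refine ⟨Polynomial.X ^ m - 1, Polynomial.monic_X_pow_sub_C 1 hm0.ne', ?_⟩
        simp [hηm]
      have hloc : MemLocalIdeal M ((m : ℂ) * ((Finset.univ.filter fun i => μ i = ζ).card : ℂ)) := by
        rw [← hS, hS2]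
        refine MemLocalIdeal.sum _ fun k _ => ?_
        refine MemLocalIdeal.mul_right ?_ (MemLocalRing.pow (memLocalRing_of_isIntegral hηint) k)
        exact apply_sub_memLocalIdeal hM P χ hχ (Subgroup.pow_mem _ hy k)
      have h5 : MemLocalIdeal M (((Finset.univ.filter fun i => μ i = ζ).card : ℕ) : ℂ) :=
        (MemLocalIdeal.of_mul (MemLocalRing.natCast _) (MemLocalRing.natCast _)
          hloc).resolve_left (natCast_not_memLocalIdeal hM hyp)
      exact (natCast_memLocalIdeal_iff hM _).mp h5
    -- the determinant is trivial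
    have hdet : LinearMap.det (ρ y) = 1 := by
      let f : G →* ℂ := (LinearMap.det : ((Fin n → ℂ) →ₗ[ℂ] (Fin n → ℂ)) →* ℂ).comp ρ
      have h3 : y ∈ commutator G := by rw [hperf]; exact Subgroup.mem_top y
      have h4 := Abelianization.commutator_subset_ker f.toHomUnits h3
      rw [MonoidHom.mem_ker] at h4
      have h5 := congrArg (fun u : ℂˣ => (u : ℂ)) h4
      simpa [f] using h5
    have hdet2 : ∏ i, μ i = 1 := by
      rw [← hdet, ← LinearMap.det_toMatrix b]
      have h3 : LinearMap.toMatrix b b (ρ y) = Matrix.diagonal μ := by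
        ext i j
        rw [LinearMap.toMatrix_apply, h1 j, map_smul, Module.Basis.repr_self, Matrix.diagonal_apply]
        by_cases hij : i = j
        · subst hij; simp
        · simp [hij, Finsupp.single_apply, Ne.symm hij]
      rw [h3, Matrix.det_diagonal]
    by_cases hall : ∀ i, μ i = 1
    · have h3 : (χ : G → ℂ) y = (χ : G → ℂ) 1 := by
        have h4 := hpow 1
        rw [pow_one] at h4
        rw [h4, hχ1]
        simp [hall, hd]
      exact hfaith y h3
    · push Not at hall
      exfalso
      obtain ⟨i₀, hi₀⟩ := hall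
      set ζ := μ i₀ with hζ
      have hζm : ζ ^ m = 1 := h2 i₀
      set A := Finset.univ.filter fun i => μ i = ζ with hA
      have hAdvd : p ∣ A.card := hmult ζ hζm hi₀
      have hAne : 0 < A.card := Finset.card_pos.mpr ⟨i₀, by simp [hA, hζ]⟩
      have hAp : p ≤ A.card := Nat.le_of_dvd hAne hAdvd
      have hcardle : A.card ≤ d := by
        have := Finset.card_le_univ A
        simpa [hd] using this
      have hAeq : A.card = p := by
        obtain ⟨t, ht⟩ := hAdvd
        have ht1 : t = 1 := by
          have h3 : t < 2 := by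
            by_contra h
            have : 2 ≤ t := by omega
            have h4 : p * 2 ≤ p * t := Nat.mul_le_mul_left p this
            omega
          have h4 : t ≠ 0 := by
            rintro rfl
            omega
          omega
        rw [ht, ht1, mul_one]
      have hrest : ∀ i, i ∉ A → μ i = 1 := by
        intro i hi
        by_contra hne
        have h3 := hmult (μ i) (h2 i) hne
        set A' := Finset.univ.filter fun j => μ j = μ i with hA'
        have hA'ne : 0 < A'.card := Finset.card_pos.mpr ⟨i, by simp [hA']⟩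
        have hA'p : p ≤ A'.card := Nat.le_of_dvd hA'ne h3
        have hdisj : Disjoint A A' := by
          rw [Finset.disjoint_left]
          intro j hj hj'
          simp only [hA, hA', Finset.mem_filter, Finset.mem_univ, true_and] at hj hj'
          apply hi
          simp only [hA, Finset.mem_filter, Finset.mem_univ, true_and]
          rw [← hj', hj]
        have h4 : (A ∪ A').card ≤ d := by
          have := Finset.card_le_univ (A ∪ A')
          simpa [hd] using this
        rw [Finset.card_union_of_disjoint hdisj] at h4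
        omega
      have hζp : ζ ^ p = 1 := by
        rw [← hdet2, ← Finset.prod_filter_mul_prod_filter_not Finset.univ (fun i => μ i = ζ)]
        have h3 : ∏ i ∈ A, μ i = ζ ^ p := by
          rw [← hAeq]
          exact Finset.prod_eq_pow_card (fun i hi => by simpa [hA] using hi)
        have h4 : ∏ i ∈ Finset.univ.filter (fun i => ¬ μ i = ζ), μ i = 1 := by
          refine Finset.prod_eq_one fun i hi => ?_
          apply hrest
          simpa [hA] using hi
        rw [h4, mul_one]
        exact h3.symm
      have hcop : Nat.Coprime p m := (Nat.Prime.coprime_iff_not_dvd hpp).mpr hyp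
      have h5 : ζ ^ Nat.gcd p m = 1 := by
        have : orderOf ζ ∣ Nat.gcd p m :=
          Nat.dvd_gcd (orderOf_dvd_of_pow_eq_one hζp) (orderOf_dvd_of_pow_eq_one hζm)
        exact orderOf_dvd_iff_pow_eq_one.mp this
      rw [hcop, pow_one] at h5
      exact hi₀ h5
  -- conclude
  rintro ⟨g, hg⟩
  have hgm : (Subgroup.centralizer ((P : Subgroup G) : Set G)) = _ := rfl
  obtain ⟨k, t, ht, hgt⟩ := Nat.exists_eq_pow_mul_and_not_dvd (orderOf_pos g).ne' p hpp.ne_one
  refine ⟨k, ?_⟩
  apply Subtype.ext
  show g ^ p ^ k = 1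
  apply key _ (Subgroup.pow_mem _ hg _)
  rw [orderOf_pow' _ (pow_ne_zero _ hpp.ne_zero), hgt]
  have h1 : Nat.gcd (p ^ k * t) (p ^ k) = p ^ k := Nat.gcd_eq_right (dvd_mul_right _ _)
  rw [h1, Nat.mul_div_cancel_left _ (pow_pos hpp.pos k)]
  exact ht

end Cfsg.Agent.S4729
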