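import Cfsg.Statements.S1230
import Cfsg.Agent.Lib.TwoFusion.ZassMain

set_option autoImplicit false
open Cfsg

namespace Cfsg.Agent.S1230



/-- Let G be a finite group with a Sylow 2-subgroup T that is neither cyclic nor normal, such that the centralizer of every involution is an elementary abelian 2-group. Then G ≅ PSL(2,F) for a finite field F with |F| = |T|. -/
theorem result {G : Type*} [Group G] [Finite G] (T : Sylow 2 G) (hnc : ¬ IsCyclic (T : Subgroup G)) (hnn : ¬ (T : Subgroup G).Normal) (hC : ∀ t : G, orderOf t = 2 → IsMulCommutative (Subgroup.centralizer ({t} : Set G)) ∧ ∀ c ∈ Subgroup.centralizer ({t} : Set G), c ^ 2 = 1) : ∃ (F : Type) (_ : Field F) (_ : Fintype F), Fintype.card F = Nat.card T ∧ Nonempty (G ≃* Matrix.ProjectiveSpecialLinearGroup (Fin 2) F) := by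

  classical
  obtain ⟨F, instF, hFin, hcard, ⟨e⟩⟩ := Cfsg.Agent.Lib.TwoFusion.exists_field_zass hC hnc hnn
  letI := instF
  haveI := hFin
  letI : Fintype F := Fintype.ofFinite F
  haveI : Fact (Nat.Prime 2) := ⟨Nat.prime_two⟩
  obtain ⟨n, hn⟩ := (T.isPGroup').exists_card_eq
  have hn0 : n ≠ 0 := by
    rintro rfl
    have : IsCyclic (T : Subgroup G) := by
      have h1 : Nat.card (T : Subgroup G) = 1 := by simpa using hn
      have h2 : Subsingleton (T : Subgroup G) := (Finite.card_le_one_iff_subsingleton).mp h1.le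
      infer_instance
    exact hnc this
  let F₀ := GaloisField 2 n
  letI : Fintype F₀ := Fintype.ofFinite F₀
  have hc₀ : Nat.card F₀ = 2 ^ n := GaloisField.card 2 n hn0
  have heq : Fintype.card F = Fintype.card F₀ := by
    rw [← Nat.card_eq_fintype_card, ← Nat.card_eq_fintype_card, hcard, hn, hc₀]
  let r : F ≃+* F₀ := FiniteField.ringEquivOfCardEq heq
  refine ⟨F₀, inferInstance, inferInstance, ?_, ⟨e.trans (Cfsg.Agent.Lib.Classical.pslCongr r)⟩⟩
  rw [← Nat.card_eq_fintype_card, hc₀, ← hn]

end Cfsg.Agent.S1230
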