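import Cfsg.Statements.S1954
import Cfsg.Agent.Lib.Tech.StrongNormal
-- import your own Cfsg.Agent.* helpers here

set_option autoImplicit false
open Cfsg

namespace Cfsg.Agent.S1954

/-- Let N be a normal subgroup of the finite group G, P a Sylow p-subgroup of G, and V a subgroup of P ∩ N normal in P ∩ N such that N_N(V) controls strong fusion in P ∩ N with respect to N (whenever a subgroup A of P ∩ N has n A n⁻¹ ≤ P ∩ N for some n in N, then n = h c with h in N_N(V) and c in C_N(A)). Let W be the subgroup generated by the conjugates of V under N_G(P ∩ N). Then N_G(W) controls strong fusion in P with respect to G. -/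
theorem result {G : Type*} [Group G] [Finite G] {p : ℕ} [Fact p.Prime] (N : Subgroup G) [N.Normal] (P : Sylow p G) (V : Subgroup G)
    (hV : V ≤ (P : Subgroup G) ⊓ N) (hVn : ∀ x ∈ (P : Subgroup G) ⊓ N, V.map (MulAut.conj x).toMonoidHom = V)
    (hctrl : ∀ A : Subgroup G, A ≤ (P : Subgroup G) ⊓ N → ∀ n ∈ N, A.map (MulAut.conj n).toMonoidHom ≤ (P : Subgroup G) ⊓ N →
      ∃ h ∈ N ⊓ Subgroup.normalizer (V : Set G), ∃ c ∈ N ⊓ Subgroup.centralizer (A : Set G), n = h * c)
    (W : Subgroup G) (hW : W = Subgroup.closure (⋃ x ∈ Subgroup.normalizer (((P : Subgroup G) ⊓ N : Subgroup G) : Set G),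
      ((V.map (MulAut.conj x).toMonoidHom : Subgroup G) : Set G))) :
    ∀ A : Subgroup G, A ≤ (P : Subgroup G) → ∀ g : G, A.map (MulAut.conj g).toMonoidHom ≤ (P : Subgroup G) →
        ∃ h ∈ Subgroup.normalizer (W : Set G), ∃ c ∈ Subgroup.centralizer (A : Set G), g = h * c := by
  classical
  set T : Subgroup G := (P : Subgroup G) ⊓ N with hT
  let Vx : G → Subgroup G := fun x => V.map (MulAut.conj x).toMonoidHom
  have hVxm : ∀ x v, v ∈ V → x * v * x⁻¹ ∈ Vx x := fun x v hv => ⟨v, hv, rfl⟩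
  have hVxT : ∀ x ∈ Subgroup.normalizer (T : Set G), Vx x ≤ T := by
    rintro x hx _ ⟨v, hv, rfl⟩
    exact (Subgroup.mem_normalizer_iff.mp hx v).mp (hV hv)
  -- conjugates of the control hypothesis
  have hctrlY : ∀ y ∈ Subgroup.normalizer (T : Set G), ∀ U : Subgroup G, U ≤ T → ∀ d ∈ N,
      U.map (MulAut.conj d).toMonoidHom ≤ T →
      ∃ h ∈ N ⊓ Subgroup.normalizer (Vx y : Set G), ∃ c ∈ N ⊓ Subgroup.centralizer (U : Set G), d = h * c := by
    intro y hy U hU d hd hdU
    have hyi := Subgroup.inv_mem _ hy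
    have hU' : U.map (MulAut.conj y⁻¹).toMonoidHom ≤ T := by
      rintro _ ⟨u, hu, rfl⟩
      exact (Subgroup.mem_normalizer_iff.mp hyi u).mp (hU hu)
    have hd' : y⁻¹ * d * y ∈ N := by
      have := ‹N.Normal›.conj_mem d hd y⁻¹
      simpa using this
    have hdU' : (U.map (MulAut.conj y⁻¹).toMonoidHom).map (MulAut.conj (y⁻¹ * d * y)).toMonoidHom ≤ T := by
      rintro _ ⟨_, ⟨u, hu, rfl⟩, rfl⟩
      have h1 : d * u * d⁻¹ ∈ T := hdU ⟨u, hu, rfl⟩
      have h2 := (Subgroup.mem_normalizer_iff.mp hyi _).mp h1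
      have e : (MulAut.conj (y⁻¹ * d * y)).toMonoidHom ((MulAut.conj y⁻¹).toMonoidHom u) =
          y⁻¹ * (d * u * d⁻¹) * y⁻¹⁻¹ := by
        show (y⁻¹ * d * y) * (y⁻¹ * u * y⁻¹⁻¹) * (y⁻¹ * d * y)⁻¹ = _
        group
      rw [e]
      exact h2
    obtain ⟨h', ⟨hh1, hh2⟩, c', ⟨hc1, hc2⟩, e⟩ := hctrl _ hU' _ hd' hdU'
    refine ⟨y * h' * y⁻¹, ⟨‹N.Normal›.conj_mem h' hh1 y, ?_⟩, y * c' * y⁻¹, ⟨‹N.Normal›.conj_mem c' hc1 y, ?_⟩, ?_⟩
    · apply Cfsg.Agent.Lib.PGroups.mem_normalizer_of_conj_le'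
      rintro _ ⟨v, hv, rfl⟩
      have h1 := (Subgroup.mem_normalizer_iff.mp hh2 v).mp hv
      refine ⟨h' * v * h'⁻¹, h1, ?_⟩
      show y * (h' * v * h'⁻¹) * y⁻¹ = (y * h' * y⁻¹) * (y * v * y⁻¹) * (y * h' * y⁻¹)⁻¹
      group
    · refine Subgroup.mem_centralizer_iff.mpr fun u hu => ?_
      have h1 : y⁻¹ * u * y⁻¹⁻¹ ∈ U.map (MulAut.conj y⁻¹).toMonoidHom := ⟨u, hu, rfl⟩
      have h2 := Subgroup.mem_centralizer_iff.mp hc2 _ h1
      calc u * (y * c' * y⁻¹) = y * ((y⁻¹ * u * y⁻¹⁻¹) * c') * y⁻¹ := by group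
        _ = y * (c' * (y⁻¹ * u * y⁻¹⁻¹)) * y⁻¹ := by rw [h2]
        _ = y * c' * y⁻¹ * u := by group
    · have e2 : d = y * (y⁻¹ * d * y) * y⁻¹ := by group
      rw [e2, e]
      group
  -- combine finitely many conjugates
  have hcomb : ∀ F : Finset G, (∀ x ∈ F, x ∈ Subgroup.normalizer (T : Set G)) → ∀ A : Subgroup G, A ≤ T →
      ∀ n ∈ N, A.map (MulAut.conj n).toMonoidHom ≤ T →
      ∃ d ∈ N, (∀ x ∈ F, d ∈ Subgroup.normalizer (Vx x : Set G)) ∧
        ∃ c ∈ N ⊓ Subgroup.centralizer (A : Set G), n = d * c := by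
    intro F
    induction F using Finset.induction_on with
    | empty =>
      intro _ A _ n hn _
      exact ⟨n, hn, by simp, 1, Subgroup.one_mem _, by simp⟩
    | insert y F hyF ih =>
      intro hF A hA n hn hnA
      have hF' : ∀ x ∈ F, x ∈ Subgroup.normalizer (T : Set G) := fun x hx => hF x (Finset.mem_insert_of_mem hx)
      obtain ⟨d, hd, hdN, c₀, ⟨hc₀1, hc₀2⟩, e⟩ := ih hF' A hA n hn hnA
      set U : Subgroup G := A ⊔ ⨆ x : F, Vx x with hU
      have hUT : U ≤ T := sup_le hA (iSup_le fun x => hVxT x (hF' x x.2))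
      have hdU : U.map (MulAut.conj d).toMonoidHom ≤ T := by
        rw [hU, Subgroup.map_sup, sup_le_iff, Subgroup.map_iSup]
        constructor
        · rintro _ ⟨a, ha, rfl⟩
          apply hnA
          refine ⟨a, ha, ?_⟩
          have h1 := Subgroup.mem_centralizer_iff.mp hc₀2 a ha
          show n * a * n⁻¹ = d * a * d⁻¹
          rw [e]
          calc d * c₀ * a * (d * c₀)⁻¹ = d * (c₀ * a) * c₀⁻¹ * d⁻¹ := by group
            _ = d * (a * c₀) * c₀⁻¹ * d⁻¹ := by rw [h1]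
            _ = d * a * d⁻¹ := by group
        · refine iSup_le fun x => ?_
          rintro _ ⟨v, hv, rfl⟩
          exact hVxT x (hF' x x.2) ((Subgroup.mem_normalizer_iff.mp (hdN x x.2) v).mp hv)
      obtain ⟨h, ⟨hh1, hh2⟩, c, ⟨hc1, hc2⟩, e2⟩ := hctrlY y (hF y (Finset.mem_insert_self y F)) U hUT d hd hdU
      have hAU : A ≤ U := le_sup_left
      have hVU : ∀ x : F, Vx x ≤ U := fun x => le_trans (le_iSup (fun x : F => Vx x) x) le_sup_right
      refine ⟨h, hh1, ?_, c * c₀, ⟨N.mul_mem hc1 hc₀1, ?_⟩, ?_⟩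
      · intro x hx
        rcases Finset.mem_insert.mp hx with rfl | hx
        · exact hh2
        · have hcN : c ∈ Subgroup.normalizer (Vx x : Set G) := by
            apply Cfsg.Agent.Lib.PGroups.mem_normalizer_of_conj_le'
            intro w hw
            have h1 := Subgroup.mem_centralizer_iff.mp hc2 w (hVU ⟨x, hx⟩ hw)
            have e3 : c * w * c⁻¹ = w := by
              rw [← h1]
              group
            rw [e3]
            exact hw
          have h2 : h = d * c⁻¹ := by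
            rw [e2]
            group
          rw [h2]
          exact Subgroup.mul_mem _ (hdN x hx) (Subgroup.inv_mem _ hcN)
      · refine Subgroup.mul_mem _ ?_ hc₀2
        exact Subgroup.mem_centralizer_iff.mpr fun a ha => Subgroup.mem_centralizer_iff.mp hc2 a (hAU ha)
      · rw [e, e2]
        group
  -- the subgroup `W`
  have hWnorm : ∀ d : G, (∀ x ∈ Subgroup.normalizer (T : Set G), d ∈ Subgroup.normalizer (Vx x : Set G)) →
      d ∈ Subgroup.normalizer (W : Set G) := by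
    intro d hd
    apply Cfsg.Agent.Lib.PGroups.mem_normalizer_of_conj_le'
    have hle : W ≤ W.comap (MulAut.conj d).toMonoidHom := by
      rw [hW, Subgroup.closure_le, ← hW]
      intro w hw
      simp only [Set.mem_iUnion] at hw
      obtain ⟨x, hx, hw⟩ := hw
      have h1 := (Subgroup.mem_normalizer_iff.mp (hd x hx) w).mp hw
      show d * w * d⁻¹ ∈ W
      rw [hW]
      apply Subgroup.subset_closure
      simp only [Set.mem_iUnion]
      exact ⟨x, hx, h1⟩
    exact fun w hw => hle hw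
  have hNW : Subgroup.normalizer (T : Set G) ≤ Subgroup.normalizer (W : Set G) := by
    intro y hy
    apply Cfsg.Agent.Lib.PGroups.mem_normalizer_of_conj_le'
    have hle : W ≤ W.comap (MulAut.conj y).toMonoidHom := by
      rw [hW, Subgroup.closure_le, ← hW]
      intro w hw
      simp only [Set.mem_iUnion] at hw
      obtain ⟨x, hx, v, hv, rfl⟩ := hw
      show y * ((MulAut.conj x).toMonoidHom v) * y⁻¹ ∈ W
      rw [hW]
      apply Subgroup.subset_closure
      simp only [Set.mem_iUnion]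
      refine ⟨y * x, Subgroup.mul_mem _ hy hx, v, hv, ?_⟩
      show (y * x) * v * (y * x)⁻¹ = y * (x * v * x⁻¹) * y⁻¹
      group
    exact fun w hw => hle hw
  have hctrl' : ∀ A : Subgroup G, A ≤ T → ∀ n ∈ N, A.map (MulAut.conj n).toMonoidHom ≤ T →
      ∃ d ∈ N ⊓ Subgroup.normalizer (W : Set G), ∃ c ∈ N ⊓ Subgroup.centralizer (A : Set G), n = d * c := by
    intro A hA n hn hnA
    letI : Fintype G := Fintype.ofFinite G
    obtain ⟨d, hd, hdN, c, hc, e⟩ := hcomb (Finset.univ.filter fun x => x ∈ Subgroup.normalizer (T : Set G))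
      (fun x hx => (Finset.mem_filter.mp hx).2) A hA n hn hnA
    refine ⟨d, ⟨hd, hWnorm d fun x hx => hdN x (Finset.mem_filter.mpr ⟨Finset.mem_univ _, hx⟩)⟩, c, hc, e⟩
  intro A hA g hg
  exact Cfsg.Agent.Lib.Tech.controls_of_normal_control N P _ hNW hctrl' A hA g hg

end Cfsg.Agent.S1954
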