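import Cfsg.Statements.S0183
import Cfsg.Agent.Lib.CNThm.D
import Cfsg.Agent.S1473

set_option autoImplicit false
open Cfsg

namespace Cfsg.Agent.S0183

open Cfsg.Agent.Lib.CNThm in
theorem main_aux.{u} (n : ℕ) : ∀ (G : Type u) [Group G] [Finite G], Nat.card G = n → Odd n → Cfsg.IsCNGroup G →
    Group.IsSolvable G := by
  induction n using Nat.strong_induction_on with
  | _ n ih =>
    intro G _ _ hn hodd hCN
    have hsub : ∀ H : Subgroup G, H ≠ ⊤ → Group.IsSolvable H := by
      intro H hH
      have hlt : Nat.card H < n := by
        rw [← hn]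
        have h1 := Subgroup.card_le_card_group H
        refine lt_of_le_of_ne h1 (fun e => hH (Subgroup.eq_top_of_card_eq H e))
      have hd : Nat.card H ∣ n := hn ▸ Subgroup.card_subgroup_dvd_card H
      exact ih _ hlt H rfl (Odd.of_dvd_nat hodd hd) (isCN_subgroup hCN H)
    by_cases hex : ∃ N : Subgroup G, N.Normal ∧ N ≠ ⊥ ∧ N ≠ ⊤
    · obtain ⟨N, hNn, hN1, hNt⟩ := hex
      haveI := hNn
      haveI hNs : Group.IsSolvable N := hsub N hNt
      have hcard : Nat.card (G ⧸ N) * Nat.card N = n := by
        rw [← hn, mul_comm, ← Subgroup.index_eq_card]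
        exact Subgroup.card_mul_index N
      have hN2 : 1 < Nat.card N := by
        have h1 : Nat.card N ≠ 1 := fun e => hN1 (Subgroup.eq_bot_of_card_eq N e)
        have h2 : 0 < Nat.card N := Nat.card_pos
        omega
      have hQ0 : 0 < Nat.card (G ⧸ N) := Nat.card_pos
      have hlt : Nat.card (G ⧸ N) < n := by
        rw [← hcard]
        exact lt_mul_of_one_lt_right hQ0 hN2
      have hQodd : Odd (Nat.card (G ⧸ N)) := Odd.of_dvd_nat hodd ⟨_, hcard.symm⟩
      haveI hQs : Group.IsSolvable (G ⧸ N) :=
        ih _ hlt (G ⧸ N) rfl hQodd (Cfsg.Agent.S1473.result hCN N hNs)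
      refine solvable_of_ker_le_range N.subtype (QuotientGroup.mk' N) ?_
      rw [QuotientGroup.ker_mk', Subgroup.range_subtype]
    · push Not at hex
      by_cases htriv : Subsingleton G
      · infer_instance
      haveI hnt : Nontrivial G := not_subsingleton_iff_nontrivial.mp htriv
      have hsimple : IsSimpleGroup G := ⟨fun N hN => by
        by_cases h : N = ⊥
        · exact Or.inl h
        · exact Or.inr (hex N hN h)⟩
      by_cases hcomm : IsMulCommutative G
      · letI : CommGroup G := { (inferInstance : Group G) with mul_comm := fun a b => hcomm.is_comm.comm a b }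
        infer_instance
      · exact (false_of_minSimple_cn ⟨hn ▸ hodd, hsimple, hcomm, hsub⟩ hCN).elim

/-- The CN-Theorem for odd order: a finite group of odd order in which every non-identity element has a nilpotent centralizer (a CN-group) is solvable. -/
theorem result {G : Type*} [Group G] [Finite G] (hodd : Odd (Nat.card G)) (hCN : Cfsg.IsCNGroup G) : Group.IsSolvable G := by
  exact main_aux _ G rfl hodd hCN

end Cfsg.Agent.S0183
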