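import Cfsg.Statements.S0033
import Cfsg.Agent.Lib.Struct.Hughes3

set_option autoImplicit false
open Cfsg

namespace Cfsg.Agent.S0033

/-- Thompson's Theorem on fixed-point-free automorphisms: a finite group with an automorphism of prime order fixing only the identity is nilpotent. -/
theorem result {G : Type*} [Group G] [Finite G] (φ : G ≃* G)
    (hφ : MonoidHom.FixedPointFree (φ : G →* G)) (p : ℕ) (hp : p.Prime) (hord : orderOf φ = p) :
    Group.IsNilpotent G := by
  classical
  haveI hpf : Fact p.Prime := ⟨hp⟩
  let A : Subgroup (MulAut G) := Subgroup.zpowers (φ : MulAut G)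
  let Γ := SemidirectProduct G A A.subtype
  haveI : Finite Γ := Finite.of_equiv (G × A) SemidirectProduct.equivProd.symm
  let H : Subgroup Γ := (SemidirectProduct.inl : G →* Γ).range
  have hcardA : Nat.card A = p := by
    rw [Nat.card_zpowers]
    exact hord
  have hH : H = (SemidirectProduct.rightHom : Γ →* A).ker := SemidirectProduct.range_inl_eq_ker_rightHom
  have hidx : H.index = p := by
    rw [hH, Subgroup.index_ker, MonoidHom.range_eq_top.mpr SemidirectProduct.rightHom_surjective,
      Subgroup.card_top, hcardA]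
  have hpow : ∀ (n : G) (ψ : A) (k : ℕ), ((⟨n, ψ⟩ : Γ) ^ k).right = ψ ^ k ∧
      ((⟨n, ψ⟩ : Γ) ^ k).left = ((List.range k).map (fun i => ((ψ : MulAut G) ^ i) n)).prod := by
    intro n ψ k
    induction k with
    | zero => simp
    | succ k ih =>
      rw [pow_succ, SemidirectProduct.mul_right, SemidirectProduct.mul_left, ih.1, ih.2, List.range_succ,
        List.map_append, List.prod_append, pow_succ]
      refine ⟨rfl, ?_⟩
      simp
  have hout : ∀ g, g ∉ H → g ^ p = 1 := by
    rintro ⟨n, ψ⟩ hg
    have hψ1 : ψ ≠ 1 := by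
      rintro rfl
      apply hg
      rw [hH, MonoidHom.mem_ker]
      rfl
    have hψp : (ψ : MulAut G) ^ p = 1 := by
      have h1 : ψ ^ Nat.card A = 1 := pow_card_eq_one'
      rw [hcardA] at h1
      exact_mod_cast congrArg Subtype.val h1
    have hψ1' : (ψ : MulAut G) ≠ 1 := fun h => hψ1 (Subtype.ext h)
    have hφψ : (φ : MulAut G) ∈ Subgroup.zpowers (ψ : MulAut G) := by
      have hle : Subgroup.zpowers (ψ : MulAut G) ≤ A := Subgroup.zpowers_le.mpr ψ.2
      have hcardψ : Nat.card (Subgroup.zpowers (ψ : MulAut G)) = p := by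
        rw [Nat.card_zpowers]
        exact orderOf_eq_prime hψp hψ1'
      have heq : Subgroup.zpowers (ψ : MulAut G) = A :=
        Subgroup.eq_of_le_of_card_ge hle (by rw [hcardψ, hcardA])
      rw [heq]
      exact Subgroup.mem_zpowers _
    have hfpf : MonoidHom.FixedPointFree (((ψ : MulAut G) : G ≃* G) : G →* G) := by
      intro x hx
      apply hφ
      obtain ⟨k, hk⟩ := Subgroup.mem_zpowers_iff.mp hφψ
      have h2 : (ψ : MulAut G) x = x := hx
      have h3 : ∀ j : ℤ, (((ψ : MulAut G) ^ j) x) = x := by
        intro j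
        have hfix : (ψ : MulAut G) ∈ MulAction.stabilizer (MulAut G) x := h2
        exact (MulAction.stabilizer (MulAut G) x).zpow_mem hfix j
      have h4 := h3 k
      rw [hk] at h4
      exact h4
    have hiter : ∀ i : ℕ, (((ψ : MulAut G) : G ≃* G) : G →* G)^[i] = fun y => ((ψ : MulAut G) ^ i) y := by
      intro i
      induction i with
      | zero => rfl
      | succ i ih =>
        rw [Function.iterate_succ', ih]
        funext y
        show (ψ : MulAut G) (((ψ : MulAut G) ^ i) y) = ((ψ : MulAut G) ^ (i + 1)) y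
        rw [pow_succ']
        rfl
    have hprod := hfpf.prod_pow_eq_one (n := p) (by
      rw [hiter, hψp]
      rfl) n
    simp only [hiter] at hprod
    obtain ⟨h5, h6⟩ := hpow n ψ p
    apply SemidirectProduct.ext
    · rw [h6, SemidirectProduct.one_left]
      exact hprod
    · rw [h5, SemidirectProduct.one_right]
      exact Subtype.ext hψp
  haveI hnil : Group.IsNilpotent H :=
    Cfsg.Agent.Lib.Struct.Hughes.split_nilpotent hp _ Γ H rfl ⟨by rw [hH]; exact MonoidHom.normal_ker _, hidx, hout⟩
  exact Cfsg.Agent.Lib.Struct.Hughes.nil_of_inj (SemidirectProduct.inl : G →* Γ).rangeRestrict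
    (MonoidHom.rangeRestrict_injective_iff.mpr SemidirectProduct.inl_injective)

end Cfsg.Agent.S0033
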