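import Cfsg.Statements.S0214
import Mathlib

set_option autoImplicit false
open Cfsg

namespace Cfsg.Agent.S0214

open scoped Pointwise

section aux

variable {G : Type*} [Group G] [Finite G]

private theorem conj_into {H : Subgroup G} (P : Sylow 2 H) {T : Subgroup G} (hT : IsPGroup 2 T) (hTH : T ≤ H) :
    ∃ a ∈ H, ∀ t ∈ T, a⁻¹ * t * a ∈ (P : Subgroup H).map H.subtype := by
  haveI : Fact (Nat.Prime 2) := ⟨Nat.prime_two⟩
  have h1 : IsPGroup 2 (T.subgroupOf H) := hT.of_equiv (Subgroup.subgroupOfEquivOfLe hTH).symm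
  obtain ⟨Q, hQ⟩ := h1.exists_le_sylow
  obtain ⟨a, rfl⟩ := MulAction.exists_smul_eq H P Q
  refine ⟨a, a.2, fun t ht => ?_⟩
  have h2 : (⟨t, hTH ht⟩ : H) ∈ ((a • P : Sylow 2 H) : Subgroup H) := hQ (by
    rw [Subgroup.mem_subgroupOf]
    exact ht)
  rw [Sylow.coe_subgroup_smul] at h2
  have h3 : (⟨t, hTH ht⟩ : H) ∈ (MulAut.conj a • (P : Subgroup H)) := h2
  rw [Subgroup.mem_pointwise_smul_iff_inv_smul_mem] at h3
  simp only [MulAut.smul_def, map_inv, MulAut.conj_inv_apply] at h3
  exact ⟨_, h3, by simp⟩

/-- the conjugate `g⁻¹ T g` -/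
private abbrev cc (g : G) (T : Subgroup G) : Subgroup G := T.comap (MulAut.conj g).toMonoidHom

private theorem mem_cc {g x : G} {T : Subgroup G} : x ∈ cc g T ↔ g * x * g⁻¹ ∈ T := Iff.rfl

private theorem card_cc (g : G) (T : Subgroup G) : Nat.card (cc g T) = Nat.card T :=
  Nat.card_congr (Subgroup.equivMapOfInjective (cc g T) (MulAut.conj g).toMonoidHom (MulAut.conj g).injective |>.toEquiv.trans
    (MulEquiv.subgroupCongr (by
      rw [Subgroup.map_comap_eq_self_of_surjective (MulAut.conj g).surjective])).toEquiv)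

private theorem cc_ne_bot {g : G} {T : Subgroup G} (hT : T ≠ ⊥) : cc g T ≠ ⊥ := by
  intro h
  apply hT
  apply Subgroup.eq_bot_of_card_eq
  rw [← card_cc g T, h, Subgroup.card_bot]

end aux

/-- Let H be a proper subgroup of the finite group G and P a nontrivial Sylow 2-subgroup of H. Then H is strongly embedded in G if and only if N_G(X) ≤ H for every nontrivial subgroup X of P. -/
theorem result {G : Type*} [Group G] [Finite G] (H : Subgroup G) (hH : H ≠ ⊤) (P : Sylow 2 ↥H) (hP : (P : Subgroup ↥H) ≠ ⊥) : Cfsg.IsStronglyEmbedded H ↔ (∀ X : Subgroup ↥H, X ≤ (P : Subgroup ↥H) → X ≠ ⊥ → Subgroup.normalizer ((X.map H.subtype : Subgroup G) : Set G) ≤ H) := by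
  classical
  haveI : Fact (Nat.Prime 2) := ⟨Nat.prime_two⟩
  set P' : Subgroup G := (P : Subgroup H).map H.subtype with hP'
  have hP'H : P' ≤ H := by
    rintro _ ⟨x, _, rfl⟩
    exact x.2
  have hP'p : IsPGroup 2 P' := P.isPGroup'.map H.subtype
  have hP'ne : P' ≠ ⊥ := by
    intro h
    apply hP
    rw [eq_bot_iff]
    intro x hx
    have : (x : G) ∈ P' := ⟨x, hx, rfl⟩
    rw [h, Subgroup.mem_bot] at this
    exact Subtype.ext this
  have hP'cop : 2 ∣ Nat.card P' := by
    have hnt : Nontrivial P' := (Subgroup.nontrivial_iff_ne_bot _).mpr hP'ne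
    obtain ⟨n, hn, h2⟩ := hP'p.nontrivial_iff_card.mp hnt
    rw [h2]
    exact dvd_pow_self 2 hn.ne'
  constructor
  · rintro ⟨_, _, hSE⟩ X hXP hXb n hn
    by_contra hnH
    set X' : Subgroup G := X.map H.subtype with hX'
    have hX'H : X' ≤ H := by
      rintro _ ⟨x, _, rfl⟩
      exact x.2
    have hX'p : IsPGroup 2 X' := ((P.isPGroup'.to_le hXP)).map H.subtype
    have hX'ne : X' ≠ ⊥ := by
      intro h
      apply hXb
      rw [eq_bot_iff]
      intro x hx
      have : (x : G) ∈ X' := ⟨x, hx, rfl⟩
      rw [h, Subgroup.mem_bot] at this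
      exact Subtype.ext this
    have hle : X' ≤ H ⊓ H.map (MulAut.conj n).toMonoidHom := by
      intro x hx
      refine ⟨hX'H hx, n⁻¹ * x * n, hX'H ?_, by simp [mul_assoc]⟩
      have hinv : n⁻¹ ∈ Subgroup.normalizer (X' : Set G) := Subgroup.inv_mem _ hn
      have := (Subgroup.mem_normalizer_iff.mp hinv x).mp hx
      simpa using this
    have hnt : Nontrivial X' := (Subgroup.nontrivial_iff_ne_bot _).mpr hX'ne
    obtain ⟨k, hk, h2⟩ := hX'p.nontrivial_iff_card.mp hnt
    have hd : 2 ∣ Nat.card (H ⊓ H.map (MulAut.conj n).toMonoidHom : Subgroup G) :=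
      (dvd_pow_self 2 hk.ne').trans (h2 ▸ Subgroup.card_dvd_of_le hle)
    have := hSE n hnH
    obtain ⟨r, hr⟩ := this
    omega
  · intro hN
    refine ⟨hH, ?_, ?_⟩
    · rw [even_iff_two_dvd]
      exact hP'cop.trans (Subgroup.card_dvd_of_le hP'H)
    intro g₀ hg₀
    by_contra hnot
    rw [Nat.not_odd_iff_even] at hnot
    -- the hypothesis in a useful form
    have hN' : ∀ T : Subgroup G, T ≤ P' → T ≠ ⊥ → Subgroup.normalizer (T : Set G) ≤ H := by
      intro T hTP hTb
      have hTH : T ≤ H := hTP.trans hP'H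
      have e : (T.subgroupOf H).map H.subtype = T := by
        rw [Subgroup.subgroupOf_map_subtype, inf_eq_left.mpr hTH]
      have := hN (T.subgroupOf H) (by
        intro x hx
        rw [Subgroup.mem_subgroupOf] at hx
        obtain ⟨y, hy, hxy⟩ := hTP hx
        have : y = x := Subtype.ext hxy
        rwa [← this]) (by
        intro h
        apply hTb
        rw [← e, h, Subgroup.map_bot])
      rwa [e] at this
    -- admissible pairs
    let Adm := {x : G × Subgroup G // x.1 ∉ H ∧ x.2 ≠ ⊥ ∧ x.2 ≤ P' ∧ cc x.1 x.2 ≤ P'}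
    have hne : Nonempty Adm := by
      obtain ⟨⟨s, hs⟩, hsord⟩ := exists_prime_orderOf_dvd_card' (G := ↥(H ⊓ H.map (MulAut.conj g₀).toMonoidHom)) 2 hnot.two_dvd
      rw [Subgroup.orderOf_mk] at hsord
      obtain ⟨hsH, t, htH, hts⟩ := hs
      have hts' : g₀ * t * g₀⁻¹ = s := hts
      have hsp : IsPGroup 2 (Subgroup.zpowers s) := by
        apply IsPGroup.of_card (n := 1)
        rw [Nat.card_zpowers, hsord, pow_one]
      have htp : IsPGroup 2 (Subgroup.zpowers t) := by
        apply IsPGroup.of_card (n := 1)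
        rw [Nat.card_zpowers, pow_one, ← hsord, ← hts']
        exact (MulEquiv.orderOf_eq (MulAut.conj g₀) t).symm
      obtain ⟨a, haH, ha⟩ := conj_into P hsp (by rw [Subgroup.zpowers_le]; exact hsH)
      obtain ⟨b, hbH, hb⟩ := conj_into P htp (by rw [Subgroup.zpowers_le]; exact htH)
      refine ⟨⟨(a⁻¹ * g₀ * b, Subgroup.zpowers (a⁻¹ * s * a)), ?_, ?_, ?_, ?_⟩⟩
      · intro h
        apply hg₀
        have : g₀ = a * (a⁻¹ * g₀ * b) * b⁻¹ := by group
        rw [this]
        exact H.mul_mem (H.mul_mem haH h) (H.inv_mem hbH)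
      · simp only [ne_eq, Subgroup.zpowers_eq_bot]
        intro h
        have h5 : s = 1 := by
          have : s = a * (a⁻¹ * s * a) * a⁻¹ := by group
          rw [h] at this
          simpa using this
        rw [h5, orderOf_one] at hsord
        omega
      · rw [Subgroup.zpowers_le]
        exact ha s (Subgroup.mem_zpowers s)
      · intro x hx
        rw [mem_cc] at hx
        obtain ⟨k, hk⟩ := hx
        simp only at hk
        have h6 : x = b⁻¹ * t ^ k * b := by
          have h7 : (a⁻¹ * s * a) ^ k = a⁻¹ * g₀ * (t ^ k) * g₀⁻¹ * a := by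
            rw [← hts']
            have : a⁻¹ * (g₀ * t * g₀⁻¹) * a = (a⁻¹ * g₀) * t * (a⁻¹ * g₀)⁻¹ := by group
            rw [this, conj_zpow]
            group
          rw [h7] at hk
          have h8 : a⁻¹ * g₀ * t ^ k * g₀⁻¹ * a = (a⁻¹ * g₀ * b) * (b⁻¹ * t ^ k * b) * (a⁻¹ * g₀ * b)⁻¹ := by group
          rw [h8] at hk
          exact (mul_left_cancel (mul_right_cancel hk)).symm
        rw [h6]
        exact hb _ (Subgroup.zpow_mem_zpowers t k)
    obtain ⟨⟨⟨g, T⟩, hg, hTb, hTP, hcP⟩, hmax⟩ := Finite.exists_max (fun x : Adm => Nat.card x.1.2)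
    simp only at hg hTb hTP hcP hmax
    have hTH : T ≤ H := hTP.trans hP'H
    -- `T = P'`
    have hTeq : T = P' := by
      by_contra hTne
      -- an element of `P'` outside `T` normalizing it
      haveI hnil : Group.IsNilpotent P' := hP'p.isNilpotent
      have hgrow := Group.normalizerCondition_of_isNilpotent (G := P')
      have hlt : T.subgroupOf P' < ⊤ := by
        rw [lt_top_iff_ne_top]
        intro h
        apply hTne
        apply le_antisymm hTP
        exact Subgroup.subgroupOf_eq_top.mp h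
      obtain ⟨⟨w, hwP⟩, hw1, hw2⟩ := SetLike.exists_of_lt (hgrow (T.subgroupOf P') hlt)
      have hwT : w ∉ T := hw2
      have hwN : w ∈ Subgroup.normalizer (T : Set G) := by
        rw [Subgroup.mem_normalizer_iff]
        intro d
        constructor
        · intro hd
          exact (Subgroup.mem_normalizer_iff.mp hw1 ⟨d, hTP hd⟩).mp hd
        · intro hd
          have hdP : d ∈ P' := by
            have h3 : w * d * w⁻¹ ∈ P' := hTP hd
            have h4 : d = w⁻¹ * (w * d * w⁻¹) * w := by group
            rw [h4]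
            exact P'.mul_mem (P'.mul_mem (P'.inv_mem hwP) h3) hwP
          exact (Subgroup.mem_normalizer_iff.mp hw1 ⟨d, hdP⟩).mpr hd
      let R : Subgroup G := P' ⊓ Subgroup.normalizer (T : Set G)
      have hTR : T ≤ R := le_inf hTP Subgroup.le_normalizer
      have hRcard : Nat.card T < Nat.card R := by
        by_contra h3
        rw [not_lt] at h3
        have := Subgroup.eq_of_le_of_card_ge hTR h3
        apply hwT
        rw [this]
        exact ⟨hwP, hwN⟩
      -- conjugating
      have hRH : R ≤ H := inf_le_left.trans hP'H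
      have hcR : cc g R ≤ H := by
        intro x hx
        rw [mem_cc] at hx
        have h5 := hx.2
        -- `x` normalizes the conjugate of `T`
        have h6 : x ∈ Subgroup.normalizer ((cc g T : Subgroup G) : Set G) := by
          rw [Subgroup.mem_normalizer_iff]
          intro d
          rw [mem_cc, mem_cc]
          have e : g * (x * d * x⁻¹) * g⁻¹ = (g * x * g⁻¹) * (g * d * g⁻¹) * (g * x * g⁻¹)⁻¹ := by group
          rw [e]
          exact Subgroup.mem_normalizer_iff.mp h5 _
        exact hN' _ hcP (cc_ne_bot hTb) h6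
      have hRp : IsPGroup 2 (cc g R) := by
        apply IsPGroup.of_equiv (hP'p.to_le (inf_le_left : R ≤ P'))
        exact (Subgroup.equivMapOfInjective (cc g R) (MulAut.conj g).toMonoidHom (MulAut.conj g).injective |>.trans
          (MulEquiv.subgroupCongr (by
            rw [Subgroup.map_comap_eq_self_of_surjective (MulAut.conj g).surjective]))).symm
      obtain ⟨b, hbH, hb⟩ := conj_into P hRp hcR
      have := hmax ⟨(g * b, R), ?_, ?_, inf_le_left, ?_⟩
      · simp only at this
        omega
      · intro h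
        apply hg
        have : g = (g * b) * b⁻¹ := by group
        rw [this]
        exact H.mul_mem h (H.inv_mem hbH)
      · intro h
        have h' : R = ⊥ := h
        rw [h'] at hTR
        exact hTb (le_bot_iff.mp hTR)
      · intro x hx
        rw [mem_cc] at hx
        have h8 : x = b⁻¹ * (b * x * b⁻¹) * b := by group
        rw [h8]
        apply hb
        rw [mem_cc]
        have e : g * (b * x * b⁻¹) * g⁻¹ = g * b * x * (g * b)⁻¹ := by group
        rw [e]
        exact hx
    subst hTeq
    -- `g` normalizes `P'`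
    have hcc : cc g P' = P' := by
      apply Subgroup.eq_of_le_of_card_ge hcP
      rw [card_cc]
    apply hg
    apply hN' P' le_rfl hP'ne
    rw [Subgroup.mem_normalizer_iff]
    intro d
    constructor
    · intro hd
      have hd' : d ∈ cc g P' := by rw [hcc]; exact hd
      exact hd'
    · intro hd
      have hd' : d ∈ cc g P' := hd
      rwa [hcc] at hd'

end Cfsg.Agent.S0214
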