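import Cfsg.Statements.S0223
import Mathlib
import Cfsg.Agent.Lib.Invol.Count

set_option autoImplicit false
open Cfsg

namespace Cfsg.Agent.S0223

open Cfsg.Agent.Lib.Invol

/-- Let H be a proper subgroup of even order of the finite group G. Then H is strongly embedded if and only if (i) C_G(t) ≤ H for every involution t of H and (ii) H controls fusion of its involutions: involutions of H conjugate in G are conjugate in H. -/
theorem result {G : Type*} [Group G] [Finite G] (H : Subgroup G) (hH : H ≠ ⊤) (heven : Even (Nat.card H)) : Cfsg.IsStronglyEmbedded H ↔ ((∀ t ∈ H, orderOf t = 2 → Subgroup.centralizer ({t} : Set G) ≤ H) ∧ (∀ t ∈ H, ∀ s ∈ H, orderOf t = 2 → orderOf s = 2 → IsConj t s → ∃ h ∈ H, h * t * h⁻¹ = s)) := by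
  have hconj : ∀ (g x : G), x ∈ H → g * x * g⁻¹ ∈ H → g ∉ H →
      Odd (Nat.card ↥(H ⊓ H.map (MulAut.conj g).toMonoidHom)) →
      orderOf (g * x * g⁻¹) ≠ 2 := by
    intro g x hx hgx hg hodd h2
    have hmem : g * x * g⁻¹ ∈ H ⊓ H.map (MulAut.conj g).toMonoidHom := by
      refine ⟨hgx, ⟨x, hx, rfl⟩⟩
    have h3 := orderOf_dvd_natCard (⟨g * x * g⁻¹, hmem⟩ : ↥(H ⊓ H.map (MulAut.conj g).toMonoidHom))
    rw [Subgroup.orderOf_mk, h2] at h3
    have := Odd.of_dvd_nat hodd h3
    exact absurd this (by decide)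
  constructor
  · rintro ⟨_, _, hSE⟩
    constructor
    · intro t ht hord g hg
      rw [mem_centralizer_singleton_iff'] at hg
      by_contra hgH
      have hgt : g * t * g⁻¹ = t := by rw [hg]; group
      exact hconj g t ht (by rw [hgt]; exact ht) hgH (hSE g hgH) (by rw [hgt]; exact hord)
    · intro t ht s hs hordt hords hc
      obtain ⟨g, hg⟩ := isConj_iff.mp hc
      by_cases hgH : g ∈ H
      · exact ⟨g, hgH, hg⟩
      · exfalso
        exact hconj g t ht (by rw [hg]; exact hs) hgH (hSE g hgH) (by rw [hg]; exact hords)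
  · rintro ⟨hi, hii⟩
    refine ⟨hH, heven, ?_⟩
    intro g hg
    by_contra hne
    rw [Nat.not_odd_iff_even] at hne
    have : Fact (Nat.Prime 2) := ⟨Nat.prime_two⟩
    obtain ⟨⟨s, hs⟩, hsord⟩ := exists_prime_orderOf_dvd_card' (G := ↥(H ⊓ H.map (MulAut.conj g).toMonoidHom)) 2 hne.two_dvd
    rw [Subgroup.orderOf_mk] at hsord
    obtain ⟨hsH, t, htH, hts⟩ := hs
    have hts' : g * t * g⁻¹ = s := hts
    have hordt : orderOf t = 2 := by
      rw [← hsord, ← hts']
      exact (MulEquiv.orderOf_eq (MulAut.conj g) t).symm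
    obtain ⟨h, hh, hhs⟩ := hii t htH s hsH hordt hsord (isConj_iff.mpr ⟨g, hts'⟩)
    have hmemC : g⁻¹ * h ∈ Subgroup.centralizer ({t} : Set G) := by
      rw [mem_centralizer_singleton_iff']
      have h5 : h * t = s * h := by rw [← hhs]; group
      have h6 : s = g * t * g⁻¹ := hts'.symm
      rw [mul_assoc, h5, h6]
      group
    have := hi t htH hordt hmemC
    apply hg
    have h7 : g = h * (g⁻¹ * h)⁻¹ := by group
    rw [h7]
    exact H.mul_mem hh (H.inv_mem this)

end Cfsg.Agent.S0223
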