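import Cfsg.Statements.S0224
import Mathlib
import Cfsg.Agent.Lib.Invol.Count

set_option autoImplicit false
open Cfsg

namespace Cfsg.Agent.S0224

open Cfsg.Agent.Lib.Invol

/-- Let H be a proper subgroup of even order of the finite group G. Then H is strongly embedded if and only if each involution of H fixes exactly one point (namely the coset H) in the action of G on the cosets of H. -/
theorem result {G : Type*} [Group G] [Finite G] (H : Subgroup G) (hH : H ≠ ⊤) (heven : Even (Nat.card H)) : Cfsg.IsStronglyEmbedded H ↔ ∀ t ∈ H, orderOf t = 2 → Nat.card {c : G ⧸ H // t • c = c} = 1 := by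
  have hfix : ∀ (t g : G), t • ((g : G) : G ⧸ H) = (g : G ⧸ H) ↔ g⁻¹ * t * g ∈ H := by
    intro t g
    rw [MulAction.Quotient.smul_coe, smul_eq_mul, QuotientGroup.eq, ← H.inv_mem_iff]
    simp [mul_assoc]
  have hconj : ∀ (g x : G), x ∈ H → g * x * g⁻¹ ∈ H → g ∉ H →
      Odd (Nat.card ↥(H ⊓ H.map (MulAut.conj g).toMonoidHom)) →
      orderOf (g * x * g⁻¹) ≠ 2 := by
    intro g x hx hgx hg hodd h2
    have hmem : g * x * g⁻¹ ∈ H ⊓ H.map (MulAut.conj g).toMonoidHom := by
      refine ⟨hgx, ⟨x, hx, rfl⟩⟩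
    have h3 := orderOf_dvd_natCard (⟨g * x * g⁻¹, hmem⟩ : ↥(H ⊓ H.map (MulAut.conj g).toMonoidHom))
    rw [Subgroup.orderOf_mk, h2] at h3
    have := Odd.of_dvd_nat hodd h3
    exact absurd this (by decide)
  constructor
  · rintro ⟨_, _, hSE⟩ t ht hord
    rw [Nat.card_eq_one_iff_unique]
    refine ⟨⟨?_⟩, ⟨⟨((1 : G) : G ⧸ H), ?_⟩⟩⟩
    · rintro ⟨c, hc⟩ ⟨c', hc'⟩
      induction c using QuotientGroup.induction_on with | H g => ?_
      induction c' using QuotientGroup.induction_on with | H g' => ?_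
      rw [hfix] at hc hc'
      have hg : ∀ a : G, a⁻¹ * t * a ∈ H → a ∈ H := by
        intro a ha
        by_contra hne
        have h1 : a * (a⁻¹ * t * a) * a⁻¹ = t := by group
        refine hconj a (a⁻¹ * t * a) ha (by rw [h1]; exact ht) hne (hSE a hne) (by rw [h1]; exact hord)
      apply Subtype.ext
      show (g : G ⧸ H) = (g' : G ⧸ H)
      rw [QuotientGroup.eq]
      exact H.mul_mem (H.inv_mem (hg g hc)) (hg g' hc')
    · rw [hfix]
      simpa using ht
  · intro h
    refine ⟨hH, heven, ?_⟩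
    intro g hg
    by_contra hne
    rw [Nat.not_odd_iff_even] at hne
    have : Fact (Nat.Prime 2) := ⟨Nat.prime_two⟩
    obtain ⟨⟨s, hs⟩, hsord⟩ := exists_prime_orderOf_dvd_card' (G := ↥(H ⊓ H.map (MulAut.conj g).toMonoidHom)) 2 hne.two_dvd
    rw [Subgroup.orderOf_mk] at hsord
    obtain ⟨hsH, t, htH, hts⟩ := hs
    have hts' : g * t * g⁻¹ = s := hts
    have h1 := h s hsH hsord
    rw [Nat.card_eq_one_iff_unique] at h1
    have h2 := h1.1
    have hf1 : s • ((1 : G) : G ⧸ H) = ((1 : G) : G ⧸ H) := by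
      rw [hfix]; simpa using hsH
    have hfg : s • ((g : G) : G ⧸ H) = ((g : G) : G ⧸ H) := by
      rw [hfix, ← hts']
      have : g⁻¹ * (g * t * g⁻¹) * g = t := by group
      rw [this]; exact htH
    have h3 : (⟨((1 : G) : G ⧸ H), hf1⟩ : {c : G ⧸ H // s • c = c}) = ⟨((g : G) : G ⧸ H), hfg⟩ :=
      Subsingleton.elim _ _
    have h4 : ((1 : G) : G ⧸ H) = ((g : G) : G ⧸ H) := congrArg Subtype.val h3
    rw [QuotientGroup.eq] at h4
    apply hg
    simpa using h4

end Cfsg.Agent.S0224
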