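import Cfsg.Agent.Lib.Golay.M24Chain
import Cfsg.Agent.Lib.Golay.PermWords
import Cfsg.Agent.S0370
import Cfsg.Agent.S0372
import Cfsg.Agent.S0373

set_option autoImplicit false
open Cfsg

namespace Cfsg.Agent.S0374

open Cfsg.Agent.Lib.Golay

/-- The generators and their inverses as lists. -/
def G5 : List (List ℕ) := [[1,2,3,4,5,6,7,8,9,10,11,12,13,14,15,16,17,18,19,20,21,22,0,23],[23,22,11,15,17,9,19,13,20,5,16,2,21,7,18,3,10,4,14,6,8,12,1,0],[0,18,6,3,2,21,1,5,16,12,7,19,8,9,17,15,13,11,4,22,10,20,14,23],[22,0,1,2,3,4,5,6,7,8,9,10,11,12,13,14,15,16,17,18,19,20,21,23],[0,6,4,3,18,7,2,10,12,13,20,17,9,16,22,15,8,14,1,11,21,5,19,23]]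

/-- Words for the transversal at level 0. -/
def w0 : List (List ℕ) := [[1],[0,1],[0,0,1],[0,0,0,1],[0,0,0,0,1],[0,0,0,0,0,1],[0,0,0,0,0,0,1],[1,0,0,1,0,0,1],[1,3,3,1,0,1],[1,0,0,0,0,0,1],[3,1,0,0,1],[1,0,0,1],[0,1,0,0,1],[0,0,1,0,0,1],[0,0,0,1,0,0,1],[1,0,0,0,1],[0,1,0,0,0,1],[1,0,0,0,0,1],[0,1,0,0,0,0,1],[1,0,0,0,0,0,0,1],[0,1,0,0,0,0,0,0,1],[3,1,0,1],[1,0,1],[]]

/-- Words for the transversal at level 1. -/
def w1 : List (List ℕ) := [[],[0],[0,0],[0,0,0],[0,0,0,0],[0,0,0,0,0],[0,0,0,0,0,0],[0,0,0,0,0,0,0],[0,0,0,0,0,0,0,0],[0,0,0,0,0,0,0,0,0],[0,0,0,0,0,0,0,0,0,0],[0,0,0,0,0,0,0,0,0,0,0],[3,3,3,3,3,3,3,3,3,3,3],[3,3,3,3,3,3,3,3,3,3],[3,3,3,3,3,3,3,3,3],[3,3,3,3,3,3,3,3],[3,3,3,3,3,3,3],[3,3,3,3,3,3],[3,3,3,3,3],[3,3,3,3],[3,3,3],[3,3],[3]]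

/-- Words for the transversal at level 2. -/
def w2 : List (List ℕ) := [[],[4,4],[4,0,2,2,3,4,3,2,0,0,2,3,2,0],[2,2],[4,3,2,2,3,4,0,2,0,0,0,0,4],[4],[1,3,2,0,0,2,2,3,2,2,3,4,3,1],[3,2,3,4,0,0,0,2,2,3,3,3,3,3],[1,0,0,2,2,3,3,4,4,0,4,3,4,0,1],[4,3,4,4,0,0,2,0,4,4,0,0,0,4],[3,2,3,4,0,0,0,2,2,3,3,3,3,3,4],[4,3,4,4,0,0,2,0,4,4,0,0,0],[0,0,4,4,3,3,2,2,3,3,2,3,4,3,2,3],[0,2,0,4,4,3,2,0,0,4,0,2,2,3],[3,4,0,4,3,2,3,4,0,0,4,4,3,3,3,2],[3,2,3,4,0,0,0,2,2,3,3,3,3,3,2],[0,0,4,0,4,4,0,2,3,3,3,4,3],[2],[3,2,3,3,3,3,3,3,3,4,3,3,4,4,3],[2,3,4,4,3,3,3,4,4,0,2,0,0,4,3],[3,4,4,3,3,3,4,4,0,2,0,0,4,3],[0,0,0,4,0,2,2,0,2,3,3,3,2,0,4]]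

/-- Words for the transversal at level 3. -/
def w3 : List (List ℕ) := [[],[4,4,0,0,0,2,3,4,4,3,2,0,2],[3,3,3,4,0,2,0,4,4,3,2,2,0,4],[1,3,2,0,2,2,0,4,0,4,4,3,4,1],[0,2,2,3,4,3,3,4,0,0,4,3,3,2],[1,2,0,0,4,0,0,4,0,2,0,0,0,2,1],[0,2,2,0,4,3,4,0,0,0,0,0,4,0,2,0],[0,4,0,4,0,4,3,2,3,3,3,2,2,3],[0,4,4,0,4,0,0,4,0,4,0,0,0,0],[2,2,3,3,3,4,0,4,4,0,4],[2,1,3,4,4,0,2,0,0,0,1],[4,0,2,2,3,2,3,3,4,4,3,4,4],[0,4,0,0,0,4,0,2,2,0,0,2,3,4,3],[3,4,3,3,2,0,0,0,0,4,4,3,2,3,3],[0,0,4,3,2,0,4,4,3,4,4,3,3,2],[0,4,3,2,2,0,2,2,0,4,4,0,0,4,4],[2,3,4,4,3,3,2,2,0,2,0,4,4,0],[0,0,2,3,4,0,4,3,2,2,0,0,4],[4,3,3,3,4,3,2,0,2,2,3,4,4],[0,0,4,4,0,0,0,2,0,2,2,0,4,0,2,3],[4,4,3,2,2,0,4,4,3,3,3,4,4,3,3]]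

/-- Words for the transversal at level 4. -/
def w4 : List (List ℕ) := [[],[0,0,4,3,3,3,2,0,0,2,3,4,0,4],[2,0,0,4,3,4,0,0,2,2,3,4,3,4,0],[0,2,2,3,3,3,4,0,0,0,2,3],[0,1,2,0,2,2,3,2,3,4,0,2,0,0,1,3],[3,2,3,4,4,3,2,3,3,2,3,4,0,2],[2,3,3,2,2,3,3,3,4,0,0,2,0],[0,1,3,4,3,3,3,3,2,3,3,3,1,0,1],[1,4,4,0,4,0,2,0,0,2,3,4,4,1],[1,3,3,3,4,0,2,0,0,4,4,0,4,1],[3,2,0,2,2,0,2,3,4,4,3,3,3,2,3],[0,4,4,3,3,2,3,4,4,3,3,2,0,2],[0,4,3,3,3,2,0,0,0,4,4,3],[0,2,2,3,2,2,3,4,3,4,4,0,0,2,2],[4,4,3,2,0,0,0,2,2,3,4,0,0,2,2],[2,3,2,0,4,3,3,4,0,0,0,2,3,3],[0,2,3,4,0,2,2,3,3,2,2,3,4,3,4,0],[4,4,3,2,3,3,2,3,2,3,2,2,3],[4,3,2,2,0,2,2,0,2,3,4,4,0,0,4,3],[4,3,2,0,4,0,0,4,0,2,2,0,4,0]]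

/-- Words for the transversal at level 5. -/
def w5 : List (List ℕ) := [[],[1,0,2,0,2,0,0,4,1,3,4,3,4,1,0],[0,1,0,2,3,2,3,4,4,3,3,4,1,0,1],[2,3,3,2,0,0,2,0,2,0,4,4,0,2,2],[4,0,2,3,4,3,3,4,4,3,2,2,3,4],[1,2,2,0,0,0,2,3,1,0,4,1,3,4,3],[3,2,2,3,4,0,2,0,0,0,0],[0,1,0,2,0,0,2,2,0,4,0,4,1,0,1],[0,2,0,0,4,0,4,3,2,0,4,4,3,2],[0,2,0,4,0,0,2,0,2,0,0,2,0,4,3,3],[4,3,3,2,3,4,4,0,4,0,4,0,4,3,4],[3,2,2,0,4,0,4,3,3,2,0,0,2,3,2],[3,2,2,3,3,3,2,2,3,3,4,0,4,4,3,3],[0,0,2,2,3,2,0,0,4,4,0,0,0,4,4,0],[2,0,0,0,0,2,3,2,0,0,0,4,0],[2,0,4,0,0,0,4,3,3,2,0,2,2,0]]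

/-- Words for the transversal at level 6. -/
def w6 : List (List ℕ) := [[],[4,3,4,3,3,2,2,3,2,0,4,3,4,3,4],[2,0,2,0,2,3,4,0,4,4,0,0,2,0,2]]


theorem w0_eq : w0.map (evalW G5) = m24T0 := by decide +kernel
theorem w0_lt : ∀ w ∈ w0, ∀ j ∈ w, j < 5 := by decide +kernel
theorem T0_perm : ∀ t ∈ m24T0, isPerm t = true := by decide +kernel

theorem w1_eq : w1.map (evalW G5) = m24T1 := by decide +kernel
theorem w1_lt : ∀ w ∈ w1, ∀ j ∈ w, j < 5 := by decide +kernel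
theorem T1_perm : ∀ t ∈ m24T1, isPerm t = true := by decide +kernel

theorem w2_eq : w2.map (evalW G5) = m24T2 := by decide +kernel
theorem w2_lt : ∀ w ∈ w2, ∀ j ∈ w, j < 5 := by decide +kernel
theorem T2_perm : ∀ t ∈ m24T2, isPerm t = true := by decide +kernel

theorem w3_eq : w3.map (evalW G5) = m24T3 := by decide +kernel
theorem w3_lt : ∀ w ∈ w3, ∀ j ∈ w, j < 5 := by decide +kernel
theorem T3_perm : ∀ t ∈ m24T3, isPerm t = true := by decide +kernel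

theorem w4_eq : w4.map (evalW G5) = m24T4 := by decide +kernel
theorem w4_lt : ∀ w ∈ w4, ∀ j ∈ w, j < 5 := by decide +kernel
theorem T4_perm : ∀ t ∈ m24T4, isPerm t = true := by decide +kernel

theorem w5_eq : w5.map (evalW G5) = m24T5 := by decide +kernel
theorem w5_lt : ∀ w ∈ w5, ∀ j ∈ w, j < 5 := by decide +kernel
theorem T5_perm : ∀ t ∈ m24T5, isPerm t = true := by decide +kernel

theorem w6_eq : w6.map (evalW G5) = m24T6 := by decide +kernel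
theorem w6_lt : ∀ w ∈ w6, ∀ j ∈ w, j < 5 := by decide +kernel
theorem T6_perm : ∀ t ∈ m24T6, isPerm t = true := by decide +kernel


theorem G5_perm : ∀ g ∈ G5, isPerm g = true := by decide +kernel

theorem G5_eq : G5 = [Cfsg.Agent.S0370.lst, Cfsg.Agent.S0372.lst, Cfsg.Agent.S0373.lst,
    evalW [Cfsg.Agent.S0370.lst] (List.replicate 22 0), evalW [Cfsg.Agent.S0373.lst] (List.replicate (4) 0)] := by
  decide +kernel

/-- The group of the length-24 code is generated by x ↦ x+1, x ↦ -1/x and the cube-twist permutation. -/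
theorem result : Subgroup.closure {Equiv.optionCongr (Equiv.addRight (1 : ZMod 23)), Cfsg.projInv, Cfsg.cubeTwist} = Cfsg.M24 := by
  set K := Subgroup.closure {Equiv.optionCongr (Equiv.addRight (1 : ZMod 23)), Cfsg.projInv, Cfsg.cubeTwist} with hKdef
  apply le_antisymm
  · rw [Subgroup.closure_le]
    intro x hx
    simp only [Set.mem_insert_iff, Set.mem_singleton_iff] at hx
    rcases hx with rfl | rfl | rfl
    · exact Cfsg.Agent.S0370.result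
    · exact Cfsg.Agent.S0372.result
    · exact Cfsg.Agent.S0373.result
  · have ha : Equiv.optionCongr (Equiv.addRight (1 : ZMod 23)) ∈ K := Subgroup.subset_closure (by simp)
    have hb : Cfsg.projInv ∈ K := Subgroup.subset_closure (by simp)
    have hc : Cfsg.cubeTwist ∈ K := Subgroup.subset_closure (by simp)
    have ea : perm Cfsg.Agent.S0370.lst = Equiv.optionCongr (Equiv.addRight (1 : ZMod 23)) :=
      (perm_eq_of_list (by decide +kernel) (by decide +kernel)).symm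
    have eb : perm Cfsg.Agent.S0372.lst = Cfsg.projInv :=
      (perm_eq_of_list (by decide +kernel) (by decide +kernel)).symm
    have ec : perm Cfsg.Agent.S0373.lst = Cfsg.cubeTwist :=
      (perm_eq_of_list (by decide +kernel)
        (fun p => (show cubeTwistFun p = lp Cfsg.Agent.S0373.lst p from by revert p; decide +kernel))).symm
    have hG1 : ∀ g ∈ [Cfsg.Agent.S0370.lst, Cfsg.Agent.S0372.lst, Cfsg.Agent.S0373.lst], isPerm g = true ∧ perm g ∈ K := by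
      intro g hg
      simp only [List.mem_cons, List.not_mem_nil, or_false] at hg
      rcases hg with rfl | rfl | rfl
      · exact ⟨by decide +kernel, ea ▸ ha⟩
      · exact ⟨by decide +kernel, eb ▸ hb⟩
      · exact ⟨by decide +kernel, ec ▸ hc⟩
    have hG : ∀ g ∈ G5, isPerm g = true ∧ perm g ∈ K := by
      intro g hg
      refine ⟨G5_perm g hg, ?_⟩
      rw [G5_eq] at hg
      simp only [List.mem_cons, List.not_mem_nil, or_false] at hg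
      rcases hg with rfl | rfl | rfl | rfl | rfl
      · exact ea ▸ ha
      · exact eb ▸ hb
      · exact ec ▸ hc
      · exact perm_mem_of_evalW K [Cfsg.Agent.S0370.lst] (by simpa using hG1 _ (by simp)) _ (by decide +kernel) (by decide +kernel) rfl
      · exact perm_mem_of_evalW K [Cfsg.Agent.S0373.lst] (by simpa using hG1 _ (by simp)) _ (by decide +kernel) (by decide +kernel) rfl
    have h0 : ∀ t ∈ m24T0.map perm, t ∈ K := by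
      intro t ht
      obtain ⟨l, hl, rfl⟩ := List.mem_map.mp ht
      rw [← w0_eq] at hl
      obtain ⟨w, hw, rfl⟩ := List.mem_map.mp hl
      exact perm_mem_of_evalW K G5 hG w (w0_lt w hw) (T0_perm _ (by rw [← w0_eq]; exact List.mem_map.mpr ⟨w, hw, rfl⟩)) rfl
    have h1 : ∀ t ∈ m24T1.map perm, t ∈ K := by
      intro t ht
      obtain ⟨l, hl, rfl⟩ := List.mem_map.mp ht
      rw [← w1_eq] at hl
      obtain ⟨w, hw, rfl⟩ := List.mem_map.mp hl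
      exact perm_mem_of_evalW K G5 hG w (w1_lt w hw) (T1_perm _ (by rw [← w1_eq]; exact List.mem_map.mpr ⟨w, hw, rfl⟩)) rfl
    have h2 : ∀ t ∈ m24T2.map perm, t ∈ K := by
      intro t ht
      obtain ⟨l, hl, rfl⟩ := List.mem_map.mp ht
      rw [← w2_eq] at hl
      obtain ⟨w, hw, rfl⟩ := List.mem_map.mp hl
      exact perm_mem_of_evalW K G5 hG w (w2_lt w hw) (T2_perm _ (by rw [← w2_eq]; exact List.mem_map.mpr ⟨w, hw, rfl⟩)) rfl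
    have h3 : ∀ t ∈ m24T3.map perm, t ∈ K := by
      intro t ht
      obtain ⟨l, hl, rfl⟩ := List.mem_map.mp ht
      rw [← w3_eq] at hl
      obtain ⟨w, hw, rfl⟩ := List.mem_map.mp hl
      exact perm_mem_of_evalW K G5 hG w (w3_lt w hw) (T3_perm _ (by rw [← w3_eq]; exact List.mem_map.mpr ⟨w, hw, rfl⟩)) rfl
    have h4 : ∀ t ∈ m24T4.map perm, t ∈ K := by
      intro t ht
      obtain ⟨l, hl, rfl⟩ := List.mem_map.mp ht
      rw [← w4_eq] at hl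
      obtain ⟨w, hw, rfl⟩ := List.mem_map.mp hl
      exact perm_mem_of_evalW K G5 hG w (w4_lt w hw) (T4_perm _ (by rw [← w4_eq]; exact List.mem_map.mpr ⟨w, hw, rfl⟩)) rfl
    have h5 : ∀ t ∈ m24T5.map perm, t ∈ K := by
      intro t ht
      obtain ⟨l, hl, rfl⟩ := List.mem_map.mp ht
      rw [← w5_eq] at hl
      obtain ⟨w, hw, rfl⟩ := List.mem_map.mp hl
      exact perm_mem_of_evalW K G5 hG w (w5_lt w hw) (T5_perm _ (by rw [← w5_eq]; exact List.mem_map.mpr ⟨w, hw, rfl⟩)) rfl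
    have h6 : ∀ t ∈ m24T6.map perm, t ∈ K := by
      intro t ht
      obtain ⟨l, hl, rfl⟩ := List.mem_map.mp ht
      rw [← w6_eq] at hl
      obtain ⟨w, hw, rfl⟩ := List.mem_map.mp hl
      exact perm_mem_of_evalW K G5 hG w (w6_lt w hw) (T6_perm _ (by rw [← w6_eq]; exact List.mem_map.mpr ⟨w, hw, rfl⟩)) rfl
    apply le_of_chainOK M24 K m24Levels m24_chainOK
    intro x hx
    simp only [m24Levels, List.mem_cons, List.not_mem_nil, or_false] at hx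
    rcases hx with rfl | rfl | rfl | rfl | rfl | rfl | rfl
    · exact h0
    · exact h1
    · exact h2
    · exact h3
    · exact h4
    · exact h5
    · exact h6

end Cfsg.Agent.S0374
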