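import Cfsg.Statements.S0434
import Mathlib
import Cfsg.Agent.Lib.H8Group.M11E
import Cfsg.Agent.Lib.H8Group.CharVal

set_option autoImplicit false
open Cfsg

namespace Cfsg.Agent.S0434

open Cfsg.Agent.Lib.Char Cfsg.Agent.Lib.H8Group Cfsg.Agent.Lib.Blocks

open Cfsg.Agent.Lib.BT Cfsg.Agent.Lib.H8Group.M11 Subgroup MulAction
open scoped ComplexConjugate

universe u

section
variable {G : Type u} [Group G] [Fintype G] [IsSimpleGroup G]

theorem card_sylow3 (hG : Nat.card G = 7920) (Q : Sylow 3 G) : Nat.card (Q : Subgroup G) = 9 := by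
  rw [Sylow.card_eq_multiplicity, hG]
  have h1 : (7920 : ℕ) = 3 ^ 2 * 880 := by norm_num
  rw [h1, Nat.factorization_mul (by norm_num) (by norm_num), Finsupp.add_apply,
    Nat.Prime.factorization_pow (by norm_num), Nat.factorization_eq_zero_of_not_dvd (by norm_num)]
  simp

theorem comm_sylow3 (hG : Nat.card G = 7920) (Q : Sylow 3 G) {a b : G} (ha : a ∈ (Q : Subgroup G)) (hb : b ∈ (Q : Subgroup G)) :
    a * b = b * a := by
  have h := IsPGroup.commutative_of_card_eq_prime_sq (p := 3) (G := (Q : Subgroup G)) (by rw [card_sylow3 hG Q]; norm_num)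
  have := h ⟨a, ha⟩ ⟨b, hb⟩
  exact congrArg Subtype.val this

theorem le_cent (hG : Nat.card G = 7920) (Q : Sylow 3 G) {x : G} (hx : x ∈ (Q : Subgroup G)) :
    (Q : Subgroup G) ≤ centralizer ({x} : Set G) := by
  intro y hy
  rw [mem_centralizer_iff]
  intro w hw
  rw [Set.mem_singleton_iff.mp hw]
  exact comm_sylow3 hG Q hx hy

theorem deg_mem (hG : Nat.card G = 7920) (χ : IrrCharacter G) :
    charDegree (χ : G → ℂ) = 1 ∨ charDegree (χ : G → ℂ) = 10 ∨ charDegree (χ : G → ℂ) = 11 ∨ charDegree (χ : G → ℂ) = 16 ∨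
    charDegree (χ : G → ℂ) = 44 ∨ charDegree (χ : G → ℂ) = 45 ∨ charDegree (χ : G → ℂ) = 55 := by
  classical
  let f : ℕ → ℕ := fun d => if d = 1 ∨ d = 10 ∨ d = 11 ∨ d = 16 ∨ d = 44 ∨ d = 45 ∨ d = 55 then 0 else 1
  have h6 : ∑ ψ : IrrCharacter G, f (charDegree (ψ : G → ℂ)) = 0 := by
    rw [sum_deg hG f]
    simp [f]
  have h7 := (Finset.sum_eq_zero_iff.mp h6) χ (Finset.mem_univ _)
  by_contra h5
  simp only [f] at h7
  rw [if_neg h5] at h7
  omega

/-- The centralizer of an element of order three. -/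
theorem cent_three (hG : Nat.card G = 7920) {x : G} (hx : orderOf x = 3) :
    Nat.card (centralizer ({x} : Set G)) = 9 ∨ Nat.card (centralizer ({x} : Set G)) = 18 := by
  classical
  obtain ⟨hz5, hy11⟩ := small_centralizers hG
  have hxp : IsPGroup 3 (zpowers x) := by
    apply isPGroup_zpowers (p := 3)
    exact ⟨1, by simpa using hx⟩
  obtain ⟨R₀, hR₀⟩ := IsPGroup.exists_le_sylow hxp
  have hxR : x ∈ (R₀ : Subgroup G) := hR₀ (mem_zpowers x)
  have h9 : 9 ∣ Nat.card (centralizer ({x} : Set G)) := by
    have h1 := Subgroup.card_dvd_of_le (le_cent hG R₀ hxR)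
    rwa [card_sylow3 hG R₀] at h1
  obtain ⟨k, hk⟩ := h9
  have hdvd : Nat.card (centralizer ({x} : Set G)) ∣ 7920 := by
    rw [← hG]
    exact Subgroup.card_subgroup_dvd_card _
  have hcomm : ∀ y : centralizer ({x} : Set G), x * (y : G) = y * x := fun y => mem_centralizer_iff.mp y.2 x rfl
  have hmem : ∀ y : centralizer ({x} : Set G), x ∈ centralizer ({(y : G)} : Set G) := by
    intro y
    rw [mem_centralizer_iff]
    intro w hw
    rw [Set.mem_singleton_iff.mp hw]
    exact (hcomm y).symm
  have hord : ∀ {q : ℕ}, ∀ y : centralizer ({x} : Set G), Nat.card (centralizer ({(y : G)} : Set G)) = q → 3 ∣ q := by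
    intro q y hq
    have h1 := orderOf_dvd_natCard (⟨x, hmem y⟩ : centralizer ({(y : G)} : Set G))
    rw [Subgroup.orderOf_mk, hx, hq] at h1
    exact h1
  have hk5 : ¬ 5 ∣ k := by
    intro h5
    obtain ⟨y, hy⟩ := exists_prime_orderOf_dvd_card' (G := centralizer ({x} : Set G)) 5 (by rw [hk]; exact Dvd.dvd.mul_left h5 9)
    have := hord y (hz5 y (by rw [Subgroup.orderOf_coe]; exact hy))
    omega
  have hk11 : ¬ 11 ∣ k := by
    intro h11
    obtain ⟨y, hy⟩ := exists_prime_orderOf_dvd_card' (G := centralizer ({x} : Set G)) 11 (by rw [hk]; exact Dvd.dvd.mul_left h11 9)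
    have := hord y (hy11 y (by rw [Subgroup.orderOf_coe]; exact hy))
    omega
  have hk880 : k ∣ 880 := by
    rw [hk] at hdvd
    exact Nat.dvd_of_mul_dvd_mul_left (by norm_num : 0 < 9) (by simpa using hdvd)
  have hk16 : k ∣ 16 := by
    have hc : Nat.Coprime k 55 := by
      have h5 : Nat.Coprime k 5 := ((Nat.Prime.coprime_iff_not_dvd (by norm_num)).mpr hk5).symm
      have h11 : Nat.Coprime k 11 := ((Nat.Prime.coprime_iff_not_dvd (by norm_num)).mpr hk11).symm
      exact Nat.Coprime.mul_right h5 h11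
    exact hc.dvd_of_dvd_mul_right (by simpa using hk880)
  -- the index
  obtain ⟨K, hK⟩ : ∃ K, (centralizer ({x} : Set G)).index = K := ⟨_, rfl⟩
  have hKc : Nat.card (centralizer ({x} : Set G)) * K = 7920 := by
    rw [← hK, Subgroup.card_mul_index, hG]
  -- the norms
  choose N n hN hn using exists_normSq_three hx
  have hsum : ∑ χ, N χ = Nat.card (centralizer ({x} : Set G)) := by
    have h2 := sum_irr_mul_conj_of_isConj (IsConj.refl x)
    simp only [hN] at h2
    exact_mod_cast h2
  have hint : ∀ χ : IrrCharacter G, charDegree (χ : G → ℂ) = 16 → 256 ∣ K ^ 2 * N χ := by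
    intro χ hχ
    have hχc := IsIrrCharacter.isCharacter χ.2
    have h1 := isIntegral_centralChar χ x
    have h2 : IsIntegral ℤ (conj (centralChar (χ : G → ℂ) x)) := map_isIntegral_int (starRingEnd ℂ) h1
    have h3 := h1.mul h2
    have h4 : centralChar (χ : G → ℂ) x * conj (centralChar (χ : G → ℂ) x) = ((K ^ 2 * N χ : ℕ) : ℂ) / ((256 : ℕ) : ℂ) := by
      unfold centralChar
      rw [hK, apply_one_eq_charDegree hχc, hχ, map_div₀, map_mul, Complex.conj_natCast, Complex.conj_natCast]
      push_cast
      rw [← hN χ]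
      ring
    rw [h4] at h3
    exact nat_dvd_of_isIntegral_div (by norm_num) h3
  have hpos : ∀ χ : IrrCharacter G, ¬ 3 ∣ charDegree (χ : G → ℂ) → 1 ≤ N χ := by
    intro χ hχ
    by_contra h0
    have h1 : N χ = 0 := by omega
    have h2 := hn χ
    rw [h1] at h2
    apply hχ
    have h3 : 3 ∣ charDegree (χ : G → ℂ) ^ 2 := ⟨n χ, by omega⟩
    exact Nat.Prime.dvd_of_dvd_pow (by norm_num) h3
  -- the lower bound
  have hbound : ∀ B : ℕ, (∀ χ : IrrCharacter G, charDegree (χ : G → ℂ) = 16 → B ≤ N χ) →
      7 + 2 * B ≤ Nat.card (centralizer ({x} : Set G)) := by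
    intro B hB
    let g : ℕ → ℕ := fun d => if d = 16 then B else if d = 45 then 0 else 1
    have h1 := sum_deg hG g
    have h2 : ∑ χ : IrrCharacter G, g (charDegree (χ : G → ℂ)) ≤ ∑ χ, N χ := by
      apply Finset.sum_le_sum
      intro χ _
      by_cases h16 : charDegree (χ : G → ℂ) = 16
      · simp only [g, if_pos h16]
        exact hB χ h16
      by_cases h45 : charDegree (χ : G → ℂ) = 45
      · simp [g, h45]
      · simp only [g, if_neg h16, if_neg h45]
        apply hpos
        intro h3
        have h4 := deg_mem hG χ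
        rcases h4 with h4 | h4 | h4 | h4 | h4 | h4 | h4 <;> omega
    have e1 : g 1 = 1 := by simp [g]
    have e10 : g 10 = 1 := by simp [g]
    have e11 : g 11 = 1 := by simp [g]
    have e16 : g 16 = B := by simp [g]
    have e44 : g 44 = 1 := by simp [g]
    have e45 : g 45 = 0 := by simp [g]
    have e55 : g 55 = 1 := by simp [g]
    rw [h1, hsum, e1, e10, e11, e16, e44, e45, e55] at h2
    omega
  have hk0 : k ≤ 16 := Nat.le_of_dvd (by norm_num) hk16
  have hnz16 : ∀ χ : IrrCharacter G, charDegree (χ : G → ℂ) = 16 → N χ ≠ 0 := by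
    intro χ hχ
    have := hpos χ (by rw [hχ]; norm_num)
    omega
  have hk4 : k < 4 := by
    by_contra hge
    have hcases : k = 4 ∨ k = 8 ∨ k = 16 := by
      interval_cases k <;> first | omega | (exfalso; revert hk16; decide)
    rcases hcases with rfl | rfl | rfl
    · have hKv : K = 220 := by rw [hk] at hKc; omega
      have := hbound 16 (fun χ hχ => by
        have h1 := hint χ hχ
        have h2 := hnz16 χ hχ
        rw [hKv] at h1
        omega)
      omega
    · have hKv : K = 110 := by rw [hk] at hKc; omega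
      have := hbound 64 (fun χ hχ => by
        have h1 := hint χ hχ
        have h2 := hnz16 χ hχ
        rw [hKv] at h1
        omega)
      omega
    · have hKv : K = 55 := by rw [hk] at hKc; omega
      have := hbound 256 (fun χ hχ => by
        have h1 := hint χ hχ
        have h2 := hnz16 χ hχ
        rw [hKv] at h1
        omega)
      omega
  have hk12 : k = 1 ∨ k = 2 := by
    interval_cases k <;> first | omega | (exfalso; revert hk16; decide)
  rcases hk12 with rfl | rfl
  · left; omega
  · right; omega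

/-- Two Sylow `3`-subgroups containing a common element of order three coincide. -/
theorem sylow_eq_of_three (hG : Nat.card G = 7920) {R R' : Sylow 3 G} {x : G} (hx : orderOf x = 3)
    (hR : x ∈ (R : Subgroup G)) (hR' : x ∈ (R' : Subgroup G)) : R = R' := by
  classical
  have h1 := le_cent hG R hR
  have h2 := le_cent hG R' hR'
  have hc := card_sylow3 hG R
  have hc' := card_sylow3 hG R'
  rcases cent_three hG hx with h | h
  · have h3 : (R : Subgroup G) = centralizer ({x} : Set G) := Subgroup.eq_of_le_of_card_ge h1 (by omega)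
    have h4 : (R' : Subgroup G) = centralizer ({x} : Set G) := Subgroup.eq_of_le_of_card_ge h2 (by omega)
    exact Sylow.ext (h3.trans h4.symm)
  · let C := centralizer ({x} : Set G)
    let H : Subgroup C := (R : Subgroup G).subgroupOf C
    have hcard : Nat.card H = 9 := by
      rw [← hc]
      exact Nat.card_congr (Subgroup.subgroupOfEquivOfLe h1).toEquiv
    have hidx : H.index = 2 := by
      have h3 := H.card_mul_index
      rw [hcard, show Nat.card C = 18 from h] at h3
      omega
    have hle : (R' : Subgroup G) ≤ R := by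
      intro y hy
      have hyC : y ∈ C := h2 hy
      have h3 := Subgroup.mul_self_mem_of_index_two hidx (⟨y, hyC⟩ : C)
      have h4 : y * y ∈ (R : Subgroup G) := h3
      have h5 : y ^ 9 = 1 := by
        have h6 := pow_card_eq_one' (G := (R' : Subgroup G)) (x := ⟨y, hy⟩)
        rw [hc'] at h6
        exact congrArg Subtype.val h6
      have h7 : y = (y * y) ^ 5 := by
        calc y = y ^ 9 * y := by rw [h5, one_mul]
          _ = y ^ 10 := by rw [← pow_succ]
          _ = (y * y) ^ 5 := by rw [← pow_two, ← pow_mul]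
      rw [h7]
      exact Subgroup.pow_mem _ h4 5
    have h3 : (R : Subgroup G) = R' := (Subgroup.eq_of_le_of_card_ge hle (by omega)).symm
    exact Sylow.ext h3

/-- Two Sylow `3`-subgroups with a common nontrivial element coincide. -/
theorem sylow_eq_of_common (hG : Nat.card G = 7920) {R R' : Sylow 3 G} {g : G} (hg : g ≠ 1)
    (hR : g ∈ (R : Subgroup G)) (hR' : g ∈ (R' : Subgroup G)) : R = R' := by
  have hc := card_sylow3 hG R
  have h1 : orderOf g ∣ 9 := by
    have := orderOf_dvd_natCard (⟨g, hR⟩ : (R : Subgroup G))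
    rwa [hc, Subgroup.orderOf_mk] at this
  have h9 : (9 : ℕ) = 3 ^ 2 := by norm_num
  rw [h9] at h1
  obtain ⟨j, hj, hj2⟩ := (Nat.dvd_prime_pow (by norm_num)).mp h1
  have hj' : j ≤ 2 := hj
  interval_cases j
  · rw [pow_zero] at hj2
    exact absurd (orderOf_eq_one_iff.mp hj2) hg
  · exact sylow_eq_of_three hG (by simpa using hj2) hR hR'
  · have h3 : orderOf (g ^ 3) = 3 := by
      rw [orderOf_pow, hj2]
      norm_num
    exact sylow_eq_of_three hG h3 (Subgroup.pow_mem _ hR 3) (Subgroup.pow_mem _ hR' 3)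

/-- The number of Sylow `3`-subgroups. -/
theorem nine_dvd (hG : Nat.card G = 7920) (R : Sylow 3 G) : 9 ∣ Nat.card (Sylow 3 G) + 8 := by
  classical
  letI : Fintype (Sylow 3 G) := Fintype.ofFinite _
  let H : Subgroup G := R
  letI : Fintype H := Fintype.ofFinite _
  have hcardH : Fintype.card H = 9 := by
    rw [← Nat.card_eq_fintype_card]
    exact card_sylow3 hG R
  have hB := MulAction.sum_card_fixedBy_eq_card_orbits_mul_card_group H (Sylow 3 G)
  have hRfix : ∀ h : H, (h : G) • R = R := by
    intro h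
    apply Sylow.smul_eq_iff_mem_normalizer.mpr
    exact Subgroup.le_normalizer h.2
  have h1 : ∀ h ∈ Finset.univ.erase (1 : H), Fintype.card (fixedBy (Sylow 3 G) h) = 1 := by
    intro h hh
    have hne := Finset.ne_of_mem_erase hh
    have hne' : (h : G) ≠ 1 := fun e0 => hne (Subtype.ext e0)
    rw [Fintype.card_eq_one_iff]
    refine ⟨⟨R, hRfix h⟩, ?_⟩
    rintro ⟨Q, hQ⟩
    apply Subtype.ext
    have hQ' : (h : G) • Q = Q := hQ
    have hN : (h : G) ∈ normalizer ((Q : Subgroup G) : Set G) := Sylow.smul_eq_iff_mem_normalizer.mp hQ'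
    have hp : IsPGroup 3 (zpowers (h : G)) := by
      have h2 : IsPGroup 3 H := R.isPGroup'
      exact h2.to_le ((Subgroup.zpowers_le).mpr h.2)
    have hfix : Q ∈ fixedPoints (zpowers (h : G)) (Sylow 3 G) := by
      intro c
      apply Sylow.smul_eq_iff_mem_normalizer.mpr
      have h5 : zpowers (h : G) ≤ normalizer ((Q : Subgroup G) : Set G) := (Subgroup.zpowers_le).mpr hN
      exact h5 c.2
    have h6 := (hp.sylow_mem_fixedPoints_iff).mp hfix
    exact sylow_eq_of_common hG hne' (h6 (mem_zpowers _)) h.2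
  have h0 : Fintype.card (fixedBy (Sylow 3 G) (1 : H)) = Nat.card (Sylow 3 G) := by
    rw [← Nat.card_eq_fintype_card]
    refine Nat.card_congr ⟨fun x => x.1, fun x => ⟨x, by simp [mem_fixedBy]⟩, fun x => rfl, fun x => rfl⟩
  rw [← Finset.add_sum_erase _ _ (Finset.mem_univ (1 : H)), Finset.sum_congr rfl h1, h0, hcardH] at hB
  simp [Finset.card_erase_of_mem, hcardH] at hB
  rw [Nat.card_eq_fintype_card]
  exact Dvd.intro_left _ hB.symm

end

/-- Sylow 3-normalisers in a simple group of order 7920 have order 144 (so there are 55 Sylow 3-subgroups). -/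
theorem result {G : Type*} [Group G] [Finite G] (hG : Cfsg.IsM11 G) (P : Sylow 3 G) : Nat.card (Subgroup.normalizer ((P : Subgroup G) : Set G)) = 144 := by
  classical
  letI : Fintype G := Fintype.ofFinite G
  obtain ⟨hS, hG'⟩ := hG
  haveI := hS
  have hc := card_sylow3 hG' P
  have hdiv := nine_dvd hG' P
  have hn : Nat.card (Sylow 3 G) = (normalizer ((P : Subgroup G) : Set G)).index := Sylow.card_eq_index_normalizer P
  have hmul : Nat.card (normalizer ((P : Subgroup G) : Set G)) * (normalizer ((P : Subgroup G) : Set G)).index = 7920 := by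
    rw [Subgroup.card_mul_index, hG']
  rw [← hn] at hmul
  have h9 : 9 ∣ Nat.card (normalizer ((P : Subgroup G) : Set G)) := by
    have h1 := Subgroup.card_dvd_of_le (Subgroup.le_normalizer (H := (P : Subgroup G)))
    rwa [hc] at h1
  obtain ⟨m, hm⟩ := h9
  rw [hm] at hmul ⊢
  obtain ⟨n, hnn⟩ : ∃ n, Nat.card (Sylow 3 G) = n := ⟨_, rfl⟩
  rw [hnn] at hmul hdiv
  have hnt : (P : Subgroup G) ≠ ⊤ := by
    intro h0
    rw [h0, Subgroup.card_top, hG'] at hc
    omega
  have hne : (P : Subgroup G) ≠ ⊥ := by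
    intro h0
    rw [h0] at hc
    simp at hc
  have hn1 : n ≠ 1 := by
    intro h1
    have h2 : (normalizer ((P : Subgroup G) : Set G)).index = 1 := by rw [← hn, hnn, h1]
    have h3 : normalizer ((P : Subgroup G) : Set G) = ⊤ := Subgroup.index_eq_one.mp h2
    have h4 : ((P : Subgroup G)).Normal := Subgroup.normalizer_eq_top_iff.mp h3
    rcases IsSimpleGroup.eq_bot_or_eq_top_of_normal _ h4 with h5 | h5
    · exact hne h5
    · exact hnt h5
  have hn10 : n ≠ 10 := by
    intro h1
    have hinj : Function.Injective (MulAction.toPermHom G (Sylow 3 G)) := by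
      rw [injective_iff_map_eq_one]
      intro t ht
      apply eq_one_of_fix_all P hne hnt
      intro Q
      have := congrArg (fun σ : Equiv.Perm (Sylow 3 G) => σ Q) ht
      exact this
    have h2 := Subgroup.card_dvd_of_injective _ hinj
    rw [Nat.card_perm, hnn, h1, hG'] at h2
    exact absurd h2 (by decide)
  obtain ⟨c, hcc⟩ := hdiv
  have hn0 : n + 8 = 9 * c := hcc
  obtain ⟨k, hk⟩ : ∃ k, n = 1 + 9 * k := by
    refine ⟨c - 1, ?_⟩
    omega
  subst hk
  have hmul' : (9 * m) * (1 + 9 * k) = 7920 := hmul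
  have hm880 : m * (1 + 9 * k) = 880 := by nlinarith
  have hk98 : k ≤ 97 := by
    have hm0 : 1 ≤ m := by
      rcases Nat.eq_zero_or_pos m with h | h
      · rw [h] at hm880
        omega
      · exact h
    nlinarith
  have : 1 + 9 * k = 55 := by
    interval_cases k <;> omega
  have hk6 : k = 6 := by omega
  subst hk6
  omega

end Cfsg.Agent.S0434
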