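import Cfsg.Statements.S0435
import Mathlib
import Cfsg.Agent.Lib.H8Group.M11E
import Cfsg.Agent.Lib.H8Group.CharVal
import Cfsg.Agent.S4477

set_option autoImplicit false
open Cfsg

namespace Cfsg.Agent.S0435

open Cfsg.Agent.Lib.Char Cfsg.Agent.Lib.H8Group Cfsg.Agent.Lib.Blocks

open Cfsg.Agent.Lib.BT Cfsg.Agent.Lib.H8Group.M11 Subgroup MulAction Cfsg.Agent.S4429
open scoped ComplexConjugate

universe u

section
variable {G : Type u} [Group G] [Fintype G] [IsSimpleGroup G]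

omit [IsSimpleGroup G] in
theorem exists_val {t : G} (ht : orderOf t = 2) (χ : IrrCharacter G) :
    ∃ v : ℤ, (χ : G → ℂ) t = v ∧ (2 : ℤ) ∣ (charDegree (χ : G → ℂ) : ℤ) + v := by
  classical
  let Q : Subgroup G := zpowers t
  letI : Fintype Q := Fintype.ofFinite _
  have hQ : Nat.card Q = 2 := by rw [Nat.card_zpowers, ht]
  have h1 := T_eq_of_const Q χ ((χ : G → ℂ) t) (fun y hy hy1 => by
    obtain ⟨k, hk⟩ := hy
    have hk' : t ^ k = y := hk
    rw [← zpow_mod_orderOf, ht] at hk'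
    have hmod : k % ((2 : ℕ) : ℤ) = 0 ∨ k % ((2 : ℕ) : ℤ) = 1 := by omega
    rcases hmod with h0 | h0
    · rw [h0, zpow_zero] at hk'
      exact absurd hk'.symm hy1
    · rw [h0, zpow_one] at hk'
      rw [hk'])
  rw [hQ, apply_one_eq_charDegree (IsIrrCharacter.isCharacter χ.2)] at h1
  push_cast at h1
  refine ⟨2 * (T Q χ : ℤ) - charDegree (χ : G → ℂ), ?_, ⟨T Q χ, by ring⟩⟩
  push_cast
  linear_combination -h1

omit [IsSimpleGroup G] in
theorem not_isConj_of_order {z t : G} (hz : orderOf z = 5) (ht : orderOf t = 2) : ¬ IsConj z t := by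
  intro h
  obtain ⟨c, hc⟩ := isConj_iff.mp h
  have h1 := MulEquiv.orderOf_eq (MulAut.conj c) z
  rw [MulAut.conj_apply, hc, hz, ht] at h1
  omega

theorem sq_ge_one_aux : ∀ u : ℤ, u ≠ 0 → 1 ≤ u ^ 2 := by
  intro u hu
  have : 0 < u ^ 2 := by positivity
  omega

theorem sq_zero_aux : ∀ u : ℤ, u ^ 2 ≤ 0 → u = 0 := by
  intro u hu
  have : u ^ 2 = 0 := le_antisymm hu (sq_nonneg u)
  exact pow_eq_zero_iff (by norm_num) |>.mp this

theorem sq_one_aux : ∀ u : ℤ, u ^ 2 ≤ 1 → u = 0 ∨ u = 1 ∨ u = -1 := by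
  intro u hu
  have h1 : -1 ≤ u := by nlinarith
  have h2 : u ≤ 1 := by nlinarith
  omega

set_option maxHeartbeats 4000000 in
/-- The column of an involution. -/
theorem col_eqs (hG : Nat.card G = 7920) {t : G} (ht : orderOf t = 2) :
    ∃ a b c e f g h : ℤ, (Nat.card (centralizer ({t} : Set G)) : ℤ) = 1 + g ^ 2 + (a ^ 2 + b ^ 2 + c ^ 2) + (e ^ 2 + f ^ 2 + h ^ 2) ∧
      a + b + c = 1 + g ∧ f = 1 + e ∧ h = -1 - g - e ∧
      ∃ α : IrrCharacter G, charDegree (α : G → ℂ) = 45 ∧ (α : G → ℂ) t = g ∧ (2 : ℤ) ∣ 45 + g := by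
  classical
  obtain ⟨P, hS⟩ := exists_SC_M11 hG
  obtain ⟨D⟩ := hS.exists_dat
  obtain ⟨z, hz⟩ := exists_prime_orderOf_dvd_card' (G := G) 5 (by rw [hG]; norm_num)
  obtain ⟨hε, hA, hAc, hB, hBc, hY, hCz, w, hw1, hw2, hw3⟩ := analysis hG hS D hz
  obtain ⟨α, hαe⟩ := Finset.card_eq_one.mp hAc
  obtain ⟨b₁, b₂, b₃, h12, h13, h23, hBe⟩ := Finset.card_eq_three.mp hBc
  obtain ⟨θ₁, θ₂, hθne, hYe⟩ := Finset.card_eq_two.mp D.card_Y
  have hr := Cfsg.Agent.S4429.result hG
  have hone : ∀ v : ℕ, (v = 11 ∨ v = 44 ∨ v = 55) → ∃ ξ : IrrCharacter G, charDegree (ξ : G → ℂ) = v := by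
    intro v hv
    have h1 := hr.2 v
    rw [if_pos (by omega)] at h1
    obtain ⟨-, ⟨ξ⟩⟩ := Nat.card_eq_one_iff_unique.mp h1
    exact ⟨ξ.1, ξ.2⟩
  obtain ⟨ξ₁, hξ₁⟩ := hone 11 (by omega)
  obtain ⟨ξ₂, hξ₂⟩ := hone 44 (by omega)
  obtain ⟨ξ₃, hξ₃⟩ := hone 55 (by omega)
  have hmemZ : ∀ ξ : IrrCharacter G, (charDegree (ξ : G → ℂ) = 11 ∨ charDegree (ξ : G → ℂ) = 44 ∨ charDegree (ξ : G → ℂ) = 55) → ξ ∈ D.Z := by
    intro ξ hξ
    refine (D.mem_Z).mpr ⟨?_, ?_, ?_, ?_⟩
    · rintro rfl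
      rw [deg_oneIrr] at hξ
      omega
    · intro h0
      have := hA ξ h0
      omega
    · intro h0
      have := hB ξ h0
      omega
    · intro h0
      have := hY ξ h0
      omega
  have hZc : D.Z.card = 3 := by
    have h1 := D.sum_decomp (fun _ => (1 : ℕ))
    simp only [Finset.sum_const, smul_eq_mul, mul_one, hAc, hBc, D.card_Y, Finset.card_univ] at h1
    rw [← Nat.card_eq_fintype_card, hr.1] at h1
    omega
  have hZe : ({ξ₁, ξ₂, ξ₃} : Finset (IrrCharacter G)) = D.Z := by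
    apply Finset.eq_of_subset_of_card_le
    · intro ξ hξ
      simp only [Finset.mem_insert, Finset.mem_singleton] at hξ
      rcases hξ with rfl | rfl | rfl
      · exact hmemZ _ (Or.inl hξ₁)
      · exact hmemZ _ (Or.inr (Or.inl hξ₂))
      · exact hmemZ _ (Or.inr (Or.inr hξ₃))
    · rw [hZc, Finset.card_eq_three.mpr ⟨ξ₁, ξ₂, ξ₃, ?_, ?_, ?_, rfl⟩]
      · rintro rfl
        omega
      · rintro rfl
        omega
      · rintro rfl
        omega
  have hsum : ∀ (R : Type) [AddCommMonoid R] (F : IrrCharacter G → R), ∑ χ, F χ = F (oneIrr G) + (F α + ((F b₁ + (F b₂ + F b₃)) +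
      ((F θ₁ + F θ₂) + (F ξ₁ + (F ξ₂ + F ξ₃))))) := by
    intro R _ F
    rw [D.sum_decomp F, hαe, hBe, hYe, ← hZe, Finset.sum_singleton,
      Finset.sum_insert (by simp [h12, h13]), Finset.sum_insert (by simpa using h23), Finset.sum_singleton,
      Finset.sum_insert (by simpa using hθne), Finset.sum_singleton,
      Finset.sum_insert (by
        simp only [Finset.mem_insert, Finset.mem_singleton, not_or]
        constructor <;> rintro rfl <;> omega),
      Finset.sum_insert (by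
        simp only [Finset.mem_singleton]
        rintro rfl
        omega), Finset.sum_singleton]
  have dα : charDegree (α : G → ℂ) = 45 := hA α (by rw [hαe]; simp)
  have db₁ : charDegree (b₁ : G → ℂ) = 10 := hB b₁ (by rw [hBe]; simp)
  have db₂ : charDegree (b₂ : G → ℂ) = 10 := hB b₂ (by rw [hBe]; simp)
  have db₃ : charDegree (b₃ : G → ℂ) = 10 := hB b₃ (by rw [hBe]; simp)
  have dθ₁ : charDegree (θ₁ : G → ℂ) = 16 := hY θ₁ (by rw [hYe]; simp)
  have dθ₂ : charDegree (θ₂ : G → ℂ) = 16 := hY θ₂ (by rw [hYe]; simp)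
  -- the values at `z`
  have hw := hsum ℤ (fun χ => (w χ) ^ 2)
  rw [hw3, w_one w hw1] at hw
  have h5θ₁ := hw2 θ₁
  have h5θ₂ := hw2 θ₂
  have h5ξ₁ := hw2 ξ₁
  have h5ξ₂ := hw2 ξ₂
  rw [dθ₁] at h5θ₁
  rw [dθ₂] at h5θ₂
  rw [hξ₁] at h5ξ₁
  rw [hξ₂] at h5ξ₂
  have hne := sq_ge_one_aux
  have p1 := hne (w θ₁) (by push_cast at h5θ₁; omega)
  have p2 := hne (w θ₂) (by push_cast at h5θ₂; omega)
  have p3 := hne (w ξ₁) (by push_cast at h5ξ₁; omega)
  have p4 := hne (w ξ₂) (by push_cast at h5ξ₂; omega)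
  have n1 := sq_nonneg (w α)
  have n2 := sq_nonneg (w b₁)
  have n3 := sq_nonneg (w b₂)
  have n4 := sq_nonneg (w b₃)
  have n5 := sq_nonneg (w ξ₃)
  have hsq0 := sq_zero_aux
  have hsq1 := sq_one_aux
  have wα := hsq0 (w α) (by omega)
  have wb₁ := hsq0 (w b₁) (by omega)
  have wb₂ := hsq0 (w b₂) (by omega)
  have wb₃ := hsq0 (w b₃) (by omega)
  have wξ₃ := hsq0 (w ξ₃) (by omega)
  have wξ₁ : w ξ₁ = 1 := by
    have := hsq1 (w ξ₁) (by omega)
    push_cast at h5ξ₁
    omega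
  have wξ₂ : w ξ₂ = -1 := by
    have := hsq1 (w ξ₂) (by omega)
    push_cast at h5ξ₂
    omega
  -- the values at `t`
  choose v hv hv2 using exists_val (G := G) ht
  have h2t : (2 : ℕ) ∣ orderOf t := by rw [ht]
  have vθ₁ : v θ₁ = 0 := by
    have := vanish2 hG θ₁ (by rw [dθ₁]) h2t
    rw [hv] at this
    exact_mod_cast this
  have vθ₂ : v θ₂ = 0 := by
    have := vanish2 hG θ₂ (by rw [dθ₂]) h2t
    rw [hv] at this
    exact_mod_cast this
  have vone : v (oneIrr G) = 1 := by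
    have h1 := hv (oneIrr G)
    have h2 : ((oneIrr G : IrrCharacter G) : G → ℂ) t = 1 := rfl
    rw [h2] at h1
    exact_mod_cast h1.symm
  have ht1 : t ≠ 1 := by
    intro h0
    rw [h0, orderOf_one] at ht
    omega
  have ede : ∀ χ : IrrCharacter G, (χ : G → ℂ) 1 = (charDegree (χ : G → ℂ) : ℂ) :=
    fun χ => apply_one_eq_charDegree (IsIrrCharacter.isCharacter χ.2)
  -- column of `1`
  have R1 : 1 + 45 * v α + (10 * v b₁ + (10 * v b₂ + 10 * v b₃)) + (11 * v ξ₁ + (44 * v ξ₂ + 55 * v ξ₃)) = 0 := by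
    have h1 := sum_irr_degree_mul_apply t
    rw [if_neg ht1, hsum ℂ] at h1
    simp only [ede, hv, dα, db₁, db₂, db₃, dθ₁, dθ₂, hξ₁, hξ₂, hξ₃, vθ₁, vθ₂, deg_oneIrr, vone] at h1
    have h2 : ((1 + 45 * v α + (10 * v b₁ + (10 * v b₂ + 10 * v b₃)) + (11 * v ξ₁ + (44 * v ξ₂ + 55 * v ξ₃)) : ℤ) : ℂ) = ((0 : ℤ) : ℂ) := by
      push_cast
      push_cast at h1
      linear_combination h1
    exact_mod_cast h2
  -- the relation at `t`
  have R2 : v b₁ + v b₂ + v b₃ = 1 + v α := by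
    have h1 := D.rel θ₁ (by rw [hYe]; simp) t (by rw [ht]; norm_num)
    rw [hαe, hBe, Finset.sum_singleton, Finset.sum_insert (by simp [h12, h13]), Finset.sum_insert (by simpa using h23),
      Finset.sum_singleton, hε] at h1
    simp only [hv, vθ₁] at h1
    have h2 : ((v b₁ + v b₂ + v b₃ : ℤ) : ℂ) = ((1 + v α : ℤ) : ℂ) := by
      push_cast
      push_cast at h1
      linear_combination h1
    exact_mod_cast h2
  -- column of `z`
  have R3 : v ξ₂ = 1 + v ξ₁ := by
    have h1 := sum_irr_mul_conj z t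
    rw [if_neg (not_isConj_of_order hz ht), hsum ℂ] at h1
    simp only [hw1, hv, map_intCast, w_one w hw1, wα, wb₁, wb₂, wb₃, wξ₁, wξ₂, wξ₃, vone, vθ₁, vθ₂] at h1
    have h2 : ((v ξ₂ : ℤ) : ℂ) = ((1 + v ξ₁ : ℤ) : ℂ) := by
      push_cast
      push_cast at h1
      linear_combination -h1
    exact_mod_cast h2
  -- the norm
  have R4 : (Nat.card (centralizer ({t} : Set G)) : ℤ) = 1 + v α ^ 2 + (v b₁ ^ 2 + v b₂ ^ 2 + v b₃ ^ 2) + (v ξ₁ ^ 2 + v ξ₂ ^ 2 + v ξ₃ ^ 2) := by
    have h1 := sum_irr_mul_conj_of_isConj (IsConj.refl t)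
    rw [hsum ℂ] at h1
    simp only [hv, map_intCast, vone, vθ₁, vθ₂] at h1
    have h2 : (((Nat.card (centralizer ({t} : Set G)) : ℕ) : ℤ) : ℂ) = ((1 + v α ^ 2 + (v b₁ ^ 2 + v b₂ ^ 2 + v b₃ ^ 2) + (v ξ₁ ^ 2 + v ξ₂ ^ 2 + v ξ₃ ^ 2) : ℤ) : ℂ) := by
      push_cast
      push_cast at h1
      rw [← h1]
      ring
    exact_mod_cast h2
  refine ⟨v b₁, v b₂, v b₃, v ξ₁, v ξ₂, v α, v ξ₃, R4, R2, R3, by omega, α, dα, hv α, ?_⟩
  have := hv2 α
  rw [dα] at this
  exact_mod_cast this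

/-- The numerical contradiction. -/
theorem num_ge (a b c e f g h : ℤ) (h1 : a + b + c = 1 + g) (h2 : f = 1 + e) (h3 : h = -1 - g - e) (h9 : (9 : ℤ) ∣ g) (hodd : (2 : ℤ) ∣ 45 + g) :
    144 < 1 + g ^ 2 + (a ^ 2 + b ^ 2 + c ^ 2) + (e ^ 2 + f ^ 2 + h ^ 2) := by
  by_contra hle
  push Not at hle
  subst h2
  subst h3
  have hq : 0 ≤ a ^ 2 + b ^ 2 + c ^ 2 := by positivity
  have hq2 : 0 ≤ e ^ 2 + (1 + e) ^ 2 + (-1 - g - e) ^ 2 := by positivity
  have hg : g ^ 2 ≤ 143 := by linarith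
  have hg1 : g ≤ 11 := by nlinarith
  have hg2 : -11 ≤ g := by nlinarith
  have hcases : g = 9 ∨ g = -9 := by omega
  have hc : c = 1 + g - a - b := by linarith
  subst hc
  rcases hcases with rfl | rfl
  · nlinarith [sq_nonneg (a - b), sq_nonneg (3 * a - 10), sq_nonneg (3 * b - 10), sq_nonneg (3 * e + 11)]
  · nlinarith [sq_nonneg (a - b), sq_nonneg (3 * a + 8), sq_nonneg (3 * b + 8), sq_nonneg (3 * e - 7)]

/-- The number of involutions is small. -/
theorem card_invol_le (hG : Nat.card G = 7920) : Nat.card {u : G // u * u = 1} ≤ 218 := by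
  classical
  choose ν hν hν3 using Cfsg.Agent.S4477.exists_nu (G := G)
  have h1 := sum_fsInd_mul_apply (1 : G)
  have hsum : (Nat.card {u : G // u * u = 1} : ℤ) = ∑ χ : IrrCharacter G, ν χ * charDegree (χ : G → ℂ) := by
    have h2 : ((Nat.card {u : G // u * u = 1} : ℤ) : ℂ) = ((∑ χ : IrrCharacter G, ν χ * charDegree (χ : G → ℂ) : ℤ) : ℂ) := by
      push_cast
      have h3 : sqrtCount (1 : G) = (Nat.card {u : G // u * u = 1} : ℂ) := rfl
      rw [← h3, ← h1]
      refine Finset.sum_congr rfl fun χ _ => ?_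
      rw [hν χ, apply_one_eq_charDegree (IsIrrCharacter.isCharacter χ.2)]
    exact_mod_cast h2
  have hd := sum_deg hG (fun n => n)
  have hle : ∑ χ : IrrCharacter G, ν χ * charDegree (χ : G → ℂ) ≤ ∑ χ : IrrCharacter G, (charDegree (χ : G → ℂ) : ℤ) := by
    apply Finset.sum_le_sum
    intro χ _
    have h3 : ν χ ≤ 1 := by
      have := hν3 χ
      omega
    have h4 : (0 : ℤ) ≤ charDegree (χ : G → ℂ) := by positivity
    nlinarith
  rw [← hsum] at hle
  have h5 : (∑ χ : IrrCharacter G, (charDegree (χ : G → ℂ) : ℤ)) = 218 := by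
    rw [← Nat.cast_sum, hd]
    norm_num
  rw [h5] at hle
  exact_mod_cast hle

end

/-- Involution centralisers in a simple group of order 7920 have order 48. -/
theorem result {G : Type*} [Group G] [Finite G] (hG : Cfsg.IsM11 G) (x : G) (hx : orderOf x = 2) : Nat.card (Subgroup.centralizer ({x} : Set G)) = 48 := by
  classical
  letI : Fintype G := Fintype.ofFinite G
  obtain ⟨hS, hG'⟩ := hG
  haveI := hS
  obtain ⟨a, b, c, e, f, g, h, hN, h1, h2, h3, α, dα, hαt, hodd⟩ := col_eqs hG' hx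
  obtain ⟨hz5, hy11⟩ := small_centralizers hG'
  obtain ⟨S, hSd⟩ : ∃ S, Nat.card (centralizer ({x} : Set G)) = S := ⟨_, rfl⟩
  obtain ⟨K, hK⟩ : ∃ K, (centralizer ({x} : Set G)).index = K := ⟨_, rfl⟩
  have hSK : S * K = 7920 := by
    rw [← hK, ← hSd, Subgroup.card_mul_index, hG']
  -- the bound from the number of involutions
  have hKle : K ≤ 218 := by
    have hc := card_conj_mul_card_centralizer x
    rw [hG', hSd] at hc
    have hKe : Nat.card {y : G // IsConj x y} = K := by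
      have h4 : Nat.card {y : G // IsConj x y} * S = K * S := by
        rw [hc, mul_comm K, hSK]
      have hS0 : 0 < S := by
        rw [← hSd]
        exact Nat.card_pos
      exact Nat.eq_of_mul_eq_mul_right hS0 h4
    rw [← hKe]
    refine le_trans (Nat.card_le_card_of_injective (fun y : {y : G // IsConj x y} => (⟨y.1, ?_⟩ : {u : G // u * u = 1})) ?_) (card_invol_le hG')
    · obtain ⟨d, hd⟩ := isConj_iff.mp y.2
      have hx2 : x * x = 1 := by
        have := pow_orderOf_eq_one x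
        rwa [hx, pow_two] at this
      rw [← hd]
      calc d * x * d⁻¹ * (d * x * d⁻¹) = d * (x * x) * d⁻¹ := by group
        _ = 1 := by rw [hx2]; group
    · intro y y' hyy
      exact Subtype.ext (congrArg (fun u : {u : G // u * u = 1} => (u : G)) hyy)
  have hS37 : 37 ≤ S := by
    by_contra hlt
    have : S ≤ 36 := by omega
    nlinarith
  -- the primes `5`, `11`
  have hcomm : ∀ y : centralizer ({x} : Set G), x * (y : G) = y * x := fun y => mem_centralizer_iff.mp y.2 x rfl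
  have hmem : ∀ y : centralizer ({x} : Set G), x ∈ centralizer ({(y : G)} : Set G) := by
    intro y
    rw [mem_centralizer_iff]
    intro w hw
    rw [Set.mem_singleton_iff.mp hw]
    exact (hcomm y).symm
  have hord : ∀ {q : ℕ}, ∀ y : centralizer ({x} : Set G), Nat.card (centralizer ({(y : G)} : Set G)) = q → 2 ∣ q := by
    intro q y hq
    have h4 := orderOf_dvd_natCard (⟨x, hmem y⟩ : centralizer ({(y : G)} : Set G))
    rw [Subgroup.orderOf_mk, hx, hq] at h4
    exact h4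
  have hS5 : ¬ 5 ∣ S := by
    intro h5
    obtain ⟨y, hy⟩ := exists_prime_orderOf_dvd_card' (G := centralizer ({x} : Set G)) 5 (by rw [hSd]; exact h5)
    have := hord y (hz5 y (by rw [Subgroup.orderOf_coe]; exact hy))
    omega
  have hS11 : ¬ 11 ∣ S := by
    intro h11
    obtain ⟨y, hy⟩ := exists_prime_orderOf_dvd_card' (G := centralizer ({x} : Set G)) 11 (by rw [hSd]; exact h11)
    have := hord y (hy11 y (by rw [Subgroup.orderOf_coe]; exact hy))
    omega
  have hS144 : S ∣ 144 := by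
    have hc : Nat.Coprime S 55 := by
      have h5 : Nat.Coprime S 5 := ((Nat.Prime.coprime_iff_not_dvd (by norm_num)).mpr hS5).symm
      have h11 : Nat.Coprime S 11 := ((Nat.Prime.coprime_iff_not_dvd (by norm_num)).mpr hS11).symm
      exact Nat.Coprime.mul_right h5 h11
    have hd : S ∣ 144 * 55 := ⟨K, by omega⟩
    exact hc.dvd_of_dvd_mul_right hd
  have hle144 : S ≤ 144 := Nat.le_of_dvd (by norm_num) hS144
  rw [hSd]
  -- divisibility from the central character
  have hint : (45 : ℤ) ∣ (K : ℤ) * g := by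
    have h4 := isIntegral_centralChar α x
    have h5 : centralChar (α : G → ℂ) x = algebraMap ℚ ℂ (((K : ℚ) * (g : ℚ)) / 45) := by
      unfold centralChar
      rw [hK, apply_one_eq_charDegree (IsIrrCharacter.isCharacter α.2), dα, hαt, map_div₀, map_mul]
      simp
    rw [h5] at h4
    have h6 := (isIntegral_algebraMap_iff (algebraMap ℚ ℂ).injective).mp h4
    obtain ⟨k, hk⟩ := IsIntegrallyClosed.isIntegral_iff.mp h6
    have hk' : ((k : ℤ) : ℚ) = ((K : ℚ) * (g : ℚ)) / 45 := hk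
    have h7 : (45 : ℤ) * k = (K : ℤ) * g := by
      have : (45 : ℚ) * (k : ℚ) = (K : ℚ) * (g : ℚ) := by
        rw [hk']
        ring
      exact_mod_cast this
    exact ⟨k, h7.symm⟩
  have hcases : S = 48 ∨ S = 72 ∨ S = 144 := by
    interval_cases S <;> first | omega | (exfalso; revert hS144; decide)
  rcases hcases with h48 | h72 | h144
  · exact h48
  · exfalso
    have hK110 : K = 110 := by
      rw [h72] at hSK
      omega
    rw [hK110] at hint
    have h9 : (9 : ℤ) ∣ g := by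
      push_cast at hint
      omega
    have := num_ge a b c e f g h h1 h2 h3 h9 hodd
    rw [← hN, hSd, h72] at this
    norm_num at this
  · exfalso
    have hK55 : K = 55 := by
      rw [h144] at hSK
      omega
    rw [hK55] at hint
    have h9 : (9 : ℤ) ∣ g := by
      push_cast at hint
      omega
    have := num_ge a b c e f g h h1 h2 h3 h9 hodd
    rw [← hN, hSd, h144] at this
    norm_num at this

end Cfsg.Agent.S0435
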