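import Cfsg.Statements.S0493
import Mathlib
import Cfsg.Agent.Lib.Small.Sweep

set_option autoImplicit false
open Cfsg

namespace Cfsg.Agent.S0493

/-- A finite simple group of order at most 100 that is not cyclic has order 60. -/
theorem result {G : Type*} [Group G] [Finite G] [IsSimpleGroup G]
    (hG : ¬ IsCyclic G) (h : Nat.card G ≤ 100) : Nat.card G = 60 := by
  have hnc : ¬ IsMulCommutative G := by
    intro hc
    apply hG
    letI : CommGroup G := { (inferInstance : Group G) with mul_comm := hc.is_comm.comm }
    exact IsSimpleGroup.isCyclic
  have hall : (List.range 101).all (fun g => (g == 60) || Cfsg.Agent.Lib.Small.sweepAt g) = true := by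
    decide +kernel
  rw [List.all_eq_true] at hall
  have h1 := hall (Nat.card G) (List.mem_range.mpr (by omega))
  rw [Bool.or_eq_true, beq_iff_eq] at h1
  rcases h1 with h1 | h1
  · exact h1
  · exact (Cfsg.Agent.Lib.Small.false_of_sweepAt hnc h1).elim

end Cfsg.Agent.S0493
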