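import Cfsg.Statements.S0647
import Mathlib
import Cfsg.Agent.Lib.PLocal.Thompson

set_option autoImplicit false
open Cfsg

namespace Cfsg.Agent.S0647

/-- For a nonempty family of maximal abelian subgroups of a finite group, the intersection of the family is the centre of the subgroup it generates, which is also the full centralizer of that subgroup. -/
theorem result {S : Type*} [Group S] [Finite S] (𝒜 : Set (Subgroup S)) (hne : 𝒜.Nonempty) (hab : ∀ A ∈ 𝒜, IsMulCommutative A) (hmax : ∀ A ∈ 𝒜, ∀ B : Subgroup S, IsMulCommutative B → A ≤ B → B = A) : sInf 𝒜 = sSup 𝒜 ⊓ Subgroup.centralizer ((sSup 𝒜 : Subgroup S) : Set S) ∧ sInf 𝒜 = Subgroup.centralizer ((sSup 𝒜 : Subgroup S) : Set S) := by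
  have hI : ∀ x ∈ sInf 𝒜, ∀ A ∈ 𝒜, x ∈ A := by
    intro x hx A hA
    exact (sInf_le hA) hx
  have h1 : Subgroup.centralizer ((sSup 𝒜 : Subgroup S) : Set S) ≤ sInf 𝒜 := by
    intro x hx
    rw [Subgroup.mem_sInf]
    intro A hA
    have hxA : x ∈ Subgroup.centralizer (A : Set S) :=
      Subgroup.centralizer_le (show (A : Set S) ⊆ ((sSup 𝒜 : Subgroup S) : Set S) from le_sSup hA) hx
    have hAc : ∀ a ∈ A, ∀ b ∈ A, a * b = b * a := fun a ha b hb =>
      congrArg (Subtype.val : ↥A → S) ((hab A hA).is_comm.comm (⟨a, ha⟩ : A) ⟨b, hb⟩)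
    have hsc := Cfsg.Agent.Lib.PLocal.comm_sup (B := Subgroup.zpowers x) hAc
      (fun a ha b hb => by
        obtain ⟨i, rfl⟩ := Subgroup.mem_zpowers_iff.mp ha
        obtain ⟨j, rfl⟩ := Subgroup.mem_zpowers_iff.mp hb
        exact (Commute.refl x).zpow_zpow i j)
      (fun a ha b hb => by
        obtain ⟨i, rfl⟩ := Subgroup.mem_zpowers_iff.mp hb
        exact ((show Commute a x from (Subgroup.mem_centralizer_iff.mp hxA a ha)).zpow_right i).eq)
    have h2 : IsMulCommutative ↥(A ⊔ Subgroup.zpowers x) :=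
      ⟨⟨fun a b => Subtype.ext (hsc a a.2 b b.2)⟩⟩
    have h3 := hmax A hA _ h2 le_sup_left
    rw [← h3]
    exact Subgroup.mem_sup_right (Subgroup.mem_zpowers x)
  have h2 : sInf 𝒜 ≤ Subgroup.centralizer ((sSup 𝒜 : Subgroup S) : Set S) := by
    intro x hx
    have hle : sSup 𝒜 ≤ Subgroup.centralizer ({x} : Set S) := by
      refine sSup_le fun A hA => ?_
      intro a ha
      rw [Subgroup.mem_centralizer_iff]
      intro y hy
      rw [show y = x from hy]
      have := (hab A hA).is_comm.comm (⟨x, hI x hx A hA⟩ : A) ⟨a, ha⟩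
      exact congrArg (Subtype.val : ↥A → S) this
    rw [Subgroup.mem_centralizer_iff]
    intro j hj
    exact ((Subgroup.mem_centralizer_iff.mp (hle hj)) x rfl).symm
  have h3 : sInf 𝒜 ≤ sSup 𝒜 := by
    obtain ⟨A, hA⟩ := hne
    exact (sInf_le hA).trans (le_sSup hA)
  constructor
  · apply le_antisymm (le_inf h3 h2)
    exact inf_le_right.trans h1
  · exact le_antisymm h2 h1

end Cfsg.Agent.S0647
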