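import Cfsg.Statements.S0649
import Mathlib
import Cfsg.Agent.Lib.Transfer.Frobenius

set_option autoImplicit false
open Cfsg

namespace Cfsg.Agent.S0649

/-- In the Glauberman replacement situation, if B does not normalize A then some element of B normalizes N_S(A) without normalizing A. -/
theorem result {S : Type*} [Group S] [Finite S] {p : ℕ} [Fact p.Prime] (hS : IsPGroup p S) (B : Subgroup S) [B.Normal] (hB2 : p = 2 → IsMulCommutative B) (A : Subgroup S) (hA : IsMulCommutative A) (hBA : ⁅B, B⁆ ≤ A) (hnot : ¬ B ≤ Subgroup.normalizer (A : Set S)) : ∃ b ∈ B, b ∈ Subgroup.normalizer ((Subgroup.normalizer (A : Set S)) : Set S) ∧ b ∉ Subgroup.normalizer (A : Set S) := by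
  set M := Subgroup.normalizer (A : Set S) with hM
  have hne : M ≠ M ⊔ B := by
    intro h
    exact hnot (le_sup_right.trans h.symm.le)
  obtain ⟨x, hx, hxN, hxM⟩ := Cfsg.Agent.Lib.Transfer.exists_mem_normalizer_of_ne (p := p) (M ⊔ B) M
    (hS.to_subgroup _) le_sup_left hne
  obtain ⟨m, hm, b, hb, rfl⟩ := Subgroup.mem_sup_of_normal_right.mp hx
  refine ⟨b, hb, ?_, ?_⟩
  · have h1 : b = m⁻¹ * (m * b) := by group
    rw [h1]
    have hmN : m ∈ Subgroup.normalizer (M : Set S) := Subgroup.le_normalizer hm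
    exact mul_mem (inv_mem hmN) hxN
  · intro hbM
    exact hxM (M.mul_mem hm hbM)

end Cfsg.Agent.S0649
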