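import Cfsg.Statements.S0721
import Cfsg.Agent.Lib.Perm.MinNormalPower
import Mathlib

set_option autoImplicit false
open Cfsg

namespace Cfsg.Agent.S0721

/-- A minimal normal subgroup of a finite group is isomorphic to a direct power `T ^ m` of a simple group `T` (possibly of prime order). -/
theorem result {H : Type*} [Group H] [Finite H] (N : Subgroup H) [N.Normal] (hN : N ≠ ⊥) (hmin : ∀ M : Subgroup H, M.Normal → M ≤ N → M = ⊥ ∨ M = N) : ∃ (T : Type) (_ : Group T) (m : ℕ), IsSimpleGroup T ∧ 0 < m ∧ Nonempty (N ≃* (Fin m → T)) := by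
  haveI : Nontrivial N := (Subgroup.nontrivial_iff_ne_bot _).mpr hN
  refine Cfsg.Agent.Lib.Perm.exists_power_of_no_invariant (MulAut.conjNormal (G := H) (H := N)) ?_
  intro K hK _ hinv
  set K' : Subgroup H := K.map N.subtype with hK'
  have hK'le : K' ≤ N := by
    rintro _ ⟨y, _, rfl⟩
    exact y.2
  have hnorm : K'.Normal := by
    constructor
    rintro _ ⟨y, hy, rfl⟩ g
    have h1 := hinv g (Subgroup.mem_map_of_mem _ hy)
    refine ⟨_, h1, ?_⟩
    simp [MulAut.conjNormal_apply]
  rcases hmin K' hnorm hK'le with h | h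
  · exfalso
    apply hK
    rw [eq_bot_iff]
    intro u hu
    have : (u : H) ∈ K' := ⟨u, hu, rfl⟩
    rw [h, Subgroup.mem_bot] at this
    rw [Subgroup.mem_bot]
    exact Subtype.ext this
  · rw [eq_top_iff]
    intro u _
    have : (u : H) ∈ K' := by rw [h]; exact u.2
    obtain ⟨v, hv, huv⟩ := this
    have : v = u := Subtype.ext huv
    rwa [← this]

end Cfsg.Agent.S0721
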