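-- S0983: a non-abelian simple group of order in (3640, 6232].
import Cfsg.Statements.S0983
import Mathlib
import Cfsg.Agent.Lib.R6232.Five4
import Cfsg.Agent.Lib.R6232.Fast
import Cfsg.Agent.S0144
import Cfsg.Agent.S0974
import Cfsg.Agent.S0975
import Cfsg.Agent.S0976
import Cfsg.Agent.S0977
import Cfsg.Agent.S0978
import Cfsg.Agent.S0979
import Cfsg.Agent.S0980

set_option autoImplicit false
open Cfsg

namespace Cfsg.Agent.S0983

theorem no_3672 {G : Type*} [Group G] [Finite G] [IsSimpleGroup G] (h : Nat.card G = 3672) : False := by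
  haveI := Fintype.ofFinite G
  haveI hp : Fact (Nat.Prime 17) := ⟨by norm_num⟩
  exact Cfsg.Agent.Lib.R6232.false_of_opts (p := 17) (N := 216) (by rw [h]) (by norm_num) (by norm_num) (by norm_num) (by decide +kernel)

theorem no_3696 {G : Type*} [Group G] [Finite G] [IsSimpleGroup G] (h : Nat.card G = 3696) : False := by
  haveI := Fintype.ofFinite G
  haveI hp : Fact (Nat.Prime 11) := ⟨by norm_num⟩
  exact Cfsg.Agent.Lib.R6232.false_of_opts (p := 11) (N := 336) (by rw [h]) (by norm_num) (by norm_num) (by norm_num) (by decide +kernel)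

theorem no_3780 {G : Type*} [Group G] [Finite G] [IsSimpleGroup G] (h : Nat.card G = 3780) : False := by
  haveI := Fintype.ofFinite G
  haveI hp : Fact (Nat.Prime 7) := ⟨by norm_num⟩
  exact Cfsg.Agent.Lib.R6232.false_of_opts (p := 7) (N := 540) (by rw [h]) (by norm_num) (by norm_num) (by norm_num) (by decide +kernel)

theorem no_3800 {G : Type*} [Group G] [Finite G] [IsSimpleGroup G] (h : Nat.card G = 3800) : False := by
  haveI := Fintype.ofFinite G
  haveI hp : Fact (Nat.Prime 19) := ⟨by norm_num⟩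
  exact Cfsg.Agent.Lib.R6232.false_of_opts (p := 19) (N := 200) (by rw [h]) (by norm_num) (by norm_num) (by norm_num) (by decide +kernel)

theorem no_3840 {G : Type*} [Group G] [Finite G] [IsSimpleGroup G] (h : Nat.card G = 3840) : False := by
  haveI := Fintype.ofFinite G
  haveI hp : Fact (Nat.Prime 5) := ⟨by norm_num⟩
  exact Cfsg.Agent.Lib.R6232.false_of_opts (p := 5) (N := 768) (by rw [h]) (by norm_num) (by norm_num) (by norm_num) (by decide +kernel)

theorem no_3960 {G : Type*} [Group G] [Finite G] [IsSimpleGroup G] (h : Nat.card G = 3960) : False := by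
  haveI := Fintype.ofFinite G
  haveI hp : Fact (Nat.Prime 11) := ⟨by norm_num⟩
  exact Cfsg.Agent.Lib.R6232.false_of_opts (p := 11) (N := 360) (by rw [h]) (by norm_num) (by norm_num) (by norm_num) (by decide +kernel)

theorem no_4160 {G : Type*} [Group G] [Finite G] [IsSimpleGroup G] (h : Nat.card G = 4160) : False := by
  haveI := Fintype.ofFinite G
  haveI hp : Fact (Nat.Prime 5) := ⟨by norm_num⟩
  exact Cfsg.Agent.Lib.R6232.false_of_opts (p := 5) (N := 832) (by rw [h]) (by norm_num) (by norm_num) (by norm_num) (by decide +kernel)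

theorem no_4200 {G : Type*} [Group G] [Finite G] [IsSimpleGroup G] (h : Nat.card G = 4200) : False := by
  haveI := Fintype.ofFinite G
  haveI hp : Fact (Nat.Prime 7) := ⟨by norm_num⟩
  exact Cfsg.Agent.Lib.R6232.false_of_opts (p := 7) (N := 600) (by rw [h]) (by norm_num) (by norm_num) (by norm_num) (by decide +kernel)

theorem no_4224 {G : Type*} [Group G] [Finite G] [IsSimpleGroup G] (h : Nat.card G = 4224) : False := by
  haveI := Fintype.ofFinite G
  haveI hp : Fact (Nat.Prime 11) := ⟨by norm_num⟩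
  exact Cfsg.Agent.Lib.R6232.false_of_opts (p := 11) (N := 384) (by rw [h]) (by norm_num) (by norm_num) (by norm_num) (by decide +kernel)

theorem no_4284 {G : Type*} [Group G] [Finite G] [IsSimpleGroup G] (h : Nat.card G = 4284) : False := by
  haveI := Fintype.ofFinite G
  haveI hp : Fact (Nat.Prime 17) := ⟨by norm_num⟩
  exact Cfsg.Agent.Lib.R6232.false_of_opts (p := 17) (N := 252) (by rw [h]) (by norm_num) (by norm_num) (by norm_num) (by decide +kernel)

theorem no_4368 {G : Type*} [Group G] [Finite G] [IsSimpleGroup G] (h : Nat.card G = 4368) : False := by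
  haveI := Fintype.ofFinite G
  haveI hp : Fact (Nat.Prime 13) := ⟨by norm_num⟩
  exact Cfsg.Agent.Lib.R6232.false_of_opts (p := 13) (N := 336) (by rw [h]) (by norm_num) (by norm_num) (by norm_num) (by decide +kernel)

theorem no_4400 {G : Type*} [Group G] [Finite G] [IsSimpleGroup G] (h : Nat.card G = 4400) : False := by
  haveI := Fintype.ofFinite G
  haveI hp : Fact (Nat.Prime 11) := ⟨by norm_num⟩
  exact Cfsg.Agent.Lib.R6232.false_of_opts (p := 11) (N := 400) (by rw [h]) (by norm_num) (by norm_num) (by norm_num) (by decide +kernel)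

theorem no_4416 {G : Type*} [Group G] [Finite G] [IsSimpleGroup G] (h : Nat.card G = 4416) : False := by
  haveI := Fintype.ofFinite G
  haveI hp : Fact (Nat.Prime 23) := ⟨by norm_num⟩
  exact Cfsg.Agent.Lib.R6232.false_of_opts (p := 23) (N := 192) (by rw [h]) (by norm_num) (by norm_num) (by norm_num) (by decide +kernel)

theorem no_4480 {G : Type*} [Group G] [Finite G] [IsSimpleGroup G] (h : Nat.card G = 4480) : False := by
  haveI := Fintype.ofFinite G
  haveI hp : Fact (Nat.Prime 7) := ⟨by norm_num⟩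
  exact Cfsg.Agent.Lib.R6232.false_of_opts (p := 7) (N := 640) (by rw [h]) (by norm_num) (by norm_num) (by norm_num) (by decide +kernel)

theorem no_4512 {G : Type*} [Group G] [Finite G] [IsSimpleGroup G] (h : Nat.card G = 4512) : False := by
  haveI := Fintype.ofFinite G
  haveI hp : Fact (Nat.Prime 47) := ⟨by norm_num⟩
  exact Cfsg.Agent.Lib.R6232.false_of_opts (p := 47) (N := 96) (by rw [h]) (by norm_num) (by norm_num) (by norm_num) (by decide +kernel)

theorem no_4536 {G : Type*} [Group G] [Finite G] [IsSimpleGroup G] (h : Nat.card G = 4536) : False := by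
  haveI := Fintype.ofFinite G
  haveI hp : Fact (Nat.Prime 7) := ⟨by norm_num⟩
  exact Cfsg.Agent.Lib.R6232.false_of_opts (p := 7) (N := 648) (by rw [h]) (by norm_num) (by norm_num) (by norm_num) (by decide +kernel)

theorem no_4560 {G : Type*} [Group G] [Finite G] [IsSimpleGroup G] (h : Nat.card G = 4560) : False := by
  haveI := Fintype.ofFinite G
  haveI hp : Fact (Nat.Prime 19) := ⟨by norm_num⟩
  exact Cfsg.Agent.Lib.R6232.false_of_opts (p := 19) (N := 240) (by rw [h]) (by norm_num) (by norm_num) (by norm_num) (by decide +kernel)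

theorem no_4680 {G : Type*} [Group G] [Finite G] [IsSimpleGroup G] (h : Nat.card G = 4680) : False := by
  haveI := Fintype.ofFinite G
  haveI hp : Fact (Nat.Prime 13) := ⟨by norm_num⟩
  exact Cfsg.Agent.Lib.R6232.false_of_opts (p := 13) (N := 360) (by rw [h]) (by norm_num) (by norm_num) (by norm_num) (by decide +kernel)

theorem no_4725 {G : Type*} [Group G] [Finite G] [IsSimpleGroup G] (h : Nat.card G = 4725) : False := by
  haveI := Fintype.ofFinite G
  haveI hp : Fact (Nat.Prime 7) := ⟨by norm_num⟩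
  exact Cfsg.Agent.Lib.R6232.false_of_opts (p := 7) (N := 675) (by rw [h]) (by norm_num) (by norm_num) (by norm_num) (by decide +kernel)

theorem no_4752 {G : Type*} [Group G] [Finite G] [IsSimpleGroup G] (h : Nat.card G = 4752) : False := by
  haveI := Fintype.ofFinite G
  haveI hp : Fact (Nat.Prime 11) := ⟨by norm_num⟩
  exact Cfsg.Agent.Lib.R6232.false_of_opts (p := 11) (N := 432) (by rw [h]) (by norm_num) (by norm_num) (by norm_num) (by decide +kernel)

theorem no_4760 {G : Type*} [Group G] [Finite G] [IsSimpleGroup G] (h : Nat.card G = 4760) : False := by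
  haveI := Fintype.ofFinite G
  haveI hp : Fact (Nat.Prime 7) := ⟨by norm_num⟩
  exact Cfsg.Agent.Lib.R6232.false_of_opts (p := 7) (N := 680) (by rw [h]) (by norm_num) (by norm_num) (by norm_num) (by decide +kernel)

theorem no_4800 {G : Type*} [Group G] [Finite G] [IsSimpleGroup G] (h : Nat.card G = 4800) : False := by
  haveI := Fintype.ofFinite G
  haveI hp : Fact (Nat.Prime 3) := ⟨by norm_num⟩
  exact Cfsg.Agent.Lib.R6232.false_of_opts (p := 3) (N := 1600) (by rw [h]) (by norm_num) (by norm_num) (by norm_num) (by decide +kernel)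

theorem no_4896 {G : Type*} [Group G] [Finite G] [IsSimpleGroup G] (h : Nat.card G = 4896) : False := by
  haveI := Fintype.ofFinite G
  haveI hp : Fact (Nat.Prime 17) := ⟨by norm_num⟩
  exact Cfsg.Agent.Lib.R6232.false_of_opts (p := 17) (N := 288) (by rw [h]) (by norm_num) (by norm_num) (by norm_num) (by decide +kernel)

theorem no_4928 {G : Type*} [Group G] [Finite G] [IsSimpleGroup G] (h : Nat.card G = 4928) : False := by
  haveI := Fintype.ofFinite G
  haveI hp : Fact (Nat.Prime 11) := ⟨by norm_num⟩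
  exact Cfsg.Agent.Lib.R6232.false_of_opts (p := 11) (N := 448) (by rw [h]) (by norm_num) (by norm_num) (by norm_num) (by decide +kernel)

theorem no_5104 {G : Type*} [Group G] [Finite G] [IsSimpleGroup G] (h : Nat.card G = 5104) : False := by
  haveI := Fintype.ofFinite G
  haveI hp : Fact (Nat.Prime 29) := ⟨by norm_num⟩
  exact Cfsg.Agent.Lib.R6232.false_of_opts (p := 29) (N := 176) (by rw [h]) (by norm_num) (by norm_num) (by norm_num) (by decide +kernel)

theorem no_5148 {G : Type*} [Group G] [Finite G] [IsSimpleGroup G] (h : Nat.card G = 5148) : False := by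
  haveI := Fintype.ofFinite G
  haveI hp : Fact (Nat.Prime 11) := ⟨by norm_num⟩
  exact Cfsg.Agent.Lib.R6232.false_of_opts (p := 11) (N := 468) (by rw [h]) (by norm_num) (by norm_num) (by norm_num) (by decide +kernel)

theorem no_5200 {G : Type*} [Group G] [Finite G] [IsSimpleGroup G] (h : Nat.card G = 5200) : False := by
  haveI := Fintype.ofFinite G
  haveI hp : Fact (Nat.Prime 13) := ⟨by norm_num⟩
  exact Cfsg.Agent.Lib.R6232.false_of_opts (p := 13) (N := 400) (by rw [h]) (by norm_num) (by norm_num) (by norm_num) (by decide +kernel)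

theorem no_5220 {G : Type*} [Group G] [Finite G] [IsSimpleGroup G] (h : Nat.card G = 5220) : False := by
  haveI := Fintype.ofFinite G
  haveI hp : Fact (Nat.Prime 29) := ⟨by norm_num⟩
  exact Cfsg.Agent.Lib.R6232.false_of_opts (p := 29) (N := 180) (by rw [h]) (by norm_num) (by norm_num) (by norm_num) (by decide +kernel)

theorem no_5236 {G : Type*} [Group G] [Finite G] [IsSimpleGroup G] (h : Nat.card G = 5236) : False := by
  haveI := Fintype.ofFinite G
  haveI hp : Fact (Nat.Prime 17) := ⟨by norm_num⟩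
  exact Cfsg.Agent.Lib.R6232.false_of_opts (p := 17) (N := 308) (by rw [h]) (by norm_num) (by norm_num) (by norm_num) (by decide +kernel)

theorem no_5280 {G : Type*} [Group G] [Finite G] [IsSimpleGroup G] (h : Nat.card G = 5280) : False := by
  haveI := Fintype.ofFinite G
  haveI hp : Fact (Nat.Prime 11) := ⟨by norm_num⟩
  exact Cfsg.Agent.Lib.R6232.false_of_opts (p := 11) (N := 480) (by rw [h]) (by norm_num) (by norm_num) (by norm_num) (by decide +kernel)

theorem no_5320 {G : Type*} [Group G] [Finite G] [IsSimpleGroup G] (h : Nat.card G = 5320) : False := by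
  haveI := Fintype.ofFinite G
  haveI hp : Fact (Nat.Prime 19) := ⟨by norm_num⟩
  exact Cfsg.Agent.Lib.R6232.false_of_opts (p := 19) (N := 280) (by rw [h]) (by norm_num) (by norm_num) (by norm_num) (by decide +kernel)

theorem no_5376 {G : Type*} [Group G] [Finite G] [IsSimpleGroup G] (h : Nat.card G = 5376) : False := by
  haveI := Fintype.ofFinite G
  haveI hp : Fact (Nat.Prime 7) := ⟨by norm_num⟩
  exact Cfsg.Agent.Lib.R6232.false_of_opts (p := 7) (N := 768) (by rw [h]) (by norm_num) (by norm_num) (by norm_num) (by decide +kernel)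

theorem no_5508 {G : Type*} [Group G] [Finite G] [IsSimpleGroup G] (h : Nat.card G = 5508) : False := by
  haveI := Fintype.ofFinite G
  haveI hp : Fact (Nat.Prime 17) := ⟨by norm_num⟩
  exact Cfsg.Agent.Lib.R6232.false_of_opts (p := 17) (N := 324) (by rw [h]) (by norm_num) (by norm_num) (by norm_num) (by decide +kernel)

theorem no_5520 {G : Type*} [Group G] [Finite G] [IsSimpleGroup G] (h : Nat.card G = 5520) : False := by
  haveI := Fintype.ofFinite G
  haveI hp : Fact (Nat.Prime 23) := ⟨by norm_num⟩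
  exact Cfsg.Agent.Lib.R6232.false_of_opts (p := 23) (N := 240) (by rw [h]) (by norm_num) (by norm_num) (by norm_num) (by decide +kernel)

theorem no_5544 {G : Type*} [Group G] [Finite G] [IsSimpleGroup G] (h : Nat.card G = 5544) : False := by
  haveI := Fintype.ofFinite G
  haveI hp : Fact (Nat.Prime 11) := ⟨by norm_num⟩
  exact Cfsg.Agent.Lib.R6232.false_of_opts (p := 11) (N := 504) (by rw [h]) (by norm_num) (by norm_num) (by norm_num) (by decide +kernel)

theorem no_5600 {G : Type*} [Group G] [Finite G] [IsSimpleGroup G] (h : Nat.card G = 5600) : False := by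
  haveI := Fintype.ofFinite G
  haveI hp : Fact (Nat.Prime 7) := ⟨by norm_num⟩
  exact Cfsg.Agent.Lib.R6232.false_of_opts (p := 7) (N := 800) (by rw [h]) (by norm_num) (by norm_num) (by norm_num) (by decide +kernel)

theorem no_5700 {G : Type*} [Group G] [Finite G] [IsSimpleGroup G] (h : Nat.card G = 5700) : False := by
  haveI := Fintype.ofFinite G
  haveI hp : Fact (Nat.Prime 19) := ⟨by norm_num⟩
  exact Cfsg.Agent.Lib.R6232.false_of_opts (p := 19) (N := 300) (by rw [h]) (by norm_num) (by norm_num) (by norm_num) (by decide +kernel)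

theorem no_5724 {G : Type*} [Group G] [Finite G] [IsSimpleGroup G] (h : Nat.card G = 5724) : False := by
  haveI := Fintype.ofFinite G
  haveI hp : Fact (Nat.Prime 53) := ⟨by norm_num⟩
  exact Cfsg.Agent.Lib.R6232.false_of_opts (p := 53) (N := 108) (by rw [h]) (by norm_num) (by norm_num) (by norm_num) (by decide +kernel)

theorem no_5852 {G : Type*} [Group G] [Finite G] [IsSimpleGroup G] (h : Nat.card G = 5852) : False := by
  haveI := Fintype.ofFinite G
  haveI hp : Fact (Nat.Prime 19) := ⟨by norm_num⟩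
  exact Cfsg.Agent.Lib.R6232.false_of_opts (p := 19) (N := 308) (by rw [h]) (by norm_num) (by norm_num) (by norm_num) (by decide +kernel)

theorem no_5880 {G : Type*} [Group G] [Finite G] [IsSimpleGroup G] (h : Nat.card G = 5880) : False := by
  haveI := Fintype.ofFinite G
  haveI hp : Fact (Nat.Prime 5) := ⟨by norm_num⟩
  exact Cfsg.Agent.Lib.R6232.false_of_opts (p := 5) (N := 1176) (by rw [h]) (by norm_num) (by norm_num) (by norm_num) (by decide +kernel)

theorem no_5940 {G : Type*} [Group G] [Finite G] [IsSimpleGroup G] (h : Nat.card G = 5940) : False := by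
  haveI := Fintype.ofFinite G
  haveI hp : Fact (Nat.Prime 11) := ⟨by norm_num⟩
  exact Cfsg.Agent.Lib.R6232.false_of_opts (p := 11) (N := 540) (by rw [h]) (by norm_num) (by norm_num) (by norm_num) (by decide +kernel)

theorem no_5952 {G : Type*} [Group G] [Finite G] [IsSimpleGroup G] (h : Nat.card G = 5952) : False := by
  haveI := Fintype.ofFinite G
  haveI hp : Fact (Nat.Prime 31) := ⟨by norm_num⟩
  exact Cfsg.Agent.Lib.R6232.false_of_opts (p := 31) (N := 192) (by rw [h]) (by norm_num) (by norm_num) (by norm_num) (by decide +kernel)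

theorem no_6080 {G : Type*} [Group G] [Finite G] [IsSimpleGroup G] (h : Nat.card G = 6080) : False := by
  haveI := Fintype.ofFinite G
  haveI hp : Fact (Nat.Prime 19) := ⟨by norm_num⟩
  exact Cfsg.Agent.Lib.R6232.false_of_opts (p := 19) (N := 320) (by rw [h]) (by norm_num) (by norm_num) (by norm_num) (by decide +kernel)

theorem no_6120 {G : Type*} [Group G] [Finite G] [IsSimpleGroup G] (h : Nat.card G = 6120) : False := by
  haveI := Fintype.ofFinite G
  haveI hp : Fact (Nat.Prime 17) := ⟨by norm_num⟩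
  exact Cfsg.Agent.Lib.R6232.false_of_opts (p := 17) (N := 360) (by rw [h]) (by norm_num) (by norm_num) (by norm_num) (by decide +kernel)

theorem no_6160 {G : Type*} [Group G] [Finite G] [IsSimpleGroup G] (h : Nat.card G = 6160) : False := by
  haveI := Fintype.ofFinite G
  haveI hp : Fact (Nat.Prime 7) := ⟨by norm_num⟩
  exact Cfsg.Agent.Lib.R6232.false_of_opts (p := 7) (N := 880) (by rw [h]) (by norm_num) (by norm_num) (by norm_num) (by decide +kernel)

/-- The witnesses: `0` for the orders listed separately, `1` for orders `2 mod 4`, otherwise a prime. -/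
def witness : List (List ℕ) := [
  [0, 0, 0, 0, 0, 0, 0, 0, 0, 0, 0, 0, 0, 0, 0, 0, 0, 0, 0, 0, 0, 0, 0, 0, 0, 0, 0, 0, 0, 0, 0, 0, 0, 0, 0, 0, 0, 0, 0, 0, 0, 331, 1, 3643, 911, 3, 1, 521, 0, 89, 1, 1217, 83, 281, 1, 43, 457, 53, 1, 3659, 61, 523, 1, 37, 229, 733, 1, 193, 131, 1223, 1, 3671, 0, 3673, 1, 3, 919, 3677, 1, 283, 23, 409, 1, 127, 307, 67, 1, 1229, 461, 31, 1, 3691, 71, 1231, 1, 739, 0, 3697, 1, 137],
  [37, 3701, 1, 23, 463, 19, 1, 337, 103, 3709, 1, 1237, 29, 79, 1, 743, 929, 59, 1, 3719, 31, 61, 1, 73, 7, 149, 1, 3727, 233, 113, 1, 41, 311, 3733, 1, 83, 467, 101, 1, 3739, 17, 43, 1, 197, 0, 107, 1, 1249, 937, 163, 1, 11, 67, 139, 1, 751, 313, 17, 1, 179, 47, 3761, 1, 71, 941, 251, 1, 3767, 157, 3769, 1, 419, 41, 7, 1, 151, 59, 1259, 1, 3779, 0, 199, 1, 97, 11, 757, 1, 541, 947, 421, 1, 223, 79, 3793, 1, 23, 73, 3797, 1, 131],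
  [0, 181, 1, 3803, 317, 761, 1, 47, 17, 293, 1, 103, 953, 41, 1, 109, 53, 347, 1, 67, 191, 3821, 1, 3823, 239, 17, 1, 89, 29, 547, 1, 1277, 479, 3833, 1, 59, 137, 1279, 1, 349, 0, 167, 1, 61, 31, 769, 1, 3847, 37, 1283, 1, 3851, 107, 3853, 1, 257, 241, 29, 1, 227, 193, 13, 1, 3863, 23, 773, 1, 1289, 967, 73, 1, 79, 11, 1291, 1, 31, 19, 3877, 1, 431, 97, 3881, 1, 353, 971, 37, 1, 13, 0, 3889, 1, 1297, 139, 229, 1, 41, 487, 433, 1, 557],
  [13, 83, 1, 1301, 61, 71, 1, 3907, 977, 1303, 1, 3911, 163, 43, 1, 29, 89, 3917, 1, 3919, 7, 1307, 1, 3923, 109, 157, 1, 17, 491, 3929, 1, 3931, 983, 23, 1, 787, 41, 127, 1, 101, 197, 563, 1, 3943, 29, 263, 1, 3947, 47, 359, 1, 439, 19, 67, 1, 113, 43, 1319, 1, 107, 0, 233, 1, 1321, 991, 61, 1, 3967, 0, 7, 1, 19, 331, 137, 1, 53, 71, 97, 1, 173, 199, 1327, 1, 569, 83, 797, 1, 443, 997, 3989, 1, 307, 499, 11, 1, 47, 37, 571, 1, 43],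
  [0, 4001, 1, 4003, 11, 89, 1, 4007, 167, 211, 1, 191, 59, 4013, 1, 73, 251, 103, 1, 4019, 67, 4021, 1, 149, 503, 23, 1, 4027, 53, 79, 1, 139, 0, 109, 1, 269, 1009, 367, 1, 577, 101, 449, 1, 311, 337, 809, 1, 71, 23, 4049, 1, 4051, 1013, 193, 1, 811, 13, 4057, 1, 41, 29, 131, 1, 239, 127, 271, 1, 83, 113, 313, 1, 59, 509, 4073, 1, 163, 1019, 151, 1, 4079, 0, 53, 1, 1361, 1021, 43, 1, 67, 73, 47, 1, 4091, 31, 4093, 1, 5, 2, 241, 1, 4099],
  [41, 1367, 1, 373, 19, 821, 1, 37, 79, 587, 1, 4111, 257, 457, 1, 823, 7, 179, 1, 1373, 103, 317, 1, 31, 1031, 5, 1, 4127, 43, 4129, 1, 3, 1033, 4133, 1, 827, 47, 197, 1, 4139, 23, 101, 1, 1381, 37, 829, 1, 29, 61, 461, 1, 593, 173, 4153, 1, 277, 1039, 4157, 1, 4159, 0, 73, 1, 181, 347, 17, 1, 463, 521, 379, 1, 97, 149, 107, 1, 167, 29, 4177, 1, 199, 19, 113, 1, 89, 523, 31, 1, 79, 349, 71, 1, 127, 131, 599, 1, 839, 1049, 1399, 1, 19],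
  [0, 4201, 1, 467, 1051, 29, 1, 601, 263, 61, 1, 4211, 0, 383, 1, 281, 31, 4217, 1, 4219, 211, 67, 1, 103, 0, 13, 1, 1409, 151, 4229, 1, 4231, 23, 83, 1, 11, 353, 223, 1, 157, 53, 4241, 1, 4243, 1061, 283, 1, 137, 59, 607, 1, 109, 1063, 4253, 1, 37, 19, 43, 1, 4259, 71, 4261, 1, 29, 41, 853, 1, 251, 97, 1423, 1, 4271, 89, 4273, 1, 19, 1069, 47, 1, 389, 107, 1427, 1, 4283, 0, 857, 1, 1429, 67, 4289, 1, 613, 37, 53, 1, 859, 179, 4297, 1, 1433],
  [43, 23, 1, 331, 269, 41, 1, 73, 359, 139, 1, 479, 11, 227, 1, 863, 83, 1439, 1, 617, 0, 149, 1, 131, 47, 173, 1, 4327, 541, 37, 1, 71, 19, 619, 1, 17, 271, 4337, 1, 4339, 31, 1447, 1, 101, 181, 79, 1, 23, 1087, 4349, 1, 229, 17, 1451, 1, 67, 11, 4357, 1, 1453, 109, 89, 1, 4363, 1091, 97, 1, 397, 0, 257, 1, 47, 1093, 4373, 1, 5, 547, 1459, 1, 151, 73, 337, 1, 487, 137, 877, 1, 107, 1097, 11, 1, 4391, 61, 191, 1, 293, 157, 4397, 1, 83],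
  [0, 163, 1, 37, 367, 881, 1, 113, 29, 4409, 1, 401, 1103, 1471, 1, 883, 0, 631, 1, 491, 17, 4421, 1, 4423, 79, 59, 1, 233, 41, 103, 1, 211, 277, 31, 1, 887, 1109, 29, 1, 193, 37, 4441, 1, 1481, 101, 127, 1, 4447, 139, 1483, 1, 4451, 53, 73, 1, 11, 557, 4457, 1, 7, 223, 1487, 1, 4463, 31, 47, 1, 1489, 1117, 109, 1, 263, 43, 71, 1, 179, 373, 11, 1, 1493, 0, 4481, 1, 4483, 59, 23, 1, 641, 17, 67, 1, 499, 1123, 4493, 1, 31, 281, 1499, 1, 409],
  [0, 643, 1, 79, 563, 53, 1, 4507, 23, 167, 1, 347, 0, 4513, 1, 43, 1129, 4517, 1, 4519, 113, 137, 1, 4523, 29, 181, 1, 503, 283, 647, 1, 197, 103, 1511, 1, 907, 0, 349, 1, 89, 227, 239, 1, 59, 71, 101, 1, 4547, 379, 4549, 1, 41, 569, 157, 1, 911, 67, 31, 1, 97, 0, 4561, 1, 0, 163, 83, 1, 4567, 571, 1523, 1, 653, 127, 269, 1, 61, 13, 199, 1, 241, 229, 509, 1, 4583, 191, 131, 1, 139, 37, 353, 1, 4591, 41, 1531, 1, 919, 383, 4597, 1, 73],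
  [23, 107, 1, 4603, 1151, 307, 1, 271, 2, 419, 1, 53, 1153, 659, 1, 71, 577, 19, 1, 149, 0, 4621, 1, 67, 17, 37, 1, 661, 89, 1543, 1, 421, 193, 113, 1, 103, 61, 4637, 1, 4639, 29, 17, 1, 4643, 43, 929, 1, 1549, 83, 4649, 1, 4651, 1163, 47, 1, 19, 97, 4657, 1, 1553, 233, 79, 1, 4663, 53, 311, 1, 359, 389, 29, 1, 173, 73, 4673, 1, 17, 167, 1559, 1, 4679, 0, 151, 1, 223, 1171, 937, 1, 109, 293, 521, 1, 4691, 23, 19, 1, 313, 587, 61, 1, 127],
  [47, 1567, 1, 4703, 7, 941, 1, 523, 107, 277, 1, 673, 31, 1571, 1, 41, 131, 89, 1, 11, 59, 4721, 1, 4723, 1181, 0, 1, 163, 197, 4729, 1, 83, 13, 4733, 1, 947, 37, 1579, 1, 677, 79, 431, 1, 31, 593, 73, 1, 101, 1187, 1583, 1, 4751, 0, 97, 1, 317, 41, 71, 1, 4759, 0, 23, 1, 433, 397, 953, 1, 227, 149, 251, 1, 367, 1193, 43, 1, 191, 199, 281, 1, 59, 239, 683, 1, 4783, 23, 29, 1, 4787, 19, 4789, 1, 1597, 599, 4793, 1, 137, 109, 41, 1, 4799],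
  [0, 4801, 1, 1601, 1201, 31, 1, 23, 601, 229, 1, 283, 401, 4813, 1, 107, 43, 4817, 1, 79, 241, 1607, 1, 53, 67, 193, 1, 1609, 71, 439, 1, 4831, 151, 179, 1, 967, 31, 691, 1, 1613, 11, 103, 1, 167, 173, 19, 1, 131, 101, 373, 1, 11, 1213, 211, 1, 971, 607, 1619, 1, 113, 3, 4861, 1, 1621, 19, 139, 1, 157, 1217, 541, 1, 4871, 29, 443, 1, 5, 53, 4877, 1, 41, 61, 1627, 1, 257, 37, 977, 1, 181, 47, 4889, 1, 73, 1223, 233, 1, 89, 0, 83, 1, 71],
  [0, 13, 1, 4903, 613, 109, 1, 701, 409, 4909, 1, 1637, 307, 17, 1, 983, 1229, 149, 1, 4919, 41, 37, 1, 547, 1231, 197, 1, 379, 0, 53, 1, 4931, 137, 4933, 1, 47, 617, 4937, 1, 449, 19, 61, 1, 4943, 103, 43, 1, 97, 1237, 101, 1, 4951, 619, 127, 1, 991, 59, 4957, 1, 29, 0, 41, 1, 709, 73, 331, 1, 4967, 23, 4969, 1, 1657, 113, 4973, 1, 199, 311, 79, 1, 383, 83, 293, 1, 151, 89, 997, 1, 4987, 43, 1663, 1, 31, 13, 4993, 1, 37, 1249, 263, 1, 4999],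
  [5, 1667, 1, 5003, 139, 13, 1, 1669, 313, 5009, 1, 5011, 179, 557, 1, 59, 19, 173, 1, 239, 251, 5021, 1, 5023, 157, 67, 1, 457, 419, 107, 1, 43, 37, 719, 1, 53, 1259, 73, 1, 5039, 0, 71, 1, 41, 97, 1009, 1, 103, 631, 17, 1, 5051, 421, 163, 1, 337, 79, 389, 1, 5059, 23, 241, 1, 83, 211, 1013, 1, 563, 181, 137, 1, 461, 317, 89, 1, 29, 47, 5077, 1, 1693, 127, 5081, 1, 23, 41, 113, 1, 5087, 53, 727, 1, 1697, 67, 463, 1, 1019, 7, 1699, 1, 5099],
  [17, 5101, 1, 3, 0, 1021, 1, 5107, 1277, 131, 1, 269, 71, 5113, 1, 31, 1279, 43, 1, 5119, 2, 569, 1, 109, 61, 41, 1, 1709, 641, 223, 1, 733, 1283, 59, 1, 79, 107, 467, 1, 571, 257, 97, 1, 139, 643, 7, 1, 5147, 0, 271, 1, 101, 23, 5153, 1, 1031, 1289, 191, 1, 67, 43, 397, 1, 1721, 1291, 1033, 1, 5167, 19, 1723, 1, 5171, 431, 739, 1, 23, 647, 167, 1, 5179, 37, 157, 1, 73, 0, 61, 1, 19, 1297, 5189, 1, 179, 59, 577, 1, 1039, 433, 5197, 1, 1733],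
  [0, 743, 1, 43, 1301, 347, 1, 127, 31, 5209, 1, 193, 1303, 401, 1, 149, 163, 47, 1, 307, 0, 227, 1, 1741, 653, 19, 1, 5227, 1307, 83, 1, 5231, 109, 5233, 1, 349, 0, 5237, 1, 13, 131, 1747, 1, 107, 23, 1049, 1, 53, 41, 181, 1, 89, 101, 103, 1, 1051, 73, 751, 1, 1753, 263, 5261, 1, 277, 47, 5, 1, 229, 439, 479, 1, 251, 659, 5273, 1, 211, 1319, 1759, 1, 5279, 0, 5281, 1, 587, 1321, 151, 1, 311, 661, 43, 1, 37, 0, 79, 1, 353, 331, 5297, 1, 757],
  [53, 31, 1, 5303, 13, 1061, 1, 61, 1327, 5309, 1, 113, 83, 23, 1, 1063, 443, 409, 1, 197, 0, 313, 1, 5323, 11, 71, 1, 761, 37, 73, 1, 1777, 43, 5333, 1, 97, 29, 593, 1, 281, 89, 109, 1, 137, 167, 1069, 1, 5347, 191, 1783, 1, 5351, 223, 101, 1, 17, 103, 487, 1, 233, 67, 1787, 1, 173, 149, 37, 1, 1789, 61, 59, 1, 131, 79, 199, 1, 43, 0, 283, 1, 163, 269, 5381, 1, 769, 673, 359, 1, 5387, 449, 317, 1, 599, 337, 5393, 1, 83, 71, 257, 1, 5399],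
  [0, 491, 1, 1801, 193, 47, 1, 5407, 13, 601, 1, 773, 41, 5413, 1, 19, 677, 5417, 1, 5419, 271, 139, 1, 29, 113, 31, 1, 67, 59, 89, 1, 5431, 97, 1811, 1, 1087, 151, 5437, 1, 37, 17, 5441, 1, 5443, 1361, 5, 1, 419, 227, 5449, 1, 79, 47, 41, 1, 1091, 31, 107, 1, 103, 0, 127, 1, 607, 683, 1093, 1, 71, 1367, 1823, 1, 5471, 0, 421, 1, 73, 37, 5477, 1, 5479, 137, 29, 1, 5483, 457, 1097, 1, 59, 7, 499, 1, 17, 1373, 1831, 1, 157, 229, 239, 1, 47],
  [5, 5501, 1, 5503, 43, 367, 1, 5507, 0, 787, 1, 167, 53, 149, 1, 1103, 197, 613, 1, 5519, 0, 5521, 1, 263, 1381, 17, 1, 5527, 691, 97, 1, 5531, 461, 503, 1, 41, 173, 113, 1, 191, 277, 1847, 1, 241, 0, 1109, 1, 43, 73, 179, 1, 61, 347, 617, 1, 101, 463, 5557, 1, 109, 139, 83, 1, 5563, 107, 53, 1, 293, 29, 5569, 1, 619, 199, 5573, 1, 223, 41, 13, 1, 797, 31, 5581, 1, 1861, 349, 1117, 1, 151, 127, 3, 1, 5591, 233, 47, 1, 373, 1399, 193, 1, 509],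
  [0, 1867, 1, 431, 467, 59, 1, 89, 701, 79, 1, 181, 61, 1871, 1, 1123, 0, 137, 1, 1873, 281, 73, 1, 5623, 19, 5, 1, 331, 67, 433, 1, 1877, 2, 131, 1, 23, 1409, 1879, 1, 5639, 47, 5641, 1, 19, 83, 1129, 1, 5647, 353, 269, 1, 5651, 157, 5653, 1, 29, 101, 5657, 1, 5659, 283, 37, 1, 809, 59, 103, 1, 1889, 109, 5669, 1, 107, 709, 61, 1, 227, 11, 811, 1, 631, 71, 23, 1, 5683, 29, 379, 1, 47, 79, 5689, 1, 271, 1423, 5693, 1, 67, 89, 211, 1, 139],
  [0, 5701, 1, 1901, 31, 163, 1, 439, 1427, 173, 1, 5711, 17, 197, 1, 127, 1429, 5717, 1, 43, 13, 1907, 1, 97, 0, 229, 1, 83, 179, 337, 1, 521, 1433, 7, 1, 37, 239, 5737, 1, 1913, 41, 5741, 1, 5743, 359, 383, 1, 821, 479, 5749, 1, 71, 719, 523, 1, 1151, 1439, 101, 1, 443, 0, 823, 1, 113, 131, 1153, 1, 79, 103, 641, 1, 199, 37, 251, 1, 11, 19, 109, 1, 5779, 17, 47, 1, 5783, 241, 89, 1, 643, 1447, 827, 1, 5791, 181, 1931, 1, 61, 23, 31, 1, 1933],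
  [29, 5801, 1, 829, 1451, 43, 1, 5807, 11, 157, 1, 149, 1453, 5813, 1, 1163, 727, 277, 1, 23, 97, 5821, 1, 647, 7, 233, 1, 5827, 47, 67, 1, 7, 3, 307, 1, 389, 1459, 449, 1, 5839, 73, 59, 1, 5843, 487, 167, 1, 1949, 43, 5849, 1, 5851, 0, 1951, 1, 1171, 61, 5857, 1, 7, 293, 5861, 1, 41, 733, 23, 1, 5867, 163, 5869, 1, 103, 367, 839, 1, 47, 113, 653, 1, 5879, 0, 5881, 1, 53, 1471, 107, 1, 29, 23, 151, 1, 137, 491, 83, 1, 131, 67, 5897, 1, 347],
  [59, 281, 1, 5903, 41, 1181, 1, 179, 211, 311, 1, 257, 739, 73, 1, 13, 29, 97, 1, 1973, 37, 191, 1, 5923, 1481, 79, 1, 5927, 13, 11, 1, 659, 1483, 349, 1, 1187, 53, 1979, 1, 5939, 0, 457, 1, 283, 743, 41, 1, 313, 1487, 661, 1, 541, 0, 5953, 1, 397, 1489, 37, 1, 101, 149, 1987, 1, 89, 71, 1193, 1, 17, 373, 127, 1, 853, 1493, 181, 1, 239, 83, 139, 1, 1993, 23, 5981, 1, 193, 17, 19, 1, 5987, 499, 113, 1, 1997, 107, 461, 1, 109, 1499, 1999, 1, 857],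
  [0, 353, 1, 29, 79, 1201, 1, 6007, 751, 2003, 1, 6011, 167, 859, 1, 401, 47, 547, 1, 463, 43, 223, 1, 317, 251, 241, 1, 41, 137, 6029, 1, 163, 29, 2011, 1, 71, 503, 6037, 1, 61, 151, 863, 1, 6043, 1511, 31, 1, 6047, 0, 263, 1, 2017, 89, 6053, 1, 173, 757, 673, 1, 83, 101, 29, 1, 47, 379, 1213, 1, 6067, 41, 17, 1, 467, 0, 6073, 1, 0, 31, 103, 1, 6079, 0, 2027, 1, 79, 13, 1217, 1, 2029, 761, 6089, 1, 6091, 1523, 677, 1, 53, 127, 67, 1, 107],
  [61, 6101, 1, 359, 109, 37, 1, 197, 509, 149, 1, 97, 191, 6113, 1, 1223, 139, 2039, 1, 211, 0, 6121, 1, 157, 1531, 5, 1, 557, 383, 227, 1, 6131, 73, 6133, 1, 409, 59, 19, 1, 877, 307, 89, 1, 6143, 2, 1229, 1, 683, 53, 43, 1, 6151, 769, 293, 1, 1231, 19, 131, 1, 2053, 0, 101, 1, 6163, 67, 137, 1, 881, 257, 199, 1, 11, 1543, 6173, 1, 19, 193, 71, 1, 167, 103, 883, 1, 229, 773, 1237, 1, 269, 17, 2063, 1, 151, 43, 563, 1, 59, 1549, 6197, 1, 6199],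
  [31, 53, 1, 6203, 47, 73, 1, 2069, 97, 887, 1, 6211, 1553, 109, 1, 113, 37, 6217, 1, 691, 311, 6221, 1, 127, 389, 83, 1, 479, 173, 6229, 1, 67, 41, 0, 0, 0, 0, 0, 0, 0, 0, 0, 0, 0, 0, 0, 0, 0, 0, 0, 0, 0, 0, 0, 0, 0, 0, 0, 0, 0, 0, 0, 0, 0, 0, 0, 0, 0, 0, 0, 0, 0, 0, 0, 0, 0, 0, 0, 0, 0, 0, 0, 0, 0, 0, 0, 0, 0, 0, 0, 0, 0, 0, 0, 0, 0, 0, 0, 0, 0]]

/-- The test of one order. -/
def chk (g p : ℕ) : Bool :=
  if p = 0 then
    decide (g ≤ 3640) || decide (6232 < g) || g == 4080 || g == 5616 || g == 6048 || g == 6072 ||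
      ([3672, 3696, 3780, 3800, 3840, 3960, 4160, 4200, 4224, 4284, 4368, 4400, 4416, 4480, 4512, 4536, 4560, 4680, 4725, 4752, 4760, 4800, 4896, 4928, 5104, 5148, 5200, 5220, 5236, 5280, 5320, 5376, 5508, 5520, 5544, 5600, 5700, 5724, 5852, 5880, 5940, 5952, 6080, 6120, 6160] : List ℕ).contains g ||
      ([3648, 3744, 4032, 4320, 5040, 5472, 5760] : List ℕ).contains g ||
      ([4212, 4500, 4620, 4900, 4960, 5292, 5400, 5460, 6000] : List ℕ).contains g ||
      ([3888, 3968, 4000, 4563, 5184, 6075] : List ℕ).contains g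
  else if p = 1 then g % 4 == 2
  else Cfsg.Agent.Lib.R6232.killF g p

theorem chk_all : (List.range 27).all (fun k => (List.range 100).all (fun i =>
    chk (3600 + 100 * k + i) ((witness.getD k []).getD i 0))) = true := by
  set_option maxHeartbeats 0 in
  decide +kernel

theorem exists_chk {g : ℕ} (h1 : 3640 < g) (h2 : g ≤ 6232) : ∃ p, chk g p = true := by
  have h3 := List.all_eq_true.mp chk_all ((g - 3600) / 100) (List.mem_range.mpr (by omega))
  have h4 := List.all_eq_true.mp h3 ((g - 3600) % 100) (List.mem_range.mpr (by omega))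
  have h5 : 3600 + 100 * ((g - 3600) / 100) + (g - 3600) % 100 = g := by omega
  rw [h5] at h4
  exact ⟨_, h4⟩

/-- A non-abelian finite simple group of order greater than 3640 and at most 6232 has order 4080, 5616, 6048 or 6072. -/
theorem result {G : Type*} [Group G] [Finite G] [IsSimpleGroup G] (hG : ¬ IsMulCommutative G) (h1 : 3640 < Nat.card G) (h2 : Nat.card G ≤ 6232) : Nat.card G = 4080 ∨ Nat.card G = 5616 ∨ Nat.card G = 6048 ∨ Nat.card G = 6072 := by
  obtain ⟨p, hp⟩ := exists_chk h1 h2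
  unfold chk at hp
  split_ifs at hp with hp0 hp1
  · simp only [Bool.or_eq_true, decide_eq_true_eq, beq_iff_eq, List.contains_iff_mem] at hp
    rcases hp with ((((((((hp | hp) | hp) | hp) | hp) | hp) | h3) | h3) | h3) | h3
    · omega
    · omega
    · exact Or.inl hp
    · exact Or.inr (Or.inl hp)
    · exact Or.inr (Or.inr (Or.inl hp))
    · exact Or.inr (Or.inr (Or.inr hp))
    · exfalso
      simp only [List.mem_cons, List.not_mem_nil, or_false] at h3
      rcases h3 with h3 | h3 | h3 | h3 | h3 | h3 | h3 | h3 | h3 | h3 | h3 | h3 | h3 | h3 | h3 | h3 | h3 | h3 | h3 | h3 | h3 | h3 | h3 | h3 | h3 | h3 | h3 | h3 | h3 | h3 | h3 | h3 | h3 | h3 | h3 | h3 | h3 | h3 | h3 | h3 | h3 | h3 | h3 | h3 | h3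
      · exact no_3672 h3
      · exact no_3696 h3
      · exact no_3780 h3
      · exact no_3800 h3
      · exact no_3840 h3
      · exact no_3960 h3
      · exact no_4160 h3
      · exact no_4200 h3
      · exact no_4224 h3
      · exact no_4284 h3
      · exact no_4368 h3
      · exact no_4400 h3
      · exact no_4416 h3
      · exact no_4480 h3
      · exact no_4512 h3
      · exact no_4536 h3
      · exact no_4560 h3
      · exact no_4680 h3
      · exact no_4725 h3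
      · exact no_4752 h3
      · exact no_4760 h3
      · exact no_4800 h3
      · exact no_4896 h3
      · exact no_4928 h3
      · exact no_5104 h3
      · exact no_5148 h3
      · exact no_5200 h3
      · exact no_5220 h3
      · exact no_5236 h3
      · exact no_5280 h3
      · exact no_5320 h3
      · exact no_5376 h3
      · exact no_5508 h3
      · exact no_5520 h3
      · exact no_5544 h3
      · exact no_5600 h3
      · exact no_5700 h3
      · exact no_5724 h3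
      · exact no_5852 h3
      · exact no_5880 h3
      · exact no_5940 h3
      · exact no_5952 h3
      · exact no_6080 h3
      · exact no_6120 h3
      · exact no_6160 h3
    · exfalso
      simp only [List.mem_cons, List.not_mem_nil, or_false] at h3
      rcases h3 with h3 | h3 | h3 | h3 | h3 | h3 | h3
      · exact Cfsg.Agent.S0974.result h3
      · exact Cfsg.Agent.S0975.result h3
      · exact Cfsg.Agent.S0976.result h3
      · exact Cfsg.Agent.S0977.result h3
      · exact Cfsg.Agent.S0978.result h3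
      · exact Cfsg.Agent.S0979.result h3
      · exact Cfsg.Agent.S0980.result h3
    · exfalso
      simp only [List.mem_cons, List.not_mem_nil, or_false] at h3
      rcases h3 with h3 | h3 | h3 | h3 | h3 | h3 | h3 | h3 | h3
      · exact Cfsg.Agent.Lib.R6232.no_4212 hG h3
      · exact Cfsg.Agent.Lib.R6232.no_4500 hG h3
      · exact Cfsg.Agent.Lib.R6232.no_4620 hG h3
      · exact Cfsg.Agent.Lib.R6232.no_4900 hG h3
      · exact Cfsg.Agent.Lib.R6232.no_4960 hG h3
      · exact Cfsg.Agent.Lib.R6232.no_5292 hG h3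
      · exact Cfsg.Agent.Lib.R6232.no_5400 hG h3
      · exact Cfsg.Agent.Lib.R6232.no_5460 hG h3
      · exact Cfsg.Agent.Lib.R6232.no_6000 hG h3
    · exfalso
      simp only [List.mem_cons, List.not_mem_nil, or_false] at h3
      have hsolv : ∀ (p q a b : ℕ), p.Prime → q.Prime → Nat.card G = p ^ a * q ^ b → False := by
        intro p q a b hp hq hc
        have hs := Cfsg.Agent.S0144.result p q a b hp hq hc
        exact hG ⟨⟨IsSimpleGroup.comm_iff_isSolvable.mpr hs⟩⟩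
      rcases h3 with h3 | h3 | h3 | h3 | h3 | h3
      · exact hsolv 2 3 4 5 (by norm_num) (by norm_num) (by rw [h3]; norm_num)
      · exact hsolv 2 31 7 1 (by norm_num) (by norm_num) (by rw [h3]; norm_num)
      · exact hsolv 2 5 5 3 (by norm_num) (by norm_num) (by rw [h3]; norm_num)
      · exact hsolv 3 13 3 2 (by norm_num) (by norm_num) (by rw [h3]; norm_num)
      · exact hsolv 2 3 6 4 (by norm_num) (by norm_num) (by rw [h3]; norm_num)
      · exact hsolv 3 5 5 2 (by norm_num) (by norm_num) (by rw [h3]; norm_num)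
  · exact (Cfsg.Agent.Lib.Small.false_of_two_mod_four hG (by simpa using hp)).elim
  · exact (Cfsg.Agent.Lib.R6232.false_of_killF hG hp).elim

end Cfsg.Agent.S0983
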