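import Cfsg.Statements.S0994
import Mathlib
import Cfsg.Agent.Lib.SmallSimple.Sylow

set_option autoImplicit false
open Cfsg

namespace Cfsg.Agent.S0994


/-- No finite simple group has order 1188 = 2^2 * 3^3 * 11. -/
theorem result {G : Type*} [Group G] [Finite G] [IsSimpleGroup G] : Nat.card G ≠ 1188 := by
  intro h
  have : Fact (Nat.Prime 11) := ⟨by norm_num⟩
  have hcard : Nat.card G = 11 ^ 1 * 108 := by rw [h]; norm_num
  have hnc : ¬ IsMulCommutative G :=
    Cfsg.Agent.Lib.SmallSimple.not_comm_of_not_prime (by rw [h]; norm_num)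
  have hnp : ¬ IsPGroup 11 G :=
    Cfsg.Agent.Lib.SmallSimple.not_isPGroup_of_dvd (q := 2) (by norm_num) (by norm_num) (by norm_num)
      (by rw [h]; norm_num)
  obtain ⟨h1, h2, h3, _⟩ := Cfsg.Agent.Lib.SmallSimple.sylow_package hcard (by norm_num) (by norm_num) hnp hnc
  have h4 : Nat.card (Sylow 11 G) = 12 := by
    have := Nat.le_of_dvd (by norm_num) h2
    generalize Nat.card (Sylow 11 G) = n at *
    interval_cases n <;> omega
  exact Cfsg.Agent.Lib.SmallSimple.false_of_prime_sylow hcard (by norm_num) hnp 9 (by rw [h4]) (by norm_num)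

end Cfsg.Agent.S0994
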