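import Cfsg.Statements.S1154
import Cfsg.Agent.Lib.Ree.Act

set_option autoImplicit false
open Cfsg

namespace Cfsg.Agent.S1154




/-- In the small Ree group ²G₂(q), q = 3^(2m+1) with m ≥ 1, realised as G¹ inside the Chevalley group G₂ over the field with q elements (θ the 3^m-th power map), with `U¹ = G¹ ∩ U` (U the positive unipotent subgroup of the ambient G₂): `U¹` has exactly `q² - 1` elements of order 3. -/
theorem result {K : Type*} [Field K] [Fintype K] {m : ℕ} (hm : 1 ≤ m) (hK : Fintype.card K = 3 ^ (2 * m + 1)) :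
    Nat.card {u : ↥(Cfsg.Lie.chevG2.posUnipotent K ⊓ Cfsg.Lie.twistedG2 K (3 ^ m)) // orderOf u = 3} = (3 ^ (2 * m + 1)) ^ 2 - 1 := by
  open Cfsg.Agent.Lib.Chev Cfsg.Agent.Lib.Chev.TwG2 Cfsg.Agent.Lib.Ree in
  have h3 : Nat.Prime 3 := Nat.prime_three
  have hn : 2 * m + 1 ≠ 0 := by omega
  have := charP_of_card h3 hn hK
  obtain ⟨f, hf⟩ := frobP h3 hn hK m
  have hf3 := frob_sq hK f hf
  have hc : ringChar K ≠ 2 := by
    rw [ringChar.eq K 3]
    norm_num
  have hsq := sq_or_neg hK hc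
  rw [← AA_eq f hf3 hf]
  classical
  set R := rd f hf3 hsq with hR
  haveI : Fact (Nat.Prime 3) := ⟨h3⟩
  have hcube : ∀ a b c : K, WW f a b c ^ 3 = WW f 0 0 (-(a ^ 2 * f a ^ 3)) := by
    intro a b c
    have h := congrArg Subtype.val (R.t_cube a b c)
    rw [SubmonoidClass.coe_pow] at h
    exact h
  have hone : ∀ {a b c : K}, WW f a b c = 1 → a = 0 ∧ b = 0 ∧ c = 0 := fun h => WW_eq_one f h
  have hz : WW f (0 : K) 0 0 = 1 := WW_zero_val f
  have hord : ∀ (b c : K) (hbc : (b, c) ≠ (0, 0)) (hm : WW f 0 b c ∈ Cfsg.Lie.chevG2.posUnipotent K ⊓ (TT f).AA JJ),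
      orderOf (⟨WW f 0 b c, hm⟩ : ↥(Cfsg.Lie.chevG2.posUnipotent K ⊓ (TT f).AA JJ)) = 3 := by
    intro b c hbc hm
    apply orderOf_eq_prime
    · apply Subtype.ext
      show WW f 0 b c ^ 3 = 1
      rw [hcube]
      have : (0 : K) ^ 2 * f 0 ^ 3 = 0 := by simp
      rw [this, neg_zero, hz]
    · intro h
      have h1 := hone (congrArg Subtype.val h)
      exact hbc (by rw [h1.2.1, h1.2.2])
  let φ : {x : K × K // x ≠ (0, 0)} → {u : ↥(Cfsg.Lie.chevG2.posUnipotent K ⊓ (TT f).AA JJ) // orderOf u = 3} :=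
    fun x => ⟨⟨WW f 0 x.1.1 x.1.2, (U_A_iff f hf3).mpr ⟨_, _, _, rfl⟩⟩, hord _ _ x.2 _⟩
  have hb : Function.Bijective φ := by
    constructor
    · rintro ⟨⟨b, c⟩, hx⟩ ⟨⟨b', c'⟩, hx'⟩ h
      have h1 := congrArg (fun y => ((y : ↥(Cfsg.Lie.chevG2.posUnipotent K ⊓ (TT f).AA JJ)) : GL Cfsg.Lie.chevG2.Idx K)) (congrArg Subtype.val h)
      obtain ⟨-, e2, e3⟩ := WW_inj f h1
      subst e2 e3
      rfl
    · rintro ⟨⟨g, hg⟩, ho⟩
      obtain ⟨a, b, c, rfl⟩ := (U_A_iff f hf3).mp hg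
      have h1 : (⟨WW f a b c, hg⟩ : ↥(Cfsg.Lie.chevG2.posUnipotent K ⊓ (TT f).AA JJ)) ^ 3 = 1 := by
        rw [← ho]
        exact pow_orderOf_eq_one _
      have h2 : WW f a b c ^ 3 = 1 := congrArg Subtype.val h1
      rw [hcube] at h2
      have h3' := (hone h2).2.2
      have h4 : a = 0 := RD.a_eq_zero_of (neg_eq_zero.mp h3')
      subst h4
      have hbc : (b, c) ≠ (0, 0) := by
        intro e
        have e2 : b = 0 := congrArg Prod.fst e
        have e3 : c = 0 := congrArg Prod.snd e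
        subst e2 e3
        have : (⟨WW f 0 0 0, hg⟩ : ↥(Cfsg.Lie.chevG2.posUnipotent K ⊓ (TT f).AA JJ)) = 1 := Subtype.ext hz
        rw [this, orderOf_one] at ho
        omega
      exact ⟨⟨(b, c), hbc⟩, rfl⟩
  rw [← Nat.card_congr (Equiv.ofBijective _ hb), Nat.card_eq_fintype_card, Fintype.card_subtype_compl]
  simp [hK, pow_two]

end Cfsg.Agent.S1154
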