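import Cfsg.Statements.S1156
import Cfsg.Agent.Lib.Ree.CycS

set_option autoImplicit false
open Cfsg

namespace Cfsg.Agent.S1156




/-- In the small Ree group ²G₂(q), q = 3^(2m+1) with m ≥ 1, realised as G¹ inside the Chevalley group G₂ over the field with q elements (θ the 3^m-th power map): for every prime `p > 3` the Sylow `p`-subgroups of `G¹` are cyclic. -/
theorem result {K : Type*} [Field K] [Fintype K] {m : ℕ} (hm : 1 ≤ m) (hK : Fintype.card K = 3 ^ (2 * m + 1))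
    {p : ℕ} [Fact p.Prime] (hp : 3 < p) (P : Sylow p ↥(Cfsg.Lie.twistedG2 K (3 ^ m))) : IsCyclic (P : Subgroup ↥(Cfsg.Lie.twistedG2 K (3 ^ m))) := by
  open Cfsg.Agent.Lib.Chev Cfsg.Agent.Lib.Chev.TwG2 Cfsg.Agent.Lib.Ree in
  have h3 : Nat.Prime 3 := Nat.prime_three
  have hn : 2 * m + 1 ≠ 0 := by omega
  have := charP_of_card h3 hn hK
  obtain ⟨f, hf⟩ := frobP h3 hn hK m
  have hf3 := frob_sq hK f hf
  have hc : ringChar K ≠ 2 := by rw [ringChar.eq K 3]; norm_num
  have hsq := sq_or_neg hK hc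
  have hΓ' : ∀ g ∈ Cfsg.Lie.twistedG2 K (3 ^ m), inv7 ((g : GL Cfsg.Lie.chevG2.Idx K) : Matrix Cfsg.Lie.chevG2.Idx Cfsg.Lie.chevG2.Idx K) :=
    fun g hg => inv7_gen _ hg
  revert P hΓ'
  rw [← AA_eq f hf3 hf]
  intro P hΓ
  have hG := card_G f hf3 hK hc
  have hq : 2 ≤ Fintype.card K := Fintype.one_lt_card
  haveI : Finite ↥((TT f).AA JJ) := Nat.finite_of_card_ne_zero (by
    rw [hG]
    have h1 : 0 < Fintype.card K - 1 := by omega
    have h2 : 0 < Fintype.card K := by omega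
    positivity)
  have hsimple : IsSimpleGroup ↥((TT f).AA JJ) := by
    have h4 : 3 < Fintype.card K := by
      rw [hK]
      have : 3 ^ 3 ≤ 3 ^ (2 * m + 1) := Nat.pow_le_pow_right (by norm_num) (by omega)
      omega
    obtain ⟨u, hu⟩ := exists_unit_ne_two h4
    have hA : (TabG2.good3.toGood2.torusHom (gc f u)) ∈ (TT f).AA JJ := by
      have h5 := H1_eq f hf3 hsq
      have h6 : (TabG2.good3.toGood2.torusHom.comp (gc f)) u ∈ (TabG2.good3.toGood2.torusHom.comp (gc f)).range := ⟨u, rfl⟩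
      rw [← h5] at h6
      exact h6.2
    exact (simple_AA f hf3 hu hA).1
  have hp2 : p ≠ 2 := by omega
  have hp3' : p ≠ 3 := by omega
  have hPP : IsPGroup p (P : Subgroup ↥((TT f).AA JJ)) := P.isPGroup'
  by_cases hd : p ∣ 1 + Fintype.card K ^ 3
  · have h0 : (1 + ((Fintype.card K : ℕ) : ZMod p) ^ 3) = 0 := by
      have := (ZMod.natCast_eq_zero_iff _ _).mpr hd
      push_cast at this
      exact this
    have h1 : (((Fintype.card K : ℕ) : ZMod p) + 1) * (((Fintype.card K : ℕ) : ZMod p) ^ 2 - ((Fintype.card K : ℕ) : ZMod p) + 1) = 0 := by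
      linear_combination h0
    rcases mul_eq_zero.mp h1 with h | h
    · exact (rl f hf3 hsq).cyc_of_Ca hsq hp2 hp3' hG hq (eq_neg_of_add_eq_zero_left h) _ hPP
    · exact cyc_V7 f hf3 hΓ hsimple hp2 hp3' h _ hPP
  · exact (rd f hf3 hsq).cyc_of_not_dvd hp3' hG hq hd _ hPP

end Cfsg.Agent.S1156
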