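import Cfsg.Statements.S1158
import Cfsg.Agent.Lib.Ree.CntC

set_option autoImplicit false
open Cfsg

namespace Cfsg.Agent.S1158




/-- In the small Ree group ²G₂(q), q = 3^(2m+1) with m ≥ 1, realised as G¹ inside the Chevalley group G₂ over the field with q elements (θ the 3^m-th power map), with `r = 3^(m+1)` (so `r² = 3q`): for each `k ∈ {(q-1)/2, (q+1)/4, q - r + 1, q + r + 1}` there is a cyclic subgroup `A` of order `k` whose normaliser has order `2(q-1)`, `6(q+1)`, `6(q-r+1)`, `6(q+r+1)` respectively, and `N(A₀) = N(A)` for every non-trivial `A₀ ≤ A`. -/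
theorem result {K : Type*} [Field K] [Fintype K] {m : ℕ} (hm : 1 ≤ m) (hK : Fintype.card K = 3 ^ (2 * m + 1)) :
    ∀ kn ∈ ({((3 ^ (2 * m + 1) - 1) / 2, 2 * (3 ^ (2 * m + 1) - 1)), ((3 ^ (2 * m + 1) + 1) / 4, 6 * (3 ^ (2 * m + 1) + 1)),
        (3 ^ (2 * m + 1) - 3 ^ (m + 1) + 1, 6 * (3 ^ (2 * m + 1) - 3 ^ (m + 1) + 1)),
        (3 ^ (2 * m + 1) + 3 ^ (m + 1) + 1, 6 * (3 ^ (2 * m + 1) + 3 ^ (m + 1) + 1))} : Set (ℕ × ℕ)),
      ∃ A : Subgroup ↥(Cfsg.Lie.twistedG2 K (3 ^ m)), IsCyclic A ∧ Nat.card A = kn.1 ∧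
        Nat.card (Subgroup.normalizer (A : Set ↥(Cfsg.Lie.twistedG2 K (3 ^ m)))) = kn.2 ∧
        ∀ A₀ : Subgroup ↥(Cfsg.Lie.twistedG2 K (3 ^ m)), A₀ ≤ A → A₀ ≠ ⊥ →
          Subgroup.normalizer (A₀ : Set ↥(Cfsg.Lie.twistedG2 K (3 ^ m))) = Subgroup.normalizer (A : Set ↥(Cfsg.Lie.twistedG2 K (3 ^ m))) := by
  open Cfsg.Agent.Lib.Chev Cfsg.Agent.Lib.Chev.TwG2 Cfsg.Agent.Lib.Ree in
  obtain ⟨hchar, f, hf3, hsq, hAA, hfin, ⟨D⟩⟩ := exists_setup hm hK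
  rw [← hAA]
  obtain ⟨x₀, hx, hd', hxa⟩ := D.toCtx.exists_x₀
  have hr : 3 ^ (m + 1) * 3 ^ (m + 1) = 3 * Fintype.card K := by
    rw [hK]
    ring
  obtain ⟨y₁, y₂, h1, h2, h3, h4, h5, h6, h7, h8, h9, h10, h11⟩ := D.T3_r hx hd' hxa hr
  have hrq : 3 ^ (m + 1) ≤ Fintype.card K := by
    rw [hK]
    exact Nat.pow_le_pow_right (by norm_num) (by omega)
  have e1 : Nat.card ↥(Subgroup.centralizer {y₁}) = Fintype.card K - 3 ^ (m + 1) + 1 := by omega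
  have e2 : Nat.card ↥(Subgroup.centralizer {y₂}) = Fintype.card K + 3 ^ (m + 1) + 1 := by omega
  have hq27 := D.toCtx.hq27
  rw [← hK]
  rintro ⟨k, n⟩ hkn
  simp only [Set.mem_insert_iff, Set.mem_singleton_iff, Prod.mk.injEq] at hkn
  rcases hkn with ⟨rfl, rfl⟩ | ⟨rfl, rfl⟩ | ⟨rfl, rfl⟩ | ⟨rfl, rfl⟩
  · exact (rd f hf3 hsq).sp_part D.toCtx.hq8 (by omega)
  · exact D.toCtx.w_part hx hd' hxa
  · have := D.tor_part h1 h2 h5
    rw [e1] at this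
    exact this
  · have := D.tor_part h3 h4 h6
    rw [e2] at this
    exact this

end Cfsg.Agent.S1158
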