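import Cfsg.Statements.S1159
import Cfsg.Agent.Lib.Ree.CntC

set_option autoImplicit false
open Cfsg

namespace Cfsg.Agent.S1159




/-- In the small Ree group ²G₂(q), q = 3^(2m+1) with m ≥ 1, realised as G¹ inside the Chevalley group G₂ over the field with q elements (θ the 3^m-th power map), with `r = 3^(m+1)`: a natural number is the order of an element of `G¹` iff it divides one of `6`, `9`, `q - 1`, `(q + 1)/2`, `q - r + 1`, `q + r + 1`. -/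
theorem result {K : Type*} [Field K] [Fintype K] {m : ℕ} (hm : 1 ≤ m) (hK : Fintype.card K = 3 ^ (2 * m + 1)) (d : ℕ) :
    (∃ g : ↥(Cfsg.Lie.twistedG2 K (3 ^ m)), orderOf g = d) ↔
      (d ∣ 6 ∨ d ∣ 9 ∨ d ∣ 3 ^ (2 * m + 1) - 1 ∨ d ∣ (3 ^ (2 * m + 1) + 1) / 2 ∨
        d ∣ 3 ^ (2 * m + 1) - 3 ^ (m + 1) + 1 ∨ d ∣ 3 ^ (2 * m + 1) + 3 ^ (m + 1) + 1) := by
  open Cfsg.Agent.Lib.Chev Cfsg.Agent.Lib.Chev.TwG2 Cfsg.Agent.Lib.Ree in
  obtain ⟨hchar, f, hf3, hsq, hAA, hfin, ⟨D⟩⟩ := exists_setup hm hK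
  rw [← hAA]
  obtain ⟨x₀, hx, hd', hxa⟩ := D.toCtx.exists_x₀
  have hr : 3 ^ (m + 1) * 3 ^ (m + 1) = 3 * Fintype.card K := by
    rw [hK]
    ring
  obtain ⟨y₁, y₂, h1, h2, h3, h4, h5, h6, h7, h8, h9, h10, h11⟩ := D.T3_r hx hd' hxa hr
  rw [D.orders_iff hx hd' hxa h1 h2 h3 h4 h9 d]
  have hrq : 3 ^ (m + 1) ≤ Fintype.card K := by
    rw [hK]
    exact Nat.pow_le_pow_right (by norm_num) (by omega)
  have e1 : Nat.card ↥(Subgroup.centralizer {y₁}) = Fintype.card K - 3 ^ (m + 1) + 1 := by omega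
  have e3 : 2 * wq K = (Fintype.card K + 1) / 2 := by
    have := D.toCtx.hq8
    unfold wq
    omega
  have e2 : Fintype.card K + 1 + 3 ^ (m + 1) = Fintype.card K + 3 ^ (m + 1) + 1 := by omega
  rw [e1, h8, e3, e2, hK]

end Cfsg.Agent.S1159
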