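import Cfsg.Statements.S1249
import Mathlib
import Cfsg.Agent.Lib.TwoFusion.Basic

set_option autoImplicit false
open Cfsg

namespace Cfsg.Agent.S1249



/-- Let P and Q be Sylow p-subgroups of the finite group G both containing the subgroup A. If A is strongly closed in P, then A is strongly closed in Q. -/
theorem result {G : Type*} [Group G] [Finite G] {p : ℕ} [Fact p.Prime] (P Q : Sylow p G) (A : Subgroup G) (hAQ : A ≤ Q) (hA : Cfsg.IsStronglyClosed A (P : Subgroup G)) : Cfsg.IsStronglyClosed A (Q : Subgroup G) := by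

  classical
  refine ⟨hAQ, ?_⟩
  intro x hx g hg
  obtain ⟨h, hh⟩ := Cfsg.Agent.Lib.TwoFusion.sylow_conj P Q
  have key : ∀ y : G, y ∈ (Q : Subgroup G) → h⁻¹ * y * h ∈ (P : Subgroup G) := by
    intro y hy
    rw [hh, Cfsg.Agent.Lib.TwoFusion.mem_conj_map] at hy
    exact hy
  -- `h⁻¹ A h ≤ A`
  have h1 : ∀ a ∈ A, h⁻¹ * a * h ∈ A := by
    intro a ha
    have h2 := hA.2 a ha h⁻¹
    rw [inv_inv] at h2
    exact h2 (key a (hAQ ha))
  -- so `h` normalizes `A` by finiteness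
  have h3 : ∀ a ∈ A, h * a * h⁻¹ ∈ A := by
    have hord : ∃ n : ℕ, 0 < n ∧ h ^ n = 1 := ⟨orderOf h, orderOf_pos h, pow_orderOf_eq_one h⟩
    obtain ⟨n, hn, hn1⟩ := hord
    have h4 : ∀ (m : ℕ) (a : G), a ∈ A → (h⁻¹) ^ m * a * h ^ m ∈ A := by
      intro m
      induction m with
      | zero => intro a ha; simpa using ha
      | succ m ih =>
        intro a ha
        have := ih _ (h1 a ha)
        have e : (h⁻¹) ^ (m + 1) * a * h ^ (m + 1) = (h⁻¹) ^ m * (h⁻¹ * a * h) * h ^ m := by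
          rw [pow_succ (h⁻¹) m, pow_succ' h m]
          group
        rw [e]; exact this
    intro a ha
    have h5 := h4 (n - 1) a ha
    have e1 : h ^ (n - 1) = h⁻¹ := by
      have : h ^ (n - 1) * h = 1 := by rw [← pow_succ, Nat.sub_add_cancel hn, hn1]
      exact eq_inv_of_mul_eq_one_left this
    have e2 : (h⁻¹) ^ (n - 1) = h := by
      rw [inv_pow, e1, inv_inv]
    rw [e1, e2] at h5
    exact h5
  have h6 : h⁻¹ * (g * x * g⁻¹) * h ∈ A := by
    have h7 := hA.2 x hx (h⁻¹ * g)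
    have e : h⁻¹ * g * x * (h⁻¹ * g)⁻¹ = h⁻¹ * (g * x * g⁻¹) * h := by group
    rw [e] at h7
    exact h7 (key _ hg)
  have := h3 _ h6
  have e : h * (h⁻¹ * (g * x * g⁻¹) * h) * h⁻¹ = g * x * g⁻¹ := by group
  rwa [e] at this

end Cfsg.Agent.S1249
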