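import Cfsg.Statements.S1250
import Mathlib
import Cfsg.Agent.Lib.TwoFusion.Basic

set_option autoImplicit false
open Cfsg

namespace Cfsg.Agent.S1250



/-- Let S be a Sylow p-subgroup of the finite group G, A ≤ S strongly closed in S, and N a normal subgroup. Then the image of A in G ⧸ N is strongly closed in the image of S (which is a Sylow p-subgroup of G ⧸ N). -/
theorem result {G : Type*} [Group G] [Finite G] {p : ℕ} [Fact p.Prime] (S : Sylow p G) (A : Subgroup G) (hA : Cfsg.IsStronglyClosed A (S : Subgroup G)) (N : Subgroup G) [N.Normal] : Cfsg.IsStronglyClosed (A.map (QuotientGroup.mk' N)) ((S : Subgroup G).map (QuotientGroup.mk' N)) := by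

  classical
  obtain ⟨hAS, hcl⟩ := hA
  refine ⟨Subgroup.map_mono hAS, ?_⟩
  rintro _ ⟨x, hx, rfl⟩ gq hgq
  obtain ⟨g, rfl⟩ := QuotientGroup.mk'_surjective N gq
  -- y := g x g⁻¹ lies in S N
  set y := g * x * g⁻¹ with hy
  have hyimg : (QuotientGroup.mk' N) y ∈ (S : Subgroup G).map (QuotientGroup.mk' N) := by
    have : (QuotientGroup.mk' N) y = (QuotientGroup.mk' N) g * (QuotientGroup.mk' N) x * ((QuotientGroup.mk' N) g)⁻¹ := by
      simp [hy]
    rw [this]; exact hgq
  obtain ⟨s, hs, hse⟩ := hyimg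
  have hyn : s⁻¹ * y ∈ N := by
    rw [← QuotientGroup.ker_mk' N, MonoidHom.mem_ker, map_mul, map_inv, hse]
    simp
  set H := (S : Subgroup G) ⊔ N with hH
  have hSH : (S : Subgroup G) ≤ H := le_sup_left
  have hNH : N ≤ H := le_sup_right
  have hyH : y ∈ H := by
    have : y = s * (s⁻¹ * y) := by group
    rw [this]
    exact H.mul_mem (hSH hs) (hNH hyn)
  -- The order of `y` is a power of `p`
  have hxp : ∃ k : ℕ, orderOf x = p ^ k := by
    have hp : IsPGroup p (S : Subgroup G) := S.isPGroup'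
    obtain ⟨k, hk⟩ := hp ⟨x, hAS hx⟩
    have : orderOf x ∣ p ^ k := by
      apply orderOf_dvd_of_pow_eq_one
      have := congrArg Subtype.val hk
      simpa using this
    obtain ⟨j, _, hj⟩ := (Nat.dvd_prime_pow (Fact.out : p.Prime)).mp this
    exact ⟨j, hj⟩
  have hordy : orderOf y = orderOf x := by
    have : y = MulAut.conj g x := rfl
    rw [this]
    exact MulEquiv.orderOf_eq _ _
  -- S as a Sylow subgroup of H
  let S' : Sylow p H := Sylow.subtype S hSH
  have hS'coe : (S' : Subgroup H) = (S : Subgroup G).subgroupOf H := rfl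
  have hyp : IsPGroup p (Subgroup.zpowers (⟨y, hyH⟩ : H)) := by
    obtain ⟨k, hk⟩ := hxp
    apply IsPGroup.of_card (n := k)
    rw [Nat.card_zpowers]
    have : orderOf (⟨y, hyH⟩ : H) = orderOf y := Subgroup.orderOf_mk y hyH
    rw [this, hordy, hk]
  obtain ⟨R, hR⟩ := hyp.exists_le_sylow
  obtain ⟨u, hu⟩ := MulAction.exists_smul_eq H S' R
  -- decompose u = n s'
  have hsup : ∃ n ∈ N, ∃ s' ∈ (S : Subgroup G), (u : G) = n * s' := by
    have : (u : G) ∈ N ⊔ (S : Subgroup G) := by rw [sup_comm]; exact u.2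
    obtain ⟨n, hn, s', hs', he⟩ := Subgroup.mem_sup_of_normal_left.mp this
    exact ⟨n, hn, s', hs', he.symm⟩
  obtain ⟨n, hn, s', hs', hue⟩ := hsup
  have hy' : (⟨y, hyH⟩ : H) ∈ (R : Subgroup H) := hR (Subgroup.mem_zpowers _)
  rw [← hu, Sylow.coe_subgroup_smul, Subgroup.mem_pointwise_smul_iff_inv_smul_mem, hS'coe,
    Subgroup.mem_subgroupOf] at hy'
  have hconj : (((MulAut.conj u)⁻¹ • (⟨y, hyH⟩ : H) : H) : G) = (u : G)⁻¹ * y * u := by
    rw [MulAut.smul_def, MulAut.conj_inv_apply]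
    rfl
  rw [hconj] at hy'
  -- n⁻¹ y n ∈ S
  have h1 : n⁻¹ * y * n ∈ (S : Subgroup G) := by
    have e : n⁻¹ * y * n = s' * ((u : G)⁻¹ * y * u) * s'⁻¹ := by
      rw [hue]; group
    rw [e]
    exact Subgroup.mul_mem _ (Subgroup.mul_mem _ hs' hy') (Subgroup.inv_mem _ hs')
  have h2 : n⁻¹ * y * n ∈ A := by
    have e : n⁻¹ * y * n = (n⁻¹ * g) * x * (n⁻¹ * g)⁻¹ := by
      rw [hy]; group
    rw [e] at h1 ⊢
    exact hcl x hx _ h1
  refine ⟨n⁻¹ * y * n, h2, ?_⟩
  have hnq : (QuotientGroup.mk' N) n = 1 := by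
    rw [← MonoidHom.mem_ker, QuotientGroup.ker_mk']; exact hn
  rw [map_mul, map_mul, map_inv, hnq]
  simp [hy]

end Cfsg.Agent.S1250
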