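import Cfsg.Statements.S1312
import Mathlib
import Cfsg.Agent.Lib.Components.Layer
import Cfsg.Agent.Lib.Components.Quasi
import Cfsg.Agent.Lib.Basic.Core
import Cfsg.Agent.Lib.OddLocal.HallHigman

set_option autoImplicit false
open Cfsg

namespace Cfsg.Agent.S1312

open Subgroup Cfsg Cfsg.Agent.Lib Cfsg.Agent.Lib.Components
open scoped commutatorElement

section aux
variable {G : Type*} [Group G]

theorem conj_mem_im {M : Subgroup G} {K : Subgroup M} (hK : K.Normal) {g x : G} (hg : g ∈ M)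
    (hx : x ∈ K.map M.subtype) : g * x * g⁻¹ ∈ K.map M.subtype := by
  obtain ⟨k, hk, rfl⟩ := hx
  exact ⟨⟨g, hg⟩ * k * (⟨g, hg⟩ : M)⁻¹, hK.conj_mem k hk _, by simp⟩

theorem comm_of_normalizes {X Y : Subgroup G} (h1 : ∀ x ∈ X, ∀ y ∈ Y, x * y * x⁻¹ ∈ Y)
    (h2 : ∀ y ∈ Y, ∀ x ∈ X, y * x * y⁻¹ ∈ X) (h : X ⊓ Y = ⊥) {x y : G} (hx : x ∈ X) (hy : y ∈ Y) :
    x * y = y * x := by
  have h3 : x * y * x⁻¹ * y⁻¹ ∈ Y := Y.mul_mem (h1 x hx y hy) (Y.inv_mem hy)
  have h4 : x * y * x⁻¹ * y⁻¹ ∈ X := by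
    have : x * y * x⁻¹ * y⁻¹ = x * (y * x⁻¹ * y⁻¹) := by group
    rw [this]; exact X.mul_mem hx (h2 y hy _ (X.inv_mem hx))
  have h5 : x * y * x⁻¹ * y⁻¹ = 1 := by
    have h6 : x * y * x⁻¹ * y⁻¹ ∈ X ⊓ Y := ⟨h4, h3⟩
    rw [h] at h6; exact h6
  calc x * y = (x * y * x⁻¹ * y⁻¹) * (y * x) := by group
    _ = y * x := by rw [h5, one_mul]

/-- A nilpotent subgroup normal in a normal subgroup lies in the Fitting subgroup. -/
theorem le_fit_of_nilp [Finite G] {K N : Subgroup G} (hN : N.Normal) (hKN : K ≤ N)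
    (hn : ∀ n ∈ N, ∀ k ∈ K, n * k * n⁻¹ ∈ K) (hK : Group.IsNilpotent K) : K ≤ fittingSubgroup G := by
  have h1 : (K.subgroupOf N).Normal := by
    refine ⟨fun k hk g => ?_⟩
    rw [Subgroup.mem_subgroupOf] at hk ⊢
    exact hn g g.2 k hk
  have h2 : Group.IsNilpotent (K.subgroupOf N) :=
    Group.nilpotent_of_mulEquiv (Subgroup.subgroupOfEquivOfLe hKN).symm
  have h3 : K.subgroupOf N ≤ fittingSubgroup N := Basic.le_fittingSubgroup_of_nilpotent h1 h2
  have h4 : ((fittingSubgroup N).map N.subtype).Normal := by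
    haveI := Basic.fittingSubgroup_characteristic (G := N)
    infer_instance
  have h5 : Group.IsNilpotent ((fittingSubgroup N).map N.subtype) := by
    haveI := fitting_isNilpotent (G := N)
    exact Group.nilpotent_of_mulEquiv (Subgroup.equivMapOfInjective (fittingSubgroup N) N.subtype (Subgroup.subtype_injective _))
  have h6 := Basic.le_fittingSubgroup_of_nilpotent h4 h5
  intro k hk
  apply h6
  exact ⟨⟨k, hKN hk⟩, h3 hk, rfl⟩

theorem layer_map_le [Finite G] (M N : Subgroup G)
    (h1 : (generalizedFittingSubgroup M).map M.subtype ≤ N)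
    (h2 : (generalizedFittingSubgroup N).map N.subtype ≤ M) :
    (layer M).map M.subtype ≤ (layer N).map N.subtype := by
  rw [Subgroup.map_le_iff_le_comap]
  apply Components.layer_le
  intro L hL
  rw [← Subgroup.map_le_iff_le_comap]
  by_contra hcon
  obtain ⟨L', hL'⟩ : ∃ L' : Subgroup G, L' = L.map M.subtype := ⟨_, rfl⟩
  obtain ⟨EM, hEM⟩ : ∃ EM : Subgroup G, EM = (layer M).map M.subtype := ⟨_, rfl⟩
  obtain ⟨FM, hFM⟩ : ∃ FM : Subgroup G, FM = (fittingSubgroup M).map M.subtype := ⟨_, rfl⟩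
  obtain ⟨GM, hGM⟩ : ∃ GM : Subgroup G, GM = (generalizedFittingSubgroup M).map M.subtype := ⟨_, rfl⟩
  obtain ⟨EN, hEN⟩ : ∃ EN : Subgroup G, EN = (layer N).map N.subtype := ⟨_, rfl⟩
  obtain ⟨FN, hFN⟩ : ∃ FN : Subgroup G, FN = (fittingSubgroup N).map N.subtype := ⟨_, rfl⟩
  obtain ⟨GN, hGN⟩ : ∃ GN : Subgroup G, GN = (generalizedFittingSubgroup N).map N.subtype := ⟨_, rfl⟩
  rw [← hGM] at h1
  rw [← hGN] at h2
  rw [← hL', ← hEN] at hcon
  have hEMG : EM ≤ GM := by rw [hEM, hGM]; exact Subgroup.map_mono layer_le_gfit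
  have hFMG : FM ≤ GM := by rw [hFM, hGM]; exact Subgroup.map_mono fitting_le_gfit
  have hENG : EN ≤ GN := by rw [hEN, hGN]; exact Subgroup.map_mono layer_le_gfit
  have hFNG : FN ≤ GN := by rw [hFN, hGN]; exact Subgroup.map_mono fitting_le_gfit
  have hGNsup : GN = EN ⊔ FN := by
    rw [hGN, hEN, hFN, ← Subgroup.map_sup]; rfl
  have hLE : L' ≤ EM := by rw [hL', hEM]; exact Subgroup.map_mono (component_le_layer hL)
  have hLN : L' ≤ N := (hLE.trans hEMG).trans h1
  have hperf : ⁅L', L'⁆ = L' := by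
    rw [hL', ← Subgroup.map_commutator, component_self hL]
  -- conjugation invariance
  have hconjFN : ∀ g ∈ N, ∀ x ∈ FN, g * x * g⁻¹ ∈ FN := fun g hg x hx => by
    rw [hFN] at hx ⊢; exact conj_mem_im fitting_normal hg hx
  have hconjEN : ∀ g ∈ N, ∀ x ∈ EN, g * x * g⁻¹ ∈ EN := fun g hg x hx => by
    rw [hEN] at hx ⊢; exact conj_mem_im layer_normal hg hx
  have hconjGM : ∀ g ∈ M, ∀ x ∈ GM, g * x * g⁻¹ ∈ GM := fun g hg x hx => by
    rw [hGM] at hx ⊢; exact conj_mem_im gfit_normal hg hx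
  have hconjEM : ∀ g ∈ M, ∀ x ∈ EM, g * x * g⁻¹ ∈ EM := fun g hg x hx => by
    rw [hEM] at hx ⊢; exact conj_mem_im layer_normal hg hx
  have hcommL : ∀ l ∈ L', ∀ x ∈ EM, ∀ y : G, y ∈ M → ⁅x, y⁆ ∈ EM := by
    intro l _ x hx y hy
    rw [commutatorElement_def]
    have e1 : x * y * x⁻¹ * y⁻¹ = x * (y * x⁻¹ * y⁻¹) := by group
    rw [e1]
    exact EM.mul_mem hx (hconjEM y hy _ (EM.inv_mem hx))
  -- (a) L' centralizes FN
  have hFNcen : ⁅L', FN⁆ = ⊥ := by
    apply commutator_eq_bot_of_perfect' hperf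
    rw [Subgroup.commutator_le]
    intro l hl f hf
    have hlN := hLN hl
    have hc1 : ⁅l, f⁆ ∈ FN := by
      rw [commutatorElement_def]
      exact FN.mul_mem (hconjFN l hlN f hf) (FN.inv_mem hf)
    have hfM : f ∈ M := h2 (hFNG hf)
    have hc2 : ⁅l, f⁆ ∈ GM := by
      rw [commutatorElement_def]
      have e1 : l * f * l⁻¹ * f⁻¹ = l * (f * l⁻¹ * f⁻¹) := by group
      rw [e1]
      have hlG := hEMG (hLE hl)
      exact GM.mul_mem hlG (hconjGM f hfM _ (GM.inv_mem hlG))
    have hcM : ⁅l, f⁆ ∈ M := h2 (hFNG hc1)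
    -- the subgroup of M
    have hD : (FN ⊓ GM).comap M.subtype ≤ fittingSubgroup M := by
      apply le_fit_of_nilp (N := generalizedFittingSubgroup M) gfit_normal
      · intro x hx
        have hx2 : (x : G) ∈ GM := hx.2
        rw [hGM] at hx2
        obtain ⟨y, hy, hyx⟩ := hx2
        have : y = x := Subtype.ext hyx
        rwa [← this]
      · intro n hn k hk
        have hk1 : (k : G) ∈ FN := hk.1
        have hk2 : (k : G) ∈ GM := hk.2
        have hnG : (n : G) ∈ GM := by rw [hGM]; exact ⟨n, hn, rfl⟩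
        have hnN : (n : G) ∈ N := h1 hnG
        refine ⟨?_, ?_⟩
        · exact hconjFN _ hnN _ hk1
        · exact hconjGM _ n.2 _ hk2
      · have hFNnil : Group.IsNilpotent FN := by
          rw [hFN]
          haveI := fitting_isNilpotent (G := N)
          exact Group.nilpotent_of_mulEquiv (Subgroup.equivMapOfInjective (fittingSubgroup N) N.subtype (Subgroup.subtype_injective _))
        -- embed
        let φ : ↥((FN ⊓ GM).comap M.subtype) →* ↥FN :=
          { toFun := fun x => ⟨((x : M) : G), (x.2 : ((x : M) : G) ∈ FN ⊓ GM).1⟩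
            map_one' := rfl
            map_mul' := fun _ _ => rfl }
        have hφ : φ.ker ≤ center _ := by
          intro a ha
          have h7 : φ a = 1 := ha
          have h8 : ((a : M) : G) = 1 := congrArg Subtype.val h7
          have h9 : a = 1 := Subtype.ext (Subtype.ext h8)
          rw [h9]
          exact one_mem _
        haveI := hFNnil
        exact Subgroup.isNilpotent_of_ker_le_center φ hφ
    have hc3 : ⁅l, f⁆ ∈ FM := by
      rw [hFM]
      exact ⟨⟨_, hcM⟩, hD ⟨hc1, hc2⟩, rfl⟩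
    -- the layer centralizes the Fitting subgroup
    rw [Subgroup.mem_centralizer_iff]
    intro l' hl'
    rw [hFM] at hc3
    obtain ⟨c, hc, hce⟩ := hc3
    rw [hL'] at hl'
    obtain ⟨l'', hl'', rfl⟩ := hl'
    have h5 := (Subgroup.mem_centralizer_iff.mp (layer_le_centralizer_fitting (component_le_layer hL hl''))) c hc
    rw [← hce]
    have h6 := congrArg (Subtype.val : M → G) h5
    exact h6.symm
  -- (b) L' centralizes EN
  have hENcen : ⁅L', EN⁆ = ⊥ := by
    apply commutator_eq_bot_of_perfect' hperf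
    rw [Subgroup.commutator_le]
    intro l hl e he
    have hlN := hLN hl
    have hc1 : ⁅l, e⁆ ∈ EN := by
      rw [commutatorElement_def]
      exact EN.mul_mem (hconjEN l hlN e he) (EN.inv_mem he)
    have heM : e ∈ M := h2 (hENG he)
    have hc2 : ⁅l, e⁆ ∈ EM := hcommL l hl l (hLE hl) e heM
    have hcM : ⁅l, e⁆ ∈ M := h2 (hENG hc1)
    -- subnormality in M
    have hsub : ((EM ⊓ EN).comap M.subtype).IsSubnormal := by
      refine Subgroup.IsSubnormal.step _ (layer M) ?_ ?_ ?_
      · intro x hx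
        have hx2 : (x : G) ∈ EM := hx.1
        rw [hEM] at hx2
        obtain ⟨y, hy, hyx⟩ := hx2
        have : y = x := Subtype.ext hyx
        rwa [← this]
      · exact (layer_normal (G := M)).isSubnormal
      · refine ⟨fun k hk g => ?_⟩
        rw [Subgroup.mem_subgroupOf] at hk ⊢
        have hk1 : (((k : layer M) : M) : G) ∈ EM := hk.1
        have hk2 : (((k : layer M) : M) : G) ∈ EN := hk.2
        have hgG : (((g : layer M) : M) : G) ∈ EM := by rw [hEM]; exact ⟨g, g.2, rfl⟩
        have hgN : (((g : layer M) : M) : G) ∈ N := h1 (hEMG hgG)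
        refine ⟨?_, ?_⟩
        · exact hconjEM _ (g : M).2 _ hk1
        · exact hconjEN _ hgN _ hk2
    rcases component_le_or_commute hL hsub with h3 | h3
    · exfalso
      apply hcon
      rw [hL', Subgroup.map_le_iff_le_comap]
      intro x hx
      exact (h3 hx).2
    · rw [Subgroup.mem_centralizer_iff]
      intro l' hl'
      rw [hL'] at hl'
      obtain ⟨l'', hl'', rfl⟩ := hl'
      have h4 : ⁅l'', (⟨⁅l, e⁆, hcM⟩ : M)⁆ ∈ ⁅L, (EM ⊓ EN).comap M.subtype⁆ :=
        Subgroup.commutator_mem_commutator hl'' ⟨hc2, hc1⟩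
      rw [h3] at h4
      have h5 : ⁅l'', (⟨⁅l, e⁆, hcM⟩ : M)⁆ = 1 := h4
      rw [commutatorElement_eq_one_iff_mul_comm] at h5
      exact congrArg (Subtype.val : M → G) h5
  -- conclusion
  have hLcen : L' ≤ centralizer (GN : Set G) := by
    rw [hGNsup]
    intro l hl
    rw [Subgroup.mem_centralizer_iff]
    have hcomm : (EN ⊔ FN) ≤ centralizer ({l} : Set G) := by
      refine sup_le ?_ ?_
      · intro e he
        rw [Subgroup.mem_centralizer_singleton_iff]
        have h3 : ⁅l, e⁆ ∈ ⁅L', EN⁆ := Subgroup.commutator_mem_commutator hl he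
        rw [hENcen] at h3
        have h4 : ⁅l, e⁆ = 1 := h3
        rw [commutatorElement_eq_one_iff_mul_comm] at h4
        exact h4.symm
      · intro f hf
        rw [Subgroup.mem_centralizer_singleton_iff]
        have h3 : ⁅l, f⁆ ∈ ⁅L', FN⁆ := Subgroup.commutator_mem_commutator hl hf
        rw [hFNcen] at h3
        have h4 : ⁅l, f⁆ = 1 := h3
        rw [commutatorElement_eq_one_iff_mul_comm] at h4
        exact h4.symm
    intro x hx
    exact Subgroup.mem_centralizer_singleton_iff.mp (hcomm hx)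
  have hLG : L' ≤ GN := by
    intro l hl
    have h3 : (⟨l, hLN hl⟩ : N) ∈ centralizer (generalizedFittingSubgroup N : Set N) := by
      rw [Subgroup.mem_centralizer_iff]
      intro x hx
      have h4 : (x : G) ∈ GN := by rw [hGN]; exact ⟨x, hx, rfl⟩
      have h5 := Subgroup.mem_centralizer_iff.mp (hLcen hl) _ h4
      exact Subtype.ext h5
    have h4 := centralizer_gfit_le h3
    rw [hGN]
    exact ⟨_, h4, rfl⟩
  have habel : ⁅L', L'⁆ = ⊥ := by
    rw [eq_bot_iff, Subgroup.commutator_le]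
    intro a ha b hb
    have h3 := Subgroup.mem_centralizer_iff.mp (hLcen ha) b (hLG hb)
    rw [Subgroup.mem_bot, commutatorElement_eq_one_iff_mul_comm]
    exact h3.symm
  rw [hperf] at habel
  apply component_ne_bot hL
  rw [hL'] at habel
  exact (Subgroup.map_eq_bot_iff_of_injective _ (Subgroup.subtype_injective _)).mp habel


/-- The image in `G` of the `p`-core of `M`. -/
abbrev imC (p : ℕ) (M : Subgroup G) : Subgroup G := (pCore p M).map M.subtype

theorem imC_isPGroup [Finite G] (p : ℕ) [Fact p.Prime] (M : Subgroup G) : IsPGroup p (imC p M) :=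
  (pCore_isPGroup).map _

theorem imC_le_fit [Finite G] (p : ℕ) [Fact p.Prime] (M : Subgroup G) :
    imC p M ≤ (fittingSubgroup M).map M.subtype :=
  Subgroup.map_mono (Basic.pCore_le_fittingSubgroup p)

theorem imC_le (p : ℕ) (M : Subgroup G) : imC p M ≤ M := Subgroup.map_subtype_le _

theorem fit_eq_iSup [Finite G] (M : Subgroup G) :
    (fittingSubgroup M).map M.subtype = ⨆ q : Nat.Primes, imC (q : ℕ) M := by
  rw [Basic.fittingSubgroup_eq_iSup_pCore, Subgroup.map_iSup]

theorem comm_cores [Finite G] {M N : Subgroup G} (hFM : (fittingSubgroup M).map M.subtype ≤ N)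
    (hFN : (fittingSubgroup N).map N.subtype ≤ M) {p q : ℕ} [Fact p.Prime] [Fact q.Prime] (hpq : p ≠ q)
    {x y : G} (hx : x ∈ imC p M) (hy : y ∈ imC q N) : x * y = y * x := by
  apply comm_of_normalizes (X := imC p M) (Y := imC q N) _ _ _ hx hy
  · intro a ha b hb
    exact conj_mem_im (Basic.pCore_normal q) (hFM (imC_le_fit p M ha)) hb
  · intro b hb a ha
    exact conj_mem_im (Basic.pCore_normal p) (hFN (imC_le_fit q N hb)) ha
  · exact disjoint_iff.mp (IsPGroup.disjoint_of_ne p q hpq _ _ (imC_isPGroup p M) (imC_isPGroup q N))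

theorem imC_eq_bot_iff (p : ℕ) (M : Subgroup G) : imC p M = ⊥ ↔ pCore p M = ⊥ :=
  Subgroup.map_eq_bot_iff_of_injective _ (Subgroup.subtype_injective _)

theorem eq_one_of_pow_coprime {x : G} {p : ℕ} (hx : ∃ k, orderOf x = p ^ k) (hc : (orderOf x).Coprime p) : x = 1 := by
  obtain ⟨k, hk⟩ := hx
  rw [hk] at hc
  have h1 : orderOf x = 1 := by
    rw [hk]
    rcases Nat.eq_zero_or_pos k with h | h
    · rw [h, pow_zero]
    · have h2 : p = 1 := by
        have := Nat.Coprime.coprime_dvd_left (dvd_pow_self p h.ne') hc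
        simpa using this
      rw [h2, one_pow]
  exact orderOf_eq_one_iff.mp h1

theorem orderOf_imC [Finite G] {p : ℕ} [Fact p.Prime] {M : Subgroup G} {x : G} (hx : x ∈ imC p M) :
    ∃ k, orderOf x = p ^ k := by
  obtain ⟨k, hk⟩ := (IsPGroup.iff_orderOf.mp (imC_isPGroup p M)) ⟨x, hx⟩
  rw [Subgroup.orderOf_mk] at hk
  exact ⟨k, hk⟩

theorem nonzero_transfer [Finite G] {M N : Subgroup G} (hFM : (fittingSubgroup M).map M.subtype ≤ N)
    (hFN : (fittingSubgroup N).map N.subtype ≤ M)
    (cFN : centralizer (fittingSubgroup N : Set N) ≤ fittingSubgroup N)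
    {p : ℕ} [Fact p.Prime] (h : imC p M ≠ ⊥) : imC p N ≠ ⊥ := by
  intro hN
  apply h
  rw [eq_bot_iff]
  intro x hx
  have hxN : x ∈ N := hFM (imC_le_fit p M hx)
  have h1 : (fittingSubgroup N).map N.subtype ≤ centralizer ({x} : Set G) := by
    rw [fit_eq_iSup]
    refine iSup_le fun q => ?_
    haveI : Fact (q : ℕ).Prime := ⟨q.2⟩
    intro y hy
    rw [Subgroup.mem_centralizer_singleton_iff]
    by_cases hq : (q : ℕ) = p
    · rw [hq, hN] at hy
      have : y = 1 := hy
      simp [this]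
    · exact (comm_cores hFM hFN (Ne.symm hq) hx hy).symm
  have h2 : (⟨x, hxN⟩ : N) ∈ centralizer (fittingSubgroup N : Set N) := by
    rw [Subgroup.mem_centralizer_iff]
    intro y hy
    have h3 := Subgroup.mem_centralizer_singleton_iff.mp (h1 ⟨y, hy, rfl⟩)
    exact Subtype.ext h3
  have h3 := cFN h2
  have h4 : fittingSubgroup N ≤ pPrimeCore p N := by
    rw [Basic.fittingSubgroup_eq_iSup_pCore]
    refine iSup_le fun q => ?_
    haveI : Fact (q : ℕ).Prime := ⟨q.2⟩
    by_cases hq : (q : ℕ) = p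
    · rw [hq, (imC_eq_bot_iff p N).mp hN]
      exact bot_le
    · exact OddLocal.pCore_le_pPrimeCore_of_ne hq
  have h5 := h4 h3
  have h6 : (orderOf (⟨x, hxN⟩ : N)).Coprime p :=
    Nat.Coprime.coprime_dvd_left (Subgroup.orderOf_dvd_natCard _ h5) (coprime_card_pPrimeCore p)
  rw [Subgroup.orderOf_mk] at h6
  exact eq_one_of_pow_coprime (orderOf_imC hx) h6

/-- Key: a `p'`-element of `C_G(O_p(M))` centralizes `O_p(N)`. -/
theorem key [Finite G] {M N : Subgroup G} (hFM : (fittingSubgroup M).map M.subtype ≤ N)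
    (hFN : (fittingSubgroup N).map N.subtype ≤ M)
    (cFM : centralizer (fittingSubgroup M : Set M) ≤ fittingSubgroup M)
    {p : ℕ} [Fact p.Prime] (hCM : centralizer (imC p M : Set G) ≤ M)
    {x : G} (hx : x ∈ centralizer (imC p M : Set G)) (hxo : (orderOf x).Coprime p) :
    x ∈ centralizer (imC p N : Set G) := by
  rw [Subgroup.mem_centralizer_iff]
  intro a' ha'
  have hA' : a' ∈ imC p N := ha'
  have hxM : x ∈ M := hCM hx
  have ha'M : a' ∈ M := hFN (imC_le_fit p N hA')
  obtain ⟨c, hc⟩ : ∃ c, c = x * a' * x⁻¹ * a'⁻¹ := ⟨_, rfl⟩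
  obtain ⟨T, hT⟩ : ∃ T : Subgroup G, T = ⨆ q : {q : Nat.Primes // (q : ℕ) ≠ p}, imC ((q : Nat.Primes) : ℕ) M := ⟨_, rfl⟩
  have hcomm_self : (fittingSubgroup M).map M.subtype ≤ M := Subgroup.map_subtype_le _
  -- T is made of `p'`-elements commuting with everything relevant
  have hTa' : T ≤ centralizer ({a'} : Set G) := by
    rw [hT]
    refine iSup_le fun q => ?_
    haveI : Fact ((q : Nat.Primes) : ℕ).Prime := ⟨(q : Nat.Primes).2⟩
    intro y hy
    rw [Subgroup.mem_centralizer_singleton_iff]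
    exact comm_cores hFM hFN q.2 hy hA'
  have hTM : T ≤ M := by
    rw [hT]
    exact iSup_le fun q => imC_le _ _
  have hTO : T ≤ (pPrimeCore p M).map M.subtype := by
    rw [hT]
    refine iSup_le fun q => ?_
    haveI : Fact ((q : Nat.Primes) : ℕ).Prime := ⟨(q : Nat.Primes).2⟩
    exact Subgroup.map_mono (OddLocal.pCore_le_pPrimeCore_of_ne q.2)
  have hfitT : (fittingSubgroup M).map M.subtype = imC p M ⊔ T := by
    apply le_antisymm
    · rw [fit_eq_iSup]
      refine iSup_le fun q => ?_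
      by_cases hq : (q : ℕ) = p
      · rw [hq]; exact le_sup_left
      · refine le_trans ?_ le_sup_right
        rw [hT]
        exact le_iSup (fun q : {q : Nat.Primes // (q : ℕ) ≠ p} => imC ((q : Nat.Primes) : ℕ) M) ⟨q, hq⟩
    · refine sup_le (imC_le_fit p M) ?_
      rw [hT]
      refine iSup_le fun q => ?_
      haveI : Fact ((q : Nat.Primes) : ℕ).Prime := ⟨(q : Nat.Primes).2⟩
      exact imC_le_fit _ M
  -- c centralizes F(M)
  have hcA : ∀ a ∈ imC p M, c * a = a * c := by
    intro a ha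
    have hb : a'⁻¹ * a * a' ∈ imC p M := by
      have := conj_mem_im (Basic.pCore_normal p) (M := M) (M.inv_mem ha'M) ha
      simpa using this
    have hb1 := Subgroup.mem_centralizer_iff.mp hx _ hb
    have hb2 := Subgroup.mem_centralizer_iff.mp hx _ ha
    have e1 : x * a = a * x := hb2.symm
    have e2 : x * (a'⁻¹ * a * a') = (a'⁻¹ * a * a') * x := hb1.symm
    have e3 : x⁻¹ * a = a * x⁻¹ := (Commute.inv_left (show Commute x a from e1)).eq
    have e4 : x⁻¹ * (a'⁻¹ * a * a') = (a'⁻¹ * a * a') * x⁻¹ :=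
      (Commute.inv_left (show Commute x (a'⁻¹ * a * a') from e2)).eq
    rw [hc]
    calc x * a' * x⁻¹ * a'⁻¹ * a = x * a' * (x⁻¹ * (a'⁻¹ * a * a')) * a'⁻¹ := by group
      _ = x * a' * ((a'⁻¹ * a * a') * x⁻¹) * a'⁻¹ := by rw [e4]
      _ = x * a * a' * x⁻¹ * a'⁻¹ := by group
      _ = a * x * a' * x⁻¹ * a'⁻¹ := by rw [e1]
      _ = a * (x * a' * x⁻¹ * a'⁻¹) := by group
  have hcq : ∀ (q : ℕ) [Fact q.Prime], q ≠ p → ∀ t ∈ imC q M, c * t = t * c := by
    intro q _ hq t ht
    have ht1 : x⁻¹ * t * x ∈ imC q M := by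
      have := conj_mem_im (Basic.pCore_normal q) (M := M) (M.inv_mem hxM) ht
      simpa using this
    have e1 : (x⁻¹ * t * x) * a' = a' * (x⁻¹ * t * x) := comm_cores hFM hFN hq ht1 hA'
    have e2 : t * a' = a' * t := comm_cores hFM hFN hq ht hA'
    have e3 : t * a'⁻¹ = a'⁻¹ * t := (Commute.inv_right (show Commute t a' from e2)).eq
    rw [hc]
    calc x * a' * x⁻¹ * a'⁻¹ * t = x * a' * x⁻¹ * t * a'⁻¹ := by rw [mul_assoc _ a'⁻¹, ← e3, ← mul_assoc]
      _ = x * (a' * (x⁻¹ * t * x)) * x⁻¹ * a'⁻¹ := by group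
      _ = x * ((x⁻¹ * t * x) * a') * x⁻¹ * a'⁻¹ := by rw [e1]
      _ = t * (x * a' * x⁻¹ * a'⁻¹) := by group
  have hcM : c ∈ M := by
    rw [hc]
    exact M.mul_mem (M.mul_mem (M.mul_mem hxM ha'M) (M.inv_mem hxM)) (M.inv_mem ha'M)
  have hcF : c ∈ (fittingSubgroup M).map M.subtype := by
    have h2 : (⟨c, hcM⟩ : M) ∈ centralizer (fittingSubgroup M : Set M) := by
      rw [Subgroup.mem_centralizer_iff]
      intro y hy
      have h3 : (y : G) ∈ (⨆ q : Nat.Primes, imC (q : ℕ) M) := by
        rw [← fit_eq_iSup]; exact ⟨y, hy, rfl⟩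
      have h4 : (⨆ q : Nat.Primes, imC (q : ℕ) M) ≤ centralizer ({c} : Set G) := by
        refine iSup_le fun q => ?_
        haveI : Fact (q : ℕ).Prime := ⟨q.2⟩
        intro t ht
        rw [Subgroup.mem_centralizer_singleton_iff]
        by_cases hq : (q : ℕ) = p
        · rw [hq] at ht
          exact (hcA t ht).symm
        · exact (hcq q hq t ht).symm
      have h5 := Subgroup.mem_centralizer_singleton_iff.mp (h4 h3)
      exact Subtype.ext h5
    exact ⟨_, cFM h2, rfl⟩
  rw [hfitT] at hcF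
  have hTn : T ≤ normalizer (imC p M : Set G) := by
    intro t ht
    rw [Subgroup.mem_normalizer_iff]
    intro a
    have htM := hTM ht
    exact ⟨fun ha => conj_mem_im (Basic.pCore_normal p) htM ha, fun ha => by
      have := conj_mem_im (Basic.pCore_normal p) (M := M) (M.inv_mem htM) ha
      simpa [mul_assoc] using this⟩
  obtain ⟨u, hu, v, hv, huv⟩ := exists_mul_of_mem_sup_of_le_normalizer hTn hcF
  have hva' : v * a' = a' * v := Subgroup.mem_centralizer_singleton_iff.mp (hTa' hv)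
  have hvu : v * u = u * v := by
    have hT2 : T ≤ centralizer ({u} : Set G) := by
      rw [hT]
      refine iSup_le fun q => ?_
      haveI : Fact ((q : Nat.Primes) : ℕ).Prime := ⟨(q : Nat.Primes).2⟩
      intro y hy
      rw [Subgroup.mem_centralizer_singleton_iff]
      exact comm_cores (M := M) (N := M) hcomm_self hcomm_self q.2 hy hu
    exact Subgroup.mem_centralizer_singleton_iff.mp (hT2 hv)
  have hconj : x * a' * x⁻¹ = (u * a') * v := by
    have h1 : x * a' * x⁻¹ = c * a' := by rw [hc]; group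
    rw [h1, huv, mul_assoc, hva', mul_assoc]
  -- `v = 1`
  have hAA' : IsPGroup p ↥(imC p M ⊔ imC p N) := by
    apply IsPGroup.to_sup_of_normal_left' (imC_isPGroup p M) (imC_isPGroup p N)
    intro t ht
    rw [Subgroup.mem_normalizer_iff]
    intro a
    have htM : t ∈ M := hFN (imC_le_fit p N ht)
    exact ⟨fun ha => conj_mem_im (Basic.pCore_normal p) htM ha, fun ha => by
      have := conj_mem_im (Basic.pCore_normal p) (M := M) (M.inv_mem htM) ha
      simpa [mul_assoc] using this⟩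
  have hyS : u * a' ∈ imC p M ⊔ imC p N :=
    (imC p M ⊔ imC p N).mul_mem (Subgroup.mem_sup_left hu) (Subgroup.mem_sup_right hA')
  obtain ⟨k₁, hk₁⟩ := hAA' ⟨u * a', hyS⟩
  obtain ⟨k₂, hk₂⟩ := orderOf_imC hA'
  have hk₁' : (u * a') ^ p ^ k₁ = 1 := congrArg Subtype.val hk₁
  have hk₂' : a' ^ p ^ k₂ = 1 := by rw [← hk₂, pow_orderOf_eq_one]
  have hv1 : v = 1 := by
    have hcv : Commute (u * a') v := by
      show u * a' * v = v * (u * a')
      rw [← mul_assoc v, hvu, mul_assoc, mul_assoc, hva']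
    have h1 : (x * a' * x⁻¹) ^ (p ^ k₁ * p ^ k₂) = 1 := by
      rw [mul_comm (p ^ k₁), pow_mul, conj_pow, hk₂']
      simp
    rw [hconj, hcv.mul_pow, pow_mul, hk₁', one_pow, one_mul] at h1
    have h2 : orderOf v ∣ p ^ k₁ * p ^ k₂ := by
      exact orderOf_dvd_of_pow_eq_one h1
    have h3 : (orderOf v).Coprime p := by
      have hvO := hTO hv
      obtain ⟨w, hw, rfl⟩ := hvO
      rw [show orderOf (M.subtype w) = orderOf w from Subgroup.orderOf_coe w]
      exact Nat.Coprime.coprime_dvd_left (Subgroup.orderOf_dvd_natCard _ hw) (coprime_card_pPrimeCore p)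
    have h4 : orderOf v = 1 := by
      apply Nat.Coprime.eq_one_of_dvd (h3.pow_right (k₁ + k₂))
      rwa [pow_add]
    exact orderOf_eq_one_iff.mp h4
  subst hv1
  rw [mul_one] at hconj
  have hxu : x * u = u * x := (Subgroup.mem_centralizer_iff.mp hx u hu).symm
  have hpow : ∀ m : ℕ, x ^ m * a' * (x ^ m)⁻¹ = u ^ m * a' := by
    intro m
    induction m with
    | zero => simp
    | succ m ih =>
      have hxum : x * u ^ m = u ^ m * x := (Commute.pow_right (show Commute x u from hxu) m)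
      calc x ^ (m + 1) * a' * (x ^ (m + 1))⁻¹ = x * (x ^ m * a' * (x ^ m)⁻¹) * x⁻¹ := by
            rw [pow_succ']; group
        _ = x * (u ^ m * a') * x⁻¹ := by rw [ih]
        _ = u ^ m * (x * a' * x⁻¹) := by rw [← mul_assoc x, hxum]; group
        _ = u ^ (m + 1) * a' := by rw [hconj, pow_succ]; group
  have h5 := hpow (orderOf x)
  rw [pow_orderOf_eq_one, one_mul, inv_one, mul_one] at h5
  have h6 : u ^ orderOf x = 1 := by
    have h7 : u ^ orderOf x * a' = 1 * a' := by rw [one_mul]; exact h5.symm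
    exact mul_right_cancel h7
  have hu1 : u = 1 := by
    apply eq_one_of_pow_coprime (p := p) (orderOf_imC hu)
    exact Nat.Coprime.coprime_dvd_left (orderOf_dvd_of_pow_eq_one h6) hxo
  subst hu1
  rw [one_mul, mul_inv_eq_iff_eq_mul] at hconj
  exact hconj.symm


theorem norm_top {M N : Subgroup G} {X : Subgroup G} (hM : IsCoatom M) (hN : IsCoatom N) (hMN : M ≠ N)
    (hMn : M ≤ normalizer (X : Set G)) (hNn : N ≤ normalizer (X : Set G)) : normalizer (X : Set G) = ⊤ := by
  by_contra h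
  have h1 : normalizer (X : Set G) = M := by
    by_contra h2
    exact h (hM.2 _ (lt_of_le_of_ne hMn (Ne.symm h2)))
  rw [h1] at hNn
  apply hMN
  by_contra h2
  exact hM.1 (hN.2 M (lt_of_le_of_ne hNn (Ne.symm h2)))

theorem cent_le_of_coatom [Finite G] [IsSimpleGroup G] {M K : Subgroup G} (hM : IsCoatom M) (hK : K ≠ ⊥)
    (hKM : K ≤ M) (hn : M ≤ normalizer (K : Set G)) : centralizer (K : Set G) ≤ M := by
  have h1 : normalizer (K : Set G) = M := by
    by_contra h
    have h2 : normalizer (K : Set G) = ⊤ := hM.2 _ (lt_of_le_of_ne hn (Ne.symm h))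
    have h3 : K.Normal := Subgroup.normalizer_eq_top_iff.mp h2
    rcases IsSimpleGroup.eq_bot_or_eq_top_of_normal K h3 with h4 | h4
    · exact hK h4
    · rw [h4] at hKM
      exact hM.1 (top_le_iff.mp hKM)
  rw [← h1]
  intro x hx
  rw [Subgroup.mem_normalizer_iff]
  intro a
  have hc : ∀ a ∈ K, x * a * x⁻¹ = a := fun a ha => by
    have h2 := Subgroup.mem_centralizer_iff.mp hx a ha
    rw [← h2]; group
  constructor
  · intro ha; rwa [hc a ha]
  · intro ha
    have h3 := hc _ ha
    have h4 : x * (x * a * x⁻¹) * x⁻¹ = x * a * x⁻¹ := h3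
    have h5 : x * a * x⁻¹ = a := by
      have h6 : x * (x * a * x⁻¹) * x⁻¹ = x * a * x⁻¹ := h4
      have h7 := mul_left_cancel (a := x) (b := x * a * x⁻¹ * x⁻¹) (c := a * x⁻¹) (by
        calc x * (x * a * x⁻¹ * x⁻¹) = x * (x * a * x⁻¹) * x⁻¹ := by group
          _ = x * a * x⁻¹ := h6
          _ = x * (a * x⁻¹) := by group)
      exact mul_right_cancel h7
    rwa [h5] at ha

theorem le_normalizer_imC [Finite G] (p : ℕ) (M : Subgroup G) : M ≤ normalizer (imC p M : Set G) := by
  intro t htM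
  rw [Subgroup.mem_normalizer_iff]
  intro a
  exact ⟨fun ha => conj_mem_im (Basic.pCore_normal p) htM ha, fun ha => by
    have := conj_mem_im (Basic.pCore_normal p) (M := M) (M.inv_mem htM) ha
    simpa [mul_assoc] using this⟩

theorem no_two [Finite G] [IsSimpleGroup G] {M N : Subgroup G} (hM : IsCoatom M) (hN : IsCoatom N) (hMN : M ≠ N)
    (hFM : (fittingSubgroup M).map M.subtype ≤ N) (hFN : (fittingSubgroup N).map N.subtype ≤ M)
    (cFM : centralizer (fittingSubgroup M : Set M) ≤ fittingSubgroup M)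
    (cFN : centralizer (fittingSubgroup N : Set N) ≤ fittingSubgroup N)
    {p q : ℕ} [Fact p.Prime] [Fact q.Prime] (hpq : p ≠ q) (hp : imC p M ≠ ⊥) (hq : imC q M ≠ ⊥) : False := by
  have hpN : imC p N ≠ ⊥ := nonzero_transfer hFM hFN cFN hp
  have hCM := cent_le_of_coatom hM hp (imC_le p M) (le_normalizer_imC p M)
  have hCN := cent_le_of_coatom hN hpN (imC_le p N) (le_normalizer_imC p N)
  obtain ⟨S, hS⟩ : ∃ S : Set G, S = {x | x ∈ centralizer (imC p M : Set G) ∧ (orderOf x).Coprime p} := ⟨_, rfl⟩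
  have hS' : S = {x | x ∈ centralizer (imC p N : Set G) ∧ (orderOf x).Coprime p} := by
    rw [hS]
    ext x
    exact ⟨fun h => ⟨key hFM hFN cFM hCM h.1 h.2, h.2⟩, fun h => ⟨key hFN hFM cFN hCN h.1 h.2, h.2⟩⟩
  have hinv : ∀ (K : Subgroup G) (p : ℕ), K ≤ normalizer (imC p K : Set G) → ∀ g ∈ K, ∀ x,
      x ∈ ({x | x ∈ centralizer (imC p K : Set G) ∧ (orderOf x).Coprime p} : Set G) →
      g * x * g⁻¹ ∈ ({x | x ∈ centralizer (imC p K : Set G) ∧ (orderOf x).Coprime p} : Set G) := by
    intro K p hK g hg x hx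
    refine ⟨?_, ?_⟩
    · rw [Subgroup.mem_centralizer_iff]
      intro a ha
      have ha' : g⁻¹ * a * g ∈ imC p K := by
        have := conj_mem_im (Basic.pCore_normal p) (M := K) (K.inv_mem hg) ha
        simpa using this
      have h1 := Subgroup.mem_centralizer_iff.mp hx.1 _ ha'
      calc a * (g * x * g⁻¹) = g * ((g⁻¹ * a * g) * x) * g⁻¹ := by group
        _ = g * (x * (g⁻¹ * a * g)) * g⁻¹ := by rw [h1]
        _ = (g * x * g⁻¹) * a := by group
    · have h1 : orderOf (g * x * g⁻¹) = orderOf x :=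
        orderOf_injective (MulAut.conj g).toMonoidHom (MulAut.conj g).injective x
      rw [h1]
      exact hx.2
  have hnorm : ∀ g, (∀ x ∈ S, g * x * g⁻¹ ∈ S) → (∀ x ∈ S, g⁻¹ * x * g⁻¹⁻¹ ∈ S) → g ∈ normalizer (closure S : Set G) := by
    intro g h1 h2
    have h3 : ∀ g : G, (∀ x ∈ S, g * x * g⁻¹ ∈ S) → ∀ y ∈ closure S, g * y * g⁻¹ ∈ closure S := by
      intro g hg y hy
      induction hy using Subgroup.closure_induction with
      | mem x hx => exact Subgroup.subset_closure (hg x hx)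
      | one => simp
      | mul a b _ _ ha hb =>
        have e : g * (a * b) * g⁻¹ = (g * a * g⁻¹) * (g * b * g⁻¹) := by group
        rw [e]
        exact mul_mem ha hb
      | inv a _ ha =>
        have e : g * a⁻¹ * g⁻¹ = (g * a * g⁻¹)⁻¹ := by group
        rw [e]
        exact inv_mem ha
    rw [Subgroup.mem_normalizer_iff]
    intro y
    refine ⟨h3 g h1 y, fun hy => ?_⟩
    have := h3 g⁻¹ h2 _ hy
    simpa [mul_assoc] using this
  have hMn : M ≤ normalizer (closure S : Set G) := by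
    intro g hg
    apply hnorm
    · intro x hx
      rw [hS] at hx ⊢
      exact hinv M p (le_normalizer_imC p M) g hg x hx
    · intro x hx
      rw [hS] at hx ⊢
      exact hinv M p (le_normalizer_imC p M) g⁻¹ (M.inv_mem hg) x hx
  have hNn : N ≤ normalizer (closure S : Set G) := by
    intro g hg
    apply hnorm
    · intro x hx
      rw [hS'] at hx ⊢
      exact hinv N p (le_normalizer_imC p N) g hg x hx
    · intro x hx
      rw [hS'] at hx ⊢
      exact hinv N p (le_normalizer_imC p N) g⁻¹ (N.inv_mem hg) x hx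
  have htop : normalizer (closure S : Set G) = ⊤ := norm_top hM hN hMN hMn hNn
  have hnormal : (closure S).Normal := Subgroup.normalizer_eq_top_iff.mp htop
  have hle : closure S ≤ M := by
    rw [Subgroup.closure_le]
    intro x hx
    rw [hS] at hx
    exact hCM hx.1
  rcases IsSimpleGroup.eq_bot_or_eq_top_of_normal _ hnormal with h1 | h1
  · apply hq
    rw [eq_bot_iff]
    intro y hy
    rw [← h1]
    apply Subgroup.subset_closure
    rw [hS]
    have hself : (fittingSubgroup M).map M.subtype ≤ M := Subgroup.map_subtype_le _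
    refine ⟨?_, ?_⟩
    · rw [Subgroup.mem_centralizer_iff]
      intro a ha
      exact comm_cores hself hself hpq ha hy
    · obtain ⟨k, hk⟩ := orderOf_imC hy
      rw [hk]
      exact Nat.Coprime.pow_left _ ((Nat.coprime_primes Fact.out Fact.out).2 (Ne.symm hpq))
  · rw [h1] at hle
    exact hM.1 (top_le_iff.mp hle)

end aux


/-- Let G be a non-abelian finite simple group and M ≠ N maximal subgroups of G with F*(M) ≤ N and F*(N) ≤ M. Then there is a prime p such that F*(M) and F*(N) are both p-groups. -/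
theorem result {G : Type*} [Group G] [Finite G] [IsSimpleGroup G] (hna : ¬ IsMulCommutative G) (M N : Subgroup G) (hM : IsCoatom M) (hN : IsCoatom N) (hMN : M ≠ N) (h1 : (Cfsg.generalizedFittingSubgroup ↥M).map M.subtype ≤ N) (h2 : (Cfsg.generalizedFittingSubgroup ↥N).map N.subtype ≤ M) : ∃ p : ℕ, p.Prime ∧ IsPGroup p ↥(Cfsg.generalizedFittingSubgroup ↥M) ∧ IsPGroup p ↥(Cfsg.generalizedFittingSubgroup ↥N) := by
  have hL1 := layer_map_le M N h1 h2
  have hL2 := layer_map_le N M h2 h1
  have hLeq := le_antisymm hL1 hL2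
  have hEbot : (layer M).map M.subtype = ⊥ := by
    have hn1 : M ≤ normalizer (((layer M).map M.subtype : Subgroup G) : Set G) := by
      intro t htM
      rw [Subgroup.mem_normalizer_iff]
      intro a
      exact ⟨fun ha => conj_mem_im layer_normal htM ha, fun ha => by
        have := conj_mem_im layer_normal (M := M) (M.inv_mem htM) ha
        simpa [mul_assoc] using this⟩
    have hn2 : N ≤ normalizer (((layer M).map M.subtype : Subgroup G) : Set G) := by
      rw [hLeq]
      intro t htM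
      rw [Subgroup.mem_normalizer_iff]
      intro a
      exact ⟨fun ha => conj_mem_im layer_normal htM ha, fun ha => by
        have := conj_mem_im layer_normal (M := N) (N.inv_mem htM) ha
        simpa [mul_assoc] using this⟩
    have htop := norm_top hM hN hMN hn1 hn2
    rcases IsSimpleGroup.eq_bot_or_eq_top_of_normal _ (Subgroup.normalizer_eq_top_iff.mp htop) with h3 | h3
    · exact h3
    · exfalso
      have h4 : (layer M).map M.subtype ≤ M := Subgroup.map_subtype_le _
      rw [h3] at h4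
      exact hM.1 (top_le_iff.mp h4)
  have hlM : layer M = ⊥ := (Subgroup.map_eq_bot_iff_of_injective _ (Subgroup.subtype_injective _)).mp hEbot
  have hlN : layer N = ⊥ := by
    rw [hLeq] at hEbot
    exact (Subgroup.map_eq_bot_iff_of_injective _ (Subgroup.subtype_injective _)).mp hEbot
  have hgM : generalizedFittingSubgroup M = fittingSubgroup M := by
    unfold generalizedFittingSubgroup; rw [hlM, bot_sup_eq]
  have hgN : generalizedFittingSubgroup N = fittingSubgroup N := by
    unfold generalizedFittingSubgroup; rw [hlN, bot_sup_eq]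
  have cFM : centralizer (fittingSubgroup M : Set M) ≤ fittingSubgroup M := by
    rw [← hgM]; exact centralizer_gfit_le
  have cFN : centralizer (fittingSubgroup N : Set N) ≤ fittingSubgroup N := by
    rw [← hgN]; exact centralizer_gfit_le
  rw [hgM] at h1 ⊢
  rw [hgN] at h2 ⊢
  have hfitp : ∀ (K : Subgroup G) (p : ℕ) [Fact p.Prime], (∀ q : Nat.Primes, (q : ℕ) ≠ p → pCore (q : ℕ) K = ⊥) →
      IsPGroup p (fittingSubgroup K) := by
    intro K p _ h
    have h3 : fittingSubgroup K ≤ pCore p K := by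
      rw [Basic.fittingSubgroup_eq_iSup_pCore]
      refine iSup_le fun q => ?_
      by_cases hq : (q : ℕ) = p
      · rw [hq]
      · rw [h q hq]; exact bot_le
    exact (pCore_isPGroup (p := p)).to_le h3
  by_cases hex : ∃ p : Nat.Primes, imC (p : ℕ) M ≠ ⊥
  · obtain ⟨p, hp⟩ := hex
    haveI : Fact (p : ℕ).Prime := ⟨p.2⟩
    have hqM : ∀ q : Nat.Primes, (q : ℕ) ≠ p → pCore (q : ℕ) M = ⊥ := by
      intro q hq
      haveI : Fact (q : ℕ).Prime := ⟨q.2⟩
      rw [← imC_eq_bot_iff]
      by_contra h3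
      exact no_two hM hN hMN h1 h2 cFM cFN (Ne.symm hq) hp h3
    have hqN : ∀ q : Nat.Primes, (q : ℕ) ≠ p → pCore (q : ℕ) N = ⊥ := by
      intro q hq
      haveI : Fact (q : ℕ).Prime := ⟨q.2⟩
      rw [← imC_eq_bot_iff]
      by_contra h3
      have h4 := nonzero_transfer h2 h1 cFM h3
      exact h4 ((imC_eq_bot_iff _ M).mpr (hqM q hq))
    exact ⟨p, p.2, hfitp M p hqM, hfitp N p hqN⟩
  · push Not at hex
    haveI : Fact (Nat.Prime 2) := ⟨Nat.prime_two⟩
    refine ⟨2, Nat.prime_two, hfitp M 2 fun q _ => (imC_eq_bot_iff _ M).mp (hex q), hfitp N 2 fun q _ => ?_⟩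
    haveI : Fact (q : ℕ).Prime := ⟨q.2⟩
    rw [← imC_eq_bot_iff]
    by_contra h3
    exact (nonzero_transfer h2 h1 cFM h3) (hex q)

end Cfsg.Agent.S1312
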