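import Cfsg.Statements.S1323
import Mathlib
import Cfsg.Agent.Lib.Components.Quasi

set_option autoImplicit false
open Cfsg

namespace Cfsg.Agent.S1323

open Equiv Equiv.Perm Subgroup
open scoped commutatorElement

section
variable {α : Type*} [Fintype α] [DecidableEq α]

theorem pick (D S : Finset α) (h : S.card < D.card) : ∃ a ∈ D, a ∉ S := by
  by_contra hc
  push Not at hc
  exact absurd (Finset.card_le_card (fun a ha => hc a ha)) (by omega)

/-- The 3-cycle `a → b → c → a`. -/
def cyc (a b c : α) : Perm α := swap a b * swap b c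

theorem cyc_a {a b c : α} (hab : a ≠ b) (hac : a ≠ c) : cyc a b c a = b := by
  simp [cyc, swap_apply_of_ne_of_ne hab hac]

theorem cyc_b {a b c : α} (hca : c ≠ a) (hcb : c ≠ b) : cyc a b c b = c := by
  simp [cyc, swap_apply_of_ne_of_ne hca hcb]

theorem cyc_c {a b c : α} : cyc a b c c = a := by
  simp [cyc]

theorem cyc_other {a b c u : α} (ha : u ≠ a) (hb : u ≠ b) (hc : u ≠ c) : cyc a b c u = u := by
  simp [cyc, swap_apply_of_ne_of_ne hb hc, swap_apply_of_ne_of_ne ha hb]

theorem cyc_mem {a b c : α} (hab : a ≠ b) (hbc : b ≠ c) : cyc a b c ∈ alternatingGroup α := by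
  rw [mem_alternatingGroup, cyc, Perm.sign_mul, sign_swap hab, sign_swap hbc]
  rfl

/-- The subgroup of the alternating group fixing `T` pointwise. -/
def fixSet (T : Finset α) : Subgroup (alternatingGroup α) where
  carrier := {x | ∀ t ∈ T, (x : Perm α) t = t}
  mul_mem' := by
    intro x y hx hy t ht
    show (x : Perm α) ((y : Perm α) t) = t
    rw [hy t ht, hx t ht]
  one_mem' := fun _ _ => rfl
  inv_mem' := by
    intro x hx t ht
    show ((x : Perm α))⁻¹ t = t
    rw [inv_eq_iff_eq]
    exact (hx t ht).symm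

theorem mem_fixSet {T : Finset α} {x : alternatingGroup α} :
    x ∈ fixSet T ↔ ∀ t ∈ T, (x : Perm α) t = t := Iff.rfl

theorem cyc_mem_fixSet {T : Finset α} {a b c : α} (hab : a ≠ b) (hbc : b ≠ c) (hac : a ≠ c)
    (ha : a ∉ T) (hb : b ∉ T) (hc : c ∉ T) :
    (⟨cyc a b c, cyc_mem hab hbc⟩ : alternatingGroup α) ∈ fixSet T := by
  intro t ht
  have h1 : t ≠ a := fun h => ha (h ▸ ht)
  have h2 : t ≠ b := fun h => hb (h ▸ ht)
  have h3 : t ≠ c := fun h => hc (h ▸ ht)
  exact cyc_other h1 h2 h3

/-- Move a point off a given one, fixing `T` pointwise. -/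
theorem exists_move {T : Finset α} (hc : 3 ≤ Tᶜ.card) {d : α} (hd : d ∉ T) :
    ∃ x ∈ fixSet T, (x : Perm α) d ≠ d := by
  obtain ⟨e, he, he'⟩ := pick Tᶜ {d} (by simp; omega)
  obtain ⟨f, hf, hf'⟩ := pick Tᶜ {d, e} (by
    have := Finset.card_le_two (a := d) (b := e)
    omega)
  simp only [Finset.mem_singleton, Finset.mem_insert, not_or] at he' hf'
  rw [Finset.mem_compl] at he hf
  have hde : d ≠ e := fun h => he' h.symm
  have hef : e ≠ f := fun h => hf'.2 h.symm
  have hdf : d ≠ f := fun h => hf'.1 h.symm
  refine ⟨_, cyc_mem_fixSet hde hef hdf hd he hf, ?_⟩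
  show cyc d e f d ≠ d
  rw [cyc_a hde hdf]
  exact hde.symm

/-- Fix one point and move another, fixing `T` pointwise. -/
theorem exists_move' {T : Finset α} (hc : 4 ≤ Tᶜ.card) {d d' : α} (hd' : d' ∉ T) (hne : d' ≠ d) :
    ∃ x ∈ fixSet T, (x : Perm α) d = d ∧ (x : Perm α) d' ≠ d' := by
  obtain ⟨e, he, he'⟩ := pick Tᶜ {d, d'} (by
    have := Finset.card_le_two (a := d) (b := d')
    omega)
  obtain ⟨f, hf, hf'⟩ := pick Tᶜ {d, d', e} (by
    have := Finset.card_le_three (a := d) (b := d') (c := e)
    omega)
  simp only [Finset.mem_singleton, Finset.mem_insert, not_or] at he' hf'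
  rw [Finset.mem_compl] at he hf
  have hde : d' ≠ e := fun h => he'.2 h.symm
  have hef : e ≠ f := fun h => hf'.2.2 h.symm
  have hdf : d' ≠ f := fun h => hf'.2.1 h.symm
  refine ⟨_, cyc_mem_fixSet hde hef hdf hd' he hf, ?_, ?_⟩
  · show cyc d' e f d = d
    exact cyc_other hne.symm (fun h => he'.1 h.symm) (fun h => hf'.1 h.symm)
  · show cyc d' e f d' ≠ d'
    rw [cyc_a hde hdf]
    exact hde.symm

/-- The centralizer of `fixSet T` is `fixSet Tᶜ`. -/
theorem centralizer_fixSet {T : Finset α} (hc : 4 ≤ Tᶜ.card) :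
    centralizer (fixSet T : Set (alternatingGroup α)) = fixSet Tᶜ := by
  ext x
  rw [mem_centralizer_iff]
  constructor
  · intro h d hd
    rw [Finset.mem_compl] at hd
    by_contra hne
    have hcomm : ∀ s ∈ fixSet T, ∀ u, (s : Perm α) ((x : Perm α) u) = (x : Perm α) ((s : Perm α) u) := by
      intro s hs u
      have := h s hs
      have h2 : ((s * x : alternatingGroup α) : Perm α) u = ((x * s : alternatingGroup α) : Perm α) u := by
        rw [this]
      exact h2
    by_cases ht : (x : Perm α) d ∈ T
    · obtain ⟨s, hs, hsd⟩ := exists_move (by omega) hd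
      have := hcomm s hs d
      rw [hs _ ht] at this
      exact hsd ((x : Perm α).injective this).symm
    · obtain ⟨s, hs, hsd, hsd'⟩ := exists_move' hc ht hne
      have := hcomm s hs d
      rw [hsd] at this
      exact hsd' this
  · intro hx s hs
    have hdis : Disjoint (s : Perm α) (x : Perm α) := by
      intro u
      by_cases hu : u ∈ T
      · exact Or.inl (hs u hu)
      · exact Or.inr (hx u (Finset.mem_compl.mpr hu))
    exact Subtype.ext hdis.commute.eq

theorem exists_notMem_of_image {T : Finset α} {g : Perm α} (h : ¬ ∀ t ∈ T, g t ∈ T) :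
    ∃ t ∈ T, g t ∉ T := by
  push Not at h
  exact h

/-- A permutation mapping `T` into `T` also has its inverse mapping `T` into `T`. -/
theorem inv_maps {T : Finset α} {g : Perm α} (h : ∀ t ∈ T, g t ∈ T) : ∀ t ∈ T, g⁻¹ t ∈ T := by
  have himg : T.image g = T :=
    Finset.eq_of_subset_of_card_le (fun u hu => by
      obtain ⟨t, ht, rfl⟩ := Finset.mem_image.mp hu
      exact h t ht) (by rw [Finset.card_image_of_injective _ g.injective])
  intro t ht
  rw [← himg] at ht
  obtain ⟨u, hu, rfl⟩ := Finset.mem_image.mp ht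
  simpa using hu

/-- Normalizer criterion: preserving `T` normalizes `fixSet T`. -/
theorem mem_normalizer_of_maps {T : Finset α} {g : alternatingGroup α}
    (h : ∀ t ∈ T, (g : Perm α) t ∈ T) : g ∈ normalizer (fixSet T : Set (alternatingGroup α)) := by
  rw [mem_normalizer_iff]
  intro x
  have hinv := inv_maps h
  constructor
  · intro hx t ht
    show (g : Perm α) ((x : Perm α) (((g⁻¹ : alternatingGroup α) : Perm α) t)) = t
    have : ((g⁻¹ : alternatingGroup α) : Perm α) t = (g : Perm α)⁻¹ t := rfl
    rw [this, hx _ (hinv t ht)]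
    simp
  · intro hx t ht
    have h1 := hx _ (h t ht)
    have h2 : ((g * x * g⁻¹ : alternatingGroup α) : Perm α) ((g : Perm α) t)
        = (g : Perm α) ((x : Perm α) t) := by
      show (g : Perm α) ((x : Perm α) ((g : Perm α)⁻¹ ((g : Perm α) t))) = _
      simp
    rw [h2] at h1
    exact (g : Perm α).injective h1

theorem maps_compl {T : Finset α} {g : Perm α} (h : ∀ t ∈ T, g t ∈ T) : ∀ t ∈ Tᶜ, g t ∈ Tᶜ := by
  intro t ht
  rw [Finset.mem_compl] at ht ⊢
  intro h2
  apply ht
  have := inv_maps h _ h2
  simpa using this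

theorem maps_of_compl {T : Finset α} {g : Perm α} (h : ∀ t ∈ Tᶜ, g t ∈ Tᶜ) : ∀ t ∈ T, g t ∈ T := by
  intro t ht
  by_contra hn
  have := inv_maps h _ (Finset.mem_compl.mpr hn)
  rw [Finset.mem_compl] at this
  apply this
  simpa using ht

/-- An element of the normalizer of `fixSet T` preserves `T`. -/
theorem maps_of_mem_normalizer {T : Finset α} (hc : 3 ≤ Tᶜ.card) {g : alternatingGroup α}
    (hg : g ∈ normalizer (fixSet T : Set (alternatingGroup α))) : ∀ t ∈ T, (g : Perm α) t ∈ T := by
  intro t ht
  by_contra hn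
  obtain ⟨s, hs, hsd⟩ := exists_move hc hn
  have hg' := (mem_normalizer_iff.mp hg s).mp hs
  have hg1 : g⁻¹ ∈ normalizer (fixSet T : Set (alternatingGroup α)) := inv_mem hg
  have h2 := (mem_normalizer_iff.mp hg1 s).mp hs t ht
  apply hsd
  have h3 : ((g⁻¹ * s * g⁻¹⁻¹ : alternatingGroup α) : Perm α) t
      = (g : Perm α)⁻¹ ((s : Perm α) ((g : Perm α) t)) := by
    rw [inv_inv]
    rfl
  rw [h3, Equiv.Perm.inv_eq_iff_eq] at h2
  exact h2

/-- An involution of the alternating group moves at least four points. -/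
theorem four_of_involution {S : Finset α} {y : alternatingGroup α} (hy : orderOf y = 2)
    (hS : ∀ u, (y : Perm α) u ≠ u → u ∈ S) : 4 ≤ S.card := by
  have hy2 : y * y = 1 := by
    rw [← pow_two, ← hy]; exact pow_orderOf_eq_one y
  have hy1 : y ≠ 1 := by
    intro h; rw [h, orderOf_one] at hy; omega
  have hyy : ∀ u, (y : Perm α) ((y : Perm α) u) = u := by
    intro u
    have : ((y * y : alternatingGroup α) : Perm α) u = u := by rw [hy2]; rfl
    exact this
  obtain ⟨a, ha⟩ : ∃ a, (y : Perm α) a ≠ a := by
    by_contra hc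
    push Not at hc
    exact hy1 (Subtype.ext (Equiv.ext hc))
  obtain ⟨b, hb⟩ : ∃ b, b = (y : Perm α) a := ⟨_, rfl⟩
  have hab : a ≠ b := fun h => ha (by rw [← hb]; exact h.symm)
  have hne : (y : Perm α) ≠ swap a b := by
    intro he
    have := y.2
    rw [mem_alternatingGroup, he, sign_swap hab] at this
    exact absurd this (by decide)
  -- another moved point
  obtain ⟨c, hc⟩ : ∃ c, (y : Perm α) c ≠ swap a b c := by
    by_contra hc
    push Not at hc
    exact hne (Equiv.ext hc)
  have hca : c ≠ a := by
    rintro rfl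
    rw [swap_apply_left] at hc
    exact hc hb.symm
  have hya : (y : Perm α) b = a := by rw [hb]; exact hyy a
  have hcb : c ≠ b := by
    rintro rfl
    rw [swap_apply_right] at hc
    exact hc hya
  rw [swap_apply_of_ne_of_ne hca hcb] at hc
  obtain ⟨d, hd⟩ : ∃ d, d = (y : Perm α) c := ⟨_, rfl⟩
  have hcd : c ≠ d := fun h => hc (by rw [← hd]; exact h.symm)
  have hda : d ≠ a := by
    intro h
    apply hca
    have : (y : Perm α) c = (y : Perm α) b := by rw [← hd, h, hya]
    have h3 := (y : Perm α).injective this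
    exact absurd h3 hcb
  have hdb : d ≠ b := by
    intro h
    apply hca
    have : (y : Perm α) c = (y : Perm α) a := by rw [← hd, h, hb]
    exact (y : Perm α).injective this
  have hyd : (y : Perm α) d ≠ d := by
    rw [hd, hyy c, ← hd]
    exact hcd
  have hsub : ({a, b, c, d} : Finset α) ⊆ S := by
    intro u hu
    simp only [Finset.mem_insert, Finset.mem_singleton] at hu
    rcases hu with rfl | rfl | rfl | rfl
    · exact hS _ ha
    · apply hS
      rw [hya]
      exact hab
    · exact hS _ hc
    · exact hS _ hyd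
  have hcard : ({a, b, c, d} : Finset α).card = 4 := by
    rw [Finset.card_insert_of_notMem (by simp [hab, hca.symm, hda.symm]),
      Finset.card_insert_of_notMem (by simp [hcb.symm, hdb.symm]),
      Finset.card_insert_of_notMem (by simp [hcd]), Finset.card_singleton]
  rw [← hcard]
  exact Finset.card_le_card hsub


/-- Simple nonabelian groups are quasisimple. -/
theorem qs_of_simple {X : Type*} [Group X] [hs : IsSimpleGroup X] (hn : ¬ IsMulCommutative X) :
    Cfsg.IsQuasisimple X := by
  have hperf : Group.IsPerfect X := by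
    refine ⟨?_⟩
    rcases IsSimpleGroup.eq_bot_or_eq_top_of_normal (commutator X) inferInstance with h | h
    · exact absurd ((commutator_eq_bot_iff _).mp (by rw [_root_.commutator_def] at h; exact h)) hn
    · exact h
  have hcen : center X = ⊥ := by
    rcases IsSimpleGroup.eq_bot_or_eq_top_of_normal (center X) inferInstance with h | h
    · exact h
    · exact absurd ⟨⟨fun a b => (mem_center_iff.mp (h ▸ mem_top a) b).symm⟩⟩ hn
  exact Cfsg.Agent.Lib.Components.qs_of_surjective_simple hperf (MonoidHom.id X) Function.surjective_id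
    (by rw [hcen]; exact MonoidHom.ker_id)

/-- The copy of the alternating group on the complement of `T`. -/
noncomputable def altHom (T : Finset α) :
    alternatingGroup {u // u ∉ T} →* alternatingGroup α :=
  ((ofSubtype : Perm {u // u ∉ T} →* Perm α).comp (alternatingGroup {u // u ∉ T}).subtype).codRestrict
    (alternatingGroup α) (by
      intro x
      show ofSubtype (x : Perm {u // u ∉ T}) ∈ alternatingGroup α
      rw [mem_alternatingGroup, sign_ofSubtype]
      exact x.2)

theorem altHom_inj (T : Finset α) : Function.Injective (altHom T) := by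
  intro x y h
  have h1 : ofSubtype (x : Perm {u // u ∉ T}) = ofSubtype (y : Perm {u // u ∉ T}) :=
    congrArg Subtype.val h
  exact Subtype.ext (ofSubtype_injective h1)

theorem altHom_range (T : Finset α) : (altHom T).range = fixSet T := by
  ext x
  constructor
  · rintro ⟨y, rfl⟩ t ht
    show ofSubtype (y : Perm {u // u ∉ T}) t = t
    exact ofSubtype_apply_of_not_mem _ (by simpa using ht)
  · intro hx
    have hperm : ∀ u, ((x : Perm α) u ∉ T ↔ u ∉ T) := by
      intro u
      have hm := (mem_fixSet.mp hx)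
      constructor
      · intro h1 h2
        exact h1 (by rw [hm u h2]; exact h2)
      · intro hu h2
        have h3 := hm _ h2
        have := (x : Perm α).injective h3
        exact hu (this ▸ h2)
    have hfix : ∀ u, (x : Perm α) u ≠ u → u ∉ T := fun u hu h2 => hu (hx u h2)
    have heq : ofSubtype ((x : Perm α).subtypePerm hperm) = (x : Perm α) :=
      ofSubtype_subtypePerm hperm hfix
    have hsign : (x : Perm α).subtypePerm hperm ∈ alternatingGroup {u // u ∉ T} := by
      rw [mem_alternatingGroup, ← sign_ofSubtype, heq]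
      exact x.2
    exact ⟨⟨_, hsign⟩, Subtype.ext heq⟩

theorem fixSet_simple (T : Finset α) (hc : 5 ≤ Tᶜ.card) : Cfsg.IsQuasisimple (fixSet T) := by
  have hcard : 5 ≤ Nat.card {u // u ∉ T} := by
    rw [Nat.card_eq_fintype_card, Fintype.card_subtype]
    have : (Finset.univ.filter fun u => u ∉ T) = Tᶜ := by
      ext u; simp
    rw [this]
    exact hc
  haveI hS : IsSimpleGroup (alternatingGroup {u // u ∉ T}) := alternatingGroup.isSimpleGroup hcard
  let e : alternatingGroup {u // u ∉ T} ≃* fixSet T :=
    (MonoidHom.ofInjective (altHom_inj T)).trans (MulEquiv.subgroupCongr (altHom_range T))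
  haveI hS' : IsSimpleGroup (fixSet T) := e.symm.isSimpleGroup
  apply qs_of_simple
  intro hcomm
  -- two non-commuting 3-cycles
  obtain ⟨a, ha, -⟩ := pick Tᶜ ∅ (by rw [Finset.card_empty]; omega)
  obtain ⟨b, hb, hb'⟩ := pick Tᶜ {a} (by rw [Finset.card_singleton]; omega)
  obtain ⟨c, hc1, hc'⟩ := pick Tᶜ {a, b} (by
    have := Finset.card_le_two (a := a) (b := b)
    omega)
  obtain ⟨d, hd, hd'⟩ := pick Tᶜ {a, b, c} (by
    have := Finset.card_le_three (a := a) (b := b) (c := c)
    omega)
  simp only [Finset.mem_singleton, Finset.mem_insert, not_or] at hb' hc' hd'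
  rw [Finset.mem_compl] at ha hb hc1 hd
  have hab : a ≠ b := fun h => hb' h.symm
  have hac : a ≠ c := fun h => hc'.1 h.symm
  have hbc : b ≠ c := fun h => hc'.2 h.symm
  have had : a ≠ d := fun h => hd'.1 h.symm
  have hbd : b ≠ d := fun h => hd'.2.1 h.symm
  have hcd : c ≠ d := fun h => hd'.2.2 h.symm
  have hx := cyc_mem_fixSet hab hbc hac ha hb hc1
  have hy := cyc_mem_fixSet hab hbd had ha hb hd
  have := hcomm.is_comm.comm ⟨_, hx⟩ ⟨_, hy⟩
  have h2 : cyc a b c * cyc a b d = cyc a b d * cyc a b c :=
    congrArg (fun z : fixSet T => ((z : alternatingGroup α) : Perm α)) this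
  have h3 := congrArg (fun f : Perm α => f c) h2
  simp only [Perm.mul_apply] at h3
  rw [cyc_other (a := a) (b := b) (c := d) hac.symm hbc.symm hcd, cyc_c, cyc_a hab had] at h3
  exact hab h3

theorem swap_two_order {a b c d : α} (hab : a ≠ b) (hcd : c ≠ d) (hac : a ≠ c) (had : a ≠ d)
    (hbc : b ≠ c) (hbd : b ≠ d) (hm : swap a b * swap c d ∈ alternatingGroup α) :
    orderOf (⟨_, hm⟩ : alternatingGroup α) = 2 := by
  haveI : Fact (Nat.Prime 2) := ⟨Nat.prime_two⟩
  apply orderOf_eq_prime
  · apply Subtype.ext
    show (swap a b * swap c d) ^ 2 = 1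
    have hdis : Disjoint (swap a b) (swap c d) := by
      intro u
      by_cases hu : u = a
      · subst hu
        exact Or.inr (swap_apply_of_ne_of_ne hac had)
      by_cases hu2 : u = b
      · subst hu2
        exact Or.inr (swap_apply_of_ne_of_ne hbc hbd)
      exact Or.inl (swap_apply_of_ne_of_ne hu hu2)
    rw [hdis.commute.mul_pow, pow_two, pow_two, swap_mul_self, swap_mul_self, one_mul]
  · intro h
    have h1 : (swap a b * swap c d) a = a := by
      have := congrArg (fun z : alternatingGroup α => (z : Perm α) a) h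
      simpa using this
    rw [Perm.mul_apply, swap_apply_of_ne_of_ne hac had, swap_apply_left] at h1
    exact hab h1.symm

theorem standard_fixSet (T : Finset α) (hT : T.card = 4) (hn : 9 ≤ Fintype.card α) :
    Cfsg.IsStandardSubgroup (fixSet T) := by
  have hTc : 5 ≤ Tᶜ.card := by
    rw [Finset.card_compl]; omega
  have hcen := centralizer_fixSet (T := T) (by omega)
  refine ⟨fixSet_simple T hTc, ?_, ?_, ?_⟩
  · rw [hcen]
    refine ⟨?_, ?_⟩
    · -- an involution
      obtain ⟨a, ha, -⟩ := pick T ∅ (by rw [Finset.card_empty]; omega)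
      obtain ⟨b, hb, hb'⟩ := pick T {a} (by rw [Finset.card_singleton]; omega)
      obtain ⟨c, hc, hc'⟩ := pick T {a, b} (by
        have := Finset.card_le_two (a := a) (b := b)
        omega)
      obtain ⟨d, hd, hd'⟩ := pick T {a, b, c} (by
        have := Finset.card_le_three (a := a) (b := b) (c := c)
        omega)
      simp only [Finset.mem_singleton, Finset.mem_insert, not_or] at hb' hc' hd'
      have hab : a ≠ b := fun h => hb' h.symm
      have hac : a ≠ c := fun h => hc'.1 h.symm
      have hbc : b ≠ c := fun h => hc'.2 h.symm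
      have had : a ≠ d := fun h => hd'.1 h.symm
      have hbd : b ≠ d := fun h => hd'.2.1 h.symm
      have hcd : c ≠ d := fun h => hd'.2.2 h.symm
      have hm : swap a b * swap c d ∈ alternatingGroup α := by
        rw [mem_alternatingGroup, Perm.sign_mul, sign_swap hab, sign_swap hcd]
        rfl
      have hord := swap_two_order hab hcd hac had hbc hbd hm
      have hmem : (⟨_, hm⟩ : alternatingGroup α) ∈ fixSet Tᶜ := by
        intro t ht
        rw [Finset.mem_compl] at ht
        have h1 : t ≠ a := fun h => ht (h ▸ ha)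
        have h2 : t ≠ b := fun h => ht (h ▸ hb)
        have h3 : t ≠ c := fun h => ht (h ▸ hc)
        have h4 : t ≠ d := fun h => ht (h ▸ hd)
        show (swap a b * swap c d) t = t
        rw [Perm.mul_apply, swap_apply_of_ne_of_ne h3 h4, swap_apply_of_ne_of_ne h1 h2]
      have hdvd : orderOf (⟨⟨_, hm⟩, hmem⟩ : fixSet Tᶜ) ∣ Nat.card (fixSet Tᶜ) := orderOf_dvd_natCard _
      rw [Subgroup.orderOf_mk, hord] at hdvd
      exact even_iff_two_dvd.mpr hdvd
    · intro g hg
      by_contra hodd
      rw [Nat.not_odd_iff_even] at hodd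
      haveI : Fact (Nat.Prime 2) := ⟨Nat.prime_two⟩
      obtain ⟨y, hy⟩ := exists_prime_orderOf_dvd_card' 2 (even_iff_two_dvd.mp hodd)
      have hy' : orderOf (y : alternatingGroup α) = 2 := by
        rw [Subgroup.orderOf_coe]; exact hy
      obtain ⟨hy1, hy2⟩ := Subgroup.mem_inf.mp y.2
      obtain ⟨z, hz, hzy⟩ := Subgroup.mem_map.mp hy2
      have hzy' : (y : alternatingGroup α) = g * z * g⁻¹ := hzy.symm
      have hfour := four_of_involution (S := T ∩ T.image (g : Perm α)) hy' (by
        intro u hu
        rw [Finset.mem_inter]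
        constructor
        · by_contra hn
          exact hu (hy1 u (Finset.mem_compl.mpr hn))
        · rw [Finset.mem_image]
          by_contra hn
          push Not at hn
          apply hu
          have hv : ((g : Perm α)⁻¹ u) ∉ T := fun h => hn _ h (by simp)
          have h3 := hz _ (Finset.mem_compl.mpr hv)
          rw [hzy']
          show (g : Perm α) ((z : Perm α) ((g : Perm α)⁻¹ u)) = u
          rw [h3]
          simp)
      have hsub : T ∩ T.image (g : Perm α) = T := by
        apply Finset.eq_of_subset_of_card_le Finset.inter_subset_left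
        omega
      have hsub2 : T ⊆ T.image (g : Perm α) := Finset.inter_eq_left.mp hsub
      have himg : T = T.image (g : Perm α) := by
        apply Finset.eq_of_subset_of_card_le hsub2
        rw [Finset.card_image_of_injective _ (g : Perm α).injective]
      apply hg
      apply mem_normalizer_of_maps
      apply maps_compl
      intro t ht
      rw [himg]
      exact Finset.mem_image_of_mem _ ht
  · intro g _ hbot
    -- a point off `T ∪ g T`
    obtain ⟨e, -, he⟩ := pick (Finset.univ : Finset α) (T ∪ T.image (g : Perm α)) (by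
      rw [Finset.card_univ]
      have h1 := Finset.card_union_le T (T.image (g : Perm α))
      rw [Finset.card_image_of_injective _ (g : Perm α).injective] at h1
      omega)
    rw [Finset.mem_union, not_or] at he
    obtain ⟨he1, he2⟩ := he
    obtain ⟨e₀, he₀⟩ : ∃ e₀, e₀ = (g : Perm α)⁻¹ e := ⟨_, rfl⟩
    have hee : (g : Perm α) e₀ = e := by rw [he₀]; simp
    have he₀T : e₀ ∉ T := fun h => he2 (by
      rw [← hee]; exact Finset.mem_image_of_mem _ h)
    obtain ⟨c₀, hc₀, hc₀'⟩ := pick Tᶜ {e₀} (by rw [Finset.card_singleton]; omega)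
    obtain ⟨d₀, hd₀, hd₀'⟩ := pick Tᶜ {e₀, c₀} (by
      have := Finset.card_le_two (a := e₀) (b := c₀)
      omega)
    simp only [Finset.mem_singleton, Finset.mem_insert, not_or] at hc₀' hd₀'
    rw [Finset.mem_compl] at hc₀ hd₀
    have hec : e₀ ≠ c₀ := fun h => hc₀' h.symm
    have hed : e₀ ≠ d₀ := fun h => hd₀'.1 h.symm
    have hcd : c₀ ≠ d₀ := fun h => hd₀'.2 h.symm
    obtain ⟨a, ha, ha'⟩ := pick Tᶜ {e, (g : Perm α) c₀, (g : Perm α) d₀} (by
      have := Finset.card_le_three (a := e) (b := (g : Perm α) c₀) (c := (g : Perm α) d₀)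
      omega)
    obtain ⟨b, hb, hb'⟩ := pick Tᶜ {e, a} (by
      have := Finset.card_le_two (a := e) (b := a)
      omega)
    simp only [Finset.mem_singleton, Finset.mem_insert, not_or] at ha' hb'
    rw [Finset.mem_compl] at ha hb
    have hea : e ≠ a := fun h => ha'.1 h.symm
    have heb : e ≠ b := fun h => hb'.1 h.symm
    have hab : a ≠ b := fun h => hb'.2 h.symm
    have hxm := cyc_mem_fixSet hea hab heb he1 ha hb
    have hzm := cyc_mem_fixSet hec hcd hed he₀T hc₀ hd₀
    obtain ⟨x, hx⟩ : ∃ x : alternatingGroup α, x = ⟨cyc e a b, cyc_mem hea hab⟩ := ⟨_, rfl⟩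
    obtain ⟨z, hz⟩ : ∃ z : alternatingGroup α, z = ⟨cyc e₀ c₀ d₀, cyc_mem hec hcd⟩ := ⟨_, rfl⟩
    have hxT : x ∈ fixSet T := hx ▸ hxm
    have hzT : z ∈ fixSet T := hz ▸ hzm
    have hy : g * z * g⁻¹ ∈ (fixSet T).map (MulAut.conj g).toMonoidHom :=
      Subgroup.mem_map.mpr ⟨z, hzT, rfl⟩
    have hcomm : ⁅x, g * z * g⁻¹⁆ = 1 := by
      have := Subgroup.commutator_mem_commutator hxT hy
      rw [hbot] at this
      exact (Subgroup.mem_bot).mp this
    rw [commutatorElement_eq_one_iff_mul_comm] at hcomm
    have h3 := congrArg (fun w : alternatingGroup α => (w : Perm α) e) hcomm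
    have hx1 : ∀ u, (x : Perm α) u = cyc e a b u := by
      intro u; rw [hx]
    have hz1 : ∀ u, (z : Perm α) u = cyc e₀ c₀ d₀ u := by
      intro u; rw [hz]
    have hl : ((x * (g * z * g⁻¹) : alternatingGroup α) : Perm α) e = cyc e a b ((g : Perm α) c₀) := by
      show (x : Perm α) ((g : Perm α) ((z : Perm α) ((g : Perm α)⁻¹ e))) = _
      rw [← he₀, hz1, cyc_a hec hed, hx1]
    have hya : (((g * z * g⁻¹ : alternatingGroup α)) : Perm α) a = a := by
      show (g : Perm α) ((z : Perm α) ((g : Perm α)⁻¹ a)) = a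
      rw [hz1, cyc_other]
      · simp
      · intro h
        apply hea
        have : a = (g : Perm α) e₀ := by rw [← h]; simp
        rw [this, hee]
      · intro h
        apply ha'.2.1
        rw [← h]; simp
      · intro h
        apply ha'.2.2
        rw [← h]; simp
    have hr : (((g * z * g⁻¹) * x : alternatingGroup α) : Perm α) e = a := by
      show ((g * z * g⁻¹ : alternatingGroup α) : Perm α) ((x : Perm α) e) = a
      rw [hx1, cyc_a hea heb, hya]
    have h4 : cyc e a b ((g : Perm α) c₀) = cyc e a b e := by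
      rw [cyc_a hea heb, ← hl, ← hr]
      exact h3
    have h5 := (show Function.Injective (cyc e a b) from (cyc e a b).injective) h4
    apply hec
    apply (g : Perm α).injective
    rw [hee, h5]
  · rw [hcen]
    ext g
    constructor
    · intro hg
      exact mem_normalizer_of_maps (maps_compl (maps_of_mem_normalizer (by omega) hg))
    · intro hg
      have h2 : 3 ≤ (Tᶜ)ᶜ.card := by
        rw [compl_compl]; omega
      exact mem_normalizer_of_maps (maps_of_compl (maps_of_mem_normalizer h2 hg))

end


/-- For n ≥ 9, the subgroup of the alternating group on Fin n fixing each of the points 0, 1, 2, 3 is a standard subgroup. -/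
theorem result (n : ℕ) (h4 : 4 ≤ n) (hn : 9 ≤ n) : Cfsg.IsStandardSubgroup (⨅ i : Fin 4, MulAction.stabilizer ↥(alternatingGroup (Fin n)) (Fin.castLE h4 i : Fin n)) := by
  have hL : (⨅ i : Fin 4, MulAction.stabilizer ↥(alternatingGroup (Fin n)) (Fin.castLE h4 i : Fin n))
      = fixSet (Finset.univ.image (Fin.castLE h4)) := by
    ext x
    rw [Subgroup.mem_iInf, mem_fixSet]
    constructor
    · intro h t ht
      obtain ⟨i, -, rfl⟩ := Finset.mem_image.mp ht
      exact MulAction.mem_stabilizer_iff.mp (h i)
    · intro h i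
      exact MulAction.mem_stabilizer_iff.mpr (h _ (Finset.mem_image_of_mem _ (Finset.mem_univ i)))
  rw [hL]
  apply standard_fixSet
  · rw [Finset.card_image_of_injective _ (Fin.castLE_injective h4)]
    simp
  · simpa using hn

end Cfsg.Agent.S1323
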