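import Cfsg.Statements.S1339
import Mathlib
import Cfsg.Agent.Lib.Components.Local2

set_option autoImplicit false
open Cfsg

namespace Cfsg.Agent.S1339

open Cfsg.Agent.Lib.Components

section aux

variable {F : Type*} [Field F] {n : ℕ} {i j : Fin n}

theorem cen_entries {M : Matrix (Fin n) (Fin n) F} (hM : M * Matrix.single i j (1 : F) = Matrix.single i j (1 : F) * M) :
    (∀ k, k ≠ i → M k i = 0) ∧ (∀ l, l ≠ j → M j l = 0) ∧ M i i = M j j := by
  have h := fun a b => congrFun (congrFun hM a) b
  refine ⟨?_, ?_, ?_⟩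
  · intro k hk
    have h1 := h k j
    rw [Matrix.mul_single_apply_same, Matrix.single_mul_apply_of_ne _ _ _ _ _ hk] at h1
    simpa using h1
  · intro l hl
    have h1 := h i l
    rw [Matrix.mul_single_apply_of_ne _ _ _ _ _ hl, Matrix.single_mul_apply_same] at h1
    simpa using h1.symm
  · have h1 := h i j
    rw [Matrix.mul_single_apply_same, Matrix.single_mul_apply_same] at h1
    simpa using h1

theorem L1 {x N : Matrix (Fin n) (Fin n) F} (hx : ∀ k, k ≠ i → ∀ l, l ≠ j → x k l = (1 : Matrix (Fin n) (Fin n) F) k l)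
    (hN : ∀ l, l ≠ j → N j l = 0) {k l : Fin n} (hk : k ≠ i) (hl : l ≠ j) : (x * N) k l = N k l := by
  rw [Matrix.mul_apply]
  have h1 : ∑ m, x k m * N m l = ∑ m, (1 : Matrix (Fin n) (Fin n) F) k m * N m l := by
    apply Finset.sum_congr rfl
    intro m _
    by_cases hm : m = j
    · subst hm
      rw [hN l hl, mul_zero, mul_zero]
    · rw [hx k hk m hm]
  rw [h1, ← Matrix.mul_apply, one_mul]

theorem L2 {x h : Matrix (Fin n) (Fin n) F} (hx : ∀ k, k ≠ i → ∀ l, l ≠ j → x k l = (1 : Matrix (Fin n) (Fin n) F) k l)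
    {k l : Fin n} (hk : h k i = 0) (hl : l ≠ j) : (h * x) k l = h k l := by
  rw [Matrix.mul_apply]
  have h1 : ∑ m, h k m * x m l = ∑ m, h k m * (1 : Matrix (Fin n) (Fin n) F) m l := by
    apply Finset.sum_congr rfl
    intro m _
    by_cases hm : m = i
    · subst hm
      rw [hk, zero_mul, zero_mul]
    · rw [hx m hm l hl]
  rw [h1, ← Matrix.mul_apply, mul_one]

theorem L3 {hx x u : Matrix (Fin n) (Fin n) F} {k : Fin n} (hs : ∀ m, m ≠ j → hx k m = x k m) (hu : ∀ l, l ≠ j → u j l = 0)
    {l : Fin n} (hl : l ≠ j) : (hx * u) k l = (x * u) k l := by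
  rw [Matrix.mul_apply, Matrix.mul_apply]
  apply Finset.sum_congr rfl
  intro m _
  by_cases hm : m = j
  · subst hm
    rw [hu l hl, mul_zero, mul_zero]
  · rw [hs m hm]

end aux

section main

variable {F : Type*} [Field F] [Fintype F] [DecidableEq F] {n : ℕ} {i j : Fin n}
  {t : Matrix.SpecialLinearGroup (Fin n) F}

/-- the centralizer -/
abbrev XX (t : Matrix.SpecialLinearGroup (Fin n) F) : Subgroup (Matrix.SpecialLinearGroup (Fin n) F) :=
  Subgroup.centralizer ({t} : Set (Matrix.SpecialLinearGroup (Fin n) F))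

/-- the matrix of an element -/
def mm (x : XX t) : Matrix (Fin n) (Fin n) F := ((x : Matrix.SpecialLinearGroup (Fin n) F) : Matrix (Fin n) (Fin n) F)

omit [Fintype F] in
theorem mm_mul (x y : XX t) : mm (x * y) = mm x * mm y := rfl

omit [Fintype F] in
theorem mm_one : mm (1 : XX t) = 1 := rfl

omit [Fintype F] in
theorem mm_inj {x y : XX t} (h : mm x = mm y) : x = y := by
  apply Subtype.ext
  apply Subtype.ext
  exact h

omit [Fintype F] in
theorem mm_inv_mul (x : XX t) : mm x⁻¹ * mm x = 1 := by
  rw [← mm_mul, inv_mul_cancel, mm_one]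

omit [Fintype F] in
theorem mm_mul_inv (x : XX t) : mm x * mm x⁻¹ = 1 := by
  rw [← mm_mul, mul_inv_cancel, mm_one]

omit [Fintype F] in
theorem hXm (ht : (t : Matrix (Fin n) (Fin n) F) = Matrix.transvection i j 1) (x : XX t) :
    mm x * Matrix.single i j (1 : F) = Matrix.single i j (1 : F) * mm x := by
  have h1 : (x : Matrix.SpecialLinearGroup (Fin n) F) * t = t * (x : Matrix.SpecialLinearGroup (Fin n) F) :=
    Subgroup.mem_centralizer_singleton_iff.mp x.2
  have h2 := congrArg (fun g : Matrix.SpecialLinearGroup (Fin n) F => (g : Matrix (Fin n) (Fin n) F)) h1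
  simp only [Matrix.SpecialLinearGroup.coe_mul, ht, Matrix.transvection, mul_add, add_mul, mul_one, one_mul] at h2
  exact add_left_cancel h2

end main


/-- Let F be a field with 2 elements, n ≥ 3, and t ∈ SL(n, F) a transvection (t = 1 + E_{ij}, i ≠ j). Then the generalized Fitting subgroup of C(t) is O_2(C(t)). -/
theorem result {F : Type*} [Field F] [Fintype F] [DecidableEq F] (hF : Fintype.card F = 2) (n : ℕ) (hn : 3 ≤ n) (i j : Fin n) (hij : i ≠ j) (t : Matrix.SpecialLinearGroup (Fin n) F) (ht : (t : Matrix (Fin n) (Fin n) F) = Matrix.transvection i j 1) : Cfsg.generalizedFittingSubgroup ↥(Subgroup.centralizer ({t} : Set (Matrix.SpecialLinearGroup (Fin n) F))) = Cfsg.pCore 2 ↥(Subgroup.centralizer ({t} : Set (Matrix.SpecialLinearGroup (Fin n) F))) := by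
  classical
  haveI : Fact (Nat.Prime 2) := ⟨Nat.prime_two⟩
  -- the field
  have hF01 : ∀ a : F, a ≠ 0 → a = 1 := by
    intro a ha
    have := FiniteField.pow_card_sub_one_eq_one a ha
    rw [hF] at this
    simpa using this
  have h11 : (1 : F) + 1 = 0 := by
    by_contra hne
    have := hF01 _ hne
    have h2 : (1 : F) = 0 := by
      have h3 : (1 : F) + 1 = 1 + 0 := by rw [this, add_zero]
      exact add_left_cancel h3
    exact one_ne_zero h2
  have hadd : ∀ a : F, a + a = 0 := by
    intro a
    by_cases ha : a = 0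
    · rw [ha, add_zero]
    · rw [hF01 a ha, h11]
  have hEnt := fun x : XX t => cen_entries (hXm ht x)
  -- diagonal entries
  have hdiag : ∀ x : XX t, mm x i i = 1 := by
    intro x
    apply hF01
    intro h0
    have h2 := congrFun (congrFun (mm_inv_mul x) i) i
    rw [Matrix.mul_apply, Matrix.one_apply_eq] at h2
    have h3 : ∑ m, mm x⁻¹ i m * mm x m i = 0 := by
      apply Finset.sum_eq_zero
      intro m _
      by_cases hm : m = i
      · subst hm; rw [h0, mul_zero]
      · rw [(hEnt x).1 m hm, mul_zero]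
    rw [h3] at h2
    exact zero_ne_one h2
  -- the subgroup T
  let T : Subgroup (XX t) :=
    { carrier := {x | ∀ k, k ≠ i → ∀ l, l ≠ j → mm x k l = (1 : Matrix (Fin n) (Fin n) F) k l}
      mul_mem' := by
        intro a b ha hb k hk l hl
        rw [mm_mul, L1 ha (hEnt b).2.1 hk hl]
        exact hb k hk l hl
      one_mem' := by
        intro k _ l _
        rfl
      inv_mem' := by
        intro a ha k hk l hl
        have h1 := L1 ha (hEnt a⁻¹).2.1 hk hl
        rw [mm_mul_inv] at h1
        exact h1.symm }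
  have hTmem : ∀ x : XX t, x ∈ T ↔ ∀ k, k ≠ i → ∀ l, l ≠ j → mm x k l = (1 : Matrix (Fin n) (Fin n) F) k l := fun x => Iff.rfl
  have hTn : T.Normal := by
    constructor
    intro x hx h k hk l hl
    rw [mm_mul, mm_mul]
    have h1 : (mm h * mm x * mm h⁻¹) k l = (mm h * mm h⁻¹) k l := by
      apply L3 _ (hEnt h⁻¹).2.1 hl
      intro m hm
      exact L2 hx ((hEnt h).1 k hk) hm
    rw [h1, mm_mul_inv]
  have hT2 : IsPGroup 2 T := by
    rintro ⟨x, hx⟩
    refine ⟨2, ?_⟩
    apply Subtype.ext
    change x ^ 2 ^ 2 = 1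
    apply mm_inj
    have hx4 : x ^ 2 ^ 2 = (x * x) * (x * x) := by
      rw [show (2 : ℕ) ^ 2 = 2 + 2 from rfl, pow_add, pow_two]
    rw [hx4, mm_mul, mm_mul, mm_one]
    obtain ⟨N, hN⟩ : ∃ N, N = mm x - 1 := ⟨_, rfl⟩
    have hA : mm x = 1 + N := by rw [hN]; abel
    have hN1 : ∀ k, k ≠ i → ∀ l, l ≠ j → N k l = 0 := by
      intro k hk l hl
      rw [hN, Matrix.sub_apply, hx k hk l hl, sub_self]
    have hN2 : ∀ k, N k i = 0 := by
      intro k
      rw [hN, Matrix.sub_apply]
      by_cases hk : k = i
      · subst hk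
        rw [hdiag x, Matrix.one_apply_eq, sub_self]
      · rw [(hEnt x).1 k hk, Matrix.one_apply_ne hk, sub_self]
    have hN3 : ∀ l, N j l = 0 := by
      intro l
      rw [hN, Matrix.sub_apply]
      by_cases hl : l = j
      · subst hl
        rw [← (hEnt x).2.2, hdiag x, Matrix.one_apply_eq, sub_self]
      · rw [(hEnt x).2.1 l hl, Matrix.one_apply_ne (Ne.symm hl), sub_self]
    have hP : ∀ a b, (a ≠ i ∨ b ≠ j) → (N * N) a b = 0 := by
      intro a b hab
      rw [Matrix.mul_apply]
      apply Finset.sum_eq_zero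
      intro m _
      rcases hab with ha | hb
      · by_cases hm : m = j
        · subst hm; rw [hN3, mul_zero]
        · rw [hN1 a ha m hm, zero_mul]
      · by_cases hm : m = i
        · subst hm; rw [hN2, zero_mul]
        · rw [hN1 m hm b hb, mul_zero]
    have hPP : (N * N) * (N * N) = 0 := by
      ext a b
      rw [Matrix.mul_apply, Matrix.zero_apply]
      apply Finset.sum_eq_zero
      intro m _
      by_cases hm : m = j
      · subst hm; rw [hP m b (Or.inl (Ne.symm hij)), mul_zero]
      · rw [hP a m (Or.inr hm), zero_mul]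
    have hNN : N + N = 0 := by
      ext a b
      rw [Matrix.add_apply, hadd, Matrix.zero_apply]
    have hPPa : N * N + N * N = 0 := by
      ext a b
      rw [Matrix.add_apply, hadd, Matrix.zero_apply]
    have h1 : mm x * mm x = 1 + N * N := by
      rw [hA, mul_add, add_mul, add_mul, one_mul, one_mul, mul_one, add_assoc, ← add_assoc N N, hNN, zero_add]
    rw [h1, mul_add, add_mul, add_mul, one_mul, one_mul, mul_one, add_assoc, ← add_assoc (N * N) (N * N), hPPa, zero_add, hPP, add_zero]
  have hCT : Subgroup.centralizer (T : Set (XX t)) ≤ T := by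
    intro h hh k hk l hl
    by_cases hkj : k = j
    · subst hkj
      rw [(hEnt h).2.1 l hl, Matrix.one_apply_ne (Ne.symm hl)]
    · have hik : i ≠ k := Ne.symm hk
      let y₀ : Matrix.SpecialLinearGroup (Fin n) F := ⟨Matrix.transvection i k 1, Matrix.det_transvection_of_ne i k hik 1⟩
      have hy₀t : y₀ * t = t * y₀ := by
        apply Subtype.ext
        change Matrix.transvection i k 1 * (t : Matrix (Fin n) (Fin n) F) = (t : Matrix (Fin n) (Fin n) F) * Matrix.transvection i k 1
        rw [ht]
        simp only [Matrix.transvection, mul_add, add_mul, mul_one, one_mul]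
        rw [Matrix.single_mul_single_of_ne (1 : F) i k i hk (1 : F), Matrix.single_mul_single_of_ne (1 : F) i j i (Ne.symm hij) (1 : F)]
        abel
      let y : XX t := ⟨y₀, Subgroup.mem_centralizer_singleton_iff.mpr hy₀t⟩
      have hmy : mm y = 1 + Matrix.single i k (1 : F) := rfl
      have hyT : y ∈ T := by
        intro a ha b _
        rw [hmy, Matrix.add_apply, Matrix.single_apply_of_ne, add_zero]
        · exact fun h0 => ha h0.1.symm
      have hcomm := Subgroup.mem_centralizer_iff.mp hh y hyT
      have h1 : mm y * mm h = mm h * mm y := by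
        rw [← mm_mul, ← mm_mul, hcomm]
      rw [hmy, mul_add, add_mul, mul_one, one_mul] at h1
      have h2 : Matrix.single i k (1 : F) * mm h = mm h * Matrix.single i k (1 : F) := add_left_cancel h1
      have h3 := congrFun (congrFun h2 i) l
      rw [Matrix.single_mul_apply_same, one_mul] at h3
      rw [h3]
      by_cases hlk : l = k
      · subst hlk
        rw [Matrix.mul_single_apply_same, mul_one, hdiag, Matrix.one_apply_eq]
      · rw [Matrix.mul_single_apply_of_ne _ _ _ _ _ hlk, Matrix.one_apply_ne (Ne.symm hlk)]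
  have hTt : IsPType 2 T := by
    refine ⟨?_, ?_⟩
    · rw [Cfsg.layer, sSup_eq_bot]
      intro K hK
      exact absurd (isSolvable_of_isPGroup (hT2.to_subgroup K)) (qs_not_solvable hK.2)
    · have h1 : IsPGroup 2 (Cfsg.pPrimeCore 2 T) := hT2.to_subgroup _
      obtain ⟨a, ha⟩ := IsPGroup.iff_card.mp h1
      have h2 := coprime_card_pPrimeCore (G := T) 2
      rw [ha] at h2
      rcases a with _ | a
      · rw [pow_zero] at ha
        exact Subgroup.eq_bot_of_card_eq _ ha
      · exfalso
        have h3 := Nat.Coprime.eq_one_of_dvd h2.symm (dvd_pow_self 2 (Nat.succ_ne_zero a))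
        omega
  exact isPType_iff.mp (isPType_of_centralizer_le hTn hT2 hCT hTt)

end Cfsg.Agent.S1339
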