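import Cfsg.Statements.S1340
import Mathlib
import Cfsg.Agent.Lib.Components.Quasi
import Cfsg.Agent.Lib.Classical.PSL2Simple

set_option autoImplicit false
open Cfsg

namespace Cfsg.Agent.S1340

open Cfsg.Agent.Lib.Components

section aux

variable {F : Type*} [Field F] {m : ℕ}

/-- block extension of a matrix -/
def bext (A : Matrix (Fin m) (Fin m) F) : Matrix (Fin (m + 1)) (Fin (m + 1)) F :=
  Matrix.of fun a b => Fin.cases (Fin.cases 1 (fun _ => 0) b) (fun a' => Fin.cases 0 (fun b' => A a' b') b) a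

@[simp] theorem bext_00 (A : Matrix (Fin m) (Fin m) F) : bext A 0 0 = 1 := rfl
@[simp] theorem bext_0s (A : Matrix (Fin m) (Fin m) F) (b : Fin m) : bext A 0 b.succ = 0 := rfl
@[simp] theorem bext_s0 (A : Matrix (Fin m) (Fin m) F) (a : Fin m) : bext A a.succ 0 = 0 := rfl
@[simp] theorem bext_ss (A : Matrix (Fin m) (Fin m) F) (a b : Fin m) : bext A a.succ b.succ = A a b := rfl

theorem bext_mul (A B : Matrix (Fin m) (Fin m) F) : bext (A * B) = bext A * bext B := by
  ext a b
  refine Fin.cases ?_ (fun a' => ?_) a <;> refine Fin.cases ?_ (fun b' => ?_) b <;>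
    simp [Matrix.mul_apply, Fin.sum_univ_succ]

theorem bext_one : bext (1 : Matrix (Fin m) (Fin m) F) = 1 := by
  ext a b
  refine Fin.cases ?_ (fun a' => ?_) a <;> refine Fin.cases ?_ (fun b' => ?_) b <;>
    simp [Matrix.one_apply, Fin.succ_ne_zero, (Fin.succ_ne_zero _).symm]

theorem bext_det (A : Matrix (Fin m) (Fin m) F) : (bext A).det = A.det := by
  rw [Matrix.det_succ_row_zero, Fin.sum_univ_succ]
  simp only [bext_0s, mul_zero, zero_mul, Finset.sum_const_zero, add_zero]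
  simp only [bext_00, mul_one, Fin.val_zero, pow_zero, one_mul]
  congr 1

theorem det_of_first (x : Matrix (Fin (m + 1)) (Fin (m + 1)) F) (h0 : x 0 0 = 1) (h1 : ∀ b : Fin m, x 0 b.succ = 0)
    (h2 : ∀ a : Fin m, x a.succ 0 = 0) : x = bext (x.submatrix Fin.succ Fin.succ) := by
  ext a b
  refine Fin.cases ?_ (fun a' => ?_) a <;> refine Fin.cases ?_ (fun b' => ?_) b <;>
    simp [h0, h1, h2]

end aux

section main

variable {F : Type*} [Field F] [DecidableEq F] {m : ℕ}

/-- the embedding of SL(m) in SL(m+1) -/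
def iota0 : Matrix.SpecialLinearGroup (Fin m) F →* Matrix.SpecialLinearGroup (Fin (m + 1)) F :=
  MonoidHom.mk' (fun A => ⟨bext (A : Matrix (Fin m) (Fin m) F), by rw [bext_det]; exact A.2⟩) (by
    intro A B
    apply Subtype.ext
    exact bext_mul _ _)

/-- the embedding in GL -/
def iota : Matrix.SpecialLinearGroup (Fin m) F →* Matrix.GeneralLinearGroup (Fin (m + 1)) F :=
  Matrix.SpecialLinearGroup.toGL.comp iota0

theorem iota_coe (A : Matrix.SpecialLinearGroup (Fin m) F) :
    ((iota A : Matrix.GeneralLinearGroup (Fin (m + 1)) F) : Matrix (Fin (m + 1)) (Fin (m + 1)) F) =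
      bext (A : Matrix (Fin m) (Fin m) F) := rfl

/-- the diagonal -/
def dd (F : Type*) [Field F] (m : ℕ) : Fin (m + 1) → F := Fin.cons (-1) (fun _ => 1)

omit [DecidableEq F] in
@[simp] theorem dd_0 : dd F m 0 = -1 := rfl
omit [DecidableEq F] in
@[simp] theorem dd_s (a : Fin m) : dd F m a.succ = 1 := rfl

omit [DecidableEq F] in
theorem dd_sq (a : Fin (m + 1)) : dd F m a * dd F m a = 1 := by
  refine Fin.cases ?_ (fun a' => ?_) a <;> simp

/-- the involution -/
def tt : Matrix.GeneralLinearGroup (Fin (m + 1)) F :=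
  ⟨Matrix.diagonal (dd F m), Matrix.diagonal (dd F m), by
    rw [Matrix.diagonal_mul_diagonal]
    ext a b
    by_cases hab : a = b
    · subst hab; simp [dd_sq]
    · simp [Matrix.diagonal_apply_ne _ hab, Matrix.one_apply_ne hab], by
    rw [Matrix.diagonal_mul_diagonal]
    ext a b
    by_cases hab : a = b
    · subst hab; simp [dd_sq]
    · simp [Matrix.diagonal_apply_ne _ hab, Matrix.one_apply_ne hab]⟩

theorem tt_coe : ((tt : Matrix.GeneralLinearGroup (Fin (m + 1)) F) : Matrix (Fin (m + 1)) (Fin (m + 1)) F) = Matrix.diagonal (dd F m) := rfl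

theorem tt_comm_iota (A : Matrix.SpecialLinearGroup (Fin m) F) : iota A * tt = tt * iota A := by
  apply Units.ext
  rw [Units.val_mul, Units.val_mul, tt_coe, iota_coe]
  ext a b
  rw [Matrix.mul_diagonal, Matrix.diagonal_mul]
  refine Fin.cases ?_ (fun a' => ?_) a <;> refine Fin.cases ?_ (fun b' => ?_) b <;> simp

theorem tt_sq : (tt : Matrix.GeneralLinearGroup (Fin (m + 1)) F) * tt = 1 := by
  apply Units.ext
  rw [Units.val_mul, tt_coe, Matrix.diagonal_mul_diagonal]
  ext a b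
  by_cases hab : a = b
  · subst hab; simp [dd_sq]
  · simp [Matrix.diagonal_apply_ne _ hab, Matrix.one_apply_ne hab]

/-- commutation with t forces the block shape -/
theorem block_of_comm (h2 : (2 : F) ≠ 0) (g : Matrix.GeneralLinearGroup (Fin (m + 1)) F)
    (hg : g * tt = tt * g) (s : Fin m) :
    (g : Matrix (Fin (m + 1)) (Fin (m + 1)) F) 0 s.succ = 0 ∧
      (g : Matrix (Fin (m + 1)) (Fin (m + 1)) F) s.succ 0 = 0 := by
  have h := congrArg (fun u : Matrix.GeneralLinearGroup (Fin (m + 1)) F =>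
    (u : Matrix (Fin (m + 1)) (Fin (m + 1)) F)) hg
  simp only [Units.val_mul, tt_coe] at h
  have h1 := congrFun (congrFun h 0) s.succ
  have h3 := congrFun (congrFun h s.succ) 0
  rw [Matrix.mul_diagonal, Matrix.diagonal_mul] at h1 h3
  simp only [dd_0, dd_s, mul_one, neg_mul, one_mul, mul_neg] at h1 h3
  constructor
  · have : (2 : F) * (g : Matrix (Fin (m + 1)) (Fin (m + 1)) F) 0 s.succ = 0 := by
      linear_combination h1
    exact (mul_eq_zero.mp this).resolve_left h2
  · have : (2 : F) * (g : Matrix (Fin (m + 1)) (Fin (m + 1)) F) s.succ 0 = 0 := by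
      linear_combination -h3
    exact (mul_eq_zero.mp this).resolve_left h2

/-- conjugating a block matrix by a matrix commuting with t -/
theorem conj_mem (h2 : (2 : F) ≠ 0) (g : Matrix.GeneralLinearGroup (Fin (m + 1)) F)
    (hg : g * tt = tt * g) (A : Matrix.SpecialLinearGroup (Fin m) F) :
    ∃ B : Matrix.SpecialLinearGroup (Fin m) F, iota B = g * iota A * g⁻¹ := by
  have hgi : g⁻¹ * tt = tt * g⁻¹ := by
    calc g⁻¹ * tt = g⁻¹ * (tt * g) * g⁻¹ := by group
      _ = g⁻¹ * (g * tt) * g⁻¹ := by rw [hg]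
      _ = tt * g⁻¹ := by group
  obtain ⟨Y, hY⟩ : ∃ Y, Y = g * iota A * g⁻¹ := ⟨_, rfl⟩
  have hgb := block_of_comm h2 g hg
  have hib := block_of_comm h2 g⁻¹ hgi
  have hgg : (g : Matrix (Fin (m + 1)) (Fin (m + 1)) F) * ((g⁻¹ : Matrix.GeneralLinearGroup (Fin (m + 1)) F) : Matrix (Fin (m + 1)) (Fin (m + 1)) F) = 1 := by
    rw [← Units.val_mul, mul_inv_cancel]; rfl
  have hY' : (Y : Matrix (Fin (m + 1)) (Fin (m + 1)) F) =
      (g : Matrix (Fin (m + 1)) (Fin (m + 1)) F) * bext (A : Matrix (Fin m) (Fin m) F) *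
        ((g⁻¹ : Matrix.GeneralLinearGroup (Fin (m + 1)) F) : Matrix (Fin (m + 1)) (Fin (m + 1)) F) := by
    rw [hY]; rfl
  obtain ⟨g0, hg0⟩ : ∃ x, x = (g : Matrix (Fin (m + 1)) (Fin (m + 1)) F) := ⟨_, rfl⟩
  obtain ⟨i0, hi0⟩ : ∃ x, x = ((g⁻¹ : Matrix.GeneralLinearGroup (Fin (m + 1)) F) : Matrix (Fin (m + 1)) (Fin (m + 1)) F) := ⟨_, rfl⟩
  rw [← hg0, ← hi0] at hY' hgg
  rw [← hg0] at hgb
  rw [← hi0] at hib
  have h00 : g0 0 0 * i0 0 0 = 1 := by
    have := congrFun (congrFun hgg 0) 0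
    simpa [Matrix.mul_apply, Fin.sum_univ_succ, (hib _).2, (hgb _).1] using this
  have hr : ∀ s : Fin m, (Y : Matrix (Fin (m + 1)) (Fin (m + 1)) F) 0 s.succ = 0 := by
    intro s
    rw [hY']
    simp [Matrix.mul_apply, Fin.sum_univ_succ, (hib _).2, (hgb _).1, (hib _).1, (hgb _).2]
  have hc : ∀ s : Fin m, (Y : Matrix (Fin (m + 1)) (Fin (m + 1)) F) s.succ 0 = 0 := by
    intro s
    rw [hY']
    simp [Matrix.mul_apply, Fin.sum_univ_succ, (hib _).2, (hgb _).1, (hib _).1, (hgb _).2]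
  have h0 : (Y : Matrix (Fin (m + 1)) (Fin (m + 1)) F) 0 0 = 1 := by
    rw [hY']
    simp [Matrix.mul_apply, Fin.sum_univ_succ, (hib _).2, (hgb _).1, (hib _).1, (hgb _).2, h00]
  have hdet : (Y : Matrix (Fin (m + 1)) (Fin (m + 1)) F).det = 1 := by
    rw [hY']
    rw [Matrix.det_mul, Matrix.det_mul, bext_det, A.2, mul_one, ← Matrix.det_mul, hgg, Matrix.det_one]
  have hform := det_of_first _ h0 hr hc
  refine ⟨⟨(Y : Matrix (Fin (m + 1)) (Fin (m + 1)) F).submatrix Fin.succ Fin.succ, ?_⟩, ?_⟩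
  · rw [← bext_det, ← hform, hdet]
  · rw [← hY]
    apply Units.ext
    exact hform.symm

/-- the entries of a diagonal -/
def d0 (F : Type*) [Field F] (m : ℕ) (i j : Fin m) : Fin m → F :=
  fun a => (if a = i then -1 else 1) * (if a = j then -1 else 1)

theorem d0_sq (i j : Fin m) (a : Fin m) : d0 F m i j a * d0 F m i j a = 1 := by
  unfold d0
  split_ifs <;> simp

theorem d0_prod (i j : Fin m) (hij : i ≠ j) : ∏ a, d0 F m i j a = 1 := by
  unfold d0
  rw [Finset.prod_mul_distrib]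
  have : ∀ (k : Fin m), (∏ a, if a = k then (-1 : F) else 1) = -1 := by
    intro k
    rw [Finset.prod_ite_eq']
    simp
  rw [this, this]
  simp


/-- SL(m) is quasisimple outside the exceptions. -/
theorem sl_qs [Fintype F] (hF : Odd (Fintype.card F)) (hm : 2 ≤ m) (h33 : ¬ (m + 1 = 3 ∧ Fintype.card F = 3)) :
    IsQuasisimple (Matrix.SpecialLinearGroup (Fin m) F) := by
  by_cases h3 : 3 ≤ m
  · have hc : 3 ≤ Fintype.card (Fin m) := by simpa using h3
    exact ⟨⟨Cfsg.Agent.Lib.Classical.commutator_sl_eq_top_of_three_le hc⟩,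
      Cfsg.Agent.Lib.Classical.psl_isSimpleGroup_of_three_le hc⟩
  · have hm2 : m = 2 := by omega
    subst hm2
    have hne : Fintype.card F ≠ 3 := fun h => h33 ⟨rfl, h⟩
    have h1 : 1 < Fintype.card F := Fintype.one_lt_card
    have h4 : 4 ≤ Nat.card F := by
      rw [Nat.card_eq_fintype_card]
      obtain ⟨k, hk⟩ := hF
      omega
    obtain ⟨a, ha, ha1⟩ := Cfsg.Agent.Lib.Classical.exists_sq_ne_one h4
    exact ⟨⟨Cfsg.Agent.Lib.Classical.commutator_sl_eq_top_of_sq_ne_one a ha ha1⟩,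
      Cfsg.Agent.Lib.Classical.psl_isSimpleGroup_of_sq_ne_one a ha ha1⟩

end main


/-- Let F be a finite field of odd order and n ≥ 3 with (n, |F|) ≠ (3, 3). Then GL(n, F) has a non-central involution t such that C(t) / O(C(t)) has a component. -/
theorem result {F : Type*} [Field F] [Fintype F] [DecidableEq F] (hF : Odd (Fintype.card F)) (n : ℕ) (hn : 3 ≤ n) (h33 : ¬ (n = 3 ∧ Fintype.card F = 3)) : ∃ t : Matrix.GeneralLinearGroup (Fin n) F, orderOf t = 2 ∧ t ∉ Subgroup.center (Matrix.GeneralLinearGroup (Fin n) F) ∧ Cfsg.HasComponent (↥(Subgroup.centralizer ({t} : Set (Matrix.GeneralLinearGroup (Fin n) F))) ⧸ Cfsg.oddCore ↥(Subgroup.centralizer ({t} : Set (Matrix.GeneralLinearGroup (Fin n) F)))) := by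
  obtain ⟨m, rfl⟩ : ∃ m, n = m + 1 := ⟨n - 1, by omega⟩
  have hm : 2 ≤ m := by omega
  have h2 : (2 : F) ≠ 0 := by
    intro h
    have h3 : ringChar F = 2 := CharP.ringChar_of_prime_eq_zero Nat.prime_two (by exact_mod_cast h)
    have h4 := FiniteField.even_card_of_char_two h3
    obtain ⟨k, hk⟩ := hF
    omega
  have h11 : (-1 : F) ≠ 1 := by
    intro h
    apply h2
    linear_combination -h
  have hq : IsQuasisimple (Matrix.SpecialLinearGroup (Fin m) F) := sl_qs hF hm h33
  refine ⟨tt, ?_, ?_, ?_⟩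
  · haveI : Fact (Nat.Prime 2) := ⟨Nat.prime_two⟩
    refine orderOf_eq_prime (by rw [pow_two]; exact tt_sq) ?_
    intro h
    have h5 := congrArg (fun u : Matrix.GeneralLinearGroup (Fin (m + 1)) F =>
      (u : Matrix (Fin (m + 1)) (Fin (m + 1)) F) 0 0) h
    simp only [tt_coe, Matrix.diagonal_apply_eq, dd_0, Units.val_one, Matrix.one_apply_eq] at h5
    exact h11 h5
  · intro h
    rw [Subgroup.mem_center_iff] at h
    obtain ⟨s⟩ : Nonempty (Fin m) := ⟨⟨0, by omega⟩⟩
    have hne : (0 : Fin (m + 1)) ≠ s.succ := (Fin.succ_ne_zero s).symm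
    have hg := h (Matrix.SpecialLinearGroup.toGL ⟨Matrix.transvection 0 s.succ 1, Matrix.det_transvection_of_ne _ _ hne _⟩)
    have h6 := (block_of_comm h2 _ hg s).1
    have h7 : (Matrix.transvection (0 : Fin (m + 1)) s.succ (1 : F)) 0 s.succ = 0 := h6
    simp [Matrix.transvection, Matrix.one_apply, hne] at h7
  · obtain ⟨ι', hι'⟩ : ∃ ι' : Matrix.SpecialLinearGroup (Fin m) F →* ↥(Subgroup.centralizer ({tt} : Set (Matrix.GeneralLinearGroup (Fin (m + 1)) F))),
        ∀ A, ((ι' A : _) : Matrix.GeneralLinearGroup (Fin (m + 1)) F) = iota A :=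
      ⟨iota.codRestrict _ (fun A => Subgroup.mem_centralizer_singleton_iff.2 (tt_comm_iota A)), fun A => rfl⟩
    obtain ⟨φ, hφ⟩ : ∃ φ : Matrix.SpecialLinearGroup (Fin m) F →* (↥(Subgroup.centralizer ({tt} : Set (Matrix.GeneralLinearGroup (Fin (m + 1)) F))) ⧸ Cfsg.oddCore ↥(Subgroup.centralizer ({tt} : Set (Matrix.GeneralLinearGroup (Fin (m + 1)) F)))),
        ∀ A, φ A = QuotientGroup.mk (ι' A) :=
      ⟨(QuotientGroup.mk' _).comp ι', fun A => rfl⟩
    have hnorm : φ.range.Normal := by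
      constructor
      rintro _ ⟨A, rfl⟩ x
      obtain ⟨g, rfl⟩ := QuotientGroup.mk_surjective x
      obtain ⟨B, hB⟩ := conj_mem h2 (g : Matrix.GeneralLinearGroup (Fin (m + 1)) F)
        (Subgroup.mem_centralizer_singleton_iff.1 g.2) A
      refine ⟨B, ?_⟩
      rw [hφ, hφ]
      have : ι' B = g * ι' A * g⁻¹ := by
        apply Subtype.ext
        rw [hι']
        simp only [Subgroup.coe_mul, Subgroup.coe_inv, hι']
        exact hB
      rw [this]
      rfl
    have hnt : Nontrivial φ.range := by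
      obtain ⟨i, j, hij⟩ : ∃ i j : Fin m, i ≠ j :=
        ⟨⟨0, by omega⟩, ⟨1, by omega⟩, by simp [Fin.ext_iff]⟩
      have hdet : (Matrix.diagonal (d0 F m i j)).det = 1 := by
        rw [Matrix.det_diagonal]; exact d0_prod i j hij
      obtain ⟨A, hA⟩ : ∃ A : Matrix.SpecialLinearGroup (Fin m) F, (A : Matrix (Fin m) (Fin m) F) = Matrix.diagonal (d0 F m i j) :=
        ⟨⟨_, hdet⟩, rfl⟩
      have hA2 : A * A = 1 := by
        apply Subtype.ext
        change (A : Matrix (Fin m) (Fin m) F) * (A : Matrix (Fin m) (Fin m) F) = 1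
        rw [hA, Matrix.diagonal_mul_diagonal]
        ext a b
        by_cases hab : a = b
        · subst hab; simp [d0_sq]
        · simp [Matrix.diagonal_apply_ne _ hab, Matrix.one_apply_ne hab]
      have hy2 : (ι' A) * (ι' A) = 1 := by rw [← map_mul, hA2, map_one]
      have hy1 : ι' A ≠ 1 := by
        intro h
        have h8 := congrArg (fun u : ↥(Subgroup.centralizer ({tt} : Set (Matrix.GeneralLinearGroup (Fin (m + 1)) F))) =>
          (((u : _) : Matrix.GeneralLinearGroup (Fin (m + 1)) F) : Matrix (Fin (m + 1)) (Fin (m + 1)) F) i.succ i.succ) h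
        simp only [hι', iota_coe, bext_ss, hA, Matrix.diagonal_apply_eq] at h8
        simp [d0, hij] at h8
        exact h11 h8
      have hy3 : φ A ≠ 1 := by
        intro h
        rw [hφ, QuotientGroup.eq_one_iff] at h
        have h9 : (orderOf (ι' A)).Coprime 2 := Nat.Coprime.coprime_dvd_left (Subgroup.orderOf_dvd_natCard _ h) (coprime_card_pPrimeCore 2)
        have h10 : orderOf (ι' A) ∣ 2 := orderOf_dvd_of_pow_eq_one (by rw [pow_two]; exact hy2)
        have h12 : orderOf (ι' A) = 1 := Nat.Coprime.eq_one_of_dvd h9 h10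
        exact hy1 (orderOf_eq_one_iff.1 h12)
      exact ⟨⟨φ A, A, rfl⟩, 1, fun h => hy3 (congrArg Subtype.val h)⟩
    refine ⟨φ.range, hnorm.isSubnormal, ?_⟩
    exact qs_of_surjective hq φ.rangeRestrict φ.rangeRestrict_surjective

end Cfsg.Agent.S1340
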