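import Cfsg.Statements.S1349
import Mathlib
import Cfsg.Agent.S1312
import Cfsg.Agent.Lib.Components.Signal
import Cfsg.Agent.Lib.OddLocal.PGroup
import Cfsg.Agent.Lib.OddLocal.Sup
import Cfsg.Agent.Lib.TwoGroups.Present
import Cfsg.Agent.Lib.Basic.Index2
import Cfsg.Agent.Lib.Basic.Solv1
import Cfsg.Agent.Lib.Coprime.Action

set_option autoImplicit false
open Cfsg

namespace Cfsg.Agent.S1349

open Subgroup Cfsg Cfsg.Agent.Lib Cfsg.Agent.Lib.Components Cfsg.Agent.S1312
open scoped commutatorElement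

section aux
variable {G : Type*} [Group G] [Finite G]

/-- Eigenvector data. -/
structure Eig (L A : Subgroup G) where
  x : G
  χ : ↥A →* ℤˣ
  q : ℕ
  hq : q.Prime
  hx : x ∈ (pCore q L).map L.subtype
  ho : orderOf x = q
  he : ∀ a : A, (a : G) * x * (a : G)⁻¹ = x ^ ((χ a : ℤˣ) : ℤ)

/-- The common kernel. -/
def Kl {L A : Subgroup G} (l : List (Eig L A)) : Subgroup A where
  carrier := {a | ∀ e ∈ l, e.χ a = 1}
  mul_mem' := by
    intro a b ha hb e he
    rw [map_mul, ha e he, hb e he, one_mul]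
  one_mem' := by
    intro e _
    exact map_one _
  inv_mem' := by
    intro a ha e he
    rw [map_inv, ha e he, inv_one]

theorem mem_Kl {L A : Subgroup G} {l : List (Eig L A)} {a : A} : a ∈ Kl l ↔ ∀ e ∈ l, e.χ a = 1 := Iff.rfl

theorem normalizes_core (L : Subgroup G) (q : ℕ) : normalizer (L : Set G) ≤ normalizer (imC q L : Set G) := by
  haveI := Basic.pCore_characteristic (G := L) q
  exact Basic.le_normalizer_map_of_characteristic _

/-- A 2-element acting trivially on each `O_r(L)` acts trivially on `L`. -/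
theorem cent_of_cent_cores {L : Subgroup G} (hLs : Group.IsSolvable L) (hLodd : Odd (Nat.card L))
    {a : G} (ha : a ^ 2 = 1) (haL : a ∈ normalizer (L : Set G))
    (h : ∀ q : Nat.Primes, a ∈ centralizer (imC (q : ℕ) L : Set G)) : a ∈ centralizer (L : Set G) := by
  haveI := hLs
  obtain ⟨K, hK⟩ : ∃ K : Subgroup G, K = zpowers a := ⟨_, rfl⟩
  have hKa : a ∈ K := by rw [hK]; exact mem_zpowers a
  have hKL : K ≤ normalizer (L : Set G) := by rw [hK, Subgroup.zpowers_le]; exact haL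
  have hKcard : (Nat.card K).Coprime (Nat.card L) := by
    have h1 : Nat.card K ∣ 2 := by
      rw [hK, Nat.card_zpowers]; exact orderOf_dvd_of_pow_eq_one ha
    exact Nat.Coprime.coprime_dvd_left h1 (Nat.coprime_two_left.mpr hLodd)
  have hact : Coprime.CoprimeAction K L := ⟨hKL, hKcard, Or.inr hLs⟩
  have hfit : (fittingSubgroup L).map L.subtype ≤ centralizer ({a} : Set G) := by
    rw [fit_eq_iSup]
    refine iSup_le fun q => ?_
    intro y hy
    rw [Subgroup.mem_centralizer_singleton_iff]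
    exact (Subgroup.mem_centralizer_iff.mp (h q) y hy)
  have hKfit : ∀ k ∈ K, ∀ f ∈ (fittingSubgroup L).map L.subtype, k * f = f * k := by
    intro k hk f hf
    rw [hK] at hk
    obtain ⟨i, rfl⟩ := Subgroup.mem_zpowers_iff.mp hk
    have h2 : Commute a f := (Subgroup.mem_centralizer_singleton_iff.mp (hfit hf)).symm
    exact (h2.zpow_left i)
  have h1 : ⁅L, K⁆ ≤ (fittingSubgroup L).map L.subtype := by
    rw [Subgroup.commutator_le]
    intro y hy k hk
    have hc : ⁅y, k⁆ ∈ L := by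
      rw [commutatorElement_def]
      have e : y * k * y⁻¹ * k⁻¹ = y * (k * y⁻¹ * k⁻¹) := by group
      rw [e]
      exact L.mul_mem hy ((Subgroup.mem_normalizer_iff.mp (hKL hk) y⁻¹).mp (L.inv_mem hy))
    have hmem : (⟨⁅y, k⁆, hc⟩ : L) ∈ centralizer (fittingSubgroup L : Set L) := by
      rw [Subgroup.mem_centralizer_iff]
      intro f hf
      apply Subtype.ext
      show (f : G) * ⁅y, k⁆ = ⁅y, k⁆ * f
      have hf1 : (f : G) ∈ (fittingSubgroup L).map L.subtype := ⟨f, hf, rfl⟩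
      have hf2 : y⁻¹ * f * y ∈ (fittingSubgroup L).map L.subtype := by
        have := conj_mem_im (fitting_normal (G := L)) (M := L) (L.inv_mem hy) hf1
        simpa using this
      have e1 := hKfit k hk _ hf2
      have e2 := hKfit k⁻¹ (K.inv_mem hk) _ hf1
      rw [commutatorElement_def]
      calc (f : G) * (y * k * y⁻¹ * k⁻¹) = y * (y⁻¹ * f * y) * k * y⁻¹ * k⁻¹ * 1 := by group
        _ = y * (k * (y⁻¹ * f * y)) * y⁻¹ * k⁻¹ := by rw [mul_assoc y, ← e1]; group
        _ = y * k * y⁻¹ * f * k⁻¹ := by group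
        _ = y * k * y⁻¹ * (f * k⁻¹) := by group
        _ = y * k * y⁻¹ * (k⁻¹ * f) := by rw [e2]
        _ = y * k * y⁻¹ * k⁻¹ * f := by group
    exact ⟨_, Basic.centralizer_fittingSubgroup_le hmem, rfl⟩
  have h2 : ⁅⁅L, K⁆, K⁆ = ⊥ := by
    rw [eq_bot_iff, Subgroup.commutator_le]
    intro y hy k hk
    have h3 := hKfit k hk y (h1 hy)
    rw [Subgroup.mem_bot, commutatorElement_eq_one_iff_mul_comm]
    exact h3.symm
  have h3 := hact.commutator_eq_bot_of_commutator_commutator h2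
  rw [Subgroup.mem_centralizer_iff]
  intro y hy
  have h4 : ⁅y, a⁆ ∈ ⁅L, K⁆ := Subgroup.commutator_mem_commutator hy hKa
  rw [h3] at h4
  have h5 : ⁅y, a⁆ = 1 := h4
  rwa [commutatorElement_eq_one_iff_mul_comm] at h5


theorem inv_algebra (u y : G) (hu : u * u = 1) :
    u * (y⁻¹ * (u * y * u⁻¹)) * u⁻¹ = (y⁻¹ * (u * y * u⁻¹))⁻¹ := by
  have hi : u⁻¹ = u := inv_eq_of_mul_eq_one_left hu
  simp only [mul_inv_rev, inv_inv, hi]
  calc u * (y⁻¹ * (u * y * u)) * u = u * y⁻¹ * u * y * (u * u) := by simp only [mul_assoc]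
    _ = u * y⁻¹ * u * y := by rw [hu, mul_one]
    _ = u * (y⁻¹ * u) * y := by simp only [mul_assoc]

/-- Eigenvector construction. -/
theorem exists_new {L A : Subgroup G} (hLs : Group.IsSolvable L) (hLodd : Odd (Nat.card L))
    (hA : IsElementaryAbelian 2 A) (hAL : A ≤ normalizer (L : Set G))
    (hfaith : A ⊓ centralizer (L : Set G) = ⊥) (l : List (Eig L A)) (a₀ : A) (ha₀ : a₀ ∈ Kl l) (ha1 : a₀ ≠ 1) :
    ∃ e' : Eig L A, e'.χ a₀ = -1 ∧ ∀ e ∈ l, e.x * e'.x = e'.x * e.x := by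
  classical
  haveI : Fact (Nat.Prime 2) := ⟨Nat.prime_two⟩
  have hLc : (Nat.card L).Coprime 2 := Nat.coprime_two_right.mpr hLodd
  have ha₀2 : (a₀ : G) ^ 2 = 1 := hA.2 _ a₀.2
  have hcommA : ∀ a b : A, (a : G) * b = b * a := by
    intro a b
    have := hA.1.is_comm.comm a b
    exact congrArg Subtype.val this
  -- a prime `r` with `a₀` acting nontrivially on `O_r(L)`
  obtain ⟨r, hr⟩ : ∃ r : Nat.Primes, (a₀ : G) ∉ centralizer (imC (r : ℕ) L : Set G) := by
    by_contra hno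
    push Not at hno
    have h1 := cent_of_cent_cores hLs hLodd ha₀2 (hAL a₀.2) hno
    have h2 : (a₀ : G) ∈ A ⊓ centralizer (L : Set G) := ⟨a₀.2, h1⟩
    rw [hfaith] at h2
    exact ha1 (Subtype.ext h2)
  haveI hrf : Fact (r : ℕ).Prime := ⟨r.2⟩
  obtain ⟨Q, hQ⟩ : ∃ Q : Subgroup G, Q = imC (r : ℕ) L := ⟨_, rfl⟩
  have hQp : IsPGroup (r : ℕ) Q := by rw [hQ]; exact imC_isPGroup _ L
  have hQL : Q ≤ L := by rw [hQ]; exact imC_le _ _
  have hAQ : A ≤ normalizer (Q : Set G) := by rw [hQ]; exact hAL.trans (normalizes_core L _)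
  have hLQ : L ≤ normalizer (Q : Set G) := by rw [hQ]; exact le_normalizer_imC _ L
  have hr2 : (r : ℕ) ≠ 2 := by
    intro h
    apply hr
    rw [Subgroup.mem_centralizer_iff]
    intro y hy
    have hyo : orderOf y ∣ Nat.card L := Subgroup.orderOf_dvd_natCard L (imC_le _ _ hy)
    obtain ⟨k, hk⟩ := orderOf_imC hy
    have h3 : y = 1 := by
      apply eq_one_of_pow_coprime (p := (r : ℕ)) ⟨k, hk⟩
      rw [h]
      exact Nat.Coprime.coprime_dvd_left hyo hLc
    simp [h3]
  -- the subgroup `D`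
  obtain ⟨D, hD⟩ : ∃ D : Subgroup G, D = closure {x | ∃ e ∈ l, e.x = x ∧ e.q = (r : ℕ)} := ⟨_, rfl⟩
  have hDQ : D ≤ Q := by
    rw [hD, Subgroup.closure_le]
    rintro x ⟨e, -, rfl, hq⟩
    have := e.hx
    rw [hq] at this
    rw [hQ]
    exact this
  have hDp : IsPGroup (r : ℕ) D := hQp.to_le hDQ
  have hgen : ∀ e ∈ l, (a₀ : G) * e.x = e.x * a₀ := by
    intro e he
    have h1 := e.he a₀
    rw [ha₀ e he] at h1
    simp only [Units.val_one, zpow_one] at h1
    rwa [mul_inv_eq_iff_eq_mul] at h1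
  have ha₀D : ∀ b ∈ D, (a₀ : G) * b = b * a₀ := by
    intro b hb
    have h1 : D ≤ centralizer ({(a₀ : G)} : Set G) := by
      rw [hD, Subgroup.closure_le]
      rintro x ⟨e, he, rfl, -⟩
      exact Subgroup.mem_centralizer_singleton_iff.mpr (hgen e he).symm
    exact (Subgroup.mem_centralizer_singleton_iff.mp (h1 hb)).symm
  have hAD : A ≤ normalizer (D : Set G) := by
    have hmono : ∀ a : A, ∀ b ∈ D, (a : G) * b * (a : G)⁻¹ ∈ D := by
      intro a b hb
      rw [hD] at hb ⊢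
      induction hb using Subgroup.closure_induction with
      | mem x hx =>
        obtain ⟨e, he, rfl, hq⟩ := hx
        rw [e.he a]
        exact Subgroup.zpow_mem _ (Subgroup.subset_closure (show e.x ∈ {x | ∃ e ∈ l, e.x = x ∧ e.q = (r : ℕ)} from ⟨e, he, rfl, hq⟩)) _
      | one => simp
      | mul u v _ _ hu hv =>
        have e1 : (a : G) * (u * v) * (a : G)⁻¹ = ((a : G) * u * (a : G)⁻¹) * ((a : G) * v * (a : G)⁻¹) := by group
        rw [e1]
        exact mul_mem hu hv
      | inv u _ hu =>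
        have e1 : (a : G) * u⁻¹ * (a : G)⁻¹ = ((a : G) * u * (a : G)⁻¹)⁻¹ := by group
        rw [e1]
        exact inv_mem hu
    intro a ha
    rw [Subgroup.mem_normalizer_iff]
    intro b
    refine ⟨hmono ⟨a, ha⟩ b, fun hb => ?_⟩
    have := hmono ⟨a⁻¹, A.inv_mem ha⟩ _ hb
    simpa [mul_assoc] using this
  -- Thompson's lemma
  have hord : ∀ a : A, orderOf (a : G) ∣ 2 := fun a => orderOf_dvd_of_pow_eq_one (hA.2 _ a.2)
  obtain ⟨y, hyQ, hyD, hya⟩ : ∃ y ∈ Q, (∀ b ∈ D, b * y = y * b) ∧ (a₀ : G) * y ≠ y * a₀ := by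
    by_contra hno
    push Not at hno
    apply hr
    have hle : zpowers (a₀ : G) ≤ centralizer (Q : Set G) := by
      apply OddLocal.thompson_AxB (r : ℕ) Q (zpowers (a₀ : G)) D hQp hDp
      · rw [Nat.card_zpowers]
        exact Nat.Coprime.coprime_dvd_left (hord a₀) ((Nat.coprime_primes Nat.prime_two r.2).2 (Ne.symm hr2))
      · rw [Subgroup.zpowers_le]; exact hAQ a₀.2
      · exact hDQ.trans (Subgroup.le_normalizer)
      · intro a ha b hb
        obtain ⟨i, rfl⟩ := Subgroup.mem_zpowers_iff.mp ha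
        exact (Commute.zpow_left (show Commute (a₀ : G) b from ha₀D b hb) i)
      · intro a ha x hx hb
        obtain ⟨i, rfl⟩ := Subgroup.mem_zpowers_iff.mp ha
        exact (Commute.zpow_left (show Commute (a₀ : G) x from hno x hx hb) i)
    rw [← hQ]
    exact hle (Subgroup.mem_zpowers _)
  -- the invariant subgroup `C`
  obtain ⟨C, hC⟩ : ∃ C : Subgroup G, C = Q ⊓ centralizer (D : Set G) := ⟨_, rfl⟩
  have hCQ : C ≤ Q := by rw [hC]; exact inf_le_left
  have hAC : A ≤ normalizer (C : Set G) := by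
    rw [hC]
    intro a ha
    rw [Subgroup.mem_normalizer_iff]
    intro c
    have hcent : ∀ g ∈ normalizer (D : Set G), ∀ c ∈ centralizer (D : Set G), g * c * g⁻¹ ∈ centralizer (D : Set G) := by
      intro g hg c hc
      rw [Subgroup.mem_centralizer_iff] at hc ⊢
      intro b hb
      have hb' : g⁻¹ * b * g ∈ D := by
        have := (Subgroup.mem_normalizer_iff.mp (Subgroup.inv_mem _ hg) b).mp hb
        simpa using this
      have h1 := hc _ hb'
      calc b * (g * c * g⁻¹) = g * ((g⁻¹ * b * g) * c) * g⁻¹ := by group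
        _ = g * (c * (g⁻¹ * b * g)) * g⁻¹ := by rw [h1]
        _ = g * c * g⁻¹ * b := by group
    constructor
    · rintro ⟨h1, h2⟩
      exact ⟨(Subgroup.mem_normalizer_iff.mp (hAQ ha) c).mp h1, hcent a (hAD ha) c h2⟩
    · rintro ⟨h1, h2⟩
      refine ⟨(Subgroup.mem_normalizer_iff.mp (hAQ ha) c).mpr h1, ?_⟩
      have := hcent a⁻¹ (Subgroup.inv_mem _ (hAD ha)) _ h2
      simpa [mul_assoc] using this
  have hCcard : ¬ 2 ∣ Nat.card C := by
    intro h
    have h1 : Nat.card C ∣ Nat.card L := Subgroup.card_dvd_of_le (hCQ.trans hQL)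
    have h2 := Nat.Coprime.coprime_dvd_left (h.trans h1) hLc
    norm_num at h2
  have hCnot : ¬ C ≤ centralizer ({(a₀ : G)} : Set G) := by
    intro h
    have hyC : y ∈ C := by
      rw [hC]
      exact ⟨hyQ, Subgroup.mem_centralizer_iff.mpr fun b hb => hyD b hb⟩
    exact hya (Subgroup.mem_centralizer_singleton_iff.mp (h hyC)).symm
  obtain ⟨B, hBA, hBidx, hBnot⟩ := exists_hyperplane_not_le hA hCcard hAC hCnot
  obtain ⟨y', ⟨hy'C, hy'B⟩, hy'a⟩ := SetLike.not_le_iff_exists.mp hBnot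
  have hy'a' : (a₀ : G) * y' ≠ y' * a₀ := by
    intro h
    exact hy'a (Subgroup.mem_centralizer_singleton_iff.mpr h.symm)
  have hy'B' : ∀ b ∈ B, b * y' = y' * b := fun b hb => Subgroup.mem_centralizer_iff.mp hy'B b hb
  have ha₀B : (a₀ : G) ∉ B := fun h => hy'a' (hy'B' _ h)
  have ha₀inv : (a₀ : G)⁻¹ = a₀ := by
    rw [inv_eq_iff_mul_eq_one, ← pow_two, ha₀2]
  -- inverted element
  obtain ⟨z, hz⟩ : ∃ z : G, z = y'⁻¹ * ((a₀ : G) * y' * (a₀ : G)⁻¹) := ⟨_, rfl⟩
  have hz1 : z ≠ 1 := by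
    intro h
    rw [hz, inv_mul_eq_one, eq_mul_inv_iff_mul_eq] at h
    exact hy'a' h.symm
  have hzC : z ∈ C := by
    rw [hz]
    exact C.mul_mem (C.inv_mem hy'C) ((Subgroup.mem_normalizer_iff.mp (hAC a₀.2) y').mp hy'C)
  have hza : (a₀ : G) * z * (a₀ : G)⁻¹ = z⁻¹ := by
    rw [hz]
    exact inv_algebra _ _ (by rw [← pow_two, ha₀2])
  have hzB : ∀ b ∈ B, b * z = z * b := by
    intro b hb
    have hb1 : (a₀ : G) * b = b * a₀ := hcommA a₀ ⟨b, hBA hb⟩
    have hb2 : (a₀ : G)⁻¹ * b = b * (a₀ : G)⁻¹ := (Commute.inv_left (show Commute (a₀ : G) b from hb1)).eq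
    have hb3 := hy'B' b hb
    have hb4 : b * y'⁻¹ = y'⁻¹ * b := (Commute.inv_right (show Commute b y' from hb3)).eq
    rw [hz]
    calc b * (y'⁻¹ * ((a₀ : G) * y' * (a₀ : G)⁻¹)) = y'⁻¹ * (b * (a₀ : G)) * y' * (a₀ : G)⁻¹ := by
          rw [← mul_assoc b, hb4]; group
      _ = y'⁻¹ * (a₀ : G) * (b * y') * (a₀ : G)⁻¹ := by rw [← hb1]; group
      _ = y'⁻¹ * (a₀ : G) * y' * (b * (a₀ : G)⁻¹) := by rw [hb3]; group
      _ = y'⁻¹ * (a₀ : G) * y' * ((a₀ : G)⁻¹ * b) := by rw [hb2]
      _ = _ := by group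
  -- the character
  obtain ⟨B₀, hB₀⟩ : ∃ B₀ : Subgroup A, B₀ = B.subgroupOf A := ⟨_, rfl⟩
  have hB₀mem : ∀ a : A, a ∈ B₀ ↔ (a : G) ∈ B := by
    intro a; rw [hB₀]; exact Subgroup.mem_subgroupOf
  have ha₀B₀ : a₀ ∉ B₀ := fun h => ha₀B ((hB₀mem a₀).mp h)
  have hidx : B₀.index = 2 := by
    have h1 : B₀.index ≤ 2 := by rw [hB₀]; exact hBidx
    have h2 : B₀.index ≠ 0 := Subgroup.index_ne_zero_of_finite
    have h3 : B₀.index ≠ 1 := by
      intro h
      rw [Subgroup.index_eq_one] at h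
      rw [h] at ha₀B₀
      exact ha₀B₀ (Subgroup.mem_top _)
    omega
  have hmm : ∀ a b : A, a * b ∈ B₀ ↔ (a ∈ B₀ ↔ b ∈ B₀) := fun a b => Subgroup.mul_mem_iff_of_index_two hidx
  let χ : ↥A →* ℤˣ :=
    { toFun := fun a => if a ∈ B₀ then 1 else -1
      map_one' := by simp [B₀.one_mem]
      map_mul' := by
        intro a b
        by_cases ha : a ∈ B₀ <;> by_cases hb : b ∈ B₀ <;> simp [ha, hb, hmm a b] }
  have hχ1 : ∀ a : A, a ∈ B₀ → χ a = 1 := fun a ha => if_pos ha
  have hχ2 : ∀ a : A, a ∉ B₀ → χ a = -1 := fun a ha => if_neg ha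
  have hzχ : ∀ a : A, (a : G) * z * (a : G)⁻¹ = z ^ ((χ a : ℤˣ) : ℤ) := by
    intro a
    by_cases ha : a ∈ B₀
    · rw [hχ1 a ha]
      simp only [Units.val_one, zpow_one]
      rw [hzB _ ((hB₀mem a).mp ha)]
      group
    · rw [hχ2 a ha]
      simp only [Units.val_neg, Units.val_one, zpow_neg, zpow_one]
      have hb : a * a₀ ∈ B₀ := (hmm a a₀).mpr (by simp [ha, ha₀B₀])
      have hb' : (a : G) * a₀ ∈ B := (hB₀mem _).mp hb
      have hb2 : ((a : G) * a₀) * z = z * ((a : G) * a₀) := hzB _ hb'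
      have e1 : (a : G) = ((a : G) * a₀) * (a₀ : G)⁻¹ := by group
      have hb3 : ((a : G) * a₀) * z⁻¹ = z⁻¹ * ((a : G) * a₀) :=
        (Commute.inv_right (show Commute ((a : G) * a₀) z from hb2)).eq
      calc (a : G) * z * (a : G)⁻¹ = ((a : G) * a₀) * ((a₀ : G)⁻¹ * z * (a₀ : G)) * ((a : G) * a₀)⁻¹ := by group
        _ = ((a : G) * a₀) * ((a₀ : G) * z * (a₀ : G)⁻¹) * ((a : G) * a₀)⁻¹ := by rw [ha₀inv]
        _ = ((a : G) * a₀) * z⁻¹ * ((a : G) * a₀)⁻¹ := by rw [hza]
        _ = z⁻¹ := by rw [hb3]; group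
  -- prime order
  have hzQ : z ∈ Q := hCQ hzC
  have hzcen : z ∈ centralizer (D : Set G) := by
    rw [hC] at hzC; exact hzC.2
  obtain ⟨m, hm⟩ := (IsPGroup.iff_orderOf.mp hQp) ⟨z, hzQ⟩
  rw [Subgroup.orderOf_mk] at hm
  have hm0 : m ≠ 0 := by
    rintro rfl
    rw [pow_zero, orderOf_eq_one_iff] at hm
    exact hz1 hm
  have hrd : (r : ℕ) ∣ orderOf z := by rw [hm]; exact dvd_pow_self _ hm0
  obtain ⟨w, hw⟩ : ∃ w, w = z ^ (orderOf z / (r : ℕ)) := ⟨_, rfl⟩
  have hwo : orderOf w = (r : ℕ) := by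
    rw [hw]; exact orderOf_pow_orderOf_div (orderOf_pos z).ne' hrd
  have hwe : ∀ a : A, (a : G) * w * (a : G)⁻¹ = w ^ ((χ a : ℤˣ) : ℤ) := by
    intro a
    rw [hw, ← conj_pow, hzχ a, ← zpow_natCast, ← zpow_natCast, ← zpow_mul, ← zpow_mul, mul_comm]
  have hwQ : w ∈ Q := by rw [hw]; exact pow_mem hzQ _
  have hwcen : w ∈ centralizer (D : Set G) := by rw [hw]; exact pow_mem hzcen _
  refine ⟨⟨w, χ, (r : ℕ), r.2, by rw [hQ] at hwQ; exact hwQ, hwo, hwe⟩, hχ2 a₀ ha₀B₀, ?_⟩
  intro e he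
  show e.x * w = w * e.x
  by_cases hq : e.q = (r : ℕ)
  · have hxD : e.x ∈ D := by
      rw [hD]
      exact Subgroup.subset_closure (show e.x ∈ {x | ∃ e ∈ l, e.x = x ∧ e.q = (r : ℕ)} from ⟨e, he, rfl, hq⟩)
    exact Subgroup.mem_centralizer_iff.mp hwcen _ hxD
  · haveI : Fact e.q.Prime := ⟨e.hq⟩
    have hself : (fittingSubgroup L).map L.subtype ≤ L := Subgroup.map_subtype_le _
    rw [hQ] at hwQ
    exact comm_cores hself hself hq e.hx hwQ

theorem exists_list {L A : Subgroup G} (hLs : Group.IsSolvable L) (hLodd : Odd (Nat.card L))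
    (hA : IsElementaryAbelian 2 A) (hAL : A ≤ normalizer (L : Set G))
    (hfaith : A ⊓ centralizer (L : Set G) = ⊥) {d : ℕ} (hAd : Nat.card A = 2 ^ d) :
    ∀ k, k ≤ d → ∃ l : List (Eig L A), l.length = k ∧ (∀ e ∈ l, ∀ f ∈ l, e.x * f.x = f.x * e.x) ∧
      Nat.card (Kl l) * 2 ^ k = 2 ^ d := by
  intro k
  induction k with
  | zero =>
    intro _
    refine ⟨[], rfl, by simp, ?_⟩
    have h1 : Kl ([] : List (Eig L A)) = ⊤ := by
      rw [eq_top_iff]
      intro a _ e he
      simp at he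
    rw [h1, Subgroup.card_top, hAd, pow_zero, mul_one]
  | succ k ih =>
    intro hk
    obtain ⟨l, hlen, hcomm, hcard⟩ := ih (by omega)
    have hcard2 : 2 ≤ Nat.card (Kl l) := by
      by_contra hlt
      push Not at hlt
      have h1 : Nat.card (Kl l) ≤ 1 := by omega
      have h2 : Nat.card (Kl l) * 2 ^ k ≤ 1 * 2 ^ k := Nat.mul_le_mul_right _ h1
      rw [hcard, one_mul] at h2
      have h3 : 2 ^ k < 2 ^ d := Nat.pow_lt_pow_right (by norm_num) (by omega)
      omega
    obtain ⟨a₀, ha₀, ha1⟩ : ∃ a₀ ∈ Kl l, a₀ ≠ 1 := by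
      rcases Subgroup.bot_or_exists_ne_one (Kl l) with h | h
      · rw [h, Subgroup.card_bot] at hcard2
        omega
      · exact h
    obtain ⟨e', he', hcomm'⟩ := exists_new hLs hLodd hA hAL hfaith l a₀ ha₀ ha1
    refine ⟨e' :: l, by simp [hlen], ?_, ?_⟩
    · intro e he f hf
      rw [List.mem_cons] at he hf
      rcases he with rfl | he <;> rcases hf with rfl | hf
      · rfl
      · exact (hcomm' f hf).symm
      · exact hcomm' e he
      · exact hcomm e he f hf
    · let ψ : ↥(Kl l) →* ℤˣ := e'.χ.comp (Kl l).subtype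
      have hψ : Function.Surjective ψ := by
        intro u
        rcases Int.units_eq_one_or u with rfl | rfl
        · exact ⟨1, map_one _⟩
        · exact ⟨⟨a₀, ha₀⟩, he'⟩
      have h1 : Nat.card ψ.ker * ψ.ker.index = Nat.card (Kl l) := Subgroup.card_mul_index _
      have h2 : ψ.ker.index = 2 := by
        rw [Subgroup.index_ker, MonoidHom.range_eq_top.mpr hψ, Subgroup.card_top]
        simp
      have h3 : Nat.card (Kl (e' :: l)) = Nat.card ψ.ker := by
        have h4 : Kl (e' :: l) = ψ.ker.map (Kl l).subtype := by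
          ext a
          constructor
          · intro h
            have h5 : a ∈ Kl l := fun e he => h e (List.mem_cons_of_mem _ he)
            refine ⟨⟨a, h5⟩, ?_, rfl⟩
            exact h e' List.mem_cons_self
          · rintro ⟨b, hb, rfl⟩ e he
            rw [List.mem_cons] at he
            rcases he with rfl | he
            · exact hb
            · exact b.2 e he
        rw [h4]
        exact Subgroup.card_map_of_injective (Subgroup.subtype_injective _)
      rw [h3, pow_succ, ← mul_assoc, mul_right_comm, ← hcard, ← h1, h2]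

/-- Dihedral recognition. -/
theorem dih_of_invert {a x : G} (ha : orderOf a = 2) (hxo : Odd (orderOf x)) (h : a * x * a⁻¹ = x⁻¹) :
    Nonempty (↥(zpowers a ⊔ zpowers x) ≃* DihedralGroup (orderOf x)) := by
  haveI : Fact (Nat.Prime 2) := ⟨Nat.prime_two⟩
  haveI : NeZero (orderOf x) := ⟨(orderOf_pos x).ne'⟩
  have haa : a * a = 1 := by rw [← pow_two, ← ha, pow_orderOf_eq_one]
  have hainv : a⁻¹ = a := inv_eq_of_mul_eq_one_left haa
  have hmemN : a ∈ normalizer ((zpowers x : Subgroup G) : Set G) := by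
    have hmono : ∀ u, u ∈ zpowers x → a * u * a⁻¹ ∈ zpowers x := by
      intro u hu
      obtain ⟨i, rfl⟩ := Subgroup.mem_zpowers_iff.mp hu
      rw [← conj_zpow, h]
      exact Subgroup.zpow_mem _ (inv_mem (Subgroup.mem_zpowers x)) _
    rw [Subgroup.mem_normalizer_iff]
    intro u
    refine ⟨hmono u, fun hu => ?_⟩
    have e : u = a * (a * u * a⁻¹) * a⁻¹ := by
      rw [hainv]
      calc u = (a * a) * u * (a * a) := by rw [haa]; simp
        _ = a * (a * u * a) * a := by simp only [mul_assoc]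
    rw [e]
    exact hmono _ hu
  have hle : zpowers a ≤ normalizer ((zpowers x : Subgroup G) : Set G) := by
    rw [Subgroup.zpowers_le]; exact hmemN
  have hcop : (orderOf x).Coprime 2 := Nat.coprime_two_right.mpr hxo
  have hinf : zpowers x ⊓ zpowers a = ⊥ := by
    rw [eq_bot_iff]
    rintro y ⟨hy1, hy2⟩
    have h1 : orderOf y ∣ orderOf x := by
      have := Subgroup.orderOf_dvd_natCard _ hy1
      rwa [Nat.card_zpowers] at this
    have h2 : orderOf y ∣ 2 := by
      have := Subgroup.orderOf_dvd_natCard _ hy2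
      rwa [Nat.card_zpowers, ha] at this
    have h3 := Nat.Coprime.eq_one_of_dvd (Nat.Coprime.coprime_dvd_left h1 hcop) h2
    exact orderOf_eq_one_iff.mp h3
  have hcard := OddLocal.card_sup_mul_card_inf hle
  rw [hinf, Subgroup.card_bot, mul_one, Nat.card_zpowers, Nat.card_zpowers, ha, sup_comm] at hcard
  have hxmem : x ∈ zpowers a ⊔ zpowers x := Subgroup.mem_sup_right (Subgroup.mem_zpowers x)
  have hamem : a ∈ zpowers a ⊔ zpowers x := Subgroup.mem_sup_left (Subgroup.mem_zpowers a)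
  apply TwoGroups.nonempty_mulEquiv_dihedral_of (⟨x, hxmem⟩ : ↥(zpowers a ⊔ zpowers x)) (⟨a, hamem⟩ : ↥(zpowers a ⊔ zpowers x))
  · exact Subgroup.orderOf_mk _ _
  · exact Subtype.ext haa
  · exact Subtype.ext h
  · intro hmem
    obtain ⟨i, hi⟩ := Subgroup.mem_zpowers_iff.mp hmem
    have h1 : x ^ i = a := congrArg Subtype.val hi
    have h2 : a ∈ zpowers x := h1 ▸ Subgroup.zpow_mem _ (Subgroup.mem_zpowers x) _
    have h3 : a ∈ zpowers x ⊓ zpowers a := ⟨h2, Subgroup.mem_zpowers a⟩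
    rw [hinf] at h3
    have h4 : a = 1 := h3
    rw [h4, orderOf_one] at ha
    omega
  · rw [hcard, mul_comm]

theorem comm_sup {X Y U V : Subgroup G} (h1 : ∀ x ∈ X, ∀ u ∈ U, x * u = u * x) (h2 : ∀ x ∈ X, ∀ v ∈ V, x * v = v * x)
    (h3 : ∀ y ∈ Y, ∀ u ∈ U, y * u = u * y) (h4 : ∀ y ∈ Y, ∀ v ∈ V, y * v = v * y) :
    ∀ x ∈ X ⊔ Y, ∀ y ∈ U ⊔ V, x * y = y * x := by
  have hX : X ≤ centralizer ((U ⊔ V : Subgroup G) : Set G) := by
    rw [Subgroup.le_centralizer_iff]
    refine sup_le ?_ ?_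
    · intro u hu
      rw [Subgroup.mem_centralizer_iff]
      exact fun x hx => h1 x hx u hu
    · intro u hu
      rw [Subgroup.mem_centralizer_iff]
      exact fun x hx => h2 x hx u hu
  have hY : Y ≤ centralizer ((U ⊔ V : Subgroup G) : Set G) := by
    rw [Subgroup.le_centralizer_iff]
    refine sup_le ?_ ?_
    · intro u hu
      rw [Subgroup.mem_centralizer_iff]
      exact fun x hx => h3 x hx u hu
    · intro u hu
      rw [Subgroup.mem_centralizer_iff]
      exact fun x hx => h4 x hx u hu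
  intro x hx y hy
  exact (Subgroup.mem_centralizer_iff.mp ((sup_le hX hY) hx) y hy).symm

end aux


/-- Let G be finite, L ≤ G solvable of odd order, and A an elementary abelian 2-subgroup of order 2^d (d ≥ 1) normalizing L with C_A(L) = 1. Then there are subgroups A_1, …, A_d of A of order 2 generating A and subgroups L_1, …, L_d of L such that each A_i ⊔ L_i is dihedral of order 2 n_i with n_i odd and at least 3, and A_i ⊔ L_i commutes elementwise with A_j ⊔ L_j for i ≠ j. -/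
theorem result {G : Type*} [Group G] [Finite G] (L A : Subgroup G) (hLs : Group.IsSolvable ↥L) (hLodd : Odd (Nat.card ↥L)) (hA : Cfsg.IsElementaryAbelian 2 A) (d : ℕ) (hd : 1 ≤ d) (hAd : Nat.card ↥A = 2 ^ d) (hAL : A ≤ Subgroup.normalizer (L : Set G)) (hfaith : A ⊓ Subgroup.centralizer (L : Set G) = ⊥) : ∃ (Ai : Fin d → Subgroup G) (Li : Fin d → Subgroup G) (n : Fin d → ℕ), (∀ i, Ai i ≤ A ∧ Nat.card ↥(Ai i) = 2 ∧ Li i ≤ L ∧ Odd (n i) ∧ 3 ≤ n i ∧ Nonempty (↥(Ai i ⊔ Li i) ≃* DihedralGroup (n i))) ∧ (⨆ i, Ai i) = A ∧ ∀ i j, i ≠ j → ∀ x ∈ Ai i ⊔ Li i, ∀ y ∈ Ai j ⊔ Li j, x * y = y * x := by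
  classical
  haveI : Fact (Nat.Prime 2) := ⟨Nat.prime_two⟩
  obtain ⟨l, hlen, hcomm, hcard⟩ := exists_list hLs hLodd hA hAL hfaith hAd d le_rfl
  have hK1 : Nat.card (Kl l) = 1 := by
    have h2 : 0 < 2 ^ d := by positivity
    exact Nat.eq_of_mul_eq_mul_right h2 (by rw [hcard, one_mul])
  have hKbot : Kl l = ⊥ := Subgroup.eq_bot_of_card_eq _ hK1
  obtain ⟨E, hE⟩ : ∃ E : Fin d → Eig L A, E = fun i => l.get (Fin.cast hlen.symm i) := ⟨_, rfl⟩
  have hEmem : ∀ i, E i ∈ l := by
    intro i; rw [hE]; exact List.get_mem _ _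
  have hEall : ∀ e ∈ l, ∃ i, E i = e := by
    intro e he
    obtain ⟨j, hj⟩ := List.get_of_mem he
    refine ⟨Fin.cast hlen j, ?_⟩
    rw [hE]
    simpa using hj
  let Φ : ↥A →* (Fin d → ℤˣ) :=
    { toFun := fun a i => (E i).χ a
      map_one' := by ext i; simp
      map_mul' := by intro a b; ext i; simp }
  have hΦa : ∀ a i, Φ a i = (E i).χ a := fun _ _ => rfl
  have hinj : Function.Injective Φ := by
    rw [injective_iff_map_eq_one]
    intro a ha
    have h1 : a ∈ Kl l := by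
      intro e he
      obtain ⟨i, rfl⟩ := hEall e he
      rw [← hΦa, ha]; rfl
    rw [hKbot] at h1
    exact h1
  have hcardU : Nat.card (Fin d → ℤˣ) = 2 ^ d := by
    rw [Nat.card_fun, Nat.card_fin]
    simp
  have hbij : Function.Bijective Φ :=
    Function.Injective.bijective_of_nat_card_le hinj (by rw [hAd, hcardU])
  -- the dual basis
  choose a ha using fun i : Fin d => hbij.2 (Function.update 1 i (-1))
  have hχa : ∀ i j, (E j).χ (a i) = if j = i then -1 else 1 := by
    intro i j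
    rw [← hΦa, ha]
    by_cases h : j = i
    · subst h; simp
    · simp [h, Function.update_of_ne h]
  have hane : ∀ i, a i ≠ 1 := by
    intro i h
    have h1 := hχa i i
    rw [h, map_one, if_pos rfl] at h1
    exact absurd h1 (by decide)
  have horder : ∀ i, orderOf ((a i : A) : G) = 2 := by
    intro i
    apply orderOf_eq_prime (hA.2 _ (a i).2)
    intro h
    exact hane i (Subtype.ext h)
  have hinv : ∀ i, ((a i : A) : G) * (E i).x * ((a i : A) : G)⁻¹ = (E i).x⁻¹ := by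
    intro i
    rw [(E i).he, hχa i i, if_pos rfl]
    simp
  have hcen : ∀ i j, j ≠ i → ((a i : A) : G) * (E j).x = (E j).x * ((a i : A) : G) := by
    intro i j hji
    have h1 := (E j).he (a i)
    rw [hχa i j, if_neg hji] at h1
    simp only [Units.val_one, zpow_one] at h1
    rwa [mul_inv_eq_iff_eq_mul] at h1
  have hxL : ∀ i, (E i).x ∈ L := fun i => imC_le _ _ (E i).hx
  have hoddn : ∀ i, Odd (E i).q := by
    intro i
    have h1 : orderOf (E i).x ∣ Nat.card L := Subgroup.orderOf_dvd_natCard L (hxL i)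
    rw [(E i).ho] at h1
    exact hLodd.of_dvd_nat h1
  have h3n : ∀ i, 3 ≤ (E i).q := by
    intro i
    have h1 := (E i).hq.two_le
    obtain ⟨k, hk⟩ := hoddn i
    omega
  refine ⟨fun i => zpowers ((a i : A) : G), fun i => zpowers (E i).x, fun i => (E i).q, ?_, ?_, ?_⟩
  · intro i
    refine ⟨?_, ?_, ?_, hoddn i, h3n i, ?_⟩
    · rw [Subgroup.zpowers_le]; exact (a i).2
    · rw [Nat.card_zpowers, horder]
    · rw [Subgroup.zpowers_le]; exact hxL i
    · have h1 := dih_of_invert (horder i) (by rw [(E i).ho]; exact hoddn i) (hinv i)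
      rw [(E i).ho] at h1
      exact h1
  · apply le_antisymm
    · refine iSup_le fun i => ?_
      rw [Subgroup.zpowers_le]; exact (a i).2
    · -- generation
      have hgen : ∀ S : Finset (Fin d), ∃ c : A, (c : G) ∈ (⨆ i, zpowers ((a i : A) : G)) ∧
          ∀ j, (E j).χ c = if j ∈ S then -1 else 1 := by
        intro S
        induction S using Finset.induction_on with
        | empty =>
          exact ⟨1, one_mem _, fun j => by simp⟩
        | insert i S hi ih =>
          obtain ⟨c, hc, hcχ⟩ := ih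
          refine ⟨c * a i, ?_, ?_⟩
          · exact mul_mem hc ((le_iSup (fun i => zpowers ((a i : A) : G)) i) (Subgroup.mem_zpowers _))
          · intro j
            rw [map_mul, hcχ, hχa]
            by_cases h1 : j = i
            · subst h1; simp [hi]
            · simp [h1]
      intro b hb
      obtain ⟨c, hc, hcχ⟩ := hgen (Finset.univ.filter fun j => (E j).χ ⟨b, hb⟩ = -1)
      have hbc : (⟨b, hb⟩ : A) = c := by
        apply hinj
        ext j
        rw [hΦa, hΦa, hcχ]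
        by_cases h1 : (E j).χ ⟨b, hb⟩ = -1
        · simp [h1]
        · rcases Int.units_eq_one_or ((E j).χ ⟨b, hb⟩) with h2 | h2
          · simp [h2]
          · exact absurd h2 h1
      have h2 : b = c := congrArg Subtype.val hbc
      rw [h2]
      exact hc
  · intro i j hij
    have hzz : ∀ u v : G, u * v = v * u → ∀ x ∈ zpowers u, ∀ y ∈ zpowers v, x * y = y * x := by
      intro u v huv x hx y hy
      obtain ⟨m, rfl⟩ := Subgroup.mem_zpowers_iff.mp hx
      obtain ⟨n, rfl⟩ := Subgroup.mem_zpowers_iff.mp hy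
      exact (Commute.zpow_zpow (show Commute u v from huv) m n)
    have hAcomm : ((a i : A) : G) * ((a j : A) : G) = ((a j : A) : G) * ((a i : A) : G) := by
      have := hA.1.is_comm.comm (a i) (a j)
      exact congrArg Subtype.val this
    apply comm_sup
    · exact hzz _ _ hAcomm
    · exact hzz _ _ (hcen i j (Ne.symm hij))
    · exact hzz _ _ (hcen j i hij).symm
    · exact hzz _ _ (hcomm _ (hEmem i) _ (hEmem j))

end Cfsg.Agent.S1349
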