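import Cfsg.Statements.S1474
import Cfsg.Agent.Lib.OddLocal.CNFrob
import Cfsg.Agent.Lib.Basic.Conj

set_option autoImplicit false
set_option linter.style.haveILetI false
open Cfsg

namespace Cfsg.Agent.S1474

open Subgroup Cfsg.Agent.Lib.OddLocal
open scoped Pointwise
open Cfsg.Agent.Lib.PGroups (exists_orderOf_of_mem_isPGroup mem_of_primary_powers isPGroup_zpowers_iff
  orderOf_conj_eq exists_pPart)
open Cfsg.Agent.Lib.Transfer (FrobeniusStable)
open Cfsg.Agent.Lib.Basic (normal_pGroup_le_sylow mem_conj_smul)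

/-- Let G be a finite group in which every non-identity element has nilpotent centralizer, not itself nilpotent, and having a nontrivial normal Sylow p-subgroup for some prime p. Let H be the largest normal nilpotent Hall subgroup of G. Then H is a nontrivial proper normal subgroup with a complement E that is a Frobenius complement in G (no non-identity element of E centralizes a non-identity element of H), and G/H is nilpotent. -/
theorem result {G : Type*} [Group G] [Finite G] (hCN : Cfsg.IsCNGroup G) (hnn : ¬ Group.IsNilpotent G) (p : ℕ) [Fact p.Prime] (P : Sylow p G)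
    (hP1 : (P : Subgroup G) ≠ ⊥) (hPn : (P : Subgroup G).Normal) :
    Cfsg.fittingHall G ≠ ⊥ ∧ Cfsg.fittingHall G ≠ ⊤ ∧
      (∃ E : Subgroup G, Subgroup.IsComplement' (Cfsg.fittingHall G) E ∧ Cfsg.IsFrobeniusComplement E ∧
        ∀ e ∈ E, e ≠ 1 → Cfsg.fittingHall G ⊓ Subgroup.centralizer ({e} : Set G) = ⊥) ∧
      Group.IsNilpotent (G ⧸ Cfsg.fittingHall G) := by
  have hpp : p.Prime := Fact.out
  set P₀ : Subgroup G := (P : Subgroup G) with hP₀
  have hP0p : IsPGroup p P₀ := P.isPGroup'
  -- every p-element lies in P₀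
  have hpelem : ∀ x : G, (∃ k : ℕ, orderOf x = p ^ k) → x ∈ P₀ := by
    intro x hx
    obtain ⟨S, hS⟩ := (isPGroup_zpowers_iff.mpr hx).exists_le_sylow
    have h1 : P₀ ≤ S := normal_pGroup_le_sylow hPn hP0p S
    have h2 : (S : Subgroup G) = P₀ := P.is_maximal' S.isPGroup' h1
    rw [← h2]
    exact hS (mem_zpowers x)
  have hP0mem1 : ∃ z ∈ P₀, z ≠ 1 := by
    obtain ⟨u, hu⟩ := Subgroup.ne_bot_iff_exists_ne_one.mp hP1
    exact ⟨u, u.2, fun e => hu (Subtype.ext e)⟩
  obtain ⟨z₀, hz₀, hz₀1⟩ := hP0mem1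
  set C₀ := centralizer (P₀ : Set G) with hC₀
  have hC₀nil : Group.IsNilpotent C₀ :=
    Cfsg.Agent.Lib.Basic.isNilpotent_of_le (Subgroup.centralizer_le (by
      rintro _ rfl
      exact hz₀)) (hCN z₀ hz₀1)
  have hC₀n : C₀.Normal := inferInstance
  set R := Oq' p C₀ with hR
  have hRC : R ≤ C₀ := Oq'_le p C₀
  have hRn : R.Normal := by
    rw [← Subgroup.normalizer_eq_top_iff, eq_top_iff]
    intro y _
    exact mem_normalizer_Oq' hC₀nil (Subgroup.normalizer_eq_top_iff.mpr hC₀n ▸ Subgroup.mem_top y)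
  have hRnil : Group.IsNilpotent R := Cfsg.Agent.Lib.Basic.isNilpotent_of_le hRC hC₀nil
  have hPnil : Group.IsNilpotent P₀ := hP0p.isNilpotent
  -- elements of C₀ of order prime to p lie in R
  have hRmem : ∀ y, y ∈ C₀ → (orderOf y).Coprime p → y ∈ R := fun y hy hc => mem_Oq' hC₀nil hy hc
  set F := P₀ ⊔ R with hF
  have hFn : F.Normal := Subgroup.sup_normal _ _
  have hFnil : Group.IsNilpotent F := Cfsg.Agent.Lib.Basic.isNilpotent_sup_of_normal hPn hRn hPnil hRnil
  -- F is a Hall subgroup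
  have hFcop : (Nat.card F).Coprime F.index := by
    apply Nat.coprime_of_dvd
    intro r hr hr1 hr2
    haveI : Fact r.Prime := ⟨hr⟩
    by_cases hrp : r = p
    · subst hrp
      have h1 : F.index ∣ P₀.index := Subgroup.index_dvd_of_le le_sup_left
      exact P.not_dvd_index (hr2.trans h1)
    · have h1 : Nat.card F ∣ Nat.card P₀ * Nat.card R := Cfsg.Agent.Lib.Basic.card_sup_dvd_of_normal P₀ R
      have hrR : r ∣ Nat.card R := by
        rcases (Nat.Prime.dvd_mul hr).mp (hr1.trans h1) with h2 | h2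
        · exfalso
          obtain ⟨k, hk⟩ := hP0p.exists_card_eq
          rw [hk] at h2
          exact hrp ((Nat.prime_dvd_prime_iff_eq hr hpp).mp (hr.dvd_of_dvd_pow h2))
        · exact h2
      set Q₀ := Oq r R with hQ₀
      have hQ₀1 : Q₀ ≠ ⊥ := Oq_ne_bot hRnil hrR
      obtain ⟨S, hS⟩ := (Oq_isPGroup r R).exists_le_sylow
      have hSnil : Group.IsNilpotent (S : Subgroup G) := S.isPGroup'.isNilpotent
      obtain ⟨u, huQ, hu1, huS⟩ := exists_central_of_normal hS hQ₀1 hSnil (fun a _ =>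
        mem_normalizer_Oq hRnil (Subgroup.normalizer_eq_top_iff.mpr hRn ▸ Subgroup.mem_top a))
      have huC : u ∈ C₀ := hRC (Oq_le r R huQ)
      have hSF : (S : Subgroup G) ≤ F := by
        intro y hy
        obtain ⟨k, hk⟩ := exists_orderOf_of_mem_isPGroup S.isPGroup' hy
        have hyp : (orderOf y).Coprime p := by
          rw [hk]
          exact Nat.Coprime.pow_left _ ((Nat.coprime_primes hr hpp).mpr hrp)
        have hyC : y ∈ C₀ := by
          rw [hC₀, Subgroup.mem_centralizer_iff]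
          intro a ha
          have h2 : a ∈ centralizer ({u} : Set G) :=
            mem_centralizer_singleton'.mpr (Subgroup.mem_centralizer_iff.mp huC a ha).symm
          have h3 : y ∈ centralizer ({u} : Set G) := mem_centralizer_singleton'.mpr (huS y hy)
          obtain ⟨l, hl⟩ := exists_orderOf_of_mem_isPGroup hP0p ha
          exact comm_of_coprime_of_nilpotent_subgroup (hCN u hu1) h2 h3 (by
            rw [hl]; exact Nat.Coprime.pow_left _ hyp.symm)
        exact (le_sup_right : R ≤ F) (hRmem y hyC hyp)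
      exact S.not_dvd_index (hr2.trans (Subgroup.index_dvd_of_le hSF))
  set H := Cfsg.fittingHall G with hH
  have hFH : F ≤ H := le_fittingHall hFn hFnil hFcop
  have hHnil : Group.IsNilpotent H := fittingHall_isNilpotent G
  have hHcop : (Nat.card H).Coprime H.index := fittingHall_coprime G
  have hHn : H.Normal := inferInstance
  have hP₀H : P₀ ≤ H := le_sup_left.trans hFH
  have hRH : R ≤ H := le_sup_right.trans hFH
  -- elements of H of order prime to p lie in R
  have hHR : ∀ b ∈ H, (orderOf b).Coprime p → b ∈ R := by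
    intro b hb hc
    apply hRmem b _ hc
    rw [hC₀, Subgroup.mem_centralizer_iff]
    intro a ha
    obtain ⟨l, hl⟩ := exists_orderOf_of_mem_isPGroup hP0p ha
    exact comm_of_coprime_of_nilpotent_subgroup hHnil (hP₀H ha) hb (by
      rw [hl]; exact Nat.Coprime.pow_left _ hc.symm)
  have hH1 : H ≠ ⊥ := fun e => hP1 (le_bot_iff.mp (e ▸ hP₀H))
  have hHtop : H ≠ ⊤ := by
    intro e
    apply hnn
    rw [e] at hHnil
    exact Group.nilpotent_of_surjective (Subgroup.subtype ⊤) (by
      intro y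
      exact ⟨⟨y, trivial⟩, rfl⟩)
  refine ⟨hH1, hHtop, ?_⟩
  obtain ⟨E, hE⟩ := Subgroup.exists_right_complement'_of_coprime hHcop
  have hEidx : H.index = Nat.card E := hE.symm.index_eq_card
  have hEH : H ⊓ E = ⊥ := hE.disjoint.eq_bot
  have hEcop : ∀ e ∈ E, (orderOf e).Coprime (Nat.card H) := fun e he => by
    apply Nat.Coprime.coprime_dvd_left (Subgroup.orderOf_dvd_natCard E he)
    rw [← hEidx]
    exact hHcop.symm
  have hpH : p ∣ Nat.card H := by
    have h1 : z₀ ∈ H := hP₀H hz₀
    obtain ⟨k, hk⟩ := exists_orderOf_of_mem_isPGroup hP0p hz₀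
    have h2 : orderOf z₀ ∣ Nat.card H := Subgroup.orderOf_dvd_natCard H h1
    have hk0 : k ≠ 0 := by
      rintro rfl
      rw [pow_zero, orderOf_eq_one_iff] at hk
      exact hz₀1 hk
    rw [hk] at h2
    exact (dvd_pow_self p hk0).trans h2
  have hEp : ∀ e ∈ E, (orderOf e).Coprime p := fun e he => Nat.Coprime.coprime_dvd_right hpH (hEcop e he)
  have hEC : ∀ e ∈ E, e ≠ 1 → e ∉ C₀ := by
    intro e he he1 heC
    have h1 : e ∈ H := hRH (hRmem e heC (hEp e he))
    have h2 : e ∈ H ⊓ E := Subgroup.mem_inf.mpr ⟨h1, he⟩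
    rw [hEH, Subgroup.mem_bot] at h2
    exact he1 h2
  have hfpf : ∀ e ∈ E, e ≠ 1 → ∀ h ∈ H, h * e = e * h → h = 1 := by
    intro e he he1 h hh hc
    obtain ⟨a, b, hab, -, ⟨k, hk⟩, hb, haz, hbz⟩ := exists_pPart p h
    have hbp : (orderOf b).Coprime p := ((Nat.Prime.coprime_iff_not_dvd hpp).mpr hb).symm
    have haH : a ∈ H := (Subgroup.zpowers_le.mpr hh) haz
    have hbH : b ∈ H := (Subgroup.zpowers_le.mpr hh) hbz
    have hca : a * e = e * a := by
      obtain ⟨i, rfl⟩ := haz
      exact (show Commute h e from hc).zpow_left i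
    have hcb : b * e = e * b := by
      obtain ⟨i, rfl⟩ := hbz
      exact (show Commute h e from hc).zpow_left i
    have ha1 : a = 1 := by
      by_contra ha1
      exact hEC e he he1 (comm_of_fixed hCN hP0p (hEp e he) (hpelem a ⟨k, hk⟩) ha1 hca)
    have hb1 : b = 1 := by
      by_contra hb1
      have hbR := hHR b hbH hbp
      apply hEC e he he1
      rw [hC₀, Subgroup.mem_centralizer_iff]
      intro w hw
      have h2 : w ∈ centralizer ({b} : Set G) :=
        mem_centralizer_singleton'.mpr (Subgroup.mem_centralizer_iff.mp (hRC hbR) w hw).symm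
      have h3 : e ∈ centralizer ({b} : Set G) := mem_centralizer_singleton'.mpr hcb
      obtain ⟨l, hl⟩ := exists_orderOf_of_mem_isPGroup hP0p hw
      exact comm_of_coprime_of_nilpotent_subgroup (hCN b hb1) h2 h3 (by
        rw [hl]; exact Nat.Coprime.pow_left _ (hEp e he).symm)
    rw [hab, ha1, hb1, one_mul]
  have hG : ∀ g : G, ∃ h ∈ H, ∃ f ∈ E, g = h * f := by
    intro g
    have hg : g ∈ H ⊔ E := by rw [hE.sup_eq_top]; trivial
    obtain ⟨h, hh, f, hf, e⟩ := Subgroup.mem_sup_of_normal_left.mp hg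
    exact ⟨h, hh, f, hf, e.symm⟩
  have hE1 : E ≠ ⊥ := by
    intro e
    apply hHtop
    have := hE.sup_eq_top
    rwa [e, sup_bot_eq] at this
  have hEtop : E ≠ ⊤ := by
    intro e
    apply hH1
    have := hE.disjoint.eq_bot
    rwa [e, inf_top_eq] at this
  have hfrob : ∀ g : G, g ∉ E → E ⊓ (MulAut.conj g • E) = ⊥ := by
    intro g hg
    rw [eq_bot_iff]
    intro e he
    obtain ⟨heE, heg⟩ := Subgroup.mem_inf.mp he
    rw [mem_conj_smul] at heg
    rw [Subgroup.mem_bot]
    by_contra he1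
    obtain ⟨h, hh, f, hf, rfl⟩ := hG g
    have h1 : h⁻¹ * e * h ∈ E := by
      have h2 := E.mul_mem (E.mul_mem hf heg) (E.inv_mem hf)
      have e2 : f * ((h * f)⁻¹ * e * (h * f)) * f⁻¹ = h⁻¹ * e * h := by group
      rwa [e2] at h2
    have h3 : (h⁻¹ * e * h) * e⁻¹ ∈ H ⊓ E := by
      refine Subgroup.mem_inf.mpr ⟨?_, E.mul_mem h1 (E.inv_mem heE)⟩
      have h4 := hHn.conj_mem h hh e
      have e2 : (h⁻¹ * e * h) * e⁻¹ = h⁻¹ * (e * h * e⁻¹) := by group
      rw [e2]
      exact H.mul_mem (H.inv_mem hh) h4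
    rw [hEH, Subgroup.mem_bot, mul_inv_eq_one] at h3
    have h5 : h * e = e * h := by
      calc h * e = h * (h⁻¹ * e * h) := by rw [h3]
        _ = e * h := by group
    have h6 := hfpf e heE he1 h hh h5
    apply hg
    rw [h6, one_mul]
    exact hf
  have hfpf' : ∀ e ∈ E, e ≠ 1 → H ⊓ Subgroup.centralizer ({e} : Set G) = ⊥ := by
    intro e he he1
    rw [eq_bot_iff]
    intro h hh
    obtain ⟨hh1, hh2⟩ := Subgroup.mem_inf.mp hh
    rw [Subgroup.mem_bot]
    exact hfpf e he he1 h hh1 (mem_centralizer_singleton'.mp hh2).symm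
  refine ⟨⟨E, hE, ⟨hE1, hEtop, hfrob⟩, hfpf'⟩, ?_⟩
  -- E is nilpotent
  have hEnil : Group.IsNilpotent E := by
    refine isNilpotent_of_forall_stable _ E rfl (fun q hq => ?_)
    haveI : Fact q.Prime := ⟨hq⟩
    intro D hD g hg hgc
    by_cases hg1 : g = 1
    · rw [hg1]; exact Subgroup.one_mem _
    by_cases hD1 : D = ⊥
    · rw [hD1, Subgroup.mem_centralizer_iff]
      intro w hw
      have : w = 1 := by simpa using hw
      rw [this, one_mul, mul_one]
    set D' : Subgroup G := D.map E.subtype with hD'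
    have hD'E : D' ≤ E := Subgroup.map_subtype_le D
    have hD'p : IsPGroup q D' := hD.map _
    have hD'1 : D' ≠ ⊥ := by
      intro e
      apply hD1
      rw [hD', Subgroup.map_eq_bot_iff, Subgroup.ker_subtype] at e
      exact le_bot_iff.mp e
    set y : G := (g : G) with hy
    have hyN : y ∈ normalizer (D' : Set G) := by
      rw [Subgroup.mem_normalizer_iff] at hg ⊢
      intro w
      constructor
      · rintro ⟨w', hw', rfl⟩
        exact ⟨g * w' * g⁻¹, (hg w').mp hw', rfl⟩
      · rintro ⟨w', hw', e⟩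
        have hwE : w = (g⁻¹ * w' * g : E) := by
          have e1 : (w' : G) = y * w * y⁻¹ := e
          simp only [Subgroup.coe_mul, Subgroup.coe_inv]
          rw [e1, hy]
          group
        rw [hwE]
        refine ⟨g⁻¹ * w' * g, ?_, rfl⟩
        apply (hg (g⁻¹ * w' * g)).mpr
        have e2 : g * (g⁻¹ * w' * g) * g⁻¹ = w' := by group
        rw [e2]; exact hw'
    have hyq : (orderOf y).Coprime q := by
      rw [hy, Subgroup.orderOf_coe]; exact hgc
    have hy1 : y ≠ 1 := fun e => hg1 (Subtype.ext e)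
    have hord1 : orderOf y ≠ 1 := fun e => hy1 (orderOf_eq_one_iff.mp e)
    obtain ⟨r, hr, m, hm⟩ := Nat.exists_prime_and_dvd hord1
    haveI : Fact r.Prime := ⟨hr⟩
    set y₀ := y ^ m with hy₀
    have hmpos : 0 < m := by
      rcases Nat.eq_zero_or_pos m with h | h
      · subst h
        rw [mul_zero] at hm
        exact absurd hm (orderOf_pos _).ne'
      · exact h
    have hy₀r : y₀ ^ r = 1 := by
      rw [hy₀, ← pow_mul, mul_comm, ← hm]
      exact pow_orderOf_eq_one _
    have hy₀1 : y₀ ≠ 1 := by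
      intro e
      have := orderOf_dvd_of_pow_eq_one e
      rw [hm] at this
      have h2 := Nat.le_of_dvd hmpos this
      have h3 := hr.two_le
      nlinarith
    have hy₀E : y₀ ∈ E := E.pow_mem g.2 m
    have hy₀N : y₀ ∈ normalizer (D' : Set G) := Subgroup.pow_mem _ hyN m
    have hrq : r ≠ q := by
      rintro rfl
      have h1 : r ∣ orderOf y := ⟨m, hm⟩
      exact (Nat.Prime.coprime_iff_not_dvd hr).mp hyq.symm h1
    obtain ⟨d₀, hd₀, hd₀1⟩ : ∃ d ∈ D', d ≠ 1 := by
      obtain ⟨u, hu⟩ := Subgroup.ne_bot_iff_exists_ne_one.mp hD'1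
      exact ⟨u.1, u.2, fun e => hu (Subtype.ext e)⟩
    have hqp : q ≠ p := by
      rintro rfl
      obtain ⟨k, hk⟩ := exists_orderOf_of_mem_isPGroup hD'p hd₀
      have hk0 : k ≠ 0 := by
        rintro rfl
        rw [pow_zero, orderOf_eq_one_iff] at hk
        exact hd₀1 hk
      have h1 := hEp d₀ (hD'E hd₀)
      rw [hk] at h1
      exact (Nat.Prime.coprime_iff_not_dvd hpp).mp h1.symm (dvd_pow_self _ hk0)
    have hVne : zOf P₀ ≠ ⊥ := by
      obtain ⟨u, hu, hu1⟩ := exists_zOf_ne_one hP0p hP1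
      intro e
      rw [e, Subgroup.mem_bot] at hu
      exact hu1 hu
    by_cases hfix : ∃ u ∈ zOf D', u ≠ 1 ∧ y₀ * u = u * y₀
    · obtain ⟨u, hu, hu1, huc⟩ := hfix
      have hcy₀ : ∀ d ∈ D', d * y₀ = y₀ * d := by
        intro d hd
        have h1 : d ∈ centralizer ({u} : Set G) := by
          rw [mem_centralizer_singleton']
          exact (Subgroup.mem_centralizer_iff.mp (Subgroup.mem_inf.mp hu).2 d hd).symm
        have h2 : y₀ ∈ centralizer ({u} : Set G) := mem_centralizer_singleton'.mpr huc.symm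
        obtain ⟨k, hk⟩ := exists_orderOf_of_mem_isPGroup hD'p hd
        have hy₀ord : orderOf y₀ = r := orderOf_eq_prime hy₀r hy₀1
        exact comm_of_coprime_of_nilpotent_subgroup (hCN u hu1) h1 h2 (by
          rw [hk, hy₀ord]
          exact Nat.Coprime.pow_left _ ((Nat.coprime_primes hq hr).mpr (Ne.symm hrq)))
      rw [Subgroup.mem_centralizer_iff]
      intro w hw
      apply Subtype.ext
      have hwD : (w : G) ∈ D' := ⟨w, hw, rfl⟩
      have h1 : (w : G) ∈ centralizer ({y₀} : Set G) :=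
        mem_centralizer_singleton'.mpr (hcy₀ _ hwD).symm
      have h2 : y ∈ centralizer ({y₀} : Set G) := by
        rw [mem_centralizer_singleton']
        exact (Commute.pow_left (Commute.refl y) m)
      obtain ⟨k, hk⟩ := exists_orderOf_of_mem_isPGroup hD'p hwD
      exact comm_of_coprime_of_nilpotent_subgroup (hCN y₀ hy₀1) h1 h2 (by
        rw [hk]
        exact Nat.Coprime.pow_left _ hyq.symm)
    · exfalso
      push Not at hfix
      apply hVne
      refine frobenius_action_fixed_subgroup (zOf P₀) (zOf D') (zOf_comm P₀) y₀ hr hy₀r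
        (fun a _ => mem_normalizer_zOf (Subgroup.normalizer_eq_top_iff.mpr hPn ▸ Subgroup.mem_top a))
        (mem_normalizer_zOf (Subgroup.normalizer_eq_top_iff.mpr hPn ▸ Subgroup.mem_top _))
        (mem_normalizer_zOf hy₀N) ?_ ?_ ?_ ?_
      · intro u hu hc
        by_contra hu1
        exact hfix u hu hu1 hc
      · obtain ⟨a, ha⟩ := (hD'p.to_le (zOf_le D')).exists_card_eq
        obtain ⟨b, hb⟩ := (hP0p.to_le (zOf_le P₀)).exists_card_eq
        rw [ha, hb]
        exact Nat.Coprime.pow _ _ ((Nat.coprime_primes hq hpp).mpr hqp)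
      · intro v hv hvc
        obtain ⟨u, hu, hu1⟩ := exists_zOf_ne_one hD'p hD'1
        exact hfpf u (hD'E (zOf_le D' hu)) hu1 v (hP₀H (zOf_le P₀ hv)) (hvc u hu).symm
      · intro v hv hvc
        exact hfpf y₀ hy₀E hy₀1 v (hP₀H (zOf_le P₀ hv)) hvc.symm
  haveI := hEnil
  refine Group.nilpotent_of_surjective ((QuotientGroup.mk' H).comp E.subtype) ?_
  intro y
  obtain ⟨g, rfl⟩ := QuotientGroup.mk_surjective y
  obtain ⟨h, hh, f, hf, rfl⟩ := hG g
  refine ⟨⟨f, hf⟩, ?_⟩
  simp only [MonoidHom.comp_apply, Subgroup.subtype_apply, QuotientGroup.mk'_apply]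
  rw [QuotientGroup.mk_mul, (QuotientGroup.eq_one_iff h).mpr hh, one_mul]

end Cfsg.Agent.S1474
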