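import Cfsg.Statements.S1514
import Cfsg.Agent.Lib.OddChar.Inner

set_option autoImplicit false
open Cfsg

namespace Cfsg.Agent.S1514

open Cfsg.Agent.Lib.Char Cfsg.Agent.Lib.OddChar

private theorem key {G : Type*} [Group G] [Fintype G] {α₁ α₂ β₁ β₂ : G → ℂ} (h1 : IsPMIrr G α₁)
    (h2 : IsPMIrr G α₂) (h3 : IsPMIrr G β₁) (h4 : IsPMIrr G β₂)
    (ha : Cfsg.classInner α₁ α₂ = 0) (hb : Cfsg.classInner β₁ β₂ = 0)
    (hs : Cfsg.classInner (α₁ + α₂) (β₁ + β₂) = 0) (va : α₁ 1 + α₂ 1 = 0) (vb : β₁ 1 + β₂ 1 = 0) :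
    Cfsg.classInner α₁ β₁ = 0 := by
  rw [classInner_add_left, classInner_add_right, classInner_add_right] at hs
  have hba : Cfsg.classInner α₂ α₁ = 0 := by rw [classInner_conj_symm, ha, map_zero]
  rcases IsPMIrr.classInner_cases h1 h3 with h | ⟨e, hA⟩ | ⟨e, hA⟩
  · exact h
  · exfalso
    subst e
    rw [hA, hb, hba] at hs
    rcases IsPMIrr.classInner_cases h2 h4 with h | ⟨e', hB⟩ | ⟨e', hB⟩
    · rw [h] at hs; norm_num at hs
    · rw [hB] at hs; norm_num at hs
    · subst e'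
      simp only [Pi.neg_apply] at va
      have : α₁ 1 = 0 := by linear_combination (1/2)*va + (1/2)*vb
      exact IsPMIrr.apply_one_ne_zero h1 this
  · exfalso
    subst e
    have e1 : Cfsg.classInner (-β₁) β₂ = 0 := by rw [classInner_neg_left, hb, neg_zero]
    have e2 : Cfsg.classInner α₂ β₁ = 0 := by
      rw [classInner_neg_right] at hba
      simpa using hba
    rw [hA, e1, e2] at hs
    rcases IsPMIrr.classInner_cases h2 h4 with h | ⟨e', hB⟩ | ⟨e', hB⟩
    · rw [h] at hs; norm_num at hs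
    · subst e'
      simp only [Pi.neg_apply] at va
      have : α₂ 1 = 0 := by linear_combination (1/2)*va + (1/2)*vb
      exact IsPMIrr.apply_one_ne_zero h2 this
    · rw [hB] at hs; norm_num at hs

private theorem classInner_conj_conj {X : Type*} [Group X] [Fintype X] (f g : X → ℂ) :
    Cfsg.classInner (Cfsg.conjFun f) (Cfsg.conjFun g) = (starRingEnd ℂ) (Cfsg.classInner f g) := by
  simp [Cfsg.classInner, Cfsg.conjFun]

private theorem conj_conj_fun {X : Type*} (f : X → ℂ) : Cfsg.conjFun (Cfsg.conjFun f) = f := by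
  funext x
  simp [Cfsg.conjFun]

/-- Let S be a nonempty set of irreducible characters of the finite group L, closed under complex conjugation and containing no real-valued member, and τ a linear isometry on the integer combinations of S vanishing at 1, with values virtual characters of G vanishing at 1. Then there is a choice R making (S, τ, R) a coherence system. -/
theorem result {L : Type*} [Group L] [Fintype L] {G : Type*} [Group G] [Fintype G] (S : Set (L → ℂ)) (hS : S.Nonempty) (hirr : ∀ χ ∈ S, Cfsg.IsIrrCharacter L χ) (hconj : ∀ χ ∈ S, Cfsg.conjFun χ ∈ S ∧ Cfsg.conjFun χ ≠ χ) (τ : (L → ℂ) → (G → ℂ)) (hτ : Cfsg.IsLinearIsometryOn (Cfsg.zspanOn S {1}ᶜ) τ) (hτ1 : ∀ α ∈ Cfsg.zspanOn S {1}ᶜ, τ α 1 = 0) : ∃ R : (L → ℂ) → Finset (G → ℂ), Cfsg.IsCoherenceSystem S τ R := by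
  classical
  have hchar : ∀ χ ∈ S, IsCharacter L χ := fun χ h => IsIrrCharacter.isCharacter (hirr χ h)
  have hmem : ∀ χ ∈ S, χ - Cfsg.conjFun χ ∈ Cfsg.zspanOn S {1}ᶜ := by
    intro χ hχ
    refine ⟨sub_mem_zspan (mem_zspan_of_mem hχ) (mem_zspan_of_mem (hconj χ hχ).1), ?_⟩
    intro x hx
    have : x = 1 := by simpa using hx
    subst this
    obtain ⟨n, hn⟩ := IsCharacter.apply_one (hchar χ hχ)
    simp [Cfsg.conjFun, hn]
  obtain ⟨hadd, hsmul, hinner, hvirt⟩ := id hτ
  have hnorm : ∀ χ ∈ S, Cfsg.classInner (χ - Cfsg.conjFun χ) (χ - Cfsg.conjFun χ) = 2 := by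
    intro χ hχ
    have h1 := classInner_irr_self (hirr χ hχ)
    have h2 := classInner_irr_self (hirr _ (hconj χ hχ).1)
    have h3 := classInner_irr_of_ne (hirr χ hχ) (hirr _ (hconj χ hχ).1) (hconj χ hχ).2.symm
    have h4 := classInner_irr_of_ne (hirr _ (hconj χ hχ).1) (hirr χ hχ) (hconj χ hχ).2
    rw [classInner_sub_left, classInner_sub_right, classInner_sub_right, h1, h2, h3, h4]
    norm_num
  have hex : ∀ χ, χ ∈ S → ∃ α β : G → ℂ, IsPMIrr G α ∧ IsPMIrr G β ∧ Cfsg.classInner α β = 0 ∧ α ≠ β ∧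
      τ (χ - Cfsg.conjFun χ) = α + β := by
    intro χ hχ
    refine exists_pm_of_norm_two (hvirt _ (hmem χ hχ)) ?_
    rw [hinner _ (hmem χ hχ) _ (hmem χ hχ), hnorm χ hχ]
  choose! a b ha hb hab hne hsum using hex
  have hval : ∀ χ ∈ S, a χ 1 + b χ 1 = 0 := by
    intro χ hχ
    have := hτ1 _ (hmem χ hχ)
    rwa [hsum χ hχ] at this
  have hba : ∀ χ ∈ S, Cfsg.classInner (b χ) (a χ) = 0 := by
    intro χ hχ
    rw [classInner_conj_symm, hab χ hχ, map_zero]
  refine ⟨fun χ => {a χ, b χ}, ?_⟩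
  refine
    { nonempty := hS
      isCharacter := hchar
      conj_mem := fun χ h => (hconj χ h).1
      conj_ne := fun χ h => (hconj χ h).2
      isometry := hτ
      map_one := hτ1
      orthogonal := fun χ h φ h' hne => classInner_irr_of_ne (hirr χ h) (hirr φ h') hne
      orthonormal := ?_
      virtual := ?_
      sum_eq := ?_
      disjoint := ?_ }
  · intro χ hχ α hα β hβ
    simp only [Finset.mem_insert, Finset.mem_singleton] at hα hβ
    rcases hα with rfl | rfl <;> rcases hβ with rfl | rfl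
    · rw [if_pos rfl]; exact IsPMIrr.classInner_self (ha χ hχ)
    · rw [if_neg (hne χ hχ)]; exact hab χ hχ
    · rw [if_neg (hne χ hχ).symm]; exact hba χ hχ
    · rw [if_pos rfl]; exact IsPMIrr.classInner_self (hb χ hχ)
  · intro χ hχ α hα
    simp only [Finset.mem_insert, Finset.mem_singleton] at hα
    rcases hα with rfl | rfl
    · exact IsPMIrr.isGeneralizedCharacter (ha χ hχ)
    · exact IsPMIrr.isGeneralizedCharacter (hb χ hχ)
  · intro χ hχ
    rw [hsum χ hχ, Finset.sum_pair (hne χ hχ)]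
  · intro χ hχ φ hφ h1 h2 α hα β hβ
    have h3 : Cfsg.classInner (Cfsg.conjFun φ) χ = 0 := by
      have := classInner_conj_conj φ (Cfsg.conjFun χ)
      rw [conj_conj_fun, h2, map_zero] at this
      exact this
    have h4 : Cfsg.classInner (Cfsg.conjFun φ) (Cfsg.conjFun χ) = 0 := by
      rw [classInner_conj_conj, h1, map_zero]
    have hs : Cfsg.classInner (a φ + b φ) (a χ + b χ) = 0 := by
      rw [← hsum χ hχ, ← hsum φ hφ, hinner _ (hmem φ hφ) _ (hmem χ hχ), classInner_sub_left,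
        classInner_sub_right, classInner_sub_right, h1, h2, h3, h4]
      simp
    have hs' : Cfsg.classInner (b φ + a φ) (a χ + b χ) = 0 := by rwa [add_comm (b φ)]
    have hs'' : Cfsg.classInner (a φ + b φ) (b χ + a χ) = 0 := by rwa [add_comm (b χ)]
    have hs''' : Cfsg.classInner (b φ + a φ) (b χ + a χ) = 0 := by rwa [add_comm (b χ), add_comm (b φ)]
    simp only [Finset.mem_insert, Finset.mem_singleton] at hα hβ
    rcases hα with rfl | rfl <;> rcases hβ with rfl | rfl
    · exact key (ha φ hφ) (hb φ hφ) (ha χ hχ) (hb χ hχ) (hab φ hφ) (hab χ hχ) hs (hval φ hφ) (hval χ hχ)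
    · exact key (ha φ hφ) (hb φ hφ) (hb χ hχ) (ha χ hχ) (hab φ hφ) (hba χ hχ) hs'' (hval φ hφ)
        (by rw [add_comm]; exact hval χ hχ)
    · exact key (hb φ hφ) (ha φ hφ) (ha χ hχ) (hb χ hχ) (hba φ hφ) (hab χ hχ) hs'
        (by rw [add_comm]; exact hval φ hφ) (hval χ hχ)
    · exact key (hb φ hφ) (ha φ hφ) (hb χ hχ) (ha χ hχ) (hba φ hφ) (hba χ hχ) hs'''
        (by rw [add_comm]; exact hval φ hφ) (by rw [add_comm]; exact hval χ hχ)

end Cfsg.Agent.S1514
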