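import Cfsg.Statements.S1515
import Cfsg.Agent.Lib.OddChar.Inner

set_option autoImplicit false
open Cfsg

namespace Cfsg.Agent.S1515

open Cfsg.Agent.Lib.Char Cfsg.Agent.Lib.OddChar

/-- Let (S, τ, R) be a coherence system from L to G, χ ∈ S, and ψ an integer combination of S with ⟨χ, ψ⟩ = ⟨conj χ, ψ⟩ = 0. Let τ₁ be a linear isometry on the integer combinations of χ − ψ and χ − conj χ, with virtual-character values, agreeing with τ on integer multiples of χ − conj χ. Then the sum over α ∈ R χ of the squared absolute values of ⟨τ₁(χ − ψ), α⟩ is at least ⟨χ, χ⟩; and if ⟨τ₁(χ − ψ), τ₁(χ − ψ)⟩ minus that sum is at least ⟨ψ, ψ⟩, then the sum equals ⟨χ, χ⟩ and every ⟨τ₁(χ − ψ), α⟩ with α ∈ R χ is 0 or 1. -/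
theorem result {L : Type*} [Group L] [Fintype L] {G : Type*} [Group G] [Fintype G] (S : Set (L → ℂ)) (τ : (L → ℂ) → (G → ℂ)) (R : (L → ℂ) → Finset (G → ℂ)) (hS : Cfsg.IsCoherenceSystem S τ R) (χ : L → ℂ) (hχ : χ ∈ S) (ψ : L → ℂ) (hψ : ψ ∈ Cfsg.zspan S) (h1 : Cfsg.classInner χ ψ = 0) (h2 : Cfsg.classInner (Cfsg.conjFun χ) ψ = 0) (τ₁ : (L → ℂ) → (G → ℂ)) (hτ₁ : Cfsg.IsLinearIsometryOn (Cfsg.zspan {χ - ψ, χ - Cfsg.conjFun χ}) τ₁) (hagree : ∀ n : ℤ, τ₁ (n • (χ - Cfsg.conjFun χ)) = τ (n • (χ - Cfsg.conjFun χ))) : (Cfsg.classInner χ χ).re ≤ ∑ α ∈ R χ, ‖Cfsg.classInner (τ₁ (χ - ψ)) α‖ ^ 2 ∧ ((Cfsg.classInner ψ ψ).re ≤ (Cfsg.classInner (τ₁ (χ - ψ)) (τ₁ (χ - ψ))).re - ∑ α ∈ R χ, ‖Cfsg.classInner (τ₁ (χ - ψ)) α‖ ^ 2 → (∑ α ∈ R χ, ‖Cfsg.classInner (τ₁ (χ - ψ)) α‖ ^ 2 = (Cfsg.classInner χ χ).re ∧ ∀ α ∈ R χ, Cfsg.classInner (τ₁ (χ - ψ)) α = 0 ∨ Cfsg.classInner (τ₁ (χ - ψ)) α = 1)) := by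
  classical
  have hm1 : χ - ψ ∈ Cfsg.zspan {χ - ψ, χ - Cfsg.conjFun χ} := mem_zspan_of_mem (by simp)
  have hm2 : χ - Cfsg.conjFun χ ∈ Cfsg.zspan {χ - ψ, χ - Cfsg.conjFun χ} := mem_zspan_of_mem (by simp)
  obtain ⟨hadd, hsmul, hinner, hvirt⟩ := hτ₁
  have hχcc : Cfsg.classInner χ (Cfsg.conjFun χ) = 0 :=
    hS.orthogonal χ hχ _ (hS.conj_mem χ hχ) (hS.conj_ne χ hχ).symm
  have hψχ : Cfsg.classInner ψ χ = 0 := by rw [classInner_conj_symm, h1, map_zero]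
  have hψcc : Cfsg.classInner ψ (Cfsg.conjFun χ) = 0 := by rw [classInner_conj_symm, h2, map_zero]
  have hy : IsGeneralizedCharacter G (τ₁ (χ - ψ)) := hvirt _ hm1
  have hint : ∀ α ∈ R χ, ∃ n : ℤ, Cfsg.classInner (τ₁ (χ - ψ)) α = n := fun α hα =>
    IsGeneralizedCharacter.classInner_int hy (hS.virtual χ hχ α hα)
  choose! c hc using hint
  have hsum : (((∑ α ∈ R χ, c α : ℤ)) : ℂ) = Cfsg.classInner χ χ := by
    have h3 : τ₁ (χ - Cfsg.conjFun χ) = ∑ α ∈ R χ, α := by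
      have := hagree 1
      rw [one_smul] at this
      rw [this, hS.sum_eq χ hχ]
    have h4 := hinner _ hm1 _ hm2
    rw [h3, classInner_sum_right, classInner_sub_left, classInner_sub_right, classInner_sub_right,
      hχcc, hψχ, hψcc] at h4
    simp only [sub_zero] at h4
    push_cast
    rw [← h4]
    exact Finset.sum_congr rfl fun α hα => (hc α hα).symm
  have hnorm : ∀ α ∈ R χ, ‖Cfsg.classInner (τ₁ (χ - ψ)) α‖ ^ 2 = ((c α ^ 2 : ℤ) : ℝ) := by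
    intro α hα
    rw [hc α hα, Complex.norm_intCast, sq_abs]
    push_cast
    rfl
  have hsumN : ∑ α ∈ R χ, ‖Cfsg.classInner (τ₁ (χ - ψ)) α‖ ^ 2 = ((∑ α ∈ R χ, c α ^ 2 : ℤ) : ℝ) := by
    push_cast
    exact Finset.sum_congr rfl fun α hα => by rw [hnorm α hα]; push_cast; rfl
  have hχre : (Cfsg.classInner χ χ).re = ((∑ α ∈ R χ, c α : ℤ) : ℝ) := by
    rw [← hsum]
    simp
  have hle : ∀ α ∈ R χ, c α ≤ c α ^ 2 := by
    intro α _
    nlinarith [Int.emod_emod_of_dvd, sq_nonneg (c α), Int.le_self_sq (c α)]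
  have hfirst : ∑ α ∈ R χ, c α ≤ ∑ α ∈ R χ, c α ^ 2 := Finset.sum_le_sum hle
  constructor
  · rw [hχre, hsumN]
    exact_mod_cast hfirst
  · intro hyp
    have hyy : (Cfsg.classInner (τ₁ (χ - ψ)) (τ₁ (χ - ψ))).re =
        (Cfsg.classInner χ χ).re + (Cfsg.classInner ψ ψ).re := by
      rw [hinner _ hm1 _ hm1, classInner_sub_left, classInner_sub_right, classInner_sub_right, h1, hψχ]
      simp
    rw [hyy, hχre, hsumN] at hyp
    have hle2 : ∑ α ∈ R χ, c α ^ 2 ≤ ∑ α ∈ R χ, c α := by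
      have : (((∑ α ∈ R χ, c α ^ 2 : ℤ)) : ℝ) ≤ ((∑ α ∈ R χ, c α : ℤ) : ℝ) := by linarith
      exact_mod_cast this
    have heq : ∑ α ∈ R χ, c α = ∑ α ∈ R χ, c α ^ 2 := le_antisymm hfirst hle2
    constructor
    · rw [hχre, hsumN, heq]
    · intro α hα
      have h5 : ∀ β ∈ R χ, c β = c β ^ 2 := by
        have := (Finset.sum_eq_sum_iff_of_le hle).mp heq
        exact this
      have h6 := h5 α hα
      have h7 : c α * (c α - 1) = 0 := by linear_combination -h6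
      rw [hc α hα]
      rcases mul_eq_zero.mp h7 with h | h
      · left; rw [h]; simp
      · right
        have : c α = 1 := by omega
        rw [this]; simp

end Cfsg.Agent.S1515
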