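import Cfsg.Statements.S1922
import Cfsg.Agent.Lib.Tech.IsolatedPoint
-- import your own Cfsg.Agent.* helpers here

set_option autoImplicit false
open Cfsg

namespace Cfsg.Agent.S1922

/-- Let z be an involution of a finite group G and H a proper subgroup such that z lies in gHg⁻¹ exactly when g ∈ H. Then the following are equivalent: (1) for every conjugate t ≠ z of z commuting with z, the product zt lies in gHg⁻¹ exactly when g ∈ H; (2) z lies in the centre of some Sylow 2-subgroup of G, and for every conjugate t ≠ z of z commuting with z, the centralizer of zt is contained in H. -/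
theorem result {G : Type*} [Group G] [Finite G] (z : G) (hz : orderOf z = 2) (H : Subgroup G) (hH : H ≠ ⊤)
    (h0 : ∀ g : G, z ∈ H.map (MulAut.conj g).toMonoidHom ↔ g ∈ H) :
    (∀ t : G, IsConj z t → t ≠ z → t * z = z * t → ∀ g : G, z * t ∈ H.map (MulAut.conj g).toMonoidHom ↔ g ∈ H) ↔
      ((∃ P : Sylow 2 G, z ∈ (Subgroup.center ↥(P : Subgroup G)).map (P : Subgroup G).subtype) ∧
        ∀ t : G, IsConj z t → t ≠ z → t * z = z * t → Subgroup.centralizer ({z * t} : Set G) ≤ H) := by

  classical
  haveI : Fact (Nat.Prime 2) := ⟨Nat.prime_two⟩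
  have hmap : ∀ (x g : G), x ∈ H.map (MulAut.conj g).toMonoidHom ↔ g⁻¹ * x * g ∈ H := by
    intro x g
    constructor
    · rintro ⟨y, hy, rfl⟩
      have : g⁻¹ * ((MulAut.conj g).toMonoidHom y) * g = y := by simp [mul_assoc]
      rw [this]
      exact hy
    · intro hx
      exact ⟨_, hx, by simp [mul_assoc]⟩
  have hz2 : z * z = 1 := Cfsg.Agent.Lib.TwoFusion.involution_sq hz
  have hzi : z⁻¹ = z := Cfsg.Agent.Lib.TwoFusion.involution_inv hz
  -- the basic property
  have h0' : ∀ g : G, g⁻¹ * z * g ∈ H ↔ g ∈ H := fun g => (hmap z g).symm.trans (h0 g)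
  have hzH : z ∈ H := by
    have := (h0' 1).2 H.one_mem
    simpa using this
  have hCz : Subgroup.centralizer ({z} : Set G) ≤ H := by
    intro x hx
    rw [Subgroup.mem_centralizer_singleton_iff] at hx
    apply (h0' x).1
    have : x⁻¹ * z * x = z := by
      rw [mul_assoc, ← hx]
      group
    rw [this]
    exact hzH
  constructor
  · intro h1
    have hCzt : ∀ t : G, IsConj z t → t ≠ z → t * z = z * t → Subgroup.centralizer ({z * t} : Set G) ≤ H := by
      intro t ht hne hc x hx
      rw [Subgroup.mem_centralizer_singleton_iff] at hx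
      have h2 := h1 t ht hne hc 1
      have h3 : z * t ∈ H := by
        have := (hmap _ 1).1 (h2.2 H.one_mem)
        simpa using this
      apply (h1 t ht hne hc x).1
      rw [hmap]
      have : x⁻¹ * (z * t) * x = z * t := by
        rw [mul_assoc, ← hx]
        group
      rw [this]
      exact h3
    refine ⟨?_, hCzt⟩
    apply Cfsg.Agent.Lib.Tech.exists_sylow_center_of_unique_point z hz H hH h0'
    intro t ht hne hc g
    rw [← hmap]
    exact h1 t ht hne hc g
  · rintro ⟨⟨P, hzP⟩, hC⟩ t ht hne hc g
    -- `P` lies in `H`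
    have hPC : ∀ x ∈ (P : Subgroup G), x * z = z * x := by
      intro x hx
      obtain ⟨c, hc', hcz⟩ := hzP
      have h1 := (Subgroup.mem_center_iff.1 hc') ⟨x, hx⟩
      have h2 := congrArg (fun w : ↥(P : Subgroup G) => (w : G)) h1
      rw [← hcz]
      simpa using h2
    have hPH : (P : Subgroup G) ≤ H := by
      intro x hx
      apply hCz
      rw [Subgroup.mem_centralizer_singleton_iff]
      exact hPC x hx
    have htH : t ∈ H := by
      apply hCz
      rw [Subgroup.mem_centralizer_singleton_iff]
      exact hc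
    have hztH : z * t ∈ H := H.mul_mem hzH htH
    rw [hmap]
    constructor
    · intro hw
      -- conjugate the 2-element into `P`
      have ht2 : t * t = 1 := by
        obtain ⟨c, hc'⟩ := isConj_iff.1 ht
        rw [← hc']
        calc c * z * c⁻¹ * (c * z * c⁻¹) = c * (z * z) * c⁻¹ := by group
          _ = 1 := by rw [hz2]; group
      have hzt2 : (z * t) * (z * t) = 1 := by
        calc (z * t) * (z * t) = z * (t * z) * t := by group
          _ = (z * z) * (t * t) := by rw [hc]; group
          _ = 1 := by rw [hz2, ht2, one_mul]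
      set w' := g⁻¹ * (z * t) * g with hw'
      have hw2 : w' * w' = 1 := by
        rw [hw']
        calc g⁻¹ * (z * t) * g * (g⁻¹ * (z * t) * g) = g⁻¹ * ((z * t) * (z * t)) * g := by group
          _ = 1 := by rw [hzt2]; group
      have hZp : IsPGroup 2 (Subgroup.zpowers w') := by
        rw [IsPGroup.iff_card, Nat.card_zpowers]
        have h3 : orderOf w' ∣ 2 := orderOf_dvd_of_pow_eq_one (by rw [pow_two]; exact hw2)
        obtain ⟨k, -, hk⟩ := (Nat.dvd_prime_pow Nat.prime_two).1 (by simpa using h3 : orderOf w' ∣ 2 ^ 1)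
        exact ⟨k, hk⟩
      have hrel : ¬ 2 ∣ (P : Subgroup G).relIndex H := by
        intro hd
        apply P.not_dvd_index
        rw [← Subgroup.relIndex_mul_index hPH]
        exact Dvd.dvd.mul_right hd _
      obtain ⟨h, hhH, hle⟩ := Cfsg.Agent.Lib.Tech.exists_conj_le_of_relIndex hrel
        ((Subgroup.zpowers_le).2 hw) hZp
      have hwP : h * w' * h⁻¹ ∈ (P : Subgroup G) := hle ⟨w', Subgroup.mem_zpowers _, rfl⟩
      have hcomm := hPC _ hwP
      -- `g h⁻¹` conjugates `z` into the centralizer of `z t`
      have hmem : (g * h⁻¹) * z * (g * h⁻¹)⁻¹ ∈ H := by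
        apply hC t ht hne hc
        rw [Subgroup.mem_centralizer_singleton_iff]
        have h5 : z * t = (g * h⁻¹) * (h * w' * h⁻¹) * (g * h⁻¹)⁻¹ := by
          rw [hw']
          group
        rw [h5]
        calc (g * h⁻¹) * z * (g * h⁻¹)⁻¹ * ((g * h⁻¹) * (h * w' * h⁻¹) * (g * h⁻¹)⁻¹)
            = (g * h⁻¹) * (z * (h * w' * h⁻¹)) * (g * h⁻¹)⁻¹ := by group
          _ = (g * h⁻¹) * ((h * w' * h⁻¹) * z) * (g * h⁻¹)⁻¹ := by rw [hcomm]
          _ = _ := by group
      have h6 : (g * h⁻¹)⁻¹ ∈ H := by
        apply (h0' _).1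
        simpa using hmem
      have h7 : g = (g * h⁻¹) * h := by group
      rw [h7]
      exact H.mul_mem (by simpa using H.inv_mem h6) hhH
    · intro hg
      exact H.mul_mem (H.mul_mem (H.inv_mem hg) hztH) hg

end Cfsg.Agent.S1922
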