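-- Statement S2034: the Schur multiplier of M11 is trivial.
import Cfsg.Statements.S2034
import Cfsg.Agent.S2060
import Cfsg.Agent.Lib.KnownSimple.SchurLocal
import Cfsg.Agent.Lib.KnownSimple.MathieuList

set_option autoImplicit false
open Cfsg

namespace Cfsg.Agent.S2034

open Cfsg.Agent.Lib.Golay Cfsg.Agent.Lib.KnownSimple.MathieuOut Cfsg.Agent.Lib.KnownSimple.SchurLocal
open Cfsg.Agent.Lib.KnownSimple.MathieuList
open Cfsg.Agent.S2060 (mem_M11_of card_M11)
open Cfsg.Agent.S2061 (Dm)

def aL : List ℕ := [0,3,2,12,13,21,9,14,16,18,22,15,8,4,5,23,6,11,1,20,10,7,17,19]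
def bL : List ℕ := [0,16,2,18,13,5,8,7,6,9,19,20,12,4,21,17,1,15,3,10,11,14,22,23]
def a5L : List ℕ := [0,12,3,1,16,22,8,17,18,9,11,5,13,2,21,14,6,15,4,19,10,7,20,23]
def a11L : List ℕ := [0,9,8,2,1,5,4,17,16,3,7,23,13,6,11,22,18,14,12,20,10,19,21,15]
def xL : List ℕ := [0,18,12,8,4,22,1,7,16,2,14,11,9,13,15,10,3,19,6,21,20,17,23,5]
def yL : List ℕ := [0,16,1,12,4,5,8,20,9,6,15,7,18,13,10,14,2,19,3,21,11,17,22,23]
def xinvL : List ℕ := [0,6,9,16,4,23,18,7,3,12,15,11,2,13,10,14,8,21,1,17,20,19,5,22]
def yinvL : List ℕ := [0,2,16,18,4,5,9,11,6,8,14,20,3,13,15,10,1,21,12,17,7,19,22,23]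
def nL : List ℕ := [0,2,1,3,13,5,9,20,8,6,21,11,18,4,17,19,16,14,12,15,7,10,22,23]
def steps16 : List (ℕ × ℕ) := [
  (0,1),(2,2),(2,2),(4,3),(4,3),(6,4),(7,3),(7,3),(9,3),(9,3),(10,3),(11,3),(12,3),(13,3)]
def steps9 : List (ℕ × ℕ) := [
  (0,1),(2,2),(2,2),(3,2),(5,3),(6,3),(7,2)]

theorem perms : ([aL, bL, a5L, a11L, xL, yL, xinvL, yinvL, nL].all isPerm) = true := by decide +kernel
theorem hM : [aL, bL, a5L, a11L, xL, yL, nL].all (fun l => autCheck l && Nat.beq (pull l Dm) Dm && Nat.beq (lk l 0) 0) = true := by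
  decide +kernel

theorem perm_of {l : List ℕ} (hl : l ∈ [aL, bL, a5L, a11L, xL, yL, xinvL, yinvL, nL]) : isPerm l = true :=
  List.all_eq_true.mp perms l hl

theorem mem_of {l : List ℕ} (hl : l ∈ [aL, bL, a5L, a11L, xL, yL, nL]) : perm l ∈ Spor.M11 := by
  have h1 := List.all_eq_true.mp hM l hl
  simp only [Bool.and_eq_true] at h1
  have hp : isPerm l = true := by
    apply perm_of
    simp only [List.mem_cons, List.not_mem_nil, or_false] at hl ⊢
    tauto
  exact mem_M11_of hp h1.1.1 (Nat.eq_of_beq_eq_true h1.1.2) (Nat.eq_of_beq_eq_true h1.2)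

noncomputable def el (l : List ℕ) (hl : l ∈ [aL, bL, a5L, a11L, xL, yL, nL]) : Spor.M11 := ⟨perm l, mem_of hl⟩

theorem table16 : (∀ x, x ∈ Subgroup.closure (genSet [aL, bL]) ↔ ∃ e ∈ slpRun [aL, bL] steps16, perm e = x) ∧
    Nat.card (Subgroup.closure (genSet [aL, bL])) = (slpRun [aL, bL] steps16).length := by
  apply table_spec
  · decide +kernel
  · decide +kernel
  · decide +kernel
  · decide +kernel
  · decide +kernel

theorem table9 : (∀ x, x ∈ Subgroup.closure (genSet [xL, yL]) ↔ ∃ e ∈ slpRun [xL, yL] steps9, perm e = x) ∧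
    Nat.card (Subgroup.closure (genSet [xL, yL])) = (slpRun [xL, yL] steps9).length := by
  apply table_spec
  · decide +kernel
  · decide +kernel
  · decide +kernel
  · decide +kernel
  · decide +kernel

theorem genSet_pair {l m : List ℕ} (hl hm) : Subtype.val '' ({⟨perm l, hl⟩, ⟨perm m, hm⟩} : Set Spor.M11) = genSet [l, m] := by
  ext x
  simp only [genSet, Set.mem_image, Set.mem_insert_iff, Set.mem_singleton_iff, List.mem_cons, List.not_mem_nil,
    or_false, Set.mem_setOf_eq]
  constructor
  · rintro ⟨y, rfl | rfl, rfl⟩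
    · exact ⟨l, Or.inl rfl, rfl⟩
    · exact ⟨m, Or.inr rfl, rfl⟩
  · rintro ⟨g, rfl | rfl, rfl⟩
    · exact ⟨_, Or.inl rfl, rfl⟩
    · exact ⟨_, Or.inr rfl, rfl⟩

theorem ord5 : orderOf (perm a5L) = 5 := by
  have : Fact (Nat.Prime 5) := ⟨by norm_num⟩
  exact orderOf_perm (perm_of (by simp)) (by decide +kernel) (by decide +kernel)

theorem ord11 : orderOf (perm a11L) = 11 := by
  have : Fact (Nat.Prime 11) := ⟨by norm_num⟩
  exact orderOf_perm (perm_of (by simp)) (by decide +kernel) (by decide +kernel)

theorem primes_7920 {r : ℕ} (hr : r.Prime) (h : r ∣ 7920) : r = 2 ∨ r = 3 ∨ r = 5 ∨ r = 11 := by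
  have h1 : r ∈ Nat.primeFactors 7920 := Nat.mem_primeFactors.mpr ⟨hr, h, by norm_num⟩
  have h2 : Nat.primeFactors 7920 = {2, 3, 5, 11} := by
    have : (7920 : ℕ) = 2 ^ 4 * 3 ^ 2 * 5 * 11 := by norm_num
    rw [this]
    rw [Nat.primeFactors_mul (by norm_num) (by norm_num), Nat.primeFactors_mul (by norm_num) (by norm_num),
      Nat.primeFactors_mul (by norm_num) (by norm_num), Nat.primeFactors_prime_pow (by norm_num) Nat.prime_two,
      Nat.primeFactors_prime_pow (by norm_num) Nat.prime_three, Nat.Prime.primeFactors (by norm_num),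
      Nat.Prime.primeFactors (by norm_num)]
    decide
  rw [h2] at h1
  simpa using h1

/-- The Schur multiplier of the Mathieu group M₁₁ (the stabiliser of a dodecad and one of its points in the automorphism group of the length-24 binary code) is trivial; here the Schur multiplier is described through stem extensions, as in the definitions: surjective homomorphisms onto the group from a finite group, whose kernel is central in that finite group and contained in that finite group's commutator subgroup. -/
theorem result : Cfsg.HasCyclicSchurMultiplier ↥Cfsg.Spor.M11 1 := by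
  apply hasCyclicSchurMultiplier_one_of_prime
  intro Γ _ _ σ hσ hp
  obtain ⟨hs, hK, hK'⟩ := hσ
  obtain ⟨z, hz, hz1, hord⟩ := exists_elt_of_prime_kernel hp
  set r := Nat.card σ.ker with hr
  apply hz1
  by_cases hdvd : r ∣ 7920
  · rcases primes_7920 hp hdvd with h | h | h | h
    · -- `r = 2`
      set a : Spor.M11 := ⟨perm aL, mem_of (by simp)⟩ with ha
      set b : Spor.M11 := ⟨perm bL, mem_of (by simp)⟩ with hb
      have hidx := index_closure_subtype card_M11 {a, b} [aL, bL] (genSet_pair _ _) table16.2
      rw [show (slpRun [aL, bL] steps16).length = 16 by decide +kernel] at hidx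
      have hi : (Subgroup.closure ({a, b} : Set Spor.M11)).index = 495 := by omega
      have hco : Nat.Coprime (orderOf z) (Subgroup.closure ({a, b} : Set Spor.M11)).index := by
        rw [hord, h, hi]; norm_num
      have hzU := Cfsg.Agent.Lib.KnownSimple.mem_commutator_comap hs hK hK' _ hz hco
      have pa := perm_of (l := aL) (by simp)
      have pb := perm_of (l := bL) (by simp)
      refine eq_one_of_semidihedral hs hK a b ?_ ?_ ?_ ?_ hz hzU
      · apply Subtype.ext
        show perm aL ^ 8 = 1
        rw [← perm_powL pa, show powL aL 8 = idL by decide +kernel, perm_idL]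
      · intro h0
        have h1 : perm aL ^ 4 = 1 := congrArg Subtype.val h0
        rw [← perm_powL pa] at h1
        have h2 := eq_idL_of_perm (isPerm_powL pa 4) h1
        revert h2
        decide +kernel
      · apply Subtype.ext
        show perm bL * perm aL * (perm bL)⁻¹ = perm aL ^ 3
        rw [mul_inv_eq_iff_eq_mul, ← perm_powL pa, ← perm_mulL' pb pa, ← perm_mulL' (isPerm_powL pa _) pb,
          show mulL bL aL = mulL (powL aL 3) bL by decide +kernel]
      · apply Subtype.ext
        show perm bL ^ 2 = 1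
        rw [← perm_powL pb, show powL bL 2 = idL by decide +kernel, perm_idL]
    · -- `r = 3`
      set x : Spor.M11 := ⟨perm xL, mem_of (by simp)⟩ with hx
      set y : Spor.M11 := ⟨perm yL, mem_of (by simp)⟩ with hy
      set n : Spor.M11 := ⟨perm nL, mem_of (by simp)⟩ with hn
      have hidx := index_closure_subtype card_M11 {x, y} [xL, yL] (genSet_pair _ _) table9.2
      rw [show (slpRun [xL, yL] steps9).length = 9 by decide +kernel] at hidx
      have hi : (Subgroup.closure ({x, y} : Set Spor.M11)).index = 880 := by omega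
      have hco : Nat.Coprime (orderOf z) (Subgroup.closure ({x, y} : Set Spor.M11)).index := by
        rw [hord, h, hi]; norm_num
      have hzU := Cfsg.Agent.Lib.KnownSimple.mem_commutator_comap hs hK hK' _ hz hco
      have px := perm_of (l := xL) (by simp)
      have py := perm_of (l := yL) (by simp)
      have pn := perm_of (l := nL) (by simp)
      have pxi := perm_of (l := xinvL) (by simp)
      have pyi := perm_of (l := yinvL) (by simp)
      have hzz := eq_one_of_det_minus hs hK x y n ?_ ?_ ?_ hz hzU
      · have h5 : orderOf z ∣ 2 := by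
          apply orderOf_dvd_of_pow_eq_one
          rw [pow_two]; exact hzz
        rw [hord, h] at h5
        omega
      · apply Subtype.ext
        show perm xL * perm yL = perm yL * perm xL
        rw [← perm_mulL' px py, ← perm_mulL' py px, show mulL xL yL = mulL yL xL by decide +kernel]
      · apply Subtype.ext
        show perm nL * perm xL * (perm nL)⁻¹ = perm xL
        rw [mul_inv_eq_iff_eq_mul, ← perm_mulL' pn px, ← perm_mulL' px pn,
          show mulL nL xL = mulL xL nL by decide +kernel]
      · apply Subtype.ext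
        show perm nL * perm yL * (perm nL)⁻¹ = (perm yL)⁻¹
        rw [← perm_inv_of_mul py pyi (by decide +kernel), mul_inv_eq_iff_eq_mul, ← perm_mulL' pn py,
          ← perm_mulL' pyi pn, show mulL nL yL = mulL yinvL nL by decide +kernel]
    · -- `r = 5`
      refine eq_one_of_cyclic hs hK hK' (⟨perm a5L, mem_of (by simp)⟩ : Spor.M11) hz ?_
      rw [hord, h]
      refine coprime_index_zpowers (by norm_num) card_M11 (by norm_num) (by norm_num) _ ?_
      rw [Subgroup.orderOf_mk, ord5]
    · -- `r = 11`
      refine eq_one_of_cyclic hs hK hK' (⟨perm a11L, mem_of (by simp)⟩ : Spor.M11) hz ?_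
      rw [hord, h]
      refine coprime_index_zpowers (by norm_num) card_M11 (by norm_num) (by norm_num) _ ?_
      rw [Subgroup.orderOf_mk, ord11]
  · refine eq_one_of_cyclic hs hK hK' (1 : Spor.M11) hz ?_
    rw [hord]
    exact coprime_index_one card_M11 hp hdvd

end Cfsg.Agent.S2034
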