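-- Statement S2035: the Schur multiplier of M12 is cyclic of order 2.
import Cfsg.Statements.S2035
import Cfsg.Agent.Lib.KnownSimple.M12Cover
import Cfsg.Agent.Lib.KnownSimple.M12Upper

set_option autoImplicit false
open Cfsg

namespace Cfsg.Agent.S2035

open Cfsg.Agent.Lib.Golay Cfsg.Agent.Lib.KnownSimple.MathieuOut

/-- The homomorphism from the group of order two sending the generator to an involution. -/
noncomputable def homZ2 {K : Type*} [Group K] (z : K) (h : z * z = 1) : Multiplicative (ZMod 2) →* K :=
  MonoidHom.mk' (fun x => if Multiplicative.toAdd x = 0 then 1 else z) (by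
    intro a b
    have hcases : ∀ x : Multiplicative (ZMod 2), Multiplicative.toAdd x = 0 ∨ Multiplicative.toAdd x = 1 := by
      intro x
      have : ∀ y : ZMod 2, y = 0 ∨ y = 1 := by decide
      exact this _
    rcases hcases a with ha | ha <;> rcases hcases b with hb | hb <;>
      simp [toAdd_mul, ha, hb, h, show (1 : ZMod 2) + 1 = 0 from rfl])

/-- The Schur multiplier of the Mathieu group M₁₂ (the stabiliser of a dodecad in the automorphism group of the length-24 binary code) is cyclic of order 2; here the Schur multiplier is described through stem extensions, as in the definitions: surjective homomorphisms onto the group from a finite group, whose kernel is central in that finite group and contained in that finite group's commutator subgroup. -/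
theorem result : Cfsg.HasCyclicSchurMultiplier ↥Cfsg.Spor.M12 2 := by
  refine ⟨Cfsg.Agent.Lib.KnownSimple.M12Cover.exists_cover, ?_⟩
  intro Γ _ _ σ hσ
  -- transfer to the base dodecad
  let e : ↥Spor.M12 ≃* ↥M12B :=
    (MulEquiv.subgroupCongr Cfsg.Agent.S2061.M12_eq_map).trans
      ((M12B.equivMapOfInjective _ (MulEquiv.injective (MulAut.conj (perm Cfsg.Agent.S2061.cL)))).symm)
  have hker : (e.toMonoidHom.comp σ).ker = σ.ker := by
    ext x
    simp [MonoidHom.mem_ker]
  obtain ⟨h1, h2, h3⟩ := hσ
  have hst : Cfsg.IsStemExtension (e.toMonoidHom.comp σ) :=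
    ⟨e.surjective.comp h1, by rw [hker]; exact h2, by rw [hker]; exact h3⟩
  obtain ⟨z, hz, hzz, hall⟩ := Cfsg.Agent.Lib.KnownSimple.M12Upper.main hst
  rw [hker] at hz
  have hzz' : (⟨z, hz⟩ : σ.ker) * ⟨z, hz⟩ = 1 := Subtype.ext hzz
  refine ⟨homZ2 _ hzz', ?_⟩
  intro k
  have hk : k.1 ∈ (e.toMonoidHom.comp σ).ker := by rw [hker]; exact k.2
  rcases hall k.1 hk with h | h
  · refine ⟨Multiplicative.ofAdd 0, ?_⟩
    apply Subtype.ext
    simp [homZ2, h]
  · refine ⟨Multiplicative.ofAdd 1, ?_⟩
    apply Subtype.ext
    simp [homZ2, h]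

end Cfsg.Agent.S2035
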