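-- Statement S2062: Out(M22) has order 2.
import Cfsg.Statements.S2062
import Cfsg.Agent.Lib.KnownSimple.MathieuOut

set_option autoImplicit false
open Cfsg

namespace Cfsg.Agent.S2062

open Cfsg.Agent.Lib.Golay Cfsg.Agent.Lib.KnownSimple.MathieuOut

def aL : List ℕ := [0,2,4,6,8,10,12,14,16,18,20,22,1,3,5,7,9,11,13,15,17,19,21,23]
def ainvL : List ℕ := [0,12,1,13,2,14,3,15,4,16,5,17,6,18,7,19,8,20,9,21,10,22,11,23]
def bL : List ℕ := [0,21,19,14,22,13,6,7,8,9,12,11,10,5,3,18,17,16,15,2,20,1,4,23]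
def nL : List ℕ := [0,1,8,4,18,5,9,22,6,16,17,10,3,12,15,20,2,7,13,14,21,19,11,23]
/-- `x ↦ -1/x`, swapping the two fixed points of `M22`. -/
def tL : List ℕ := [23,22,11,15,17,9,19,13,20,5,16,2,21,7,18,3,10,4,14,6,8,12,1,0]
/-- An element of order seven of `M22` with exactly three fixed points. -/
def uL : List ℕ := [0,9,14,15,5,7,18,2,22,10,11,19,8,4,21,12,20,17,1,6,3,13,16,23]
/-- The third fixed point of `u`. -/
def qN : ℕ := 17
/-- The orbit of `q` under `a`. -/
def orbM : ℕ := 8047776

def reps : List RepD := [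
  (8391797, [2,4,5,6,16,23,21,13,22,19,18,15,20,12,11,1,17,10,3,7,9,14,8,0], [23,15,0,18,1,2,3,19,22,20,17,14,13,7,21,11,4,16,10,9,12,6,8,5]),
  (9440193, [6,7,8,9,4,23,18,3,22,13,19,16,1,17,20,14,21,11,12,2,15,5,10,0], [23,12,19,7,4,21,0,1,2,3,22,17,18,9,15,20,11,13,6,10,14,16,8,5]),
  (9963547, [1,3,4,11,2,20,14,13,21,17,8,6,5,7,19,18,12,23,16,9,22,15,10,0], [23,0,4,1,2,12,11,13,10,19,22,3,16,7,6,21,18,9,15,14,5,8,20,17]),
  (10486557, [2,3,4,8,22,21,18,16,7,19,6,12,10,5,9,17,15,23,1,14,13,11,20,0], [23,18,0,1,2,13,10,8,3,14,12,21,11,20,19,16,7,15,6,9,22,5,4,17]),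
  (11010247, [1,2,6,7,5,21,3,22,10,14,4,16,17,12,19,8,15,23,18,11,20,9,13,0], [23,0,1,6,10,4,2,3,15,21,8,19,13,22,9,16,11,12,18,14,20,5,7,17]),
  (11535529, [3,5,7,10,16,20,4,17,19,6,8,13,1,14,23,18,12,21,22,9,2,11,15,0], [23,12,20,0,6,1,9,2,10,19,3,21,16,11,13,22,4,7,15,8,5,17,18,14]),
  (9471495, [1,2,9,10,3,23,16,14,17,19,18,7,8,6,20,5,11,15,13,12,4,21,22,0], [23,0,1,4,20,15,13,11,12,2,3,16,19,18,7,17,6,8,10,9,14,21,22,5])]

def mkW (exps : List ℕ) (m : ℕ) : List Bool :=
  (List.replicate m (exps.flatMap fun e => List.replicate e false ++ [true])).flatten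

def rels : List (List Bool) := [mkW [3, 1, 3] 2]

def steps : List (ℕ × ℕ) := [
  (0,1),(1,1),(2,1),(4,1),(4,2),(6,2),(6,3),(7,2),(8,2),(9,2),(11,2),(11,3),(13,3),(13,4),(14,3),(15,2),(16,2),(18,1),(18,2),(13,2),
  (21,0),(0,22),(1,21),(23,1),(3,21),(25,2),(26,2),(6,22),(7,21),(8,4),(9,3),(10,10),(11,0),(11,4),(25,25),(0,0),(0,2),(0,38),(1,37),(2,17),
  (40,2),(4,3),(5,40),(44,4),(45,3),(45,4),(25,3),(26,10),(11,11),(28,1),(13,2),(30,2),(15,3),(32,3),(17,4),(34,4),(35,4),(20,5),(21,3),(38,1),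
  (57,23),(0,61),(16,16),(17,0),(1,1),(1,0),(0,4),(0,68),(1,68),(2,68),(3,48),(50,3),(51,3),(6,36),(53,7),(8,8),(9,28),(10,28),(57,4),(42,5),
  (13,6),(60,6),(45,7),(16,8),(63,7),(64,1),(54,17),(0,87),(84,84),(85,0),(1,1),(1,0),(0,4),(11,11),(0,0),(1,0),(0,3),(0,98),(1,60),(2,31),
  (100,2),(4,64),(5,53),(6,1),(7,29),(8,29),(9,85),(86,10),(11,11),(12,77),(89,3),(14,4),(91,3),(16,4),(17,81),(94,5),(19,6),(20,5),(97,3),(22,4),
  (23,3),(53,15),(54,54),(0,0),(1,0),(19,19),(0,0),(1,0),(0,22),(29,92),(0,131),(61,61),(62,0),(1,1),(1,0),(0,4),(87,87),(84,1),(30,30),(31,0),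
  (0,2),(0,140),(1,94),(2,94),(3,123),(4,38),(5,36),(50,1),(7,7),(17,51),(128,128),(0,1),(96,0),(44,44),(0,1),(0,156),(1,155),(2,90),(3,137),(4,62),
  (5,128),(6,16),(7,3),(8,54),(9,4),(10,24),(25,11),(12,12),(13,19),(14,3),(29,3),(30,3),(31,2),(3,158),(0,175),(135,135),(0,0),(0,2),(122,0),(69,69),
  (0,0),(105,175),(5,0),(40,40),(0,0),(0,2),(5,0),(0,188),(1,187),(2,33),(3,123),(4,170),(171,0),(96,1),(53,2),(8,40),(41,9),(10,31),(11,2),(132,79),
  (124,124),(9,9),(0,0),(105,22),(106,106),(107,0),(1,1),(1,0),(63,63),(64,0),(0,29),(70,0),(0,213),(1,212),(2,166),(3,194),(4,119),(5,72),(6,63),(7,7),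
  (212,212),(221,172),(0,115),(0,53),(0,4),(203,10),(0,9),(0,30),(226,151),(0,65),(0,43),(0,19),(134,15),(0,46),(0,22),(165,155),(0,127),(0,96),(0,26),(97,95),
  (0,81),(0,100),(29,193),(0,98),(0,103),(0,25),(206,55),(0,102),(0,52),(0,29),(61,146),(0,79),(38,108),(0,143),(0,113),(0,43),(100,208),(0,95),(0,39),(0,47),
  (192,156),(0,97),(0,121),(0,43),(226,184),(0,156),(0,70),(0,55),(265,125),(0,237),(0,50),(199,197),(0,110),(0,54),(235,171),(0,166),(0,107),(0,57),(121,227),(0,134),
  (0,61),(280,204),(0,87),(0,87),(96,126),(0,126),(0,99),(288,236),(0,71),(0,117),(0,70),(287,181),(0,73),(0,81),(257,262),(0,96),(0,76),(193,102),(0,130),(0,87),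
  (194,188),(0,152),(225,195),(0,148),(0,84),(162,141),(0,151),(0,87),(241,163),(0,137),(0,98),(262,150),(0,125),(238,119),(0,143),(100,121),(0,144),(126,157),(0,119),(0,99),
  (240,102),(0,149),(0,110),(273,164),(0,152),(0,113),(224,162),(0,130),(0,116),(226,308),(0,134),(280,113),(0,112),(259,169),(0,138),(287,169),(0,124),(179,143),(0,142),(0,119),
  (264,124),(0,145),(0,130),(199,322),(0,175),(0,125),(237,159),(186,127),(131,207),(0,137),(205,195),(189,155),(0,132),(161,133),(138,157),(0,143),(138,190),(0,137),(163,161),(327,191),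
  (0,140),(264,220),(198,150),(256,176),(0,152),(206,196),(0,146),(346,148),(0,156),(259,197),(0,158),(211,202),(178,231),(0,161),(202,154),(176,163),(210,164),(210,165),(210,158),(238,167),
  (211,160),(162,169)]

def allT : List (List ℕ) := m24T2 ++ m24T3 ++ m24T4 ++ m24T5 ++ m24T6

theorem ha : isPerm aL = true := by decide +kernel
theorem hai : isPerm ainvL = true := by decide +kernel
theorem hb : isPerm bL = true := by decide +kernel
theorem hn : isPerm nL = true := by decide +kernel
theorem ht : isPerm tL = true := by decide +kernel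
theorem hu : isPerm uL = true := by decide +kernel
theorem haut : autCheck aL = true := by decide +kernel
theorem hbut : autCheck bL = true := by decide +kernel
theorem hnut : autCheck nL = true := by decide +kernel
theorem htut : autCheck tL = true := by decide +kernel
theorem huut : autCheck uL = true := by decide +kernel
theorem hr : repsOK reps = true := by decide +kernel
theorem hc : coverOK (fun m => m.testBit 23 && m.testBit 0) aL 11 reps = true := by decide +kernel
theorem hrels : rels.all (relOK aL bL) = true := by decide +kernel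
theorem hplus : (cands reps).all (candOKplus aL bL rels (fun _ => true)) = true := by decide +kernel
theorem hslp : slpChk 2 steps = true := by decide +kernel
theorem htargets : allT.all (fun l => (slpRun [aL, bL] steps).elem l) = true := by decide +kernel

theorem hord : orderOf (perm aL) = 11 := by
  have : Fact (Nat.Prime 11) := ⟨by norm_num⟩
  exact orderOf_perm ha (by decide +kernel) (by decide +kernel)

theorem hb2 : perm bL ^ 2 = 1 := by
  rw [← perm_powL hb, show powL bL 2 = idL by decide +kernel, perm_idL]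

theorem hbne : perm bL ≠ 1 := by
  intro h
  have := eq_idL_of_perm hb h
  revert this
  decide +kernel

theorem hna : perm nL * perm aL * (perm nL)⁻¹ = perm aL ^ 3 := by
  rw [mul_inv_eq_iff_eq_mul, ← perm_powL ha, ← perm_mulL' hn ha, ← perm_mulL' (isPerm_powL ha _) hn,
    show mulL nL aL = mulL (powL aL 3) nL by decide +kernel]

theorem pt23 : pt 23 = (none : GolayPt) := rfl
theorem pt0 : pt 0 = (some 0 : GolayPt) := by decide

theorem mem_M22_iff {g : Equiv.Perm GolayPt} : g ∈ Spor.M22 ↔ g ∈ M24 ∧ g (pt 23) = pt 23 ∧ g (pt 0) = pt 0 := by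
  rw [pt23, pt0]
  show g ∈ (M24 ⊓ MulAction.stabilizer (Equiv.Perm GolayPt) (none : GolayPt)) ⊓
    MulAction.stabilizer (Equiv.Perm GolayPt) (some 0 : GolayPt) ↔ _
  simp only [Subgroup.mem_inf, MulAction.mem_stabilizer_iff, Equiv.Perm.smul_def]
  tauto

theorem mem_M22_of {l : List ℕ} (h : isPerm l = true) (hu : autCheck l = true) (h23 : lk l 23 = 23)
    (h0 : lk l 0 = 0) : perm l ∈ Spor.M22 := by
  rw [mem_M22_iff]
  refine ⟨perm_mem_M24 h hu, ?_, ?_⟩
  · rw [perm_pt h (by norm_num), h23]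
  · rw [perm_pt h (by norm_num), h0]

theorem chain22 : ChainOK (M24 ⊓ MulAction.stabilizer (Equiv.Perm GolayPt) (pt 23) ⊓
    MulAction.stabilizer (Equiv.Perm GolayPt) (pt 0)) m24Levels.tail.tail := m24_chainOK.2.2.2.2.2.2

theorem M22_eq : Spor.M22 = (M24 ⊓ MulAction.stabilizer (Equiv.Perm GolayPt) (pt 23) ⊓
    MulAction.stabilizer (Equiv.Perm GolayPt) (pt 0)) := by
  rw [pt23, pt0]
  rfl

theorem hgen : Spor.M22 ≤ Subgroup.closure {perm aL, perm bL} := by
  set K := Subgroup.closure {perm aL, perm bL} with hK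
  have htab : ∀ g ∈ [aL, bL], isPerm g = true ∧ perm g ∈ K := by
    intro g hg
    simp only [List.mem_cons, List.not_mem_nil, or_false] at hg
    rcases hg with rfl | rfl
    · exact ⟨ha, Subgroup.subset_closure (by simp)⟩
    · exact ⟨hb, Subgroup.subset_closure (by simp)⟩
  have hrun := slp_mem K steps [aL, bL] htab hslp
  have hall : ∀ l ∈ allT, perm l ∈ K := by
    intro l hl
    have := List.all_eq_true.mp htargets l hl
    exact (hrun l (List.mem_of_elem_eq_true this)).2
  rw [M22_eq]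
  apply le_of_chainOK _ K _ chain22
  intro x hx t ht
  simp only [m24Levels, List.tail_cons, List.mem_cons, List.not_mem_nil, or_false] at hx
  rcases hx with rfl | rfl | rfl | rfl | rfl <;>
  · obtain ⟨l, hl, rfl⟩ := List.mem_map.mp ht
    exact hall l (by simp [allT, hl])

theorem card_M22 : Nat.card Spor.M22 = 443520 := by
  rw [M22_eq, card_of_chainOK _ _ chain22]
  simp only [chainCard, m24Levels, List.tail_cons, List.map_cons, List.length_map, List.map_nil,
    List.prod_cons, List.prod_nil]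
  decide +kernel

theorem tt : perm tL * perm tL = 1 := by
  rw [← perm_mulL' ht ht, show mulL tL tL = idL by decide +kernel, perm_idL]

theorem t23 : perm tL (pt 23) = pt 0 := by
  rw [perm_pt ht (by norm_num), show lk tL 23 = 0 by decide +kernel]
theorem t0 : perm tL (pt 0) = pt 23 := by
  rw [perm_pt ht (by norm_num), show lk tL 0 = 23 by decide +kernel]

theorem conj_mem {x : Equiv.Perm GolayPt} (hx : x ∈ Spor.M22) : perm tL * x * perm tL ∈ Spor.M22 := by
  obtain ⟨h1, h2, h3⟩ := mem_M22_iff.mp hx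
  have hT := perm_mem_M24 ht htut
  refine mem_M22_iff.mpr ⟨M24.mul_mem (M24.mul_mem hT h1) hT, ?_, ?_⟩
  · simp only [Equiv.Perm.mul_apply, t23, h3, t0]
  · simp only [Equiv.Perm.mul_apply, t0, h2, t23]

/-- Conjugation by `t` as an automorphism of `M22`. -/
noncomputable def tau : MulAut Spor.M22 where
  toFun x := ⟨perm tL * x * perm tL, conj_mem x.2⟩
  invFun x := ⟨perm tL * x * perm tL, conj_mem x.2⟩
  left_inv x := by
    apply Subtype.ext
    show perm tL * (perm tL * x * perm tL) * perm tL = x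
    calc perm tL * (perm tL * x * perm tL) * perm tL
        = (perm tL * perm tL) * x * (perm tL * perm tL) := by group
      _ = x := by rw [tt]; group
  right_inv x := by
    apply Subtype.ext
    show perm tL * (perm tL * x * perm tL) * perm tL = x
    calc perm tL * (perm tL * x * perm tL) * perm tL
        = (perm tL * perm tL) * x * (perm tL * perm tL) := by group
      _ = x := by rw [tt]; group
  map_mul' x y := by
    apply Subtype.ext
    show perm tL * (x * y : Equiv.Perm GolayPt) * perm tL = (perm tL * x * perm tL) * (perm tL * y * perm tL)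
    calc perm tL * (x * y : Equiv.Perm GolayPt) * perm tL
        = perm tL * x * (perm tL * perm tL) * y * perm tL := by rw [tt]; group
      _ = _ := by group

theorem orb_check : ∀ i : Fin 24, orbM.testBit i = true →
    ∃ k : Fin 11, lk (powL aL k) qN = i := by decide +kernel

theorem fix_u : ∀ i : Fin 24, lk uL i = i → (i : ℕ) = 23 ∨ (i : ℕ) = 0 ∨ (i : ℕ) = qN := by decide +kernel

theorem tau_not_inner : tau ∉ Cfsg.Inn Spor.M22 := by
  rintro ⟨g, hg⟩
  set c : Equiv.Perm GolayPt := (g : Equiv.Perm GolayPt)⁻¹ * perm tL with hc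
  have hcM : c ∈ M24 := M24.mul_mem (M24.inv_mem (mem_M22_iff.mp g.2).1) (perm_mem_M24 ht htut)
  obtain ⟨hg1, hg2, hg3⟩ := mem_M22_iff.mp g.2
  have hcomm : ∀ x ∈ Spor.M22, c * x = x * c := by
    intro x hx
    have h1 : (MulAut.conj g) (⟨x, hx⟩ : Spor.M22) = tau ⟨x, hx⟩ := by rw [hg]
    have h2 : (g : Equiv.Perm GolayPt) * x * (g : Equiv.Perm GolayPt)⁻¹ = perm tL * x * perm tL :=
      congrArg Subtype.val h1
    have h3 : perm tL * x = (g : Equiv.Perm GolayPt) * x * (g : Equiv.Perm GolayPt)⁻¹ * perm tL := by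
      rw [h2, mul_assoc, tt]; group
    rw [hc, mul_assoc, h3]
    group
  have hc23 : c (pt 23) = pt 0 := by
    have : (g : Equiv.Perm GolayPt)⁻¹ (pt 0) = pt 0 := by
      have := congrArg (fun p => (g : Equiv.Perm GolayPt)⁻¹ p) hg3
      simpa using this.symm
    simp only [hc, Equiv.Perm.mul_apply, t23, this]
  have hc0 : c (pt 0) = pt 23 := by
    have : (g : Equiv.Perm GolayPt)⁻¹ (pt 23) = pt 23 := by
      have := congrArg (fun p => (g : Equiv.Perm GolayPt)⁻¹ p) hg2
      simpa using this.symm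
    simp only [hc, Equiv.Perm.mul_apply, t0, this]
  have hcne : c ≠ 1 := by
    intro h
    rw [h] at hc23
    exact absurd hc23 (by decide)
  -- `c` fixes `q`
  have huM : perm uL ∈ Spor.M22 := mem_M22_of hu huut (by decide +kernel) (by decide +kernel)
  have hq : c (pt qN) = pt qN := by
    have h1 := hcomm _ huM
    have h2 : perm uL (c (pt qN)) = c (pt qN) := by
      have h3 : perm uL (pt qN) = pt qN := by
        rw [perm_pt hu (by decide +kernel), show lk uL qN = qN by decide +kernel]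
      have h4 := congrArg (fun f : Equiv.Perm GolayPt => f (pt qN)) h1
      simp only [Equiv.Perm.mul_apply, h3] at h4
      exact h4.symm
    have h5 : lk uL (idx (c (pt qN))) = idx (c (pt qN)) := by
      rw [← idx_perm hu, h2]
    rcases fix_u ⟨_, idx_lt _⟩ h5 with h6 | h6 | h6
    · exfalso
      have : c (pt qN) = pt 23 := by rw [← pt_idx (c (pt qN))]; simp only at h6; rw [h6]
      rw [← hc0] at this
      have h7 := c.injective this
      exact absurd h7 (by decide +kernel)
    · exfalso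
      have : c (pt qN) = pt 0 := by rw [← pt_idx (c (pt qN))]; simp only at h6; rw [h6]
      rw [← hc23] at this
      have h7 := c.injective this
      exact absurd h7 (by decide +kernel)
    · rw [← pt_idx (c (pt qN))]; simp only at h6; rw [h6]
  have haM : perm aL ∈ Spor.M22 := mem_M22_of ha haut (by decide +kernel) (by decide +kernel)
  have hsub : finOf orbM ⊆ fixF c := by
    intro p hp
    rw [mem_finOf] at hp
    obtain ⟨k, hk⟩ := orb_check ⟨_, idx_lt p⟩ hp
    rw [mem_fixF]
    have hp1 : p = (perm aL ^ (k : ℕ)) (pt qN) := by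
      rw [← perm_powL ha, perm_pt (isPerm_powL ha _) (by decide +kernel), hk, pt_idx]
    have hcp : Commute c (perm aL ^ (k : ℕ)) := Commute.pow_right (hcomm _ haM) _
    rw [hp1, ← Equiv.Perm.mul_apply, hcp.eq, Equiv.Perm.mul_apply, hq]
  have hcard := Finset.card_le_card hsub
  rw [card_finOf (by decide +kernel), show pop orbM = 11 by decide +kernel] at hcard
  have := fix_le_eight hcM hcne
  omega

/-- The outer automorphism group of the Mathieu group M₂₂ (the permutations in the automorphism group of the length-24 binary code that fix each of two given points) has order 2. -/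
theorem result : Nat.card (Cfsg.Out ↥Cfsg.Spor.M22) = 2 := by
  have hfp : Fact (Nat.Prime 11) := ⟨by norm_num⟩
  have hle : Spor.M22 ≤ M24 := fun x hx => (mem_M22_iff.mp hx).1
  have haM : perm aL ∈ Spor.M22 := mem_M22_of ha haut (by decide +kernel) (by decide +kernel)
  refine out_two (p := 11) (r := 3) (H := Spor.M22) (aL := aL) (bL := bL) (nL := nL)
    (cond := fun m => m.testBit 23 && m.testBit 0) (f := fun _ => true) (N := 11) (reps := reps) (rels := rels)
    hle ha hb haM
    (mem_M22_of hb hbut (by decide +kernel) (by decide +kernel))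
    (mem_M22_of hn hnut (by decide +kernel) (by decide +kernel)) hord
    (by rw [card_M22]; norm_num) hna ?_ hgen hr hc ?_ (fun _ _ _ => rfl) hrels hplus
    hb2 hbne ?_ tau ?_ tau_not_inner
  · intro k h0 h1
    have key : ∀ k : Fin 11, 0 < k.val → ∃ j : Fin 5,
        (k.val * 3 ^ j.val) % 11 = 1 ∨ (k.val * 3 ^ j.val) % 11 = 10 := by decide
    obtain ⟨j, hj⟩ := key ⟨k, h1⟩ h0
    exact ⟨j.val, hj⟩
  · intro t ht m hm
    obtain ⟨-, h2, h3⟩ := mem_M22_iff.mp ht
    have h4 : pt 23 ∈ fixF t := mem_fixF.mpr h2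
    have h5 : pt 0 ∈ fixF t := mem_fixF.mpr h3
    rw [hm, mem_finOf] at h4 h5
    have h6 : m.testBit 23 = true := h4
    have h7 : m.testBit 0 = true := h5
    simp [h6, h7]
  · intro ψ
    exact ⟨pt 23, (mem_M22_iff.mp (ψ _).2).2.1⟩
  · apply Subtype.ext
    show perm tL * perm aL * perm tL = (perm aL)⁻¹
    apply eq_inv_of_mul_eq_one_right
    rw [← perm_mulL' ht ha, ← perm_mulL' (isPerm_mulL ht ha) ht, ← perm_mulL' ha (isPerm_mulL (isPerm_mulL ht ha) ht),
      show mulL aL (mulL (mulL tL aL) tL) = idL by decide +kernel, perm_idL]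

end Cfsg.Agent.S2062
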