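-- Statement S2036: the Schur multiplier of M22 is cyclic of order 12.
import Cfsg.Statements.S2036
import Cfsg.Agent.S2062
import Cfsg.Agent.Lib.KnownSimple.LabFinal
import Cfsg.Agent.Lib.KnownSimple.MathieuOut
import Cfsg.Agent.Lib.KnownSimple.M22Lab.ChecksA
import Cfsg.Agent.Lib.KnownSimple.M22Lab.ChecksB0
import Cfsg.Agent.Lib.KnownSimple.M22Lab.ChecksB1
import Cfsg.Agent.Lib.KnownSimple.M22Lab.ChecksB2

set_option autoImplicit false
set_option maxRecDepth 100000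
open Cfsg

namespace Cfsg.Agent.S2036

open Cfsg.Agent.Lib.Golay Cfsg.Agent.Lib.KnownSimple.MathieuOut
open Cfsg.Agent.Lib.KnownSimple.Lab Cfsg.Agent.Lib.KnownSimple.M22Lab
open Subgroup

def xL : List ℕ := [0, 13, 12, 3, 14, 5, 6, 22, 10, 9, 8, 21, 2, 1, 4, 15, 20, 18, 17, 19, 16, 11, 7, 23]
def yL : List ℕ := [0, 16, 17, 7, 4, 13, 8, 1, 2, 18, 14, 11, 19, 10, 5, 22, 3, 6, 9, 21, 12, 20, 15, 23]
def XL : List ℕ := [0, 13, 12, 3, 14, 5, 6, 22, 10, 9, 8, 21, 2, 1, 4, 15, 20, 18, 17, 19, 16, 11, 7, 23]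
def YL : List ℕ := [0, 7, 8, 16, 4, 14, 17, 3, 6, 18, 13, 11, 20, 5, 10, 22, 1, 2, 9, 12, 21, 19, 15, 23]
def GLs : List (List ℕ) := [xL, yL, XL, YL]

def Uw : List ℕ := [0, 1]
def Vw : List ℕ := [1, 0, 1, 0, 3, 0, 3, 0, 3, 0, 1, 1, 0, 3, 0, 1, 0, 1, 1, 0, 3]
def gwx : List ℕ := [1, 0, 1, 0, 1, 0, 3, 0, 1, 0, 3, 0, 1, 1, 0, 3, 0, 3, 2, 1, 2, 1, 1, 2, 3, 2, 1, 2, 3, 2, 3, 3, 2, 3, 2, 3]
def gwy : List ℕ := [0, 1, 0, 1, 1, 0, 1, 1, 0, 1, 1, 0, 1, 0, 3, 0, 3, 2, 3, 2, 3, 2, 3, 2, 3, 2, 3, 2, 3, 2]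
def gw (a : ℕ) : List ℕ := lkL [gwx, gwy] a
def wa : List ℕ := [1, 0, 1, 0, 3, 0, 3, 0, 3, 0, 1, 0, 1, 1, 0, 3, 0, 3, 0, 1, 1, 0, 1, 0, 1]
def wb : List ℕ := [3, 0, 3, 0, 1, 1, 0, 3, 0, 1, 0, 1, 1, 0, 1, 0, 1]

theorem okGL : ∀ a : Fin 4, isPerm (lkL GLs a) = true ∧ autCheck (lkL GLs a) = true ∧
    lk (lkL GLs a) 23 = 23 ∧ lk (lkL GLs a) 0 = 0 := by decide +kernel

/-- The letters, as elements of `M22`. -/
noncomputable def g (a : ℕ) : ↥Spor.M22 :=
  if h : a < 4 then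
    ⟨perm (lkL GLs a), Cfsg.Agent.S2062.mem_M22_of (okGL ⟨a, h⟩).1 (okGL ⟨a, h⟩).2.1 (okGL ⟨a, h⟩).2.2.1 (okGL ⟨a, h⟩).2.2.2⟩
  else 1

theorem coe_g {a : ℕ} (h : a < 4) : ((g a : ↥Spor.M22) : Equiv.Perm GolayPt) = perm (lkL GLs a) := by
  simp [g, h]

theorem wval_g (w : List ℕ) (hw : ∀ a ∈ w, a < 4) :
    isPerm (evalW GLs w) = true ∧ ((wval g w : ↥Spor.M22) : Equiv.Perm GolayPt) = perm (evalW GLs w) := by
  induction w with
  | nil =>
    refine ⟨by decide +kernel, ?_⟩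
    simp only [wval_nil, evalW, OneMemClass.coe_one]
    exact perm_idL.symm
  | cons a w ih =>
    obtain ⟨h1, h2⟩ := ih (fun b hb => hw b (by simp [hb]))
    have ha := hw a (by simp)
    have h3 := (okGL ⟨a, ha⟩).1
    simp only at h3
    refine ⟨isPerm_mulL h3 h1, ?_⟩
    simp only [wval_cons, evalW, Subgroup.coe_mul, h2, coe_g ha]
    exact (perm_mulL' h3 h1).symm

theorem wval_eq_one (w : List ℕ) (hw : ∀ a ∈ w, a < 4) (h : evalW GLs w = idL) : wval g w = 1 := by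
  apply Subtype.ext
  rw [(wval_g w hw).2, h, perm_idL]
  rfl

theorem wval_eq_g (w : List ℕ) (hw : ∀ a ∈ w, a < 4) {a : ℕ} (ha : a < 4) (h : evalW GLs w = lkL GLs a) :
    wval g w = g a := by
  apply Subtype.ext
  rw [(wval_g w hw).2, h, coe_g ha]

theorem wval_ne_one (w : List ℕ) (hw : ∀ a ∈ w, a < 4) (h : evalW GLs w ≠ idL) : wval g w ≠ 1 := by
  intro h1
  have h2 := (wval_g w hw).2
  rw [h1] at h2
  exact h (eq_idL_of_perm (wval_g w hw).1 h2.symm)

theorem hgi : ∀ a < 2, g (a + 2) = (g a)⁻¹ := by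
  intro a ha
  apply Subtype.ext
  rw [Subgroup.coe_inv, coe_g (by omega), coe_g (by omega)]
  have h1 : lkL GLs a = lkL GLs a := rfl
  interval_cases a
  · exact perm_inv_of_mul (okGL ⟨0, by omega⟩).1 (okGL ⟨2, by omega⟩).1 (by decide +kernel)
  · exact perm_inv_of_mul (okGL ⟨1, by omega⟩).1 (okGL ⟨3, by omega⟩).1 (by decide +kernel)

theorem hgen : closure (g '' {a | a < 2 * 2}) = ⊤ := by
  rw [eq_top_iff]
  rintro ⟨x, hx⟩ _
  set K := closure (g '' {a | a < 2 * 2}) with hK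
  have hw : ∀ w : List ℕ, (∀ a ∈ w, a < 4) → wval g w ∈ K := by
    intro w hw
    induction w with
    | nil => exact one_mem _
    | cons a w ih =>
      exact mul_mem (subset_closure ⟨a, hw a (by simp), rfl⟩) (ih (fun b hb => hw b (by simp [hb])))
  have hle : Spor.M22 ≤ K.map Spor.M22.subtype := by
    refine le_trans Cfsg.Agent.S2062.hgen ?_
    rw [closure_le]
    rintro y (rfl | hy)
    · refine ⟨wval g wa, hw wa (by decide), ?_⟩
      show ((wval g wa : ↥Spor.M22) : Equiv.Perm GolayPt) = _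
      rw [(wval_g wa (by decide)).2, show evalW GLs wa = Cfsg.Agent.S2062.aL by decide +kernel]
    · rw [Set.mem_singleton_iff] at hy
      subst hy
      refine ⟨wval g wb, hw wb (by decide), ?_⟩
      show ((wval g wb : ↥Spor.M22) : Equiv.Perm GolayPt) = _
      rw [(wval_g wb (by decide)).2, show evalW GLs wb = Cfsg.Agent.S2062.bL by decide +kernel]
  obtain ⟨y, hy, e⟩ := hle hx
  have : y = ⟨x, hx⟩ := Subtype.ext e
  rwa [← this]

instance : Fact (Nat.Prime 11) := ⟨by norm_num⟩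
instance : Fact (Nat.Prime 5) := ⟨by norm_num⟩

theorem hU4 : ∀ a ∈ Uw, a < 2 * 2 := by decide
theorem hV4 : ∀ a ∈ Vw, a < 2 * 2 := by decide

theorem ho : orderOf (wval g Uw) = 11 := by
  apply orderOf_eq_prime
  · rw [← wval_powW]
    exact wval_eq_one _ (powW_letters Uw 11 4 hU4) (by decide +kernel)
  · exact wval_ne_one _ hU4 (by decide +kernel)

theorem ho' : orderOf (wval g Vw) = 5 := by
  apply orderOf_eq_prime
  · rw [← wval_powW]
    exact wval_eq_one _ (powW_letters Vw 5 4 hV4) (by decide +kernel)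
  · exact wval_ne_one _ hV4 (by decide +kernel)

theorem hVUG : wval g Vw * wval g Uw * (wval g Vw)⁻¹ * (wval g Uw ^ 3)⁻¹ = 1 := by
  have h1 : wval g (Vw ++ Uw ++ invW 2 Vw ++ invW 2 (powW Uw 3)) = 1 :=
    wval_eq_one _ (by decide) (by decide +kernel)
  simp only [wval_append] at h1
  rw [wval_invW g 2 hgi _ hV4, wval_invW g 2 hgi _ (powW_letters Uw 3 4 hU4), wval_powW] at h1
  exact h1

theorem hgw1 : ∀ a < 2, ∀ b ∈ gw a, b < 2 * 2 := by
  intro a ha
  interval_cases a <;> decide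

theorem hgw2 : ∀ a < 2, wval g (gw a) = g a := by
  intro a ha
  have h1 := hgw1 a ha
  refine wval_eq_g (gw a) h1 (by omega) ?_
  interval_cases a <;> decide +kernel

theorem hgw3 : ∀ a < 2, balanced 2 (gw a) = true := by
  intro a ha
  interval_cases a <;> decide +kernel

theorem hT : ∀ a < D.k, ∀ i < D.n, D.T a i < D.n := by
  intro a ha i hi
  have ha' : a < 4 := ha
  have hi' : i < 8064 := hi
  show D.T a i < 8064
  interval_cases a
  · exact Nat.le_of_ble_eq_true (hT0 i hi')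
  · exact Nat.le_of_ble_eq_true (hT1 i hi')
  · exact Nat.le_of_ble_eq_true (hT2 i hi')
  · exact Nat.le_of_ble_eq_true (hT3 i hi')

theorem hRchk : allI (fun ρ => (Rget ρ).all (fun a => Nat.blt a 4)) 0 15 = true := by decide +kernel

theorem hR : ∀ ρ < D.r, ∀ a ∈ D.R ρ, a < D.k := by
  intro ρ hρ a ha
  have h1 := of_allI hRchk ρ (Nat.zero_le _) hρ
  exact Nat.le_of_ble_eq_true (List.all_eq_true.mp h1 a ha)

theorem hR4 : ∀ ρ < D.r, ∀ a ∈ D.R ρ, a < 4 := hR

theorem hp : ∀ j, 0 < j → j < D.n → D.par j < j ∧ D.gn j < D.k ∧ D.T (D.gn j) (D.par j) = j := by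
  intro j h0 hj
  have h := hTree j hj
  simp only [Bool.or_eq_true, Bool.and_eq_true, Nat.beq_eq, Nat.blt_eq] at h
  rcases h with h | ⟨⟨h1, h2⟩, h3⟩
  · omega
  · exact ⟨h1, h2, h3⟩

theorem hrelchk : allI (fun ρ => evalW GLs (Rget ρ) == idL) 0 15 = true := by decide +kernel

theorem hrelG : ∀ ρ < D.r, wval g (D.R ρ) = 1 := by
  intro ρ hρ
  refine wval_eq_one _ (hR4 ρ hρ) ?_
  have := of_allI hrelchk ρ (Nat.zero_le _) hρ
  exact eq_of_beq this

theorem hZ : ∀ ρ < D.r, D.Z ρ = true → ∃ a < 2, D.R ρ = [a, a + 2] ∨ D.R ρ = [a + 2, a] ∨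
    D.R ρ = (a + 2) :: gw a := by
  intro ρ hρ h
  have hρ' : ρ < 15 := hρ
  interval_cases ρ
  · exact ⟨0, by norm_num, Or.inr (Or.inl rfl)⟩
  · exact ⟨0, by norm_num, Or.inl rfl⟩
  · exact ⟨1, by norm_num, Or.inr (Or.inl rfl)⟩
  · exact ⟨1, by norm_num, Or.inl rfl⟩
  · exact absurd h (by decide +kernel)
  · exact absurd h (by decide +kernel)
  · exact absurd h (by decide +kernel)
  · exact absurd h (by decide +kernel)
  · exact absurd h (by decide +kernel)
  · exact absurd h (by decide +kernel)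
  · exact absurd h (by decide +kernel)
  · exact absurd h (by decide +kernel)
  · exact absurd h (by decide +kernel)
  · exact ⟨0, by norm_num, Or.inr (Or.inr rfl)⟩
  · exact ⟨1, by norm_num, Or.inr (Or.inr rfl)⟩

theorem hPkchk : allI (fun t => (Nat.blt (D.P t).1 4 && Nat.blt (D.P t).2 8064) ||
    (Nat.ble 4 (D.P t).1 && Nat.blt ((D.P t).1 - 4) 15 && Nat.beq (D.P t).2 0)) 0 8 = true := by decide +kernel

theorem hPk : ∀ t < D.m, ((D.P t).1 < D.k ∧ (D.P t).2 < D.n) ∨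
    (D.k ≤ (D.P t).1 ∧ (D.P t).1 - D.k < D.r ∧ (D.P t).2 = 0) := by
  intro t ht
  have := of_allI hPkchk t (Nat.zero_le _) ht
  simp only [Bool.or_eq_true, Bool.and_eq_true, Nat.beq_eq, Nat.blt_eq, Nat.ble_eq, and_assoc] at this
  exact this

theorem hPLchk : allI (fun t => vbeq (D.L (D.P t).1 (D.P t).2) (vunit 8 t)) 0 8 = true := by decide +kernel

theorem hPL : ∀ t < D.m, vbeq (D.L (D.P t).1 (D.P t).2) (vunit D.m t) = true := fun t ht =>
  of_allI hPLchk t (Nat.zero_le _) ht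

theorem hvar : ∀ a < D.k, ∀ i < D.n, Dat.varOK D a i = true := by
  intro a ha i hi
  have ha' : a < 4 := ha
  have hi' : i < 8064 := hi
  interval_cases a
  · exact hV0 i hi'
  · exact hV1 i hi'
  · exact hV2 i hi'
  · exact hV3 i hi'

theorem hrvchk : allI (fun ρ => Dat.relOK D ρ) 0 15 = true := by decide +kernel

theorem hrv : ∀ ρ < D.r, Dat.relOK D ρ = true := fun ρ hρ => of_allI hrvchk ρ (Nat.zero_le _) hρ

def rels : List (ℕ × ℕ) := [(13, 0), (14, 0), (12, 921), (2, 2693), (2, 501), (9, 316), (2, 3774), (11, 791), (9, 1478), (10, 1790)]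

theorem hrelschk : rels.all (fun x => Dat.relClosed D x.1 x.2) = true := by decide +kernel

theorem hrels : ∀ x ∈ rels, Dat.relClosed D x.1 x.2 = true := fun x hx => List.all_eq_true.mp hrelschk x hx

def gv0 : List ℤ := [(-45), 25, 0, (-95), 0, 0, 0, 52]
def bL : List (List ℤ) := [[(-2150)], [1760], [(-975)], [1475], [(-12750)], [(-13870)], [(-13850)], [(-12)]]
def WL : List (List ℤ) := [[(-10752), (-10750), 0, 1726, 0, 10752, (-5406), 4505, 2658, 1787], [8800, 8796, 0, (-1417), 0, (-8800), 4422, (-3685), (-2178), (-1463)], [(-4880), (-4885), 0, 773, 0, 4880, (-2460), 2050, 1200, 810], [7376, 7374, 0, (-1185), 0, (-7376), 3708, (-3090), (-1824), (-1226)], [(-63762), (-63750), 0, 10237, 0, 63762, (-32058), 26715, 15763, 10597], [(-69365), (-69355), 0, 11132, 0, 69365, (-34878), 29065, 17145, 11528], [(-69266), (-69258), 0, 11113, 0, 69267, (-34830), 29025, 17119, 11511], [(-60), (-60), 0, 10, 0, 60, (-30), 25, 15,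 10]]
def wN : List ℤ := [(-300), (-300), 0, 48, 0, 300, (-151), 126, 74, 50]

theorem hfinchk : allI (fun u => vbeq (vunit 8 u) (vadd (lin (bL.getD u []) [gv0])
    (lin (WL.getD u []) (rels.map fun x => Dat.relRow D x.1 x.2)))) 0 8 = true := by decide +kernel

theorem hfin : ∀ u < D.m, vbeq (vunit D.m u) (vadd (lin (bL.getD u []) [gv0])
    (lin (WL.getD u []) (rels.map fun x => Dat.relRow D x.1 x.2))) = true := fun u hu =>
  of_allI hfinchk u (Nat.zero_le _) hu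

theorem hN : vbeq (vscale ((60 : ℕ) : ℤ) gv0) (lin wN (rels.map fun x => Dat.relRow D x.1 x.2)) = true := by
  decide +kernel

theorem hcop (Γ : Type) [Group Γ] [Finite Γ] (σ : Γ →* ↥Spor.M22) (hσ : Cfsg.IsStemExtension σ) :
    Nat.Coprime (11 * 5) (Nat.card σ.ker) ∧ Nat.Coprime 5 (Nat.card σ.ker) := by
  have h5 : ¬ 5 ∣ Nat.card σ.ker := Cfsg.Agent.Lib.KnownSimple.Lab.not_dvd_card_ker hσ (by norm_num)
    Cfsg.Agent.S2062.card_M22 (by norm_num) (by norm_num) (wval g Vw) (by rw [ho'])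
  have h11 : ¬ 11 ∣ Nat.card σ.ker := Cfsg.Agent.Lib.KnownSimple.Lab.not_dvd_card_ker hσ (by norm_num)
    Cfsg.Agent.S2062.card_M22 (by norm_num) (by norm_num) (wval g Uw) (by rw [ho])
  have c5 : Nat.Coprime 5 (Nat.card σ.ker) := (Nat.Prime.coprime_iff_not_dvd (by norm_num)).mpr h5
  have c11 : Nat.Coprime 11 (Nat.card σ.ker) := (Nat.Prime.coprime_iff_not_dvd (by norm_num)).mpr h11
  exact ⟨Nat.Coprime.mul_left c11 c5, c5⟩

/-- The values of the relators. -/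
def vv (ρ : ℕ) : ZMod 12 := ((nth vvL ρ : ℕ) : ZMod 12)

theorem hRL : ∀ ρ < D.r, ∀ i < D.n, walk D.T (D.R ρ) i = i ∧
    Dat.pathSum (fun a j => ((lN a j : ℕ) : ZMod 12)) D.T (D.R ρ) i = vv ρ := by
  intro ρ hρ i hi
  have hρ' : ρ < 15 := hρ
  have hi' : i < 8064 := hi
  interval_cases ρ
  · exact of_lowOK (hL0 i hi')
  · exact of_lowOK (hL1 i hi')
  · exact of_lowOK (hL2 i hi')
  · exact of_lowOK (hL3 i hi')
  · exact of_lowOK (hL4 i hi')
  · exact of_lowOK (hL5 i hi')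
  · exact of_lowOK (hL6 i hi')
  · exact of_lowOK (hL7 i hi')
  · exact of_lowOK (hL8 i hi')
  · exact of_lowOK (hL9 i hi')
  · exact of_lowOK (hL10 i hi')
  · exact of_lowOK (hL11 i hi')
  · exact of_lowOK (hL12 i hi')
  · exact of_lowOK (hL13 i hi')
  · exact of_lowOK (hL14 i hi')

theorem hinv : ∀ a < 2 * 2, ∀ i < D.n, D.T (invL 2 a) (D.T a i) = i ∧
    ((lN (invL 2 a) (D.T a i) : ℕ) : ZMod 12) + ((lN a i : ℕ) : ZMod 12) = 0 := by
  apply hinv_of_rel
  intro a ha i hi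
  have ha' : a < 4 := ha
  interval_cases a
  · exact of_lowOK (hL0 i hi)
  · exact of_lowOK (hL2 i hi)
  · exact of_lowOK (hL1 i hi)
  · exact of_lowOK (hL3 i hi)

theorem hgz : ∀ a < 2, ∀ i < D.n, walk D.T (gw a) i = D.T a i ∧
    Dat.pathSum (fun a j => ((lN a j : ℕ) : ZMod 12)) D.T (gw a) i = ((lN a i : ℕ) : ZMod 12) := by
  intro a ha
  have hwalk : ∀ i < D.n, walk D.T (gw a) i < D.n := fun i hi =>
    walk_lt (k := D.k) hT (hgw1 a ha) hi
  have ha2 : a + 2 < 2 * 2 := by omega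
  have ha3 : a < 2 * 2 := by omega
  have e1 : invL 2 a = a + 2 := by unfold invL; rw [if_pos ha]
  have e2 : invL 2 (a + 2) = a := by unfold invL; rw [if_neg (by omega)]; omega
  have h1 := hinv a ha3
  have h2 := hinv (a + 2) ha2
  rw [e1] at h1
  rw [e2] at h2
  refine hgz_of_rel (s := 2) hwalk h2 h1 ?_
  intro i hi
  interval_cases a
  · exact of_lowOK (hL13 i hi)
  · exact of_lowOK (hL14 i hi)

theorem hvals : AddSubgroup.closure (vv '' {ρ | ρ < D.r}) = ⊤ := by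
  rw [eq_top_iff]
  intro c _
  have h1 : (11 : ZMod 12) ∈ AddSubgroup.closure (vv '' {ρ | ρ < D.r}) := by
    apply AddSubgroup.subset_closure
    exact ⟨12, by decide +kernel, by decide +kernel⟩
  have h2 : ∀ c : ZMod 12, ∃ k : Fin 12, (k : ℕ) • (11 : ZMod 12) = c := by decide
  obtain ⟨k, rfl⟩ := h2 c
  exact AddSubgroup.nsmul_mem _ h1 _

def prL : List ℕ := [0, 0, 0, 1, 0, 0, 0, 8]
def peL : List ℕ := [0, 0, 0, 0, 0, 0, 0, 4]
def pcL : List ℕ := [0, 0, 0, 2, 0, 0, 0, 4]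
def pc (u : ℕ) : ZMod 12 := ((nth pcL u : ℕ) : ZMod 12)

theorem hparW : parWord 2 Uw Vw D.T D.par D.gn (D.P 3).1 (D.P 3).2 (nth prL 3) (nth peL 3) = pw3 ∧ parWord 2 Uw Vw D.T D.par D.gn (D.P 7).1 (D.P 7).2 (nth prL 7) (nth peL 7) = pw7 := by decide +kernel

theorem hPnon : ¬ (D.P 0).1 < D.k ∧ ¬ (D.P 1).1 < D.k ∧ ¬ (D.P 2).1 < D.k ∧ ¬ (D.P 4).1 < D.k ∧ ¬ (D.P 5).1 < D.k ∧ ¬ (D.P 6).1 < D.k := by decide +kernel

theorem hparG : ∀ u < D.m, (D.P u).1 < D.k →
    wval g (parWord 2 Uw Vw D.T D.par D.gn (D.P u).1 (D.P u).2 (nth prL u) (nth peL u)) = 1 := by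
  intro u hu h
  have hu' : u < 8 := hu
  interval_cases u
  · exact absurd h hPnon.1
  · exact absurd h hPnon.2.1
  · exact absurd h hPnon.2.2.1
  · rw [hparW.1]
    exact wval_eq_one _ (by decide) (by decide +kernel)
  · exact absurd h hPnon.2.2.2.1
  · exact absurd h hPnon.2.2.2.2.1
  · exact absurd h hPnon.2.2.2.2.2
  · rw [hparW.2]
    exact wval_eq_one _ (by decide) (by decide +kernel)

theorem hparL : ∀ u < D.m, (D.P u).1 < D.k → ∀ i < D.n,
    walk D.T (parWord 2 Uw Vw D.T D.par D.gn (D.P u).1 (D.P u).2 (nth prL u) (nth peL u)) i = i ∧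
    Dat.pathSum (fun a j => ((lN a j : ℕ) : ZMod 12)) D.T
      (parWord 2 Uw Vw D.T D.par D.gn (D.P u).1 (D.P u).2 (nth prL u) (nth peL u)) i = pc u := by
  intro u hu h i hi
  have hu' : u < 8 := hu
  have hi' : i < 8064 := hi
  interval_cases u
  · exact absurd h hPnon.1
  · exact absurd h hPnon.2.1
  · exact absurd h hPnon.2.2.1
  · rw [hparW.1]
    exact of_lowOK (hLP3 i hi')
  · exact absurd h hPnon.2.2.2.1
  · exact absurd h hPnon.2.2.2.2.1
  · exact absurd h hPnon.2.2.2.2.2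
  · rw [hparW.2]
    exact of_lowOK (hLP7 i hi')

theorem hUo : ∀ i < D.n, walk D.T (powW Uw 11) i = i ∧
    Dat.pathSum (fun a j => ((lN a j : ℕ) : ZMod 12)) D.T (powW Uw 11) i = ((3 : ℕ) : ZMod 12) := by
  intro i hi
  rw [show powW Uw 11 = wU by decide +kernel]
  exact of_lowOK (hLU i hi)

theorem hVo : ∀ i < D.n, walk D.T (powW Vw 5) i = i ∧
    Dat.pathSum (fun a j => ((lN a j : ℕ) : ZMod 12)) D.T (powW Vw 5) i = ((10 : ℕ) : ZMod 12) := by
  intro i hi
  rw [show powW Vw 5 = wV by decide +kernel]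
  exact of_lowOK (hLV i hi)

theorem hVU : ∀ i < D.n, walk D.T (Vw ++ Uw ++ invW 2 Vw ++ invW 2 (powW Uw 3)) i = i ∧
    Dat.pathSum (fun a j => ((lN a j : ℕ) : ZMod 12)) D.T (Vw ++ Uw ++ invW 2 Vw ++ invW 2 (powW Uw 3)) i =
      ((6 : ℕ) : ZMod 12) := by
  intro i hi
  rw [show Vw ++ Uw ++ invW 2 Vw ++ invW 2 (powW Uw 3) = w3 by decide +kernel]
  exact of_lowOK (hLK i hi)

theorem hcard : Nat.card ↥Spor.M22 = D.n * (11 * 5) := by
  rw [Cfsg.Agent.S2062.card_M22]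
  rfl

/-- The Schur multiplier of the Mathieu group M₂₂ (the permutations in the automorphism group of the length-24 binary code that fix each of two given points) is cyclic of order 12; here the Schur multiplier is described through stem extensions, as in the definitions: surjective homomorphisms onto the group from a finite group, whose kernel is central in that finite group and contained in that finite group's commutator subgroup. -/
theorem result : Cfsg.HasCyclicSchurMultiplier ↥Cfsg.Spor.M22 12 := by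
  exact final_cyclic D 2 rfl (by decide +kernel) g hgi hgen Uw Vw hU4 hV4 11 5 3 ho ho' (by norm_num) hcard hVUG
    gw hgw1 hgw2 hgw3 hT hR hp hrelG hZ hPk hPL hvar hrv rels hrels gv0 (fun u => bL.getD u []) (fun u => WL.getD u [])
    hfin 60 wN hN 12 5 (by norm_num) hcop lN hinv vv hRL hvals hgz _ _ _ hUo hVo hVU (nth prL) (nth peL) pc hparG hparL

end Cfsg.Agent.S2036
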