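import Cfsg.Statements.S2064
import Cfsg.Agent.Lib.KnownSimple.MathieuOut

set_option autoImplicit false
open Cfsg

namespace Cfsg.Agent.S2064

open Cfsg.Agent.Lib.Golay Cfsg.Agent.Lib.KnownSimple.MathieuOut

/-- Translation by one, of order 23. -/
def aL : List ℕ := [1,2,3,4,5,6,7,8,9,10,11,12,13,14,15,16,17,18,19,20,21,22,0,23]
def ainvL : List ℕ := [22,0,1,2,3,4,5,6,7,8,9,10,11,12,13,14,15,16,17,18,19,20,21,23]
/-- An involution with eight fixed points. -/
def bL : List ℕ := [16,23,4,18,2,5,15,9,8,7,10,14,12,22,11,6,0,17,3,19,20,21,13,1]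
/-- An element of order seven commuting with `b`. -/
def sL : List ℕ := [14,0,7,15,9,5,2,23,20,1,17,18,21,13,3,4,11,12,6,10,19,8,22,16]
/-- Multiplication by two. -/
def nL : List ℕ := [0,2,4,6,8,10,12,14,16,18,20,22,1,3,5,7,9,11,13,15,17,19,21,23]

def reps : List RepD := [
  (3806496, [8,10,12,17,7,19,14,22,6,15,2,1,18,13,20,23,11,21,4,16,3,9,0,5], [22,11,10,20,18,23,8,4,0,21,1,16,2,13,6,9,19,3,12,5,14,17,7,15]),
  (262637, [2,3,5,6,10,7,17,1,4,11,19,15,20,13,18,12,9,8,22,14,21,23,16,0], [23,7,0,1,8,2,3,5,17,16,4,9,15,13,19,11,22,6,14,10,12,20,18,21]),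
  (786999, [1,2,4,5,11,9,10,3,22,14,8,16,13,21,18,6,17,19,23,7,20,12,15,0], [23,0,1,7,2,3,15,19,10,5,6,4,21,12,9,22,11,16,14,17,20,13,8,18]),
  (1312345, [3,4,6,9,12,18,1,5,13,7,14,19,2,15,20,23,11,10,17,16,22,21,8,0], [23,6,12,0,1,7,2,9,22,3,17,16,4,8,10,13,19,18,5,11,14,21,20,15]),
  (1836419, [1,7,8,10,17,20,21,3,15,12,16,23,5,13,19,6,2,18,4,11,22,14,9,0], [23,0,16,7,18,12,15,1,2,22,3,19,9,13,21,8,10,4,17,14,5,6,20,11]),
  (3410225, [4,5,8,11,2,18,15,1,19,22,13,10,3,16,21,9,12,20,14,23,6,7,17,0], [23,7,4,12,0,1,20,21,2,15,11,3,16,10,18,6,13,22,5,8,17,14,9,19]),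
  (4196943, [1,2,3,6,20,11,23,5,7,15,19,4,10,21,22,16,13,9,12,14,8,17,18,0], [23,0,1,2,11,7,3,8,20,17,12,5,18,16,19,9,15,21,22,10,4,13,14,6]),
  (4459426, [5,7,8,9,23,22,12,14,16,6,13,17,3,4,18,21,0,11,10,19,20,2,15,1], [16,23,21,12,13,0,9,1,2,3,18,17,6,10,7,22,8,11,14,19,20,15,5,4]),
  (4721045, [2,4,7,8,21,11,10,1,15,20,18,9,16,13,22,17,14,19,6,3,23,12,5,0], [23,7,0,19,1,22,18,2,3,11,6,5,21,13,16,8,12,15,10,17,9,4,14,20]),
  (4982904, [4,5,6,11,8,22,10,7,12,0,16,2,14,20,18,21,17,19,9,13,1,15,23,3], [9,20,11,23,0,1,2,7,4,18,6,3,8,19,12,21,10,16,14,17,13,15,5,22]),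
  (5508118, [2,4,10,11,17,20,14,16,9,12,7,21,13,23,22,3,19,18,6,15,0,5,8,1], [20,23,0,15,1,21,18,10,22,8,2,3,9,12,6,19,7,4,17,16,5,11,14,13]),
  (5770785, [5,9,10,11,21,19,18,8,16,14,6,13,3,12,20,7,15,22,2,23,1,17,4,0], [23,20,18,12,22,0,10,15,7,1,2,3,13,11,9,16,8,21,6,5,14,4,17,19]),
  (298027, [1,3,5,10,7,18,21,16,9,14,17,12,8,19,15,23,22,11,20,4,2,6,13,0], [23,0,20,1,19,2,21,4,12,8,3,17,11,22,9,14,7,10,5,13,18,6,16,15]),
  (560668, [3,4,9,10,7,15,5,14,17,23,21,1,16,18,11,8,13,19,20,12,0,6,22,2], [20,11,23,0,1,6,21,4,15,2,3,14,19,16,7,5,12,8,13,17,18,10,22,9]),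
  (1084018, [4,5,6,9,17,20,18,10,0,23,19,21,16,2,15,13,22,11,3,8,14,12,7,1], [8,23,13,18,0,1,2,22,19,3,7,17,21,15,20,14,12,4,6,10,5,11,16,9]),
  (1608104, [5,7,8,11,1,20,0,18,4,13,9,12,22,17,15,14,16,19,21,6,23,2,10,3], [6,4,21,23,8,0,19,1,2,10,22,3,11,9,15,14,16,13,7,17,5,18,12,20]),
  (2130606, [2,3,5,7,19,21,13,4,14,12,16,17,23,6,15,22,10,9,0,11,18,8,20,1], [18,23,0,1,7,2,13,3,21,17,16,19,9,6,8,14,10,11,20,4,22,5,15,12]),
  (2392899, [1,6,8,9,23,15,7,16,14,19,5,4,2,10,18,11,13,21,20,12,17,22,3,0], [23,0,12,22,11,10,1,6,2,3,13,15,19,16,8,5,7,20,14,9,18,17,21,4]),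
  (3179802, [3,4,8,10,6,15,5,2,23,0,22,14,16,9,20,18,7,21,12,11,17,13,19,1], [9,23,7,0,1,6,4,16,2,13,3,19,18,21,11,5,12,20,15,22,14,17,10,8]),
  (4490852, [5,6,9,10,14,18,16,1,21,19,7,17,0,12,15,11,3,22,20,8,13,23,4,2], [12,7,23,16,22,0,1,10,19,2,3,15,13,20,4,14,6,11,5,9,18,8,17,21]),
  (1378634, [3,6,8,11,14,18,9,19,0,21,2,10,23,22,16,12,15,20,13,4,17,7,5,1], [8,23,10,0,19,22,1,21,2,6,11,3,15,18,4,16,14,20,5,7,17,9,13,12]),
  (4523185, [4,5,7,10,15,16,2,13,11,20,6,9,3,23,18,19,1,22,17,21,12,14,8,0], [23,16,6,12,0,1,10,2,22,11,3,8,20,7,21,4,5,18,14,15,9,19,17,13]),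
  (8391797, [2,4,5,6,16,23,21,13,22,19,18,15,20,12,11,1,17,10,3,7,9,14,8,0], [23,15,0,18,1,2,3,19,22,20,17,14,13,7,21,11,4,16,10,9,12,6,8,5]),
  (8654232, [4,7,8,10,6,18,14,17,16,22,21,13,0,9,11,12,19,23,20,15,5,2,1,3], [12,22,21,23,0,20,4,1,2,13,3,14,15,11,6,19,8,7,5,16,18,10,9,17]),
  (9178690, [6,9,10,11,17,23,5,0,4,3,15,21,13,20,19,12,22,18,2,7,16,14,8,1], [7,23,18,9,8,6,0,19,22,1,2,3,15,12,21,10,20,4,17,14,13,11,16,5]),
  (9440193, [6,7,8,9,4,23,18,3,22,13,19,16,1,17,20,14,21,11,12,2,15,5,10,0], [23,12,19,7,4,21,0,1,2,3,22,17,18,9,15,20,11,13,6,10,14,16,8,5]),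
  (9701932, [3,5,9,11,6,18,19,8,0,1,21,16,10,12,23,7,4,20,13,17,15,22,14,2], [8,9,23,0,16,1,4,15,7,2,12,3,13,18,22,20,11,19,5,6,17,10,21,14]),
  (11272490, [3,5,8,18,11,23,9,12,6,16,17,15,14,13,21,7,2,19,22,0,10,20,4,1], [19,23,16,0,22,1,8,15,2,6,20,4,7,13,12,11,9,10,3,17,21,14,18,5]),
  (11797828, [6,8,10,18,22,20,7,11,5,9,0,13,14,3,23,12,4,21,17,1,19,15,16,2], [10,19,23,13,16,8,0,6,1,9,2,7,15,11,12,21,22,18,3,20,5,17,4,14]),
  (8946281, [3,5,6,9,17,15,20,13,8,16,1,7,18,12,23,21,10,19,2,11,4,14,22,0], [23,10,18,0,20,1,2,11,8,3,16,19,13,7,21,5,9,4,12,17,6,15,22,14]),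
  (9208708, [7,8,9,15,1,18,12,16,21,5,20,6,14,0,23,4,13,19,22,11,10,3,17,2], [13,4,23,21,15,9,11,0,1,2,20,19,6,16,12,3,7,22,5,17,10,8,18,14]),
  (12880401, [4,9,11,15,10,23,6,19,7,20,2,5,3,16,22,13,8,18,17,21,12,14,1,0], [23,22,10,12,0,11,6,8,16,1,4,2,20,15,21,3,13,18,17,7,9,19,14,5]),
  (14714004, [4,7,10,15,9,23,12,1,11,19,18,16,17,5,22,14,20,21,13,0,6,3,8,2], [19,7,23,21,0,13,20,1,22,4,2,8,6,18,15,3,11,12,10,9,16,17,14,5])]

/-- A word `(x^e₁ y x^e₂ y ⋯)^m`. -/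
def mkW (exps : List ℕ) (m : ℕ) : List Bool :=
  (List.replicate m (exps.flatMap fun e => List.replicate e false ++ [true])).flatten

def rels : List (List Bool) := [mkW [4, 2, 1, 6] 4, mkW [5, 6, 1, 6] 4]

def steps : List (ℕ × ℕ) := [
  (0,1),(2,0),(2,1),(3,1),(5,1),(5,1),(6,1),(8,1),(8,2),(9,2),(10,2),(12,2),(12,3),(13,3),(15,3),(15,4),(16,4),(17,3),(18,1),(20,1),
  (21,1),(21,2),(22,22),(23,0),(24,0),(25,0),(26,0),(27,0),(28,0),(29,0),(30,0),(31,0),(32,0),(33,0),(34,0),(35,0),(36,0),(37,0),(38,0),(39,0),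
  (40,0),(41,0),(42,0),(29,7),(30,30),(31,0),(1,1),(0,0),(2,0),(20,13),(28,13),(0,52),(47,47),(0,0),(1,0),(1,1),(0,0),(2,0),(0,6),(21,0),
  (0,61),(1,60),(62,1),(3,2),(64,2),(5,3),(6,3),(67,3),(8,63),(9,4),(71,4),(11,5),(12,5),(13,4),(74,4),(15,5),(76,2),(78,1),(18,78),(19,56),
  (80,1),(21,2),(82,2),(23,3),(24,3),(85,3),(26,3),(27,3),(88,3),(29,4),(90,4),(31,5),(92,5),(33,6),(94,5),(95,5),(96,0),(37,37),(38,0),(39,0),
  (40,0),(41,0),(42,0),(43,0),(44,0),(45,0),(30,106),(31,31),(0,0),(1,0),(1,1),(1,0),(53,80),(28,28),(29,0),(0,2),(14,0),(0,116),(1,57),(2,116),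
  (3,58),(121,3),(5,4),(6,4),(124,4),(125,4),(66,5),(127,5),(11,105),(12,50),(13,106),(14,51),(132,3),(16,4),(17,4),(135,4),(136,4),(77,5),(21,4),(22,79),
  (23,42),(81,1),(25,2),(26,44),(84,3),(85,3),(29,4),(87,4),(31,48),(89,5),(33,5),(91,4),(92,4),(36,52),(37,5),(38,38),(39,0),(40,0),(110,39),(38,38),
  (39,0),(1,1),(0,0),(2,0),(0,5),(122,0),(16,16),(0,0),(1,0),(0,3),(0,169),(1,53),(173,1),(173,2),(114,3),(5,56),(6,153),(7,48),(178,1),(119,2),
  (10,50),(11,48),(12,122),(13,85),(14,44),(125,2),(16,3),(70,3),(71,3),(129,3),(20,3),(21,74),(22,22),(23,37),(24,2),(78,2),(26,3),(80,3),(28,3),(82,3),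
  (83,3),(31,4),(32,44),(33,3),(87,3),(35,3),(67,86),(0,208),(104,0),(12,12),(8,1),(0,150),(1,209),(2,151),(3,135),(4,191),(5,136),(6,88),(7,158),(8,79),
  (160,1),(104,2),(52,3),(12,124),(13,107),(14,55),(15,34),(16,34),(58,2),(18,34),(60,3),(20,35),(115,4),(175,72),(0,234),(177,0),(156,156),(0,0),(158,0),(1,1),
  (1,0),(0,5),(59,59),(0,0),(1,0),(0,3),(47,47),(0,0),(1,0),(0,3),(0,189),(1,248),(2,173),(3,229),(4,194),(5,72),(6,37),(7,114),(8,141),(9,89),
  (10,35),(144,2),(51,3),(13,4),(14,53),(54,15),(16,16),(56,2),(18,3),(58,2),(20,3),(21,3),(22,3),(23,3),(24,3),(64,3),(26,4),(66,4),(67,3),(29,1),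
  (30,1),(275,250),(0,283),(164,164),(165,0),(1,1),(1,0),(0,4),(35,35),(0,0),(37,0),(0,3),(150,150),(151,0),(0,2),(93,0),(21,0),(0,236),(181,0),(2,220),
  (183,0),(4,241),(5,204),(186,1),(7,187),(8,135),(9,150),(10,82),(138,3),(98,4),(13,116),(14,61),(15,47),(16,44),(161,300),(64,64),(65,0),(1,1),(0,0),(2,0),
  (0,5),(20,20),(0,0),(22,0),(0,3),(105,105),(106,0),(1,1),(1,0),(0,4),(135,135),(0,0),(0,2),(67,36),(0,1),(0,195),(1,219),(2,181),(3,127),(4,74),
  (129,1),(91,2),(7,45),(46,8),(9,9),(48,2),(11,3),(12,3),(51,3),(14,1),(15,1),(215,110),(310,0),(50,50),(51,0),(1,1),(1,0),(0,4),(133,133),(134,0),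
  (0,2),(111,0),(12,0),(0,265),(1,247),(2,209),(3,155),(4,28),(157,1),(6,56),(7,73),(8,36),(9,29),(10,29),(77,2),(12,12),(203,199),(0,234),(0,119),(0,129),
  (0,9),(0,5),(383,382),(0,80),(0,189),(0,15),(0,11),(0,11),(387,388),(0,86),(0,195),(0,21),(0,17),(0,17),(391,394),(0,92),(0,201),(0,27),(0,23),(0,23),
  (339,400),(0,146),(0,210),(0,128),(0,57),(0,29),(343,406),(0,152),(0,216),(0,134),(0,63),(0,35),(346,412),(0,190),(0,107),(0,149),(0,54),(355,238),(0,196),(0,224),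
  (0,78),(0,49),(0,59),(304,344),(0,281),(0,255),(0,215),(0,82),(364,251),(0,210),(0,120),(0,91),(0,84),(258,354),(0,294),(0,209),(0,167),(0,65),(0,62),(225,139),
  (0,254),(0,285),(0,100),(0,98),(0,68),(324,228),(0,223),(0,140),(0,108),(0,87),(0,74),(153,198),(0,195),(0,116),(0,141),(0,110),(244,156),(0,235),(0,93),(0,191),
  (0,89),(338,161),(0,240),(0,271),(0,188),(0,119),(0,103),(296,290),(0,246),(0,131),(0,202),(0,99),(0,109),(299,293),(0,332),(0,169),(0,197),(0,134),(0,102),(228,395),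
  (0,261),(0,325),(0,271),(0,121),(0,121),(365,356),(0,344),(0,182),(0,119),(0,143),(0,114),(192,407),(0,351),(0,268),(0,155),(0,147),(378,472),(0,133),(0,303),(0,249),
  (0,152),(0,125),(250,373),(0,247),(0,254),(0,208),(427,366),(0,281),(0,167),(428,369),(0,284),(0,170),(428,356),(0,169),(434,259),(0,256),(0,147),(387,294),(0,152),(0,149),
  (438,377),(0,253),(342,218),(0,260),(0,211),(308,382),(0,263),(0,186),(0,185),(397,309),(0,220),(0,259),(0,159),(233,434),(0,228),(0,194),(321,438),(0,342),(0,263),(0,196),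
  (406,321),(0,424),(0,266),(366,401),(0,427),(0,280),(0,198),(368,405),(0,431),(0,284),(0,202),(298,368),(0,186),(0,186),(0,208),(424,414),(0,250),(0,217),(257,372),(0,251),
  (0,284),(432,338),(0,256),(0,284),(0,217),(311,261),(0,307),(0,197),(0,196),(383,259),(0,301),(0,222),(0,209),(390,267),(0,205),(0,230),(0,200),(517,421),(0,238),(0,232),
  (0,204),(482,244),(0,316),(0,210),(0,208),(365,390),(0,216),(0,238),(0,225),(367,252),(0,324),(0,219),(0,216),(453,334),(0,328),(0,260),(0,220),(499,402),(0,229),(0,253),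
  (0,237),(460,484),(0,263),(0,241),(0,241),(462,267),(0,356),(0,234),(466,303),(0,296),(0,266),(0,248),(310,307),(0,334),(0,239),(0,252),(397,309),(0,341),(0,243),(316,282),
  (0,354),(0,286),(365,360),(0,355),(0,277),(0,249),(403,401),(0,351),(0,281),(0,253),(375,435),(0,359),(0,284),(449,407),(0,294),(0,338),(0,260),(333,445),(0,427),(0,304),
  (276,523),(0,376),(0,295),(0,280),(388,385),(0,332),(0,273),(0,271),(389,278),(0,275),(0,274),(314,284),(0,355),(0,277),(428,313),(0,293),(0,280),(291,382),(0,311),(0,283),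
  (355,320),(0,313),(297,322),(0,289),(0,301),(358,396),(0,304),(0,304),(474,299),(0,294),(0,307),(361,402),(0,337),(365,360),(0,377),(0,299),(413,397),(0,303),(0,302),(487,403),
  (0,305),(525,339),(0,311),(0,320),(514,416),(0,336),(491,417),(0,313),(0,312),(464,349),(0,344),(429,423),(0,317),(355,326),(0,349),(0,332),(579,417),(0,326),(392,487),(0,356),
  (0,337),(425,329),(0,326),(334,340),(364,328),(437,331),(0,343),(394,372),(0,332),(339,362),(0,347),(343,336),(0,336),(448,338),(0,338),(376,368),(0,340),(506,370),(0,355),(447,422),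
  (0,357),(379,346),(0,346),(356,380),(391,361),(446,381),(0,363),(386,365),(459,380),(0,353),(455,433),(0,355),(482,356),(385,357),(399,358),(363,359),(363,360),(393,374),(441,375),(364,363),
  (394,364),(394,365),(397,366)]

def allT : List (List ℕ) := m24T0 ++ m24T1 ++ m24T2 ++ m24T3 ++ m24T4 ++ m24T5 ++ m24T6

theorem ha : isPerm aL = true := by decide +kernel
theorem hai : isPerm ainvL = true := by decide +kernel
theorem hb : isPerm bL = true := by decide +kernel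
theorem hs : isPerm sL = true := by decide +kernel
theorem hn : isPerm nL = true := by decide +kernel
theorem haut : autCheck aL = true := by decide +kernel
theorem hbut : autCheck bL = true := by decide +kernel
theorem hsut : autCheck sL = true := by decide +kernel
theorem hnut : autCheck nL = true := by decide +kernel
theorem hr : repsOK reps = true := by decide +kernel
theorem hc : coverOK (fun _ => true) aL 23 reps = true := by decide +kernel
theorem hrels : rels.all (relOK aL bL) = true := by decide +kernel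
theorem hplus : (cands reps).all (candOKplus aL bL rels (fun _ => true)) = true := by decide +kernel
theorem hminus : (cands reps).all (candOKminus ainvL rels (fun _ => true)) = true := by decide +kernel
theorem hslp : slpChk 2 steps = true := by decide +kernel
theorem htargets : allT.all (fun l => (slpRun [aL, bL] steps).elem l) = true := by decide +kernel

theorem hainv : perm ainvL = (perm aL)⁻¹ := perm_inv_of_mul ha hai (by decide +kernel)

theorem hord : orderOf (perm aL) = 23 := by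
  have : Fact (Nat.Prime 23) := ⟨by norm_num⟩
  exact orderOf_perm ha (by decide +kernel) (by decide +kernel)

theorem hb2 : perm bL ^ 2 = 1 := by
  rw [← perm_powL hb, show powL bL 2 = idL by decide +kernel, perm_idL]

theorem hbne : perm bL ≠ 1 := by
  intro h
  have := eq_idL_of_perm hb h
  revert this
  decide +kernel

theorem hs7 : perm sL ^ 7 = 1 := by
  rw [← perm_powL hs, show powL sL 7 = idL by decide +kernel, perm_idL]

theorem hsne : perm sL ≠ 1 := by
  intro h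
  have := eq_idL_of_perm hs h
  revert this
  decide +kernel

theorem hsb : perm sL * perm bL = perm bL * perm sL := by
  rw [← perm_mulL' hs hb, ← perm_mulL' hb hs, show mulL sL bL = mulL bL sL by decide +kernel]

theorem hna : perm nL * perm aL * (perm nL)⁻¹ = perm aL ^ 2 := by
  rw [mul_inv_eq_iff_eq_mul, ← perm_powL ha, ← perm_mulL' hn ha, ← perm_mulL' (isPerm_powL ha 2) hn,
    show mulL nL aL = mulL (powL aL 2) nL by decide +kernel]

theorem hgen : M24 ≤ Subgroup.closure {perm aL, perm bL} := by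
  set K := Subgroup.closure {perm aL, perm bL} with hK
  have htab : ∀ g ∈ [aL, bL], isPerm g = true ∧ perm g ∈ K := by
    intro g hg
    simp only [List.mem_cons, List.not_mem_nil, or_false] at hg
    rcases hg with rfl | rfl
    · exact ⟨ha, Subgroup.subset_closure (by simp)⟩
    · exact ⟨hb, Subgroup.subset_closure (by simp)⟩
  have hrun := slp_mem K steps [aL, bL] htab hslp
  have hall : ∀ l ∈ allT, perm l ∈ K := by
    intro l hl
    have := List.all_eq_true.mp htargets l hl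
    exact (hrun l (List.mem_of_elem_eq_true this)).2
  apply le_of_chainOK M24 K m24Levels m24_chainOK
  intro x hx t ht
  simp only [m24Levels, List.mem_cons, List.not_mem_nil, or_false] at hx
  rcases hx with rfl | rfl | rfl | rfl | rfl | rfl | rfl <;>
  · obtain ⟨l, hl, rfl⟩ := List.mem_map.mp ht
    exact hall l (by simp [allT, hl])

/-- The outer automorphism group of the Mathieu group M₂₄ (the automorphism group of the length-24 binary code) is trivial: every automorphism is inner. -/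
theorem result : Nat.card (Cfsg.Out ↥Cfsg.M24) = 1 := by
  have hfp : Fact (Nat.Prime 23) := ⟨by norm_num⟩
  refine out_one (p := 23) (r := 2) (H := M24) (aL := aL) (ainvL := ainvL) (bL := bL) (nL := nL)
    (cond := fun _ => true) (f := fun _ => true) (N := 23) (reps := reps) (rels := rels)
    le_rfl ha hb hai hainv (perm_mem_M24 ha haut) (perm_mem_M24 hb hbut) (perm_mem_M24 hn hnut) hord
    (by rw [card_M24]; norm_num) hna ?_ hgen hr hc (fun _ _ _ _ => rfl) (fun _ _ _ => rfl) hrels hplus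
    hminus hb2 hbne ?_
  · intro k h0 h1
    have key : ∀ k : Fin 23, 0 < k.val → ∃ j : Fin 11,
        (k.val * 2 ^ j.val) % 23 = 1 ∨ (k.val * 2 ^ j.val) % 23 = 22 := by decide
    obtain ⟨j, hj⟩ := key ⟨k, h1⟩ h0
    exact ⟨j.val, hj⟩
  · intro ψ
    let x : ↥M24 := ⟨perm sL, perm_mem_M24 hs hsut⟩
    let y : ↥M24 := ⟨perm bL, perm_mem_M24 hb hbut⟩
    have hx7 : x ^ 7 = 1 := Subtype.ext hs7
    have hxy : x * y = y * x := Subtype.ext hsb
    have hy2 : y ^ 2 = 1 := Subtype.ext hb2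
    have h1 : (ψ x) ^ 7 = 1 := by rw [← map_pow, hx7, map_one]
    have h2 : (ψ y) ^ 2 = 1 := by rw [← map_pow, hy2, map_one]
    have h3 : ψ x * ψ y = ψ y * ψ x := by rw [← map_mul, hxy, map_mul]
    have h4 : ψ x ≠ 1 := by
      intro h0
      have h5 : x = 1 := ψ.injective (h0.trans (map_one ψ).symm)
      exact hsne (congrArg Subtype.val h5)
    have h6 : Commute (ψ x).1 (ψ y).1 := congrArg Subtype.val h3
    exact exists_fixed_of_comm_seven (ψ x).2 (by simpa using congrArg Subtype.val h1)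
      (fun h0 => h4 (Subtype.ext h0)) (by simpa using congrArg Subtype.val h2) h6

end Cfsg.Agent.S2064
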