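-- Statement S2065: the outer automorphism group of J1 is trivial.
import Cfsg.Statements.S2065
import Cfsg.Agent.Lib.KnownSimple.J1Group
import Cfsg.Agent.Lib.KnownSimple.MathieuOut

set_option autoImplicit false
open Cfsg

namespace Cfsg.Agent.S2065

open Cfsg.Agent.Lib.KnownSimple.J1Base Cfsg.Agent.Lib.KnownSimple.J1Data Cfsg.Agent.Lib.KnownSimple.J1Data2
open Cfsg.Agent.Lib.KnownSimple.J1Checks Cfsg.Agent.Lib.KnownSimple.J1Group
open Cfsg.Agent.Lib.KnownSimple.MathieuOut (card_out_eq_one conj_pow_eq_pow eq_one_of_fix_gens)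
open scoped Pointwise

/-- The image of a generator of a Sylow subgroup of prime order is conjugate to a power. -/
theorem exists_conj_pow {G : Type*} [Group G] [Finite G] {p : ℕ} [hp : Fact p.Prime] (a : G)
    (ha : orderOf a = p) (hpp : ¬ p ^ 2 ∣ Nat.card G) (φ : MulAut G) :
    ∃ g : G, ∃ k, 0 < k ∧ k < p ∧ (MulAut.conj g * φ) a = a ^ k := by
  classical
  have hpp' : p.Prime := hp.out
  have hG0 : Nat.card G ≠ 0 := Nat.card_pos.ne'
  have hA : Nat.card (Subgroup.zpowers a) = p := by rw [Nat.card_zpowers, ha]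
  have hdvd : p ∣ Nat.card G := by rw [← hA]; exact Subgroup.card_subgroup_dvd_card _
  have hfact : (Nat.card G).factorization p = 1 := by
    have h1 : 1 ≤ (Nat.card G).factorization p :=
      (hpp'.pow_dvd_iff_le_factorization hG0).mp (by simpa using hdvd)
    have h2 : ¬ 2 ≤ (Nat.card G).factorization p := fun h =>
      hpp ((hpp'.pow_dvd_iff_le_factorization hG0).mpr h)
    omega
  set B : Subgroup G := (Subgroup.zpowers a).map φ.toMonoidHom with hB
  have hBc : Nat.card B = p := by
    rw [hB, Subgroup.card_map_of_injective φ.injective, hA]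
  let PA : Sylow p G := Sylow.ofCard (Subgroup.zpowers a) (by rw [hA, hfact, pow_one])
  let PB : Sylow p G := Sylow.ofCard B (by rw [hBc, hfact, pow_one])
  obtain ⟨g, hg⟩ := MulAction.exists_smul_eq G PB PA
  have hg' : ∀ x ∈ B, g * x * g⁻¹ ∈ Subgroup.zpowers a := by
    intro x hx
    have h1 : (g • PB : Sylow p G) = PA := hg
    have h2 : ((g • PB : Sylow p G) : Subgroup G) = Subgroup.zpowers a := by rw [h1]; rfl
    rw [Sylow.coe_subgroup_smul] at h2
    rw [← h2]
    have h3 : MulAut.conj g • x ∈ MulAut.conj g • (PB : Subgroup G) :=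
      Subgroup.smul_mem_pointwise_smul x _ _ hx
    exact h3
  have hφa : φ a ∈ B := ⟨a, Subgroup.mem_zpowers a, rfl⟩
  have h1 := hg' _ hφa
  obtain ⟨k, hk⟩ : ∃ k : ℕ, a ^ k = g * φ a * g⁻¹ := by
    have := (mem_powers_iff_mem_zpowers).mpr h1
    exact Submonoid.mem_powers_iff _ _ |>.mp this
  have hk' : a ^ (k % p) = g * φ a * g⁻¹ := by
    rw [← ha, pow_mod_orderOf, hk]
  have hkpos : 0 < k % p := by
    rcases Nat.eq_zero_or_pos (k % p) with h0 | h0
    · exfalso
      rw [h0, pow_zero] at hk'
      have h3 : φ a = 1 := by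
        have : g * φ a * g⁻¹ = 1 := hk'.symm
        have h4 : φ a = g⁻¹ * (g * φ a * g⁻¹) * g := by group
        rw [h4, this]; group
      have h4 : a = 1 := by
        have := φ.injective (h3.trans (map_one φ).symm)
        exact this
      rw [h4, orderOf_one] at ha
      exact hpp'.one_lt.ne ha
    · exact h0
  refine ⟨g, k % p, hkpos, Nat.mod_lt _ hpp'.pos, ?_⟩
  rw [hk']
  simp only [MulAut.mul_apply, MulAut.conj_apply]

/-- Matrix of an element. -/
abbrev mat (g : G) : Matrix (Fin 7) (Fin 7) (ZMod 11) := ((g.1 : GL (Fin 7) (ZMod 11)) : Matrix (Fin 7) (Fin 7) (ZMod 11))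

theorem mat_mul (g h : G) : mat (g * h) = mat g * mat h := rfl
theorem mat_one : mat 1 = 1 := rfl

/-- The product attached to a relator. -/
def wordP {H : Type*} [Group H] (α β : H) (exps : List ℕ) : H := (exps.map fun e => α ^ e * β).prod

theorem map_wordP {H K : Type*} [Group H] [Group K] (f : H →* K) (α β : H) (exps : List ℕ) :
    f (wordP α β exps) = wordP (f α) (f β) exps := by
  induction exps with
  | nil => simp [wordP]
  | cons e es ih =>
    simp only [wordP, List.map_cons, List.prod_cons, map_mul, map_pow] at ih ⊢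
    rw [ih]

/-- Apply a word to a vector. -/
def vecW (k : ℕ) (A : Mat) (exps : List ℕ) (v : List ℕ) : List ℕ :=
  exps.foldr (fun e w => mvL (apowL.getD (k * e % 19) []) (mvL A w)) v

def vecRel (k : ℕ) (A : Mat) (r : List ℕ × ℕ) (v : List ℕ) : List ℕ := (vecW k A r.1)^[r.2] v

def e0 : List ℕ := [1, 0, 0, 0, 0, 0, 0]

theorem apow_chain : apowL.getD 0 [] = idM ∧ (List.range 18).all (fun r =>
    decide (apowL.getD (r + 1) [] = mulM aM (apowL.getD r []))) = true := by decide +kernel

theorem apow_ok : apowL.all okM = true := by decide +kernel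
theorem apow_len : apowL.length = 19 := by decide +kernel

theorem rep_apow (r : ℕ) (hr : r < 19) : MRep (aG ^ r) (apowL.getD r []) := by
  induction r with
  | zero => rw [apow_chain.1]; simpa using rep_one
  | succ r ih =>
    have h1 := List.all_eq_true.mp apow_chain.2 r (List.mem_range.mpr (by omega))
    simp only [decide_eq_true_eq] at h1
    rw [h1, pow_succ']
    refine rep_a.mul (ih (by omega)) oka ?_
    rw [List.getD_eq_getElem _ _ (by rw [apow_len]; omega)]
    exact List.all_eq_true.mp apow_ok _ (List.getElem_mem _)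

theorem rep_apow' (k e : ℕ) : MRep ((aG ^ k) ^ e) (apowL.getD (k * e % 19) []) := by
  have h1 : (aG ^ k) ^ e = aG ^ (k * e % 19) := by
    rw [← pow_mul, ← ord19, pow_mod_orderOf]
  rw [h1]
  exact rep_apow _ (Nat.mod_lt _ (by norm_num))

theorem ok_apow' (r : ℕ) (hr : r < 19) : okM (apowL.getD r []) = true := by
  rw [List.getD_eq_getElem _ _ (by rw [apow_len]; exact hr)]
  exact List.all_eq_true.mp apow_ok _ (List.getElem_mem _)

theorem mvL_len {A : Mat} {v : List ℕ} (hA : okM A = true) : (mvL A v).length = 7 := mvL_length hA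

theorem vecW_spec {k : ℕ} {c : G} {A : Mat} (hc : MRep c A) (hA : okM A = true) (exps : List ℕ) {v : List ℕ}
    (hv : v.length = 7) :
    (vecW k A exps v).length = 7 ∧ toV (vecW k A exps v) = (mat (wordP (aG ^ k) c exps)).mulVec (toV v) := by
  induction exps with
  | nil =>
    refine ⟨hv, ?_⟩
    have h0 : wordP (aG ^ k) c [] = 1 := rfl
    rw [h0, mat_one, Matrix.one_mulVec]
    rfl
  | cons e es ih =>
    have hok := ok_apow' (k * e % 19) (Nat.mod_lt _ (by norm_num))
    have h1 : vecW k A (e :: es) v = mvL (apowL.getD (k * e % 19) []) (mvL A (vecW k A es v)) := rfl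
    refine ⟨by rw [h1]; exact mvL_len hok, ?_⟩
    rw [h1, toV_mv hok (mvL_len hA), toV_mv hA ih.1, ih.2]
    have h2 : wordP (aG ^ k) c (e :: es) = (aG ^ k) ^ e * c * wordP (aG ^ k) c es := by
      simp [wordP]
    rw [h2, mat_mul, mat_mul, Matrix.mulVec_mulVec, Matrix.mulVec_mulVec, ← mat_mul, ← mat_mul]
    show _ = _
    have h3 : toM (apowL.getD (k * e % 19) []) = mat ((aG ^ k) ^ e) := (rep_apow' k e).symm
    have h4 : toM A = mat c := hc.symm
    rw [h3, h4]
    simp only [mat_mul, Matrix.mul_assoc, Matrix.mulVec_mulVec]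

theorem vecRel_spec {k : ℕ} {c : G} {A : Mat} (hc : MRep c A) (hA : okM A = true) (exps : List ℕ) (m : ℕ)
    {v : List ℕ} (hv : v.length = 7) :
    (vecRel k A (exps, m) v).length = 7 ∧
      toV (vecRel k A (exps, m) v) = (mat (wordP (aG ^ k) c exps ^ m)).mulVec (toV v) := by
  induction m with
  | zero =>
    refine ⟨hv, ?_⟩
    rw [pow_zero, mat_one, Matrix.one_mulVec]
    rfl
  | succ m ih =>
    have h1 : vecRel k A (exps, m + 1) v = vecW k A exps (vecRel k A (exps, m) v) := by
      simp only [vecRel, Function.iterate_succ_apply']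
    obtain ⟨h2, h3⟩ := vecW_spec (k := k) hc hA exps ih.1
    rw [h1]
    refine ⟨h2, ?_⟩
    rw [h3, ih.2, Matrix.mulVec_mulVec, ← mat_mul, pow_succ']

theorem vec_reduced {A : Mat} {v : List ℕ} : ∀ x ∈ mvL A v, x < 11 := by
  intro x hx
  simp only [mvL, List.mem_map] at hx
  obtain ⟨r, -, rfl⟩ := hx
  exact Nat.mod_lt _ (by norm_num)

theorem vecW_red {k : ℕ} {A : Mat} {exps : List ℕ} {v : List ℕ} (hv : ∀ x ∈ v, x < 11) :
    ∀ x ∈ vecW k A exps v, x < 11 := by
  cases exps with
  | nil => exact hv
  | cons e es => exact vec_reduced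

theorem vecRel_red {k : ℕ} {A : Mat} {r : List ℕ × ℕ} {v : List ℕ} (hv : ∀ x ∈ v, x < 11) :
    ∀ x ∈ vecRel k A r v, x < 11 := by
  obtain ⟨exps, m⟩ := r
  induction m with
  | zero => exact hv
  | succ m ih =>
    have h1 : vecRel k A (exps, m + 1) v = vecW k A exps (vecRel k A (exps, m) v) := by
      simp only [vecRel, Function.iterate_succ_apply']
    rw [h1]
    exact vecW_red ih

/-- Candidates. -/
def candP (i : ℕ) : Bool :=
  let A := Ll.getD i []
  [1, 2, 4].all fun k =>
    rels.any (fun r => !(decide (vecRel k A r e0 = e0))) || ((k == 1) && conjsL.contains A)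

theorem cand_0 : allR candP 0 100 = true := by decide +kernel
theorem cand_100 : allR candP 100 100 = true := by decide +kernel
theorem cand_200 : allR candP 200 100 = true := by decide +kernel
theorem cand_300 : allR candP 300 100 = true := by decide +kernel
theorem cand_400 : allR candP 400 100 = true := by decide +kernel
theorem cand_500 : allR candP 500 100 = true := by decide +kernel
theorem cand_600 : allR candP 600 100 = true := by decide +kernel
theorem cand_700 : allR candP 700 100 = true := by decide +kernel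
theorem cand_800 : allR candP 800 100 = true := by decide +kernel
theorem cand_900 : allR candP 900 100 = true := by decide +kernel
theorem cand_1000 : allR candP 1000 100 = true := by decide +kernel
theorem cand_1100 : allR candP 1100 100 = true := by decide +kernel
theorem cand_1200 : allR candP 1200 100 = true := by decide +kernel
theorem cand_1300 : allR candP 1300 100 = true := by decide +kernel
theorem cand_1400 : allR candP 1400 63 = true := by decide +kernel

theorem cand_all : ∀ i, i < Ll.length → candP i = true := by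
  rw [show Ll.length = 1463 by decide +kernel]
  intro i hi
  by_cases h0 : i < 100
  · exact of_allR cand_0 (by omega) (by omega)
  by_cases h100 : i < 200
  · exact of_allR cand_100 (by omega) (by omega)
  by_cases h200 : i < 300
  · exact of_allR cand_200 (by omega) (by omega)
  by_cases h300 : i < 400
  · exact of_allR cand_300 (by omega) (by omega)
  by_cases h400 : i < 500
  · exact of_allR cand_400 (by omega) (by omega)
  by_cases h500 : i < 600
  · exact of_allR cand_500 (by omega) (by omega)
  by_cases h600 : i < 700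
  · exact of_allR cand_600 (by omega) (by omega)
  by_cases h700 : i < 800
  · exact of_allR cand_700 (by omega) (by omega)
  by_cases h800 : i < 900
  · exact of_allR cand_800 (by omega) (by omega)
  by_cases h900 : i < 1000
  · exact of_allR cand_900 (by omega) (by omega)
  by_cases h1000 : i < 1100
  · exact of_allR cand_1000 (by omega) (by omega)
  by_cases h1100 : i < 1200
  · exact of_allR cand_1100 (by omega) (by omega)
  by_cases h1200 : i < 1300
  · exact of_allR cand_1200 (by omega) (by omega)
  by_cases h1300 : i < 1400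
  · exact of_allR cand_1300 (by omega) (by omega)
  by_cases h1400 : i < 1463
  · exact of_allR cand_1400 (by omega) (by omega)
  omega

/-- The relators hold for the actual generators. -/
def relMat (exps : List ℕ) : Mat :=
  exps.foldr (fun e w => mulM (apowL.getD e []) (mulM tM w)) idM

theorem rep_relMat (exps : List ℕ) (h : ∀ e ∈ exps, e < 19) : MRep (wordP aG tG exps) (relMat exps) := by
  induction exps with
  | nil => simpa [wordP, relMat] using rep_one
  | cons e es ih =>
    have he : e < 19 := h e (by simp)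
    have h2 : wordP aG tG (e :: es) = aG ^ e * (tG * wordP aG tG es) := by
      simp [wordP, mul_assoc]
    rw [h2]
    exact (rep_apow e he).mul (rep_t.mul (ih fun x hx => h x (by simp [hx])) okt
      (by
        cases es with
        | nil => decide
        | cons _ _ => exact okM_mul (ok_apow' _ (h _ (by simp))))) (ok_apow' _ he) (okM_mul okt)

theorem relMat_ok (exps : List ℕ) (h : ∀ e ∈ exps, e < 19) : okM (relMat exps) = true := by
  cases exps with
  | nil => decide
  | cons e es => exact okM_mul (ok_apow' _ (h _ (by simp)))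

theorem rels_hold : ∀ r ∈ rels, (∀ e ∈ r.1, e < 19) ∧ powM (relMat r.1) r.2 = idM := by decide +kernel

theorem wordP_rel {r : List ℕ × ℕ} (hr : r ∈ rels) : wordP aG tG r.1 ^ r.2 = 1 := by
  obtain ⟨h1, h2⟩ := rels_hold r hr
  have h3 := rep_pow (rep_relMat r.1 h1) (relMat_ok r.1 h1) r.2
  rw [h2] at h3
  exact rep_inj h3 rep_one

theorem conjs_spec : (List.range 19).all (fun i => decide (conjsL.getD i [] =
    mulM (mulM (apowL.getD i []) tM) (tr (apowL.getD i [])))) = true := by decide +kernel

theorem conjs_len : conjsL.length = 19 := by decide +kernel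

theorem rep_conjs (i : ℕ) (hi : i < 19) : MRep (aG ^ i * tG * (aG ^ i)⁻¹) (conjsL.getD i []) := by
  have h1 := List.all_eq_true.mp conjs_spec i (List.mem_range.mpr hi)
  simp only [decide_eq_true_eq] at h1
  rw [h1]
  exact rep_conj (rep_apow i hi) rep_t (ok_apow' i hi) okt

/-- Words generating the group. -/
def wordM : List ℕ → Mat
  | [] => idM
  | c :: w => mulM (if c = 0 then aM else tM) (wordM w)

noncomputable def wordG : List ℕ → G
  | [] => 1
  | c :: w => (if c = 0 then aG else tG) * wordG w

theorem rep_word (w : List ℕ) : MRep (wordG w) (wordM w) ∧ okM (wordM w) = true := by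
  induction w with
  | nil => exact ⟨rep_one, by decide⟩
  | cons c w ih =>
    by_cases hc : c = 0
    · simp only [wordG, wordM, hc, if_true]
      exact ⟨rep_a.mul ih.1 oka ih.2, okM_mul oka⟩
    · simp only [wordG, wordM, hc, if_false]
      exact ⟨rep_t.mul ih.1 okt ih.2, okM_mul okt⟩

theorem word_mem (w : List ℕ) : wordG w ∈ Subgroup.closure ({aG, tG} : Set G) := by
  induction w with
  | nil => exact one_mem _
  | cons c w ih =>
    refine mul_mem ?_ ih
    split_ifs
    · exact Subgroup.subset_closure (by simp)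
    · exact Subgroup.subset_closure (by simp)

theorem closure_at : Subgroup.closure ({aG, tG} : Set G) = ⊤ := by
  refine closure_pair_of_mem closure_xy ?_ ?_
  · have h1 : wordM wX = xM := by decide +kernel
    have h2 := (rep_word wX).1
    rw [h1] at h2
    rw [rep_inj rep_x h2]
    exact word_mem _
  · have h1 : wordM wY = yM := by decide +kernel
    have h2 := (rep_word wY).1
    rw [h1] at h2
    rw [rep_inj rep_y h2]
    exact word_mem _

theorem conj_na : nG * aG * nG⁻¹ = aG ^ 12 := by
  have h1 := rep_conj rep_n rep_a okn oka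
  have h2 := rep_apow 12 (by norm_num)
  have h3 : mulM (mulM nM aM) (tr nM) = apowL.getD 12 [] := by decide +kernel
  rw [h3] at h1
  exact rep_inj h1 h2

theorem normal_k : ∀ k : Fin 19, 0 < (k : ℕ) → ∃ j : Fin 6, ((k : ℕ) * 12 ^ (j : ℕ)) % 19 = 1 ∨
    ((k : ℕ) * 12 ^ (j : ℕ)) % 19 = 2 ∨ ((k : ℕ) * 12 ^ (j : ℕ)) % 19 = 4 := by decide

/-- The outer automorphism group of the Janko group J₁ (the group generated by two explicit 7 × 7 matrices over the integers modulo 11) is trivial: every automorphism is inner. -/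
theorem result : Nat.card (Cfsg.Out ↥Cfsg.Spor.J1) = 1 := by
  apply card_out_eq_one
  intro φ
  have hp19 : Fact (Nat.Prime 19) := ⟨by norm_num⟩
  obtain ⟨g, k, hk0, hk19, hg⟩ := exists_conj_pow (G := G) (p := 19) aG ord19 (by rw [card_G]; norm_num) φ
  obtain ⟨j, hj⟩ := normal_k ⟨k, hk19⟩ hk0
  simp only at hj
  set k' := (k * 12 ^ (j : ℕ)) % 19 with hk'
  -- normalise
  let ψ : MulAut G := MulAut.conj (nG ^ (j : ℕ) * g) * φ
  have hψa : ψ aG = aG ^ k' := by
    have h1 : ψ aG = nG ^ (j : ℕ) * ((MulAut.conj g * φ) aG) * (nG ^ (j : ℕ))⁻¹ := by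
      simp only [ψ, MulAut.mul_apply, MulAut.conj_apply]
      group
    rw [h1, hg, conj_pow_eq_pow aG nG 12 conj_na, hk', ← ord19, pow_mod_orderOf]
  set c : G := ψ tG with hc
  have hco : orderOf c = 2 := by
    rw [hc, ← ord2]
    exact MulEquiv.orderOf_eq ψ tG
  obtain ⟨i, hi, hiR⟩ := involution_mem hco
  have hrel : ∀ r ∈ rels, wordP (aG ^ k') c r.1 ^ r.2 = 1 := by
    intro r hr
    have h1 := wordP_rel hr
    have h2 := congrArg (ψ.toMonoidHom) h1
    rw [map_pow, map_wordP, map_one] at h2
    simpa [hψa] using h2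
  have hcand := cand_all i hi
  have hAok : okM (Ll.getD i []) = true := by
    rw [List.getD_eq_getElem _ _ hi]
    exact List.all_eq_true.mp okL _ (List.getElem_mem _)
  have hk'mem : k' = 1 ∨ k' = 2 ∨ k' = 4 := hj
  have hkey : ∀ k₀ : ℕ, k₀ ∈ [1, 2, 4] → k' = k₀ → k₀ = 1 ∧ (Ll.getD i []) ∈ conjsL := by
    intro k₀ hk₀ hkk
    simp only [candP] at hcand
    have h1 := List.all_eq_true.mp hcand k₀ hk₀
    simp only [Bool.or_eq_true, Bool.and_eq_true, beq_iff_eq, List.any_eq_true, Bool.not_eq_true',
      decide_eq_false_iff_not] at h1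
    rcases h1 with ⟨r, hr, hne⟩ | ⟨h2, h3⟩
    · exfalso
      apply hne
      obtain ⟨exps, m⟩ := r
      have h2 := vecRel_spec (k := k₀) hiR hAok exps m (v := e0) rfl
      have h3 := hrel (exps, m) hr
      rw [hkk] at h3
      simp only at h3
      rw [h3] at h2
      have h4 : toV (vecRel k₀ (Ll.getD i []) (exps, m) e0) = toV e0 := by
        rw [h2.2]
        simp [mat_one]
      exact toV_eq_iff h4 h2.1 rfl (vecRel_red (by decide)) (by decide)
    · exact ⟨h2, by simpa using h3⟩
  have hfin : k' = 1 ∧ (Ll.getD i []) ∈ conjsL := by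
    rcases hk'mem with h | h | h
    · have := hkey 1 (by simp) h
      exact ⟨h, this.2⟩
    · have := hkey 2 (by simp) h
      omega
    · have := hkey 4 (by simp) h
      omega
  obtain ⟨hk1, hmem⟩ := hfin
  obtain ⟨i', hi', hie⟩ := List.getElem_of_mem hmem
  have hi'19 : i' < 19 := by rwa [conjs_len] at hi'
  have hcE : c = aG ^ i' * tG * (aG ^ i')⁻¹ := by
    refine rep_inj hiR ?_
    have h1 := rep_conjs i' hi'19
    rw [List.getD_eq_getElem _ _ hi', hie] at h1
    exact h1
  let ψ' : MulAut G := MulAut.conj (aG ^ i')⁻¹ * ψ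
  have h1 : ψ' = 1 := by
    apply eq_one_of_fix_gens aG tG closure_at
    · simp only [ψ', MulAut.mul_apply, MulAut.conj_apply, hψa, hk1, pow_one]
      have : (aG ^ i')⁻¹ * aG * (aG ^ i')⁻¹⁻¹ = (aG ^ i')⁻¹ * (aG * aG ^ i') := by group
      rw [this, ← pow_succ', pow_succ]
      group
    · simp only [ψ', MulAut.mul_apply, MulAut.conj_apply]
      rw [← hc, hcE]
      group
  have h2 : φ = MulAut.conj ((nG ^ (j : ℕ) * g)⁻¹ * aG ^ i') := by
    have h3 : MulAut.conj (aG ^ i')⁻¹ * (MulAut.conj (nG ^ (j : ℕ) * g) * φ) = 1 := h1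
    have h4 : φ = (MulAut.conj (nG ^ (j : ℕ) * g))⁻¹ * (MulAut.conj (aG ^ i')) := by
      rw [map_inv] at h3
      rw [eq_inv_mul_iff_mul_eq]
      rw [inv_mul_eq_one] at h3
      exact h3.symm
    rw [h4]
    simp only [map_mul, map_inv]
  rw [h2]
  exact ⟨_, rfl⟩

end Cfsg.Agent.S2065
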