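-- Statement S2119: Aut(A_n) = S_n for n ≥ 4, n ≠ 6.
import Cfsg.Statements.S2119
import Cfsg.Agent.Lib.KnownSimple.ThreeCycles

set_option autoImplicit false
open Cfsg

namespace Cfsg.Agent.S2119

open Equiv Equiv.Perm Cfsg.Agent.Lib.KnownSimple.ThreeCycles

lemma numeric_big (j : ℕ) : 3 ^ (j + 2) * (j + 3).factorial < (3 * j + 6).factorial := by
  induction j with
  | zero => decide
  | succ j ih =>
    have e1 : 3 * (j + 1) + 6 = (3 * j + 6) + 3 := by ring
    rw [e1, Nat.factorial_succ (3 * j + 6 + 2), Nat.factorial_succ (3 * j + 6 + 1),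
      Nat.factorial_succ (3 * j + 6), Nat.factorial_succ (j + 3)]
    have e2 : 3 ^ (j + 1 + 2) * ((j + 3 + 1) * (j + 3).factorial) =
        (3 * (j + 4)) * (3 ^ (j + 2) * (j + 3).factorial) := by ring
    rw [show j + 1 + 3 = j + 3 + 1 by ring, e2]
    have e3 : (3 * (j + 4)) * (3 ^ (j + 2) * (j + 3).factorial)
        < (3 * (j + 4)) * (3 * j + 6).factorial :=
      Nat.mul_lt_mul_of_pos_left ih (by positivity)
    refine lt_of_lt_of_le e3 ?_
    have e4 : (3 * (j + 4)) ≤ (3 * j + 6 + 2 + 1) * ((3 * j + 6 + 1 + 1) * (3 * j + 6 + 1)) := by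
      have h2 : 2 ≤ (3 * j + 6 + 1 + 1) * (3 * j + 6 + 1) :=
        le_trans (by omega) (Nat.le_mul_of_pos_right _ (by omega))
      calc 3 * (j + 4) ≤ (3 * j + 6 + 2 + 1) * 2 := by omega
        _ ≤ _ := Nat.mul_le_mul_left _ h2
    calc 3 * (j + 4) * (3 * j + 6).factorial
        ≤ ((3 * j + 6 + 2 + 1) * ((3 * j + 6 + 1 + 1) * (3 * j + 6 + 1))) * (3 * j + 6).factorial :=
          Nat.mul_le_mul_right _ e4
      _ = _ := by ring

/-- The centraliser orders of a 3-cycle and of a product of `k ≥ 2` disjoint 3-cycles differ. -/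
lemma numeric {n k : ℕ} (hk : 2 ≤ k) (h3k : 3 * k ≤ n) (hn : n ≠ 6) :
    (n - 3).factorial * 3 ≠ (n - 3 * k).factorial * 3 ^ k * k.factorial := by
  obtain ⟨m, rfl⟩ := Nat.exists_eq_add_of_le h3k
  have e0 : 3 * k + m - 3 * k = m := by omega
  rw [e0]
  rcases Nat.lt_or_ge k 3 with h | h
  · have hk2 : k = 2 := by omega
    subst hk2
    have hm : 1 ≤ m := by omega
    have e1 : 3 * 2 + m - 3 = m + 3 := by omega
    rw [e1, Nat.factorial_succ (m + 2), Nat.factorial_succ (m + 1), Nat.factorial_succ m]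
    have hpos := Nat.factorial_pos m
    intro e
    have e2 : ((m + 2 + 1) * ((m + 1 + 1) * (m + 1)) * 3) * m.factorial = 18 * m.factorial := by
      simp only [pow_two, Nat.factorial] at e
      nlinarith
    have e3 := Nat.eq_of_mul_eq_mul_right hpos e2
    have h24 : 4 * (3 * 2) ≤ (m + 2 + 1) * ((m + 1 + 1) * (m + 1)) :=
      Nat.mul_le_mul (by omega) (Nat.mul_le_mul (by omega) (by omega))
    omega
  · obtain ⟨j, rfl⟩ := Nat.exists_eq_add_of_le h
    have e1 : 3 * (3 + j) + m - 3 = m + (3 * j + 6) := by omega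
    rw [e1]
    intro e
    have h1 := numeric_big j
    have h2 : m.factorial * (3 * j + 6).factorial ≤ (m + (3 * j + 6)).factorial :=
      Nat.le_of_dvd (Nat.factorial_pos _) (Nat.factorial_mul_factorial_dvd_factorial_add _ _)
    have hpos := Nat.factorial_pos m
    have e5 : m.factorial * 3 ^ (3 + j) * (3 + j).factorial
        = 3 * (m.factorial * (3 ^ (j + 2) * (j + 3).factorial)) := by
      rw [show 3 + j = j + 3 by ring, pow_succ' 3 (j + 2)]
      ring
    rw [e5] at e
    have e6 : (m + (3 * j + 6)).factorial = m.factorial * (3 ^ (j + 2) * (j + 3).factorial) := by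
      omega
    have : m.factorial * (3 ^ (j + 2) * (j + 3).factorial) < m.factorial * (3 * j + 6).factorial :=
      Nat.mul_lt_mul_of_pos_left h1 hpos
    omega

section cent

variable {α : Type*} [DecidableEq α] [Fintype α]

lemma card_centralizer_alt (g : alternatingGroup α)
    (h : ¬ Subgroup.centralizer {(g : Perm α)} ≤ alternatingGroup α) :
    Nat.card (Subgroup.centralizer {g}) * 2 = Nat.card (Subgroup.centralizer {(g : Perm α)}) := by
  set C := Subgroup.centralizer {(g : Perm α)} with hC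
  let f : C →* ℤˣ := Equiv.Perm.sign.comp C.subtype
  have hf : Function.Surjective f := by
    intro u
    rcases Int.units_eq_one_or u with rfl | rfl
    · exact ⟨1, map_one f⟩
    · obtain ⟨s, hs, hs'⟩ := SetLike.not_le_iff_exists.mp h
      refine ⟨⟨s, hs⟩, ?_⟩
      rcases Int.units_eq_one_or (sign s) with e | e
      · exact absurd e hs'
      · exact e
  have h1 : f.ker.index = 2 := by
    rw [Subgroup.index_ker, MonoidHom.range_eq_top.mpr hf]
    simp
  have h2 := Subgroup.card_mul_index f.ker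
  rw [h1] at h2
  rw [← h2]
  congr 1
  refine Nat.card_congr ⟨fun y => ⟨⟨y.1.1, ?_⟩, ?_⟩, fun x => ⟨⟨x.1.1, ?_⟩, ?_⟩, ?_, ?_⟩
  · rw [hC, Subgroup.mem_centralizer_singleton_iff]
    have := Subgroup.mem_centralizer_singleton_iff.mp y.2
    exact congrArg Subtype.val this
  · rw [MonoidHom.mem_ker]
    exact y.1.2
  · have := x.2
    rw [MonoidHom.mem_ker] at this
    exact this
  · rw [Subgroup.mem_centralizer_singleton_iff]
    have := Subgroup.mem_centralizer_singleton_iff.mp x.1.2
    exact Subtype.ext this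
  · intro y; rfl
  · intro y; rfl

/-- Automorphisms of `A_n`, `n ≠ 6`, preserve 3-cycles. -/
lemma three_cycle_of_aut (hn : Fintype.card α ≠ 6) (φ : MulAut (alternatingGroup α))
    (x : alternatingGroup α) (hx : (x : Perm α).IsThreeCycle) :
    ((φ x : alternatingGroup α) : Perm α).IsThreeCycle := by
  set y := φ x with hy
  have hoy : orderOf (y : Perm α) = 3 := by
    rw [Subgroup.orderOf_coe, hy, MulEquiv.orderOf_eq, ← Subgroup.orderOf_coe, hx.orderOf]
  have hcy : ∀ m ∈ (y : Perm α).cycleType, m = 3 := by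
    intro m hm
    have h1 := dvd_of_mem_cycleType hm
    rw [hoy] at h1
    have h2 := two_le_of_mem_cycleType hm
    rcases (Nat.dvd_prime Nat.prime_three).mp h1 with e | e <;> omega
  set k := Multiset.card (y : Perm α).cycleType with hk
  have hrep : (y : Perm α).cycleType = Multiset.replicate k 3 :=
    Multiset.eq_replicate_card.mpr hcy
  have hk0 : k ≠ 0 := by
    intro e
    rw [e, Multiset.replicate_zero, cycleType_eq_zero] at hrep
    rw [hrep] at hoy
    simp at hoy
  by_cases hk1 : k = 1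
  · rw [IsThreeCycle, hrep, hk1, Multiset.replicate_one]
  exfalso
  have hk2 : 2 ≤ k := by omega
  have hsum : 3 * k ≤ Fintype.card α := by
    have h1 : (y : Perm α).cycleType.sum = 3 * k := by
      rw [hrep, Multiset.sum_replicate, smul_eq_mul, mul_comm]
    rw [← h1, sum_cycleType]
    exact Finset.card_le_univ _
  have hn7 : 7 ≤ Fintype.card α := by omega
  have hcard : Nat.card (Subgroup.centralizer {x}) = Nat.card (Subgroup.centralizer {y}) := by
    refine Nat.card_congr (Equiv.subtypeEquiv φ.toEquiv fun g => ?_)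
    simp only [Subgroup.mem_centralizer_singleton_iff]
    constructor
    · intro e
      have := congrArg φ e
      simpa [map_mul] using this
    · intro e
      apply φ.injective
      simpa [map_mul] using e
  have h1 := card_centralizer_alt x (by
    rw [centralizer_le_alternating_iff, hx.cycleType]
    simp only [Multiset.sum_singleton]
    omega)
  have h2 := card_centralizer_alt y (by
    rw [centralizer_le_alternating_iff, hrep]
    intro h
    have := h.2.2 3
    rw [Multiset.count_replicate_self] at this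
    omega)
  rw [hcard, h2, nat_card_centralizer, nat_card_centralizer, hrep, hx.cycleType] at h1
  have hne : (Multiset.replicate k 3).toFinset = {3} := by
    ext t
    simp [Multiset.mem_replicate, hk0]
  rw [hne] at h1
  simp [Multiset.count_replicate_self, Multiset.prod_replicate, Multiset.sum_replicate] at h1
  exact numeric hk2 hsum hn (by simpa [mul_comm] using h1.symm)

end cent

lemma exists_out {n : ℕ} (s : Finset (Fin n)) (hs : s.card < n) : ∃ c, c ∉ s := by
  by_contra hcon
  push Not at hcon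
  have : s = Finset.univ := Finset.eq_univ_iff_forall.mpr hcon
  rw [this, Finset.card_univ, Fintype.card_fin] at hs
  omega

lemma conj_injective {n : ℕ} (hn : 4 ≤ n) :
    Function.Injective (MulAut.conjNormal : Equiv.Perm (Fin n) →* MulAut ↥(alternatingGroup (Fin n))) := by
  rw [injective_iff_map_eq_one]
  intro g hg
  by_contra hne
  obtain ⟨a, ha⟩ : ∃ a, g a ≠ a := by
    by_contra hno
    push Not at hno
    exact hne (Equiv.ext hno)
  obtain ⟨c, hc⟩ := exists_out ({a, g a} : Finset (Fin n))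
    (lt_of_le_of_lt (Finset.card_le_two) (by omega))
  obtain ⟨d, hd⟩ := exists_out ({a, g a, c} : Finset (Fin n))
    (lt_of_le_of_lt (Finset.card_le_three) (by omega))
  simp only [Finset.mem_insert, Finset.mem_singleton, not_or] at hc hd
  have ac : a ≠ c := fun e => hc.1 e.symm
  have ad : a ≠ d := fun e => hd.1 e.symm
  have cd : c ≠ d := fun e => hd.2.2 e.symm
  have h3 := isThreeCycle_cyc ac ad cd
  let x : alternatingGroup (Fin n) := ⟨cyc a c d, h3.mem_alternatingGroup⟩
  have h1 : g * cyc a c d * g⁻¹ = cyc a c d := by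
    have := MulAut.conjNormal_apply g x
    rw [hg] at this
    exact this.symm
  have h2 : g * cyc a c d = cyc a c d * g := mul_inv_eq_iff_eq_mul.mp h1
  have h4 := congrArg (fun f : Perm (Fin n) => f a) h2
  simp only [Perm.mul_apply] at h4
  rw [cyc_left ac ad, cyc_of_ne ha (Ne.symm hc.2) (Ne.symm hd.2.1)] at h4
  exact ac (g.injective h4.symm)

theorem result (n : ℕ) (hn : 4 ≤ n) (h6 : n ≠ 6) : Function.Bijective (MulAut.conjNormal : Equiv.Perm (Fin n) →* MulAut ↥(alternatingGroup (Fin n))) := by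
  refine ⟨conj_injective hn, fun φ => ?_⟩
  let a₀ : Fin n := ⟨0, by omega⟩
  let b₀ : Fin n := ⟨1, by omega⟩
  let i₀ : Fin n := ⟨2, by omega⟩
  let j₀ : Fin n := ⟨3, by omega⟩
  have hab₀ : a₀ ≠ b₀ := by simp [a₀, b₀, Fin.ext_iff]
  have hai₀ : a₀ ≠ i₀ := by simp [a₀, i₀, Fin.ext_iff]
  have haj₀ : a₀ ≠ j₀ := by simp [a₀, j₀, Fin.ext_iff]
  have hbi₀ : b₀ ≠ i₀ := by simp [b₀, i₀, Fin.ext_iff]
  have hbj₀ : b₀ ≠ j₀ := by simp [b₀, j₀, Fin.ext_iff]
  have hij₀ : i₀ ≠ j₀ := by simp [i₀, j₀, Fin.ext_iff]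
  -- the generators
  let C : (i : Fin n) → a₀ ≠ i → b₀ ≠ i → alternatingGroup (Fin n) := fun i h h' =>
    ⟨cyc a₀ b₀ i, (isThreeCycle_cyc hab₀ h h').mem_alternatingGroup⟩
  have hC3 : ∀ i h h', ((φ (C i h h') : alternatingGroup (Fin n)) : Perm (Fin n)).IsThreeCycle :=
    fun i h h' => three_cycle_of_aut (by simpa using h6) φ _ (isThreeCycle_cyc hab₀ h h')
  have hadj : ∀ i j h h' k k', i ≠ j →
      (((φ (C i h h') : alternatingGroup (Fin n)) : Perm (Fin n)) *
        ((φ (C j k k') : alternatingGroup (Fin n)) : Perm (Fin n))) ^ 2 = 1 := by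
    intro i j h h' k k' ij
    have h1 : (C i h h' * C j k k') ^ 2 = 1 := Subtype.ext (cyc_adj hab₀ h k h' k' ij)
    have h2 := congrArg φ h1
    rw [map_pow, map_mul, map_one] at h2
    exact congrArg Subtype.val h2
  have hadj' : ∀ i j h h' k k', i ≠ j →
      ((φ (C i h h') : alternatingGroup (Fin n)) : Perm (Fin n)) *
        ((φ (C j k k') : alternatingGroup (Fin n)) : Perm (Fin n)) ≠ 1 := by
    intro i j h h' k k' ij e
    have h1 : φ (C i h h') * φ (C j k k') = 1 := Subtype.ext e
    rw [← map_mul, map_eq_one_iff φ φ.injective] at h1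
    exact cyc_adj_ne hab₀ h k h' (congrArg Subtype.val h1)
  obtain ⟨a, b, c, d, ab, ac, ad, bc, bd, cd, hxc, hyd⟩ :=
    adj_form (hC3 i₀ hai₀ hbi₀) (hC3 j₀ haj₀ hbj₀) (hadj i₀ j₀ hai₀ hbi₀ haj₀ hbj₀ hij₀) (hadj' i₀ j₀ hai₀ hbi₀ haj₀ hbj₀ hij₀)
  -- all images have the form (a b e)
  have hall : ∀ i (h : a₀ ≠ i) (h' : b₀ ≠ i), ∃ e, ((φ (C i h h') : alternatingGroup (Fin n)) :
      Perm (Fin n)) = cyc a b e ∧ a ≠ e ∧ b ≠ e := by
    intro i h h'
    by_cases hi : i = i₀
    · subst hi
      exact ⟨c, hxc, ac, bc⟩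
    by_cases hj : i = j₀
    · subst hj
      exact ⟨d, hyd, ad, bd⟩
    have h1 := hadj i₀ i hai₀ hbi₀ h h' (Ne.symm hi)
    have h2 := hadj' i₀ i hai₀ hbi₀ h h' (Ne.symm hi)
    have h3 := hadj j₀ i haj₀ hbj₀ h h' (Ne.symm hj)
    rw [hxc] at h1 h2
    rw [hyd] at h3
    obtain ⟨e, he, e1, e2, _, _⟩ := triangle ab ac ad bc bd cd (hC3 i h h') h1 h2 h3
    exact ⟨e, he, e1, e2⟩
  -- define the permutation
  have hf : ∀ t : Fin n, ∃ v : Fin n, (t = a₀ → v = a) ∧ (t = b₀ → v = b) ∧
      ∀ (h : a₀ ≠ t) (h' : b₀ ≠ t), ((φ (C t h h') : alternatingGroup (Fin n)) :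
      Perm (Fin n)) = cyc a b v ∧ a ≠ v ∧ b ≠ v := by
    intro t
    by_cases t1 : t = a₀
    · exact ⟨a, fun _ => rfl, fun e => absurd (t1.symm.trans e) hab₀, fun h => absurd t1.symm h⟩
    by_cases t2 : t = b₀
    · exact ⟨b, fun e => absurd (t2.symm.trans e) hab₀.symm, fun _ => rfl, fun _ h => absurd t2.symm h⟩
    obtain ⟨e, he⟩ := hall t (Ne.symm t1) (Ne.symm t2)
    exact ⟨e, fun e' => absurd e' t1, fun e' => absurd e' t2, fun _ _ => he⟩
  choose f hfa hfb hfo using hf
  have hf0 : f a₀ = a := hfa _ rfl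
  have hf1 : f b₀ = b := hfb _ rfl
  have hfinj : Function.Injective f := by
    have key : ∀ t t' : Fin n, f t = f t' → t = a₀ → t' = a₀ := by
      intro t t' e ht
      rw [ht, hf0] at e
      by_contra hne
      by_cases h2 : t' = b₀
      · rw [h2, hf1] at e
        exact ab e
      · exact (hfo t' (Ne.symm hne) (Ne.symm h2)).2.1 e
    have key' : ∀ t t' : Fin n, f t = f t' → t = b₀ → t' = b₀ := by
      intro t t' e ht
      rw [ht, hf1] at e
      by_contra hne
      by_cases h2 : t' = a₀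
      · rw [h2, hf0] at e
        exact ab e.symm
      · exact (hfo t' (Ne.symm h2) (Ne.symm hne)).2.2 e
    intro t t' e
    by_cases h1 : t = a₀
    · rw [h1, key t t' e h1]
    by_cases h2 : t = b₀
    · rw [h2, key' t t' e h2]
    have h1' : t' ≠ a₀ := fun h => h1 (key t' t e.symm h)
    have h2' : t' ≠ b₀ := fun h => h2 (key' t' t e.symm h)
    have e1 := (hfo t (Ne.symm h1) (Ne.symm h2)).1
    have e2 := (hfo t' (Ne.symm h1') (Ne.symm h2')).1
    rw [e, ← e2] at e1
    have e3 : φ (C t (Ne.symm h1) (Ne.symm h2)) = φ (C t' (Ne.symm h1') (Ne.symm h2')) :=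
      Subtype.ext e1
    have e4 := congrArg Subtype.val (φ.injective e3)
    have e5 := congrArg (fun g : Perm (Fin n) => g b₀) e4
    simp only [C] at e5
    rwa [cyc_mid (Ne.symm h1).symm.symm (Ne.symm h2), cyc_mid (Ne.symm h1') (Ne.symm h2')] at e5
  let π : Perm (Fin n) := Equiv.ofBijective f (Finite.injective_iff_bijective.mp hfinj)
  have hπ : ∀ t, π t = f t := fun t => rfl
  refine ⟨π, ?_⟩
  -- agreement on generators
  let E : Subgroup (alternatingGroup (Fin n)) :=
    MonoidHom.eqLocus (MulAut.conjNormal π : MulAut (alternatingGroup (Fin n))).toMonoidHom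
      φ.toMonoidHom
  have hgen : ∀ i h h', C i h h' ∈ E := by
    intro i h h'
    apply Subtype.ext
    change ((MulAut.conjNormal π (C i h h') : alternatingGroup (Fin n)) : Perm (Fin n)) = _
    rw [MulAut.conjNormal_apply]
    change π * cyc a₀ b₀ i * π⁻¹ = _
    rw [conj_cyc, hπ, hπ, hπ, hf0, hf1]
    exact ((hfo i h h').1).symm
  have hcl : Subgroup.closure {g : Perm (Fin n) | ∃ i, a₀ ≠ i ∧ b₀ ≠ i ∧ g = cyc a₀ b₀ i} ≤
      E.map (alternatingGroup (Fin n)).subtype := by
    rw [Subgroup.closure_le]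
    rintro _ ⟨i, h, h', rfl⟩
    exact ⟨C i h h', hgen i h h', rfl⟩
  have htop : alternatingGroup (Fin n) ≤
      Subgroup.closure {g : Perm (Fin n) | ∃ i, a₀ ≠ i ∧ b₀ ≠ i ∧ g = cyc a₀ b₀ i} := by
    rw [← closure_three_cycles_eq_alternating, Subgroup.closure_le]
    intro x hx
    exact mem_closure_cyc hab₀ hx
  refine MulEquiv.ext fun y => ?_
  have hy : (y : Perm (Fin n)) ∈ E.map (alternatingGroup (Fin n)).subtype := hcl (htop y.2)
  obtain ⟨z, hz, hzy⟩ := hy
  have hzy' : z = y := Subtype.ext hzy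
  subst hzy'
  exact hz

end Cfsg.Agent.S2119
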