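import Cfsg.Statements.S2161
import Cfsg.Agent.Lib.Chev.Sub.GraphRoot
-- import your own Cfsg.Agent.* helpers here

set_option autoImplicit false
open Cfsg

namespace Cfsg.Agent.S2161

set_option maxRecDepth 100000 in
set_option synthInstance.maxSize 1000 in
set_option synthInstance.maxHeartbeats 200000 in
set_option backward.isDefEq.respectTransparency false in
theorem chk_D4 : ∀ π : Equiv.Perm (Fin Cfsg.Lie.chevD4.rank), Cfsg.Lie.chevD4.IsDiagramSymmetry π →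
    (∀ r, r < Cfsg.Lie.chevD4.nroots → Cfsg.Lie.chevD4.permRoot π r < Cfsg.Lie.chevD4.nroots) ∧
    (∀ i : Fin Cfsg.Lie.chevD4.rank, Cfsg.Lie.chevD4.permRoot π (Cfsg.Lie.chevD4.simple i) = Cfsg.Lie.chevD4.simple (π i)) ∧
    (∀ i : Fin Cfsg.Lie.chevD4.rank, Cfsg.Lie.chevD4.permRoot π (Cfsg.Lie.chevD4.neg (Cfsg.Lie.chevD4.simple i)) = Cfsg.Lie.chevD4.neg (Cfsg.Lie.chevD4.simple (π i))) ∧
    (∀ i : Fin Cfsg.Lie.chevD4.rank, ∀ r, r < Cfsg.Lie.chevD4.nroots →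
      Cfsg.Lie.chevD4.permRoot π (Cfsg.Agent.Lib.Chev.TabD4.good2.W i r) = Cfsg.Agent.Lib.Chev.TabD4.good2.W (π i) (Cfsg.Lie.chevD4.permRoot π r)) := by
  unfold Cfsg.Lie.ChevalleyDatum.IsDiagramSymmetry
  decide +kernel

set_option maxRecDepth 100000 in
set_option synthInstance.maxSize 1000 in
set_option synthInstance.maxHeartbeats 200000 in
set_option backward.isDefEq.respectTransparency false in
theorem chk_E6 : ∀ π : Equiv.Perm (Fin Cfsg.Lie.chevE6.rank), Cfsg.Lie.chevE6.IsDiagramSymmetry π →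
    (∀ r, r < Cfsg.Lie.chevE6.nroots → Cfsg.Lie.chevE6.permRoot π r < Cfsg.Lie.chevE6.nroots) ∧
    (∀ i : Fin Cfsg.Lie.chevE6.rank, Cfsg.Lie.chevE6.permRoot π (Cfsg.Lie.chevE6.simple i) = Cfsg.Lie.chevE6.simple (π i)) ∧
    (∀ i : Fin Cfsg.Lie.chevE6.rank, Cfsg.Lie.chevE6.permRoot π (Cfsg.Lie.chevE6.neg (Cfsg.Lie.chevE6.simple i)) = Cfsg.Lie.chevE6.neg (Cfsg.Lie.chevE6.simple (π i))) ∧
    (∀ i : Fin Cfsg.Lie.chevE6.rank, ∀ r, r < Cfsg.Lie.chevE6.nroots →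
      Cfsg.Lie.chevE6.permRoot π (Cfsg.Agent.Lib.Chev.TabE6.good2.W i r) = Cfsg.Agent.Lib.Chev.TabE6.good2.W (π i) (Cfsg.Lie.chevE6.permRoot π r)) := by
  unfold Cfsg.Lie.ChevalleyDatum.IsDiagramSymmetry
  decide +kernel



/-- For the Chevalley groups of types D₄ and E₆ (one root length) over any field: if `π` is a symmetry of the Dynkin diagram and `φ` is an automorphism sending `x_{p_i}(t)` to `x_{p_{π i}}(t)` and `x_{-p_i}(t)` to `x_{-p_{π i}}(t)` for every fundamental root `p_i`, then for every root `r` there is a sign `ε = ±1` with `φ(x_r(t)) = x_{π·r}(ε t)` for all `t`, where `π·r` is the root whose coefficients are those of `r` permuted by `π`. -/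
theorem result {F : Type*} [Field F] (D : Cfsg.Lie.ChevalleyDatum) (hD : D ∈ [Cfsg.Lie.chevD4, Cfsg.Lie.chevE6])
    (π : Equiv.Perm (Fin D.rank)) (hπ : D.IsDiagramSymmetry π) (φ : ↥(D.group F) ≃* ↥(D.group F))
    (hφ : ∀ (g : ↥(D.group F)) (i : Fin D.rank) (t : F),
      (((g : GL D.Idx F) : Matrix D.Idx D.Idx F) = D.x F (D.simple i) t →
        ((φ g : GL D.Idx F) : Matrix D.Idx D.Idx F) = D.x F (D.simple (π i)) t) ∧
      (((g : GL D.Idx F) : Matrix D.Idx D.Idx F) = D.x F (D.neg (D.simple i)) t →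
        ((φ g : GL D.Idx F) : Matrix D.Idx D.Idx F) = D.x F (D.neg (D.simple (π i))) t))
    (r : ℕ) (hr : r < D.nroots) :
    ∃ ε : F, (ε = 1 ∨ ε = -1) ∧ ∀ (g : ↥(D.group F)) (t : F),
      ((g : GL D.Idx F) : Matrix D.Idx D.Idx F) = D.x F r t →
        ((φ g : GL D.Idx F) : Matrix D.Idx D.Idx F) = D.x F (D.permRoot π r) (ε * t) := by
  simp only [List.mem_cons, List.not_mem_nil, or_false] at hD
  rcases hD with rfl | rfl
  · obtain ⟨h1, h2, h3, h4⟩ := chk_D4 π hπ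
    exact (⟨h1, h2, h3, h4⟩ : Cfsg.Agent.Lib.Chev.GraphPerm Cfsg.Agent.Lib.Chev.TabD4.good2 π).main φ hφ r hr
  · obtain ⟨h1, h2, h3, h4⟩ := chk_E6 π hπ
    exact (⟨h1, h2, h3, h4⟩ : Cfsg.Agent.Lib.Chev.GraphPerm Cfsg.Agent.Lib.Chev.TabE6.good2 π).main φ hφ r hr

end Cfsg.Agent.S2161
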