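import Cfsg.Statements.S2186
import Cfsg.Agent.Lib.Chev.Sub.High
import Cfsg.Agent.Lib.Chev.All2
-- import your own Cfsg.Agent.* helpers here

set_option autoImplicit false
open Cfsg

namespace Cfsg.Agent.S2186

set_option maxRecDepth 100000 in
set_option synthInstance.maxSize 1000 in
set_option synthInstance.maxHeartbeats 200000 in
set_option backward.isDefEq.respectTransparency false in
theorem chkA_G2 : ∀ s, s < Cfsg.Lie.chevG2.nroots → s ≠ Cfsg.Lie.chevG2.neg (Cfsg.Lie.chevG2.nroots - 1) →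
    Cfsg.Agent.Lib.Chev.pairUp Cfsg.Agent.Lib.Chev.TabG2.good2.W Cfsg.Lie.chevG2.cartan Cfsg.Lie.chevG2.rank (Cfsg.Agent.Lib.Chev.Good2.NN Cfsg.Lie.chevG2) 1 2 100 (Cfsg.Lie.chevG2.nroots - 1) s = true := by
  decide +kernel

set_option maxRecDepth 100000 in
set_option synthInstance.maxSize 1000 in
set_option synthInstance.maxHeartbeats 200000 in
set_option backward.isDefEq.respectTransparency false in
theorem chkB_G2 : ∀ s, s < Cfsg.Lie.chevG2.nroots → Cfsg.Agent.Lib.Chev.Good2.NN Cfsg.Lie.chevG2 ≤ s → s ≠ Cfsg.Lie.chevG2.nroots - 1 → Cfsg.Lie.chevG2.commTerms (Cfsg.Lie.chevG2.nroots - 1) s = [] := by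
  decide +kernel

theorem chkC_G2 : Cfsg.Lie.chevG2.nroots - 1 < Cfsg.Lie.chevG2.nroots ∧ Cfsg.Agent.Lib.Chev.Good2.NN Cfsg.Lie.chevG2 ≤ Cfsg.Lie.chevG2.nroots - 1 ∧ Cfsg.Lie.chevG2.neg (Cfsg.Lie.chevG2.nroots - 1) = 0 := by
  decide +kernel

set_option maxRecDepth 100000 in
set_option synthInstance.maxSize 1000 in
set_option synthInstance.maxHeartbeats 200000 in
set_option backward.isDefEq.respectTransparency false in
theorem chkA_D4 : ∀ s, s < Cfsg.Lie.chevD4.nroots → s ≠ Cfsg.Lie.chevD4.neg (Cfsg.Lie.chevD4.nroots - 1) →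
    Cfsg.Agent.Lib.Chev.pairUp Cfsg.Agent.Lib.Chev.TabD4.good2.W Cfsg.Lie.chevD4.cartan Cfsg.Lie.chevD4.rank (Cfsg.Agent.Lib.Chev.Good2.NN Cfsg.Lie.chevD4) 1 2 100 (Cfsg.Lie.chevD4.nroots - 1) s = true := by
  decide +kernel

set_option maxRecDepth 100000 in
set_option synthInstance.maxSize 1000 in
set_option synthInstance.maxHeartbeats 200000 in
set_option backward.isDefEq.respectTransparency false in
theorem chkB_D4 : ∀ s, s < Cfsg.Lie.chevD4.nroots → Cfsg.Agent.Lib.Chev.Good2.NN Cfsg.Lie.chevD4 ≤ s → s ≠ Cfsg.Lie.chevD4.nroots - 1 → Cfsg.Lie.chevD4.commTerms (Cfsg.Lie.chevD4.nroots - 1) s = [] := by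
  decide +kernel

theorem chkC_D4 : Cfsg.Lie.chevD4.nroots - 1 < Cfsg.Lie.chevD4.nroots ∧ Cfsg.Agent.Lib.Chev.Good2.NN Cfsg.Lie.chevD4 ≤ Cfsg.Lie.chevD4.nroots - 1 ∧ Cfsg.Lie.chevD4.neg (Cfsg.Lie.chevD4.nroots - 1) = 0 := by
  decide +kernel

set_option maxRecDepth 100000 in
set_option synthInstance.maxSize 1000 in
set_option synthInstance.maxHeartbeats 200000 in
set_option backward.isDefEq.respectTransparency false in
theorem chkA_E6 : ∀ s, s < Cfsg.Lie.chevE6.nroots → s ≠ Cfsg.Lie.chevE6.neg (Cfsg.Lie.chevE6.nroots - 1) →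
    Cfsg.Agent.Lib.Chev.pairUp Cfsg.Agent.Lib.Chev.TabE6.good2.W Cfsg.Lie.chevE6.cartan Cfsg.Lie.chevE6.rank (Cfsg.Agent.Lib.Chev.Good2.NN Cfsg.Lie.chevE6) 1 2 100 (Cfsg.Lie.chevE6.nroots - 1) s = true := by
  decide +kernel

set_option maxRecDepth 100000 in
set_option synthInstance.maxSize 1000 in
set_option synthInstance.maxHeartbeats 200000 in
set_option backward.isDefEq.respectTransparency false in
theorem chkB_E6 : ∀ s, s < Cfsg.Lie.chevE6.nroots → Cfsg.Agent.Lib.Chev.Good2.NN Cfsg.Lie.chevE6 ≤ s → s ≠ Cfsg.Lie.chevE6.nroots - 1 → Cfsg.Lie.chevE6.commTerms (Cfsg.Lie.chevE6.nroots - 1) s = [] := by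
  decide +kernel

theorem chkC_E6 : Cfsg.Lie.chevE6.nroots - 1 < Cfsg.Lie.chevE6.nroots ∧ Cfsg.Agent.Lib.Chev.Good2.NN Cfsg.Lie.chevE6 ≤ Cfsg.Lie.chevE6.nroots - 1 ∧ Cfsg.Lie.chevE6.neg (Cfsg.Lie.chevE6.nroots - 1) = 0 := by
  decide +kernel

set_option maxRecDepth 100000 in
set_option synthInstance.maxSize 1000 in
set_option synthInstance.maxHeartbeats 200000 in
set_option backward.isDefEq.respectTransparency false in
theorem chkA_E7 : ∀ s, s < Cfsg.Lie.chevE7.nroots → s ≠ Cfsg.Lie.chevE7.neg (Cfsg.Lie.chevE7.nroots - 1) →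
    Cfsg.Agent.Lib.Chev.pairUp Cfsg.Agent.Lib.Chev.TabE7.good2.W Cfsg.Lie.chevE7.cartan Cfsg.Lie.chevE7.rank (Cfsg.Agent.Lib.Chev.Good2.NN Cfsg.Lie.chevE7) 1 2 100 (Cfsg.Lie.chevE7.nroots - 1) s = true := by
  decide +kernel

set_option maxRecDepth 100000 in
set_option synthInstance.maxSize 1000 in
set_option synthInstance.maxHeartbeats 200000 in
set_option backward.isDefEq.respectTransparency false in
theorem chkB_E7 : ∀ s, s < Cfsg.Lie.chevE7.nroots → Cfsg.Agent.Lib.Chev.Good2.NN Cfsg.Lie.chevE7 ≤ s → s ≠ Cfsg.Lie.chevE7.nroots - 1 → Cfsg.Lie.chevE7.commTerms (Cfsg.Lie.chevE7.nroots - 1) s = [] := by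
  decide +kernel

theorem chkC_E7 : Cfsg.Lie.chevE7.nroots - 1 < Cfsg.Lie.chevE7.nroots ∧ Cfsg.Agent.Lib.Chev.Good2.NN Cfsg.Lie.chevE7 ≤ Cfsg.Lie.chevE7.nroots - 1 ∧ Cfsg.Lie.chevE7.neg (Cfsg.Lie.chevE7.nroots - 1) = 0 := by
  decide +kernel

set_option maxRecDepth 100000 in
set_option synthInstance.maxSize 1000 in
set_option synthInstance.maxHeartbeats 200000 in
set_option backward.isDefEq.respectTransparency false in
theorem chkA_E8 : ∀ s, s < Cfsg.Lie.chevE8.nroots → s ≠ Cfsg.Lie.chevE8.neg (Cfsg.Lie.chevE8.nroots - 1) →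
    Cfsg.Agent.Lib.Chev.pairUp Cfsg.Agent.Lib.Chev.TabE8.good2.W Cfsg.Lie.chevE8.cartan Cfsg.Lie.chevE8.rank (Cfsg.Agent.Lib.Chev.Good2.NN Cfsg.Lie.chevE8) 1 2 100 (Cfsg.Lie.chevE8.nroots - 1) s = true := by
  decide +kernel

set_option maxRecDepth 100000 in
set_option synthInstance.maxSize 1000 in
set_option synthInstance.maxHeartbeats 200000 in
set_option backward.isDefEq.respectTransparency false in
theorem chkB_E8 : ∀ s, s < Cfsg.Lie.chevE8.nroots → Cfsg.Agent.Lib.Chev.Good2.NN Cfsg.Lie.chevE8 ≤ s → s ≠ Cfsg.Lie.chevE8.nroots - 1 → Cfsg.Lie.chevE8.commTerms (Cfsg.Lie.chevE8.nroots - 1) s = [] := by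
  decide +kernel

theorem chkC_E8 : Cfsg.Lie.chevE8.nroots - 1 < Cfsg.Lie.chevE8.nroots ∧ Cfsg.Agent.Lib.Chev.Good2.NN Cfsg.Lie.chevE8 ≤ Cfsg.Lie.chevE8.nroots - 1 ∧ Cfsg.Lie.chevE8.neg (Cfsg.Lie.chevE8.nroots - 1) = 0 := by
  decide +kernel

theorem main_aux {F : Type*} [Field F] [Fintype F] [CharP F 2] {D : Cfsg.Lie.ChevalleyDatum} (G : Cfsg.Agent.Lib.Chev.Good2 D)
    (hA : ∀ s, s < D.nroots → s ≠ D.neg (D.nroots - 1) →
      Cfsg.Agent.Lib.Chev.pairUp G.W D.cartan D.rank (Cfsg.Agent.Lib.Chev.Good2.NN D) 1 2 100 (D.nroots - 1) s = true)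
    (hB : ∀ s, s < D.nroots → Cfsg.Agent.Lib.Chev.Good2.NN D ≤ s → s ≠ D.nroots - 1 → D.commTerms (D.nroots - 1) s = [])
    (hC : D.nroots - 1 < D.nroots ∧ Cfsg.Agent.Lib.Chev.Good2.NN D ≤ D.nroots - 1 ∧ D.neg (D.nroots - 1) = 0)
    (g : GL D.Idx F) (hg : g ∈ D.group F) :
    IsPGroup 2 ↥(D.rootSubgroup F (D.nroots - 1) ⊔ (D.rootSubgroup F (D.nroots - 1)).map (MulAut.conj g).toMonoidHom) ∨
    ∃ h ∈ D.group F, (D.rootSubgroup F (D.nroots - 1) ⊔ (D.rootSubgroup F (D.nroots - 1)).map (MulAut.conj g).toMonoidHom).map (MulAut.conj h).toMonoidHom = D.rootSubgroup F (D.nroots - 1) ⊔ D.rootSubgroup F 0 := by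
  obtain ⟨h1, h2, h3⟩ := hC
  have := G.pair_or_opp (p := 2) h1 (G.cen_of_terms h1 h2 hB)
    (fun s hs hn => G.pair_pgroup 2 1 2 100 _ _ h1 hs (hA s hs hn)) hg
  rw [h3] at this
  exact this


/-- Let G be the Chevalley group of type G₂ (over a field with at least four elements), D₄, E₆, E₇ or E₈ over a finite field F of characteristic two, and let X be the root subgroup of the highest root (the last root index) — a long root subgroup, of order |F|. For every g in G, the subgroup generated by X and its conjugate g X g⁻¹ is either a 2-group or is conjugate by an element of G to the subgroup generated by X and the root subgroup of the lowest root (index 0, the negative of the highest root), which is a copy of SL₂(F). -/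
theorem result {F : Type*} [Field F] [Fintype F] [CharP F 2] (D : Cfsg.Lie.ChevalleyDatum) (hD : D ∈ [Cfsg.Lie.chevG2, Cfsg.Lie.chevD4, Cfsg.Lie.chevE6, Cfsg.Lie.chevE7, Cfsg.Lie.chevE8]) (hF : D = Cfsg.Lie.chevG2 → 4 ≤ Fintype.card F) (g : GL D.Idx F) (hg : g ∈ D.group F) :
    IsPGroup 2 ↥(D.rootSubgroup F (D.nroots - 1) ⊔ (D.rootSubgroup F (D.nroots - 1)).map (MulAut.conj g).toMonoidHom) ∨
    ∃ h ∈ D.group F, (D.rootSubgroup F (D.nroots - 1) ⊔ (D.rootSubgroup F (D.nroots - 1)).map (MulAut.conj g).toMonoidHom).map (MulAut.conj h).toMonoidHom = D.rootSubgroup F (D.nroots - 1) ⊔ D.rootSubgroup F 0 := by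
  simp only [List.mem_cons, List.not_mem_nil, or_false] at hD
  rcases hD with rfl | rfl | rfl | rfl | rfl
  · exact main_aux Cfsg.Agent.Lib.Chev.TabG2.good2 chkA_G2 chkB_G2 chkC_G2 g hg
  · exact main_aux Cfsg.Agent.Lib.Chev.TabD4.good2 chkA_D4 chkB_D4 chkC_D4 g hg
  · exact main_aux Cfsg.Agent.Lib.Chev.TabE6.good2 chkA_E6 chkB_E6 chkC_E6 g hg
  · exact main_aux Cfsg.Agent.Lib.Chev.TabE7.good2 chkA_E7 chkB_E7 chkC_E7 g hg
  · exact main_aux Cfsg.Agent.Lib.Chev.TabE8.good2 chkA_E8 chkB_E8 chkC_E8 g hg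

end Cfsg.Agent.S2186
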