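import Cfsg.Statements.S2272

set_option autoImplicit false
open Cfsg

namespace Cfsg.Agent.S2272

open Matrix in
/-- A pair of independent vectors can be moved to two coordinate vectors by the special linear group. -/
theorem exists_sl_pair {F : Type*} [Field F] [Fintype F] {d : ℕ} {x y : Fin d → F} (hx : x ≠ 0) (hy : ∀ a : F, a • x ≠ y)
    {i₀ j k : Fin d} (hj : j ≠ i₀) (hk₀ : k ≠ i₀) (hkj : k ≠ j) :
    ∃ g : Matrix.SpecialLinearGroup (Fin d) F, (g : Matrix (Fin d) (Fin d) F) *ᵥ x = Pi.single i₀ 1 ∧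
      (g : Matrix (Fin d) (Fin d) F) *ᵥ y = Pi.single j 1 := by
  classical
  have hs : LinearIndepOn F id ({x, y} : Set (Fin d → F)) := linearIndepOn_id_pair hx hy
  let b := Module.Basis.extend hs
  have hsub := hs.subset_extend (Set.subset_univ _)
  let ix : ↥(hs.extend (Set.subset_univ _)) := ⟨x, hsub (by simp)⟩
  let iy : ↥(hs.extend (Set.subset_univ _)) := ⟨y, hsub (by simp)⟩
  have hne : ix ≠ iy := by
    intro h
    have : x = y := congrArg Subtype.val h
    exact hy 1 (by rw [one_smul]; exact this)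
  haveI : Finite ↥(hs.extend (Set.subset_univ _)) := Module.Finite.finite_basis b
  letI : Fintype ↥(hs.extend (Set.subset_univ _)) := Fintype.ofFinite _
  have hcard : Fintype.card ↥(hs.extend (Set.subset_univ _)) = Fintype.card (Fin d) := by
    rw [← Module.finrank_eq_card_basis b]
    simp
  let σ₀ : ↥(hs.extend (Set.subset_univ _)) ≃ Fin d := Fintype.equivOfCardEq hcard
  let τ₁ := Equiv.swap (σ₀ ix) i₀
  let a := τ₁ (σ₀ iy)
  have ha : a ≠ i₀ := by
    intro h
    have h1 : τ₁ (σ₀ ix) = i₀ := Equiv.swap_apply_left _ _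
    have h2 : τ₁ (σ₀ iy) = τ₁ (σ₀ ix) := by rw [h1]; exact h
    exact hne (σ₀.injective (τ₁.injective h2)).symm
  let τ₂ := Equiv.swap a j
  let σ := σ₀.trans (τ₁.trans τ₂)
  have hσx : σ ix = i₀ := by
    show τ₂ (τ₁ (σ₀ ix)) = i₀
    rw [Equiv.swap_apply_left]
    exact Equiv.swap_apply_of_ne_of_ne ha.symm hj.symm
  have hσy : σ iy = j := by
    show τ₂ a = j
    exact Equiv.swap_apply_left _ _
  let b' := b.reindex σ
  have hbx : b' i₀ = x := by
    rw [Module.Basis.reindex_apply, ← hσx, Equiv.symm_apply_apply]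
    exact Module.Basis.extend_apply_self hs ix
  have hby : b' j = y := by
    rw [Module.Basis.reindex_apply, ← hσy, Equiv.symm_apply_apply]
    exact Module.Basis.extend_apply_self hs iy
  let φ := b'.equivFun
  have hφ : ∀ i, φ (b' i) = Pi.single i 1 := by
    intro i
    ext l
    simp [φ, Module.Basis.equivFun_apply, Module.Basis.repr_self, Finsupp.single_apply, Pi.single_apply, eq_comm]
  let P : Matrix (Fin d) (Fin d) F := LinearMap.toMatrix' φ.toLinearMap
  let Q : Matrix (Fin d) (Fin d) F := LinearMap.toMatrix' φ.symm.toLinearMap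
  have hPQ : P * Q = 1 := by
    simp only [P, Q]
    rw [← LinearMap.toMatrix'_comp]
    simp
  have hdet : P.det ≠ 0 := by
    intro h0
    have := congrArg Matrix.det hPQ
    rw [Matrix.det_mul, h0, zero_mul, Matrix.det_one] at this
    exact zero_ne_one this
  have hPv : ∀ v, P *ᵥ v = φ v := fun v => LinearMap.toMatrix'_mulVec _ _
  let D : Matrix (Fin d) (Fin d) F := Matrix.diagonal (fun i => if i = k then (P.det)⁻¹ else 1)
  have hD : D.det = (P.det)⁻¹ := by
    simp only [D]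
    rw [Matrix.det_diagonal, Finset.prod_ite_eq' Finset.univ k]
    simp
  refine ⟨⟨D * P, by rw [Matrix.det_mul, hD, inv_mul_cancel₀ hdet]⟩, ?_, ?_⟩
  · show (D * P) *ᵥ x = _
    rw [← Matrix.mulVec_mulVec, hPv, ← hbx, hφ]
    simp only [D]
    rw [Matrix.diagonal_mulVec_single, if_neg hk₀.symm, one_mul]
  · show (D * P) *ᵥ y = _
    rw [← Matrix.mulVec_mulVec, hPv, ← hby, hφ]
    simp only [D]
    rw [Matrix.diagonal_mulVec_single, if_neg hkj.symm, one_mul]

/-- A transvection in the special linear group. -/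
noncomputable def tvSL {F : Type*} [Field F] {d : ℕ} (i j : Fin d) (hij : i ≠ j) (c : F) : Matrix.SpecialLinearGroup (Fin d) F :=
  ⟨Matrix.transvection i j c, Matrix.det_transvection_of_ne i j hij c⟩

theorem tvSL_coe {F : Type*} [Field F] {d : ℕ} (i j : Fin d) (hij : i ≠ j) (c : F) :
    ((tvSL i j hij c : Matrix.SpecialLinearGroup (Fin d) F) : Matrix (Fin d) (Fin d) F) = Matrix.transvection i j c := rfl

theorem tvSL_inv_coe {F : Type*} [Field F] {d : ℕ} (i j : Fin d) (hij : i ≠ j) (c : F) :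
    (((tvSL i j hij c)⁻¹ : Matrix.SpecialLinearGroup (Fin d) F) : Matrix (Fin d) (Fin d) F) = Matrix.transvection i j (-c) := by
  have h1 : tvSL i j hij c * tvSL i j hij (-c) = 1 := by
    apply Subtype.ext
    show Matrix.transvection i j c * Matrix.transvection i j (-c) = 1
    rw [Matrix.transvection_mul_transvection_same i j hij, add_neg_cancel, Matrix.transvection_zero]
  rw [inv_eq_of_mul_eq_one_right h1]
  rfl

theorem tr_single {F : Type*} [Field F] {d : ℕ} (M : Matrix (Fin d) (Fin d) F) (i j : Fin d) (a : F) :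
    (M * Matrix.single i j a).trace = a * M j i := by
  rw [Matrix.trace, Finset.sum_eq_single j]
  · simp [Matrix.mul_single_apply_same, mul_comm]
  · intro b _ hb
    simp [Matrix.mul_single_apply_of_ne, hb]
  · simp

theorem trace_conj {F : Type*} [Field F] {d : ℕ} (X Y : Matrix (Fin d) (Fin d) F) {i j : Fin d} (c : F) :
    (X * (Matrix.transvection i j c * Y * Matrix.transvection i j (-c))).trace =
      (X * Y).trace + c * ((Y * X) j i - (X * Y) j i) - c ^ 2 * (Y j i * X j i) := by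
  have hneg : Matrix.single i j (-c) = - Matrix.single i j c := by
    ext a b
    simp [Matrix.single_apply]
    split_ifs <;> simp
  set C := Matrix.single i j c with hC
  have e : X * ((1 + C) * Y * (1 + -C)) = X * Y + (Y * X) * C - (X * Y) * C - X * (C * Y * C) + (X * (C * Y) - (Y * X) * C) := by
    noncomm_ring
  have h1 : (X * (C * Y) - (Y * X) * C).trace = 0 := by
    rw [Matrix.trace_sub, Matrix.trace_mul_comm X (C * Y), Matrix.mul_assoc, Matrix.trace_mul_comm C (Y * X), sub_self]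
  have h2 : C * Y * C = Matrix.single i j (c * Y j i * c) := by
    rw [hC]
    exact Matrix.single_mul_mul_single _ _ _ _ _ _ _
  unfold Matrix.transvection
  rw [hneg, e, Matrix.trace_add, h1, add_zero, Matrix.trace_sub, Matrix.trace_sub, Matrix.trace_add, h2, hC, tr_single, tr_single, tr_single]
  ring

open Matrix in
theorem conj_trace {F : Type*} [Field F] [Fintype F] {d : ℕ} {U V : Matrix.SpecialLinearGroup (Fin d) F}
    (h : IsConj (U : Matrix.ProjectiveSpecialLinearGroup (Fin d) F) (V : Matrix.ProjectiveSpecialLinearGroup (Fin d) F)) :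
    ((U : Matrix (Fin d) (Fin d) F).trace) ^ d = ((V : Matrix (Fin d) (Fin d) F).trace) ^ d := by
  rw [isConj_iff] at h
  obtain ⟨c, hc⟩ := h
  obtain ⟨C, rfl⟩ := QuotientGroup.mk_surjective c
  rw [← QuotientGroup.mk_inv, ← QuotientGroup.mk_mul, ← QuotientGroup.mk_mul, QuotientGroup.eq] at hc
  obtain ⟨r, hr, hZ⟩ := Matrix.SpecialLinearGroup.mem_center_iff.mp hc
  set Z := (C * U * C⁻¹)⁻¹ * V with hZd
  have hV : V = (C * U * C⁻¹) * Z := by
    rw [hZd, mul_inv_cancel_left]
  have htr : (V : Matrix (Fin d) (Fin d) F).trace = r * (U : Matrix (Fin d) (Fin d) F).trace := by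
    rw [hV, Matrix.SpecialLinearGroup.coe_mul, ← hZ]
    have h1 : (Matrix.scalar (Fin d)) r = r • (1 : Matrix (Fin d) (Fin d) F) := by
      ext a b
      simp [Matrix.scalar_apply, Matrix.smul_apply, Matrix.one_apply, Matrix.diagonal_apply]
    rw [h1, Matrix.mul_smul, Matrix.mul_one, Matrix.trace_smul, smul_eq_mul]
    congr 1
    rw [Matrix.SpecialLinearGroup.coe_mul, Matrix.SpecialLinearGroup.coe_mul, Matrix.trace_mul_comm, ← Matrix.mul_assoc,
      ← Matrix.SpecialLinearGroup.coe_mul, inv_mul_cancel, Matrix.SpecialLinearGroup.coe_one, Matrix.one_mul]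
  rw [htr, mul_pow]
  have : r ^ d = 1 := by simpa using hr
  rw [this, one_mul]

open Matrix in
/-- A non-trivial element of the projective group has a lift moving a vector off its line. -/
theorem exists_moved {F : Type*} [Field F] [Fintype F] {d : ℕ} {A : Matrix.SpecialLinearGroup (Fin d) F}
    (hA : (A : Matrix.ProjectiveSpecialLinearGroup (Fin d) F) ≠ 1) :
    ∃ x : Fin d → F, x ≠ 0 ∧ ∀ a : F, a • x ≠ (A : Matrix (Fin d) (Fin d) F) *ᵥ x := by
  by_contra hcon
  push Not at hcon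
  apply hA
  rw [QuotientGroup.eq_one_iff]
  have h1 : ∀ v : Fin d → F, ¬ LinearIndependent F ![v, Matrix.toLin' (A : Matrix (Fin d) (Fin d) F) v] := by
    intro v hv
    have hv0 : v ≠ 0 := by
      intro h0
      have := hv.ne_zero 0
      simp [h0] at this
    obtain ⟨a, ha⟩ := hcon v hv0
    have h3 := LinearIndependent.pair_iff.mp hv a (-1) (by
      rw [Matrix.toLin'_apply, ← ha]
      simp)
    exact (one_ne_zero (α := F)) (by simpa using h3.2)
  obtain ⟨r, hr⟩ := LinearMap.exists_eq_smul_id_of_forall_notLinearIndependent h1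
  have h2 : (A : Matrix (Fin d) (Fin d) F) = (Matrix.scalar (Fin d)) r := by
    apply Matrix.toLin'.injective
    rw [hr]
    ext v i
    simp [Matrix.toLin'_apply, Matrix.scalar_apply, Matrix.mulVec_diagonal]
  refine Matrix.SpecialLinearGroup.mem_center_iff.mpr ⟨r, ?_, h2.symm⟩
  have h3 := A.2
  rw [h2] at h3
  simpa [Matrix.scalar_apply, Matrix.det_diagonal] using h3

open Matrix in
/-- The first column of a conjugate can be prescribed. -/
theorem exists_col {F : Type*} [Field F] [Fintype F] {d : ℕ} {A : Matrix.SpecialLinearGroup (Fin d) F}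
    (hA : (A : Matrix.ProjectiveSpecialLinearGroup (Fin d) F) ≠ 1) {i₀ j k : Fin d} (hj : j ≠ i₀) (hk₀ : k ≠ i₀) (hkj : k ≠ j) :
    ∃ g : Matrix.SpecialLinearGroup (Fin d) F, ∀ i, ((g * A * g⁻¹ : Matrix.SpecialLinearGroup (Fin d) F) : Matrix (Fin d) (Fin d) F) i i₀ = (Pi.single j 1 : Fin d → F) i := by
  obtain ⟨x, hx, hy⟩ := exists_moved hA
  obtain ⟨g, h1, h2⟩ := exists_sl_pair hx hy hj hk₀ hkj
  refine ⟨g, fun i => ?_⟩
  have h3 : ((g⁻¹ : Matrix.SpecialLinearGroup (Fin d) F) : Matrix (Fin d) (Fin d) F) *ᵥ (Pi.single i₀ 1) = x := by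
    rw [← h1, Matrix.mulVec_mulVec, ← Matrix.SpecialLinearGroup.coe_mul, inv_mul_cancel, Matrix.SpecialLinearGroup.coe_one, Matrix.one_mulVec]
  have h4 : ((g * A * g⁻¹ : Matrix.SpecialLinearGroup (Fin d) F) : Matrix (Fin d) (Fin d) F) *ᵥ (Pi.single i₀ 1) = Pi.single j 1 := by
    rw [Matrix.SpecialLinearGroup.coe_mul, Matrix.SpecialLinearGroup.coe_mul, ← Matrix.mulVec_mulVec, h3, ← Matrix.mulVec_mulVec, h2]
  have h5 := congrFun h4 i
  rw [Matrix.mulVec_single_one] at h5
  exact h5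


/-- Let F be a finite field and d ≥ 3, and let a, b be non-identity elements of PSL_d(F). Then the product of the conjugacy classes of a and b is not a single conjugacy class: there are conjugates a′ of a and b′ of b such that a′b′ is not conjugate to ab. -/
theorem result {F : Type*} [Field F] [Fintype F] (d : ℕ) (hd : 3 ≤ d)
    (a b : Matrix.ProjectiveSpecialLinearGroup (Fin d) F) (ha : a ≠ 1) (hb : b ≠ 1) :
    ∃ g h : Matrix.ProjectiveSpecialLinearGroup (Fin d) F, ¬ IsConj (a * b) (g * a * g⁻¹ * (h * b * h⁻¹)) := by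
  classical
  by_contra hcon
  push Not at hcon
  obtain ⟨A, rfl⟩ := QuotientGroup.mk_surjective a
  obtain ⟨B, rfl⟩ := QuotientGroup.mk_surjective b
  have key : ∀ g h : Matrix.SpecialLinearGroup (Fin d) F,
      (((g * A * g⁻¹ * (h * B * h⁻¹) : Matrix.SpecialLinearGroup (Fin d) F) : Matrix (Fin d) (Fin d) F).trace) ^ d =
        (((A * B : Matrix.SpecialLinearGroup (Fin d) F) : Matrix (Fin d) (Fin d) F).trace) ^ d := by
    intro g h
    have h1 := hcon (g : Matrix.ProjectiveSpecialLinearGroup (Fin d) F) (h : Matrix.ProjectiveSpecialLinearGroup (Fin d) F)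
    rw [← QuotientGroup.mk_inv, ← QuotientGroup.mk_inv, ← QuotientGroup.mk_mul, ← QuotientGroup.mk_mul, ← QuotientGroup.mk_mul,
      ← QuotientGroup.mk_mul, ← QuotientGroup.mk_mul, ← QuotientGroup.mk_mul] at h1
    exact (conj_trace h1).symm
  let i₀ : Fin d := ⟨0, by omega⟩
  let i₁ : Fin d := ⟨1, by omega⟩
  let i₂ : Fin d := ⟨2, by omega⟩
  have h01 : i₀ ≠ i₁ := by simp [i₀, i₁, Fin.ext_iff]
  have h02 : i₀ ≠ i₂ := by simp [i₀, i₂, Fin.ext_iff]
  have h12 : i₁ ≠ i₂ := by simp [i₁, i₂, Fin.ext_iff]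
  obtain ⟨g₁, hX⟩ := exists_col ha h01.symm h02.symm h12.symm
  obtain ⟨g₂, hY₁⟩ := exists_col hb h02.symm h01.symm h12
  set X : Matrix (Fin d) (Fin d) F := ((g₁ * A * g₁⁻¹ : Matrix.SpecialLinearGroup (Fin d) F) : Matrix (Fin d) (Fin d) F) with hXd
  have hclaim : ∃ g : Matrix.SpecialLinearGroup (Fin d) F, (∀ i, ((g * B * g⁻¹ : Matrix.SpecialLinearGroup (Fin d) F) : Matrix (Fin d) (Fin d) F) i i₀ = (Pi.single i₂ 1 : Fin d → F) i) ∧
      ∃ j, j ≠ i₀ ∧ ((g * B * g⁻¹ : Matrix.SpecialLinearGroup (Fin d) F) : Matrix (Fin d) (Fin d) F) j i₁ ≠ X j i₂ := by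
    by_cases hc : ∃ j, j ≠ i₀ ∧ ((g₂ * B * g₂⁻¹ : Matrix.SpecialLinearGroup (Fin d) F) : Matrix (Fin d) (Fin d) F) j i₁ ≠ X j i₂
    · exact ⟨g₂, hY₁, hc⟩
    · push Not at hc
      set Y₁ : Matrix (Fin d) (Fin d) F := ((g₂ * B * g₂⁻¹ : Matrix.SpecialLinearGroup (Fin d) F) : Matrix (Fin d) (Fin d) F) with hY₁d
      have hcoe : ((tvSL i₀ i₁ h01 (-1) * g₂ * B * (tvSL i₀ i₁ h01 (-1) * g₂)⁻¹ : Matrix.SpecialLinearGroup (Fin d) F) : Matrix (Fin d) (Fin d) F) =
          Matrix.transvection i₀ i₁ (-1) * (Y₁ * Matrix.transvection i₀ i₁ (- -1)) := by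
        have h1 : tvSL i₀ i₁ h01 (-1) * g₂ * B * (tvSL i₀ i₁ h01 (-1) * g₂)⁻¹ = tvSL i₀ i₁ h01 (-1) * (g₂ * B * g₂⁻¹) * (tvSL i₀ i₁ h01 (-1))⁻¹ := by group
        rw [h1, Matrix.SpecialLinearGroup.coe_mul, Matrix.SpecialLinearGroup.coe_mul, tvSL_coe, Matrix.mul_assoc, ← hY₁d, tvSL_inv_coe]
      refine ⟨tvSL i₀ i₁ h01 (-1) * g₂, ?_, i₂, h02.symm, ?_⟩
      · intro i
        rw [hcoe]
        by_cases hi : i = i₀
        · subst hi
          rw [Matrix.transvection_mul_apply_same, Matrix.mul_transvection_apply_of_ne i₀ i₁ i₀ i₀ h01, Matrix.mul_transvection_apply_of_ne i₀ i₁ i₁ i₀ h01]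
          rw [hY₁ i₁, hY₁ i₀]
          simp [Pi.single_apply, h12, h02]
        · rw [Matrix.transvection_mul_apply_of_ne i₀ i₁ i i₀ hi, Matrix.mul_transvection_apply_of_ne i₀ i₁ i i₀ h01]
          exact hY₁ i
      · rw [hcoe, Matrix.transvection_mul_apply_of_ne i₀ i₁ i₂ i₁ h02.symm, Matrix.mul_transvection_apply_same]
        rw [hY₁ i₂, hc i₂ h02.symm]
        simp
  obtain ⟨g, hY, j, hj0, hj⟩ := hclaim
  set Y : Matrix (Fin d) (Fin d) F := ((g * B * g⁻¹ : Matrix.SpecialLinearGroup (Fin d) F) : Matrix (Fin d) (Fin d) F) with hYd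
  have e1 : (Y * X) j i₀ = Y j i₁ := by
    rw [Matrix.mul_apply, Finset.sum_eq_single i₁]
    · rw [hX i₁]
      simp
    · intro k _ hk
      rw [hX k]
      simp [Pi.single_apply, hk]
    · simp
  have e2 : (X * Y) j i₀ = X j i₂ := by
    rw [Matrix.mul_apply, Finset.sum_eq_single i₂]
    · rw [hY i₂]
      simp
    · intro k _ hk
      rw [hY k]
      simp [Pi.single_apply, hk]
    · simp
  have e3 : Y j i₀ * X j i₀ = 0 := by
    rw [hY j, hX j]
    by_cases h1 : j = i₁
    · subst h1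
      simp [Pi.single_apply, h12]
    · simp [Pi.single_apply, h1]
  set κ := Y j i₁ - X j i₂ with hκ
  have hκ0 : κ ≠ 0 := sub_ne_zero.mpr hj
  have htr : ∀ c : F, (((g₁ * A * g₁⁻¹ * ((tvSL i₀ j hj0.symm c * g) * B * (tvSL i₀ j hj0.symm c * g)⁻¹) : Matrix.SpecialLinearGroup (Fin d) F) : Matrix (Fin d) (Fin d) F).trace) = (X * Y).trace + c * κ := by
    intro c
    have h1 : (tvSL i₀ j hj0.symm c * g) * B * (tvSL i₀ j hj0.symm c * g)⁻¹ = tvSL i₀ j hj0.symm c * (g * B * g⁻¹) * (tvSL i₀ j hj0.symm c)⁻¹ := by group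
    rw [h1, Matrix.SpecialLinearGroup.coe_mul, ← hXd, Matrix.SpecialLinearGroup.coe_mul, Matrix.SpecialLinearGroup.coe_mul, ← hYd, tvSL_coe, tvSL_inv_coe]
    rw [trace_conj, e1, e2, e3]
    ring
  have hk0 := key g₁ (tvSL i₀ j hj0.symm (-(X * Y).trace / κ) * g)
  have hk1 := key g₁ (tvSL i₀ j hj0.symm ((1 - (X * Y).trace) / κ) * g)
  rw [htr, div_mul_cancel₀ _ hκ0, add_neg_cancel, zero_pow (by omega)] at hk0
  rw [htr, div_mul_cancel₀ _ hκ0, add_sub_cancel, one_pow, ← hk0] at hk1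
  exact one_ne_zero hk1

end Cfsg.Agent.S2272
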