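import Cfsg.Statements.S2367
import Cfsg.Agent.Lib.Known.NumChecks

set_option autoImplicit false
open Cfsg

namespace Cfsg.Agent.S2367

open Cfsg.Agent.Lib.Known

/-- Let G be an alternating group of degree at least 5 or a simple group with the order of one of the 26 sporadic groups, and let p be an odd prime such that p³ is the exact power of p dividing the order of G. Then p³ is less than the 2-part of the order of G. -/
theorem result {G : Type*} [Group G] [Finite G] (hG : Cfsg.IsAlternating G ∨ Cfsg.IsSporadic G)
    (p : ℕ) (hp : p.Prime) (hodd : p ≠ 2) (h3 : (Nat.card G).factorization p = 3) :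
    p ^ 3 < 2 ^ (Nat.card G).factorization 2 := by
  rcases hG with ⟨n, hn, ⟨e⟩⟩ | hS
  · obtain ⟨m, rfl⟩ : ∃ m, n = m + 2 := ⟨n - 2, by omega⟩
    have h : 2 * Nat.card G = (m + 2).factorial := by
      rw [Nat.card_congr e.toEquiv, two_mul_nat_card_alternatingGroup, Nat.card_perm, Nat.card_fin]
    exact check_alternating _ _ h hp hodd h3
  rcases hS with ⟨-, h⟩ | ⟨-, h⟩ | ⟨-, h⟩ | ⟨-, h⟩ | ⟨-, h⟩ | ⟨-, h⟩ | ⟨-, h⟩ | ⟨-, h⟩ | ⟨-, h⟩ | ⟨-, h⟩ | ⟨-, h⟩ | ⟨-, h⟩ | ⟨-, h⟩ | ⟨-, h⟩ | ⟨-, h⟩ | ⟨-, h⟩ | ⟨-, h⟩ | ⟨-, h⟩ | ⟨-, h⟩ | ⟨-, h⟩ | ⟨-, h⟩ | ⟨-, h⟩ | ⟨-, h⟩ | ⟨-, h⟩ | ⟨-, h⟩ | ⟨-, h⟩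
  · rw [h] at h3 ⊢
    exact check_sporadic 7920 4 (by decide +kernel) (by decide +kernel) (by decide +kernel) (by decide +kernel) hp hodd h3
  · rw [h] at h3 ⊢
    exact check_sporadic 95040 6 (by decide +kernel) (by decide +kernel) (by decide +kernel) (by decide +kernel) hp hodd h3
  · rw [h] at h3 ⊢
    exact check_sporadic 443520 7 (by decide +kernel) (by decide +kernel) (by decide +kernel) (by decide +kernel) hp hodd h3
  · rw [h] at h3 ⊢
    exact check_sporadic 10200960 7 (by decide +kernel) (by decide +kernel) (by decide +kernel) (by decide +kernel) hp hodd h3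
  · rw [h] at h3 ⊢
    exact check_sporadic 244823040 10 (by decide +kernel) (by decide +kernel) (by decide +kernel) (by decide +kernel) hp hodd h3
  · rw [h] at h3 ⊢
    exact check_sporadic 175560 3 (by decide +kernel) (by decide +kernel) (by decide +kernel) (by decide +kernel) hp hodd h3
  · rw [h] at h3 ⊢
    exact check_sporadic 604800 7 (by decide +kernel) (by decide +kernel) (by decide +kernel) (by decide +kernel) hp hodd h3
  · rw [h] at h3 ⊢
    exact check_sporadic 50232960 7 (by decide +kernel) (by decide +kernel) (by decide +kernel) (by decide +kernel) hp hodd h3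
  · rw [h] at h3 ⊢
    exact check_sporadic 86775571046077562880 21 (by decide +kernel) (by decide +kernel) (by decide +kernel) (by decide +kernel) hp hodd h3
  · rw [h] at h3 ⊢
    exact check_sporadic 4157776806543360000 21 (by decide +kernel) (by decide +kernel) (by decide +kernel) (by decide +kernel) hp hodd h3
  · rw [h] at h3 ⊢
    exact check_sporadic 42305421312000 18 (by decide +kernel) (by decide +kernel) (by decide +kernel) (by decide +kernel) hp hodd h3
  · rw [h] at h3 ⊢
    exact check_sporadic 495766656000 10 (by decide +kernel) (by decide +kernel) (by decide +kernel) (by decide +kernel) hp hodd h3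
  · rw [h] at h3 ⊢
    exact check_sporadic 64561751654400 17 (by decide +kernel) (by decide +kernel) (by decide +kernel) (by decide +kernel) hp hodd h3
  · rw [h] at h3 ⊢
    exact check_sporadic 4089470473293004800 18 (by decide +kernel) (by decide +kernel) (by decide +kernel) (by decide +kernel) hp hodd h3
  · rw [h] at h3 ⊢
    exact check_sporadic 1255205709190661721292800 21 (by decide +kernel) (by decide +kernel) (by decide +kernel) (by decide +kernel) hp hodd h3
  · rw [h] at h3 ⊢
    exact check_sporadic 44352000 9 (by decide +kernel) (by decide +kernel) (by decide +kernel) (by decide +kernel) hp hodd h3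
  · rw [h] at h3 ⊢
    exact check_sporadic 898128000 7 (by decide +kernel) (by decide +kernel) (by decide +kernel) (by decide +kernel) hp hodd h3
  · rw [h] at h3 ⊢
    exact check_sporadic 4030387200 10 (by decide +kernel) (by decide +kernel) (by decide +kernel) (by decide +kernel) hp hodd h3
  · rw [h] at h3 ⊢
    exact check_sporadic 145926144000 14 (by decide +kernel) (by decide +kernel) (by decide +kernel) (by decide +kernel) hp hodd h3
  · rw [h] at h3 ⊢
    exact check_sporadic 448345497600 13 (by decide +kernel) (by decide +kernel) (by decide +kernel) (by decide +kernel) hp hodd h3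
  · rw [h] at h3 ⊢
    exact check_sporadic 460815505920 9 (by decide +kernel) (by decide +kernel) (by decide +kernel) (by decide +kernel) hp hodd h3
  · rw [h] at h3 ⊢
    exact check_sporadic 273030912000000 14 (by decide +kernel) (by decide +kernel) (by decide +kernel) (by decide +kernel) hp hodd h3
  · rw [h] at h3 ⊢
    exact check_sporadic 51765179004000000 8 (by decide +kernel) (by decide +kernel) (by decide +kernel) (by decide +kernel) hp hodd h3
  · rw [h] at h3 ⊢
    exact check_sporadic 90745943887872000 15 (by decide +kernel) (by decide +kernel) (by decide +kernel) (by decide +kernel) hp hodd h3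
  · rw [h] at h3 ⊢
    exact check_sporadic 4154781481226426191177580544000000 41 (by decide +kernel) (by decide +kernel) (by decide +kernel) (by decide +kernel) hp hodd h3
  · rw [h] at h3 ⊢
    exact check_sporadic 808017424794512875886459904961710757005754368000000000 46 (by decide +kernel) (by decide +kernel) (by decide +kernel) (by decide +kernel) hp hodd h3

end Cfsg.Agent.S2367
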