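import Cfsg.Statements.S2417
import Cfsg.Agent.Lib.Chev.Sub.GenPM
import Cfsg.Prelude.Def_ChevAutomorphisms
-- import your own Cfsg.Agent.* helpers here

set_option autoImplicit false
open scoped MatrixGroups
open Cfsg

namespace Cfsg.Agent.S2417

set_option maxRecDepth 100000 in
set_option synthInstance.maxSize 1000 in
set_option synthInstance.maxHeartbeats 200000 in
set_option backward.isDefEq.respectTransparency false in
theorem chk_B2 : ∀ i, i < Cfsg.Lie.chevB2.rank → ∀ j, j < Cfsg.Lie.chevB2.rank →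
    Cfsg.Lie.chevB2.isLong (Cfsg.Lie.chevB2.simple i) = false → Cfsg.Lie.chevB2.isLong (Cfsg.Lie.chevB2.simple j) = true →
    Cfsg.Lie.chevB2.bonds i j ≠ 0 → ∀ d ∈ Cfsg.Agent.Lib.Chev.TabB2.good2.dom,
      d = Cfsg.Agent.Lib.Chev.climbW Cfsg.Agent.Lib.Chev.TabB2.good2.W Cfsg.Lie.chevB2.rank 60 (Cfsg.Lie.chevB2.simple i) ∨
      d = Cfsg.Agent.Lib.Chev.climbW Cfsg.Agent.Lib.Chev.TabB2.good2.W Cfsg.Lie.chevB2.rank 60 (Cfsg.Lie.chevB2.simple j) := by
  decide +kernel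

set_option maxRecDepth 100000 in
set_option synthInstance.maxSize 1000 in
set_option synthInstance.maxHeartbeats 200000 in
set_option backward.isDefEq.respectTransparency false in
theorem chk_G2 : ∀ i, i < Cfsg.Lie.chevG2.rank → ∀ j, j < Cfsg.Lie.chevG2.rank →
    Cfsg.Lie.chevG2.isLong (Cfsg.Lie.chevG2.simple i) = false → Cfsg.Lie.chevG2.isLong (Cfsg.Lie.chevG2.simple j) = true →
    Cfsg.Lie.chevG2.bonds i j ≠ 0 → ∀ d ∈ Cfsg.Agent.Lib.Chev.TabG2.good2.dom,
      d = Cfsg.Agent.Lib.Chev.climbW Cfsg.Agent.Lib.Chev.TabG2.good2.W Cfsg.Lie.chevG2.rank 60 (Cfsg.Lie.chevG2.simple i) ∨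
      d = Cfsg.Agent.Lib.Chev.climbW Cfsg.Agent.Lib.Chev.TabG2.good2.W Cfsg.Lie.chevG2.rank 60 (Cfsg.Lie.chevG2.simple j) := by
  decide +kernel

set_option maxRecDepth 100000 in
set_option synthInstance.maxSize 1000 in
set_option synthInstance.maxHeartbeats 200000 in
set_option backward.isDefEq.respectTransparency false in
theorem chk_F4 : ∀ i, i < Cfsg.Lie.chevF4.rank → ∀ j, j < Cfsg.Lie.chevF4.rank →
    Cfsg.Lie.chevF4.isLong (Cfsg.Lie.chevF4.simple i) = false → Cfsg.Lie.chevF4.isLong (Cfsg.Lie.chevF4.simple j) = true →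
    Cfsg.Lie.chevF4.bonds i j ≠ 0 → ∀ d ∈ Cfsg.Agent.Lib.Chev.TabF4.good2.dom,
      d = Cfsg.Agent.Lib.Chev.climbW Cfsg.Agent.Lib.Chev.TabF4.good2.W Cfsg.Lie.chevF4.rank 60 (Cfsg.Lie.chevF4.simple i) ∨
      d = Cfsg.Agent.Lib.Chev.climbW Cfsg.Agent.Lib.Chev.TabF4.good2.W Cfsg.Lie.chevF4.rank 60 (Cfsg.Lie.chevF4.simple j) := by
  decide +kernel


/-- In the characteristics with an exceptional graph symmetry — type B₂ or F₄ in characteristic 2 (field of more than two elements for B₂) and type G₂ in characteristic 3 — the Chevalley group lies in the subgroup generated by its monomial subgroup `N` and the two fundamental root subgroups `X_a`, `X_b` of a short root `a` and a long root `b` joined in the Dynkin diagram. -/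
theorem result {K : Type*} [Field K] [Finite K] (e : Cfsg.Lie.ChevalleyDatum × ℕ)
    (he : e ∈ [(Cfsg.Lie.chevB2, 2), (Cfsg.Lie.chevF4, 2), (Cfsg.Lie.chevG2, 3)]) [CharP K e.2]
    (hK : e.1 = Cfsg.Lie.chevB2 → ∃ x : K, x ≠ 0 ∧ x ≠ 1)
    (i j : ℕ) (hi : i < e.1.rank) (hj : j < e.1.rank) (hshort : e.1.isLong (e.1.simple i) = false)
    (hlong : e.1.isLong (e.1.simple j) = true) (hbond : e.1.bonds i j ≠ 0) :
    e.1.group K ≤ e.1.monomialSubgroup K ⊔ e.1.rootSubgroup K (e.1.simple i) ⊔ e.1.rootSubgroup K (e.1.simple j) := by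
  obtain ⟨D, c⟩ := e
  simp only [List.mem_cons, List.not_mem_nil, or_false, Prod.mk.injEq] at he
  rcases he with ⟨rfl, rfl⟩ | ⟨rfl, rfl⟩ | ⟨rfl, rfl⟩
  · exact Cfsg.Agent.Lib.Chev.gen_two Cfsg.Agent.Lib.Chev.TabB2.good2 hi hj 60 (chk_B2 i hi j hj hshort hlong hbond)
  · exact Cfsg.Agent.Lib.Chev.gen_two Cfsg.Agent.Lib.Chev.TabF4.good2 hi hj 60 (chk_F4 i hi j hj hshort hlong hbond)
  · exact Cfsg.Agent.Lib.Chev.gen_two Cfsg.Agent.Lib.Chev.TabG2.good2 hi hj 60 (chk_G2 i hi j hj hshort hlong hbond)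

end Cfsg.Agent.S2417
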