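import Cfsg.Statements.S2419
import Cfsg.Agent.Lib.CT.WG
import Cfsg.Agent.Lib.Chev.Tab.G2d
import Cfsg.Agent.Lib.Chev.Tab.B2d
import Cfsg.Agent.Lib.Chev.Tab.D4d
import Cfsg.Agent.Lib.Chev.Tab.F4d
import Cfsg.Agent.Lib.Chev.Tab.E6d
import Cfsg.Agent.Lib.Chev.Tab.E7d
import Cfsg.Agent.Lib.Chev.Tab.E8d
-- import your own Cfsg.Agent.* helpers here

set_option autoImplicit false
open Cfsg

namespace Cfsg.Agent.S2419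

open Cfsg.Agent.Lib.Chev Cfsg.Agent.Lib.CT

set_option maxHeartbeats 4000000

/-- The words for type B2. -/
def wordsB2 (i : ℕ) : List ℕ := [[1], [1, 0]].getD i []

/-- The words for type G2. -/
def wordsG2 (i : ℕ) : List ℕ := [[1], [1, 0]].getD i []

/-- The words for type D4. -/
def wordsD4 (i : ℕ) : List ℕ := [[1], [0, 1, 0, 0, 0, 0, 0], [2], [0, 2, 0, 1, 0, 0, 0, 0, 0, 2, 0, 0, 0, 0, 0]].getD i []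

/-- The words for type F4. -/
def wordsF4 (i : ℕ) : List ℕ := [[1], [0, 1, 0, 0, 0, 0, 0, 0, 0, 0, 0, 0, 0], [2], [0, 2, 0, 0, 0, 0, 0, 0, 0, 0, 0, 0, 0]].getD i []

/-- The words for type E6. -/
def wordsE6 (i : ℕ) : List ℕ := [[1], [0, 0, 0, 0, 0, 0, 0, 0, 0, 0, 0, 1, 0, 0, 0, 0, 0, 0, 0, 0, 0, 1, 0, 0, 0, 1, 0], [0, 1, 0, 0, 0, 0, 0, 0, 0, 0, 0, 0, 0], [0, 0, 0, 0, 0, 1, 0, 0, 0, 0, 0, 0, 0], [0, 0, 0, 0, 0, 0, 1, 0, 0, 0, 0, 0, 0], [0, 0, 0, 0, 0, 0, 0, 1, 0, 0, 0, 0, 0]].getD i []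

/-- The words for type E7. -/
def wordsE7 (i : ℕ) : List ℕ := [[0, 0, 0, 0, 0, 1, 0, 0, 0, 0, 0, 0, 0, 0, 0, 0, 0, 0, 0, 0, 0, 0, 1, 0, 0, 1, 0, 0, 0, 0, 0, 0, 0, 0, 0, 0, 0, 0, 0], [1], [0, 0, 0, 0, 0, 0, 1, 0, 0, 0, 0, 0, 0, 0, 0, 0, 0, 0, 0, 0, 0, 0, 0, 1, 0, 0, 1, 0, 0, 0, 0, 0, 0, 0, 0, 0, 0, 0, 0], [1, 0, 0, 0, 0, 0, 0, 0, 1, 0, 0, 0, 0, 0, 0, 0, 0, 0, 0, 0, 0, 0, 0, 0, 0, 1, 0, 0, 1, 0, 0, 0, 0, 0, 0, 0, 0, 0, 0, 0, 1], [0, 0, 0, 0, 0, 0, 1, 0, 0, 1, 0, 0, 0, 0, 0, 0, 0, 0, 0, 0, 0, 1, 0, 0, 0, 0, 0, 0, 0, 1, 0, 0, 0, 0, 0, 0, 0, 0, 0, 0, 0, 0, 0, 0, 0, 0, 1, 0, 0, 0, 0, 0, 0, 0, 0, 0, 0, 0, 0], [0, 0, 1, 0, 0, 0, 0, 0, 0, 0, 0, 0, 0, 0, 0, 0, 0, 0, 0, 1, 0, 0, 0, 0, 0, 0, 0, 1, 0, 0, 0, 0, 0, 0, 0, 0, 0, 0, 0, 1, 0, 0, 1, 0, 0, 0, 0, 0, 0, 0, 0, 0, 0, 0, 0, 0, 0, 0, 0], [0, 0, 0, 1,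 0, 0, 0, 0, 0, 1, 0, 0, 0, 0, 0, 0, 0, 0, 0, 0, 0, 1, 0, 0, 0, 0, 0, 0, 0, 1, 0, 0, 0, 0, 0, 0, 0, 0, 0, 0, 0, 0, 0, 1, 0, 0, 0, 0, 0, 0, 0, 0, 0, 0, 0, 0, 0, 0, 0]].getD i []

/-- The words for type E8. -/
def wordsE8 (i : ℕ) : List ℕ := [[1], [0, 0, 0, 0, 0, 0, 0, 0, 0, 0, 0, 0, 1, 0, 0, 0, 0, 0, 0, 0, 0, 0, 0, 0, 0, 0, 0, 0, 0, 0, 0, 0, 0, 0, 0, 1, 0, 0, 0, 0, 0, 0, 0, 0, 1, 0, 0, 0, 0, 0, 0, 0, 0, 0, 0, 0, 0, 0, 0, 0, 0, 0, 0], [0, 1, 0, 0, 0, 0, 0, 0, 0, 0, 0, 0, 0, 0, 0, 0, 0, 0, 0, 0, 0, 0, 0, 0, 0, 0, 0, 0, 0, 0, 0], [0, 0, 0, 0, 1, 0, 0, 0, 1, 0, 0, 0, 0, 0, 0, 0, 0, 0, 0, 0, 0, 0, 0, 0, 0, 0, 0, 0, 0, 0, 0, 0, 0, 0, 0, 0, 1, 0, 0, 0, 0, 0, 0, 0, 0, 0, 0, 0, 0, 0, 0, 0, 0, 0, 0, 0, 0, 0, 0, 0, 0, 0, 0], [0, 0, 0, 0, 0, 1, 0, 0, 0, 1, 0, 0, 0, 0, 0, 0, 0, 0, 0, 0, 0, 0, 0, 0, 0, 0,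 0, 0, 0, 0, 0, 0, 0, 0, 0, 0, 0, 1, 0, 0, 0, 0, 0, 0, 0, 0, 0, 0, 0, 0, 0, 0, 0, 0, 0, 0, 0, 0, 0, 0, 0, 0, 0], [0, 0, 0, 0, 0, 0, 1, 0, 0, 0, 1, 0, 0, 0, 0, 0, 0, 0, 0, 0, 0, 0, 0, 0, 0, 0, 0, 0, 0, 0, 0, 0, 0, 0, 0, 0, 0, 0, 1, 0, 0, 0, 0, 0, 0, 0, 0, 0, 0, 0, 0, 0, 0, 0, 0, 0, 0, 0, 0, 0, 0, 0, 0], [0, 0, 0, 0, 0, 0, 0, 1, 0, 0, 0, 1, 0, 0, 0, 0, 0, 0, 0, 0, 0, 0, 0, 0, 0, 0, 0, 0, 0, 0, 0, 0, 0, 0, 0, 0, 0, 0, 0, 1, 0, 0, 0, 0, 0, 0, 0, 0, 0, 0, 0, 0, 0, 0, 0, 0, 0, 0, 0, 0, 0, 0, 0], [0, 0, 0, 0, 0, 0, 0, 0, 1, 0, 0, 0, 1, 0, 0, 0, 0, 0, 0, 0, 0, 0, 0, 0, 0, 0, 0, 0, 0, 0, 0, 0, 0, 0, 0, 0, 0, 0, 0, 0, 1, 0, 0, 0, 0, 0, 0, 0, 0, 0, 0, 0, 0, 0, 0, 0, 0, 0, 0, 0, 0, 0, 0]].getD i []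


/-- The Coxeter groups of types B₂, G₂, E₆, E₇, E₈ are generated by the Coxeter element `s₁ s₂ ⋯ s_l` together with one suitable reflection (a conjugate of a simple reflection); for types D₄ and F₄ the Coxeter element together with two suitable reflections suffices. -/
theorem result (c : (Σ n : ℕ, CoxeterMatrix (Fin n)) × ℕ)
    (hc : c ∈ [(⟨2, CoxeterMatrix.B 2⟩, 1), (⟨2, CoxeterMatrix.G₂⟩, 1), (⟨4, Cfsg.Lie.coxeterD4⟩, 2), (⟨4, CoxeterMatrix.F₄⟩, 2),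
      (⟨6, CoxeterMatrix.E₆⟩, 1), (⟨7, CoxeterMatrix.E₇⟩, 1), (⟨8, CoxeterMatrix.E₈⟩, 1)]) :
    ∃ T : Finset c.1.2.Group, T.card = c.2 ∧ (∀ t ∈ T, ∃ (g : c.1.2.Group) (i : Fin c.1.1), t = g * c.1.2.simple i * g⁻¹) ∧
      Subgroup.closure (({((List.finRange c.1.1).map c.1.2.simple).prod} : Set c.1.2.Group) ∪ ↑T) = ⊤ := by
  simp only [List.mem_cons, List.not_mem_nil, or_false] at hc
  rcases hc with rfl | rfl | rfl | rfl | rfl | rfl | rfl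
  · exact cox_refl TabB2.good4 (CoxeterMatrix.B 2)
      (by set_option backward.isDefEq.respectTransparency false in decide +kernel) [0] (by decide) (by decide +kernel) wordsB2 (by decide +kernel)
  · exact cox_refl TabG2.good4 CoxeterMatrix.G₂
      (by set_option backward.isDefEq.respectTransparency false in decide +kernel) [0] (by decide) (by decide +kernel) wordsG2 (by decide +kernel)
  · exact cox_refl TabD4.good4 Cfsg.Lie.coxeterD4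
      (by set_option backward.isDefEq.respectTransparency false in decide +kernel) [0, 2] (by decide) (by decide +kernel) wordsD4 (by decide +kernel)
  · exact cox_refl TabF4.good4 CoxeterMatrix.F₄
      (by set_option backward.isDefEq.respectTransparency false in decide +kernel) [0, 2] (by decide) (by decide +kernel) wordsF4 (by decide +kernel)
  · exact cox_refl TabE6.good4 CoxeterMatrix.E₆
      (by set_option backward.isDefEq.respectTransparency false in decide +kernel) [0] (by decide) (by decide +kernel) wordsE6 (by decide +kernel)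
  · exact cox_refl TabE7.good4 CoxeterMatrix.E₇
      (by set_option backward.isDefEq.respectTransparency false in decide +kernel) [1] (by decide) (by decide +kernel) wordsE7 (by decide +kernel)
  · exact cox_refl TabE8.good4 CoxeterMatrix.E₈
      (by set_option backward.isDefEq.respectTransparency false in decide +kernel) [0] (by decide) (by decide +kernel) wordsE8 (by decide +kernel)

end Cfsg.Agent.S2419
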