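import Cfsg.Statements.S2468
import Cfsg.Agent.Lib.Known.PG4

set_option autoImplicit false
open Cfsg

namespace Cfsg.Agent.S2468

open Cfsg.Agent.Lib.Known

/-- Adjacency of two odd primes in the prime graph of PSL(n,q): let F be a finite field of characteristic p with q elements, n ≥ 2 with PSL(n,F) simple, and let r ≠ s be odd primes different from p dividing the order of PSL(n,F). Let k and l be the multiplicative orders of q modulo r and modulo s, and suppose 2 ≤ k ≤ l. Then PSL(n,F) has NO element of order r·s if and only if k + l > n and k does not divide l. -/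
theorem result {F : Type*} [Field F] [Fintype F] (p : ℕ) [Fact p.Prime] [CharP F p] (n : ℕ) (hn : 2 ≤ n) (hsmall : n = 2 → 4 ≤ Fintype.card F)
    (r s : ℕ) (hr : r.Prime) (hs : s.Prime) (hr2 : r ≠ 2) (hs2 : s ≠ 2) (hrp : r ≠ p) (hsp : s ≠ p) (hrs : r ≠ s)
    (hrG : r ∣ Nat.card (Matrix.ProjectiveSpecialLinearGroup (Fin n) F)) (hsG : s ∣ Nat.card (Matrix.ProjectiveSpecialLinearGroup (Fin n) F))
    (k l : ℕ) (hk : k = orderOf ((Fintype.card F : ℕ) : ZMod r)) (hl : l = orderOf ((Fintype.card F : ℕ) : ZMod s))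
    (h2k : 2 ≤ k) (hkl : k ≤ l) :
    (r * s ∉ Set.range (orderOf : Matrix.ProjectiveSpecialLinearGroup (Fin n) F → ℕ)) ↔ (n < k + l ∧ ¬ k ∣ l) := by
  haveI : Fact r.Prime := ⟨hr⟩
  haveI : Fact s.Prime := ⟨hs⟩
  subst hk hl
  have h2l := le_trans h2k hkl
  constructor
  · intro h
    by_contra hcon
    rw [not_and_or, not_lt, not_not] at hcon
    rcases hcon with h1 | h1
    · obtain ⟨g, hg⟩ := PG.exists_order_rs_of_add (F := F) (n := n) p hrs hrp hsp h2k h2l h1
      exact h ⟨g, hg⟩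
    · have hl' := PG.e_le_of_dvd_PSL (F := F) p (by omega : 1 ≤ n) hsp hsG
      obtain ⟨g, hg⟩ := PG.exists_order_rs_of_dvd (F := F) (n := n) p hrs hrp hsp h2k h2l h1 hl'
      exact h ⟨g, hg⟩
  · rintro ⟨h1, h2⟩ ⟨g, hg⟩
    refine PG.no_order_rs p (by omega) hrs hrp hsp h2k h2l ?_ (by omega) g hg
    have hl0 : 0 < orderOf ((Fintype.card F : ℕ) : ZMod s) := by omega
    have hk0 : 0 < orderOf ((Fintype.card F : ℕ) : ZMod r) := by omega
    obtain ⟨b, hb⟩ := Nat.dvd_lcm_right (orderOf ((Fintype.card F : ℕ) : ZMod r)) (orderOf ((Fintype.card F : ℕ) : ZMod s))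
    have hlpos := Nat.lcm_pos hk0 hl0
    have hb0 : b ≠ 0 := by
      rintro rfl
      omega
    have hb1 : b ≠ 1 := by
      rintro rfl
      rw [mul_one] at hb
      exact h2 (hb ▸ Nat.dvd_lcm_left _ _)
    have hb2 : 2 ≤ b := by omega
    have : orderOf ((Fintype.card F : ℕ) : ZMod s) * 2 ≤ orderOf ((Fintype.card F : ℕ) : ZMod s) * b :=
      Nat.mul_le_mul_left _ hb2
    omega

end Cfsg.Agent.S2468
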