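import Cfsg.Statements.S2470
import Cfsg.Agent.Lib.Known.PG6

set_option autoImplicit false
open Cfsg

namespace Cfsg.Agent.S2470

open Cfsg.Agent.Lib.Known

/-- Adjacency of an odd prime and the characteristic in the prime graph of PSL(n,q): let F be a finite field of characteristic p with q elements, n ≥ 2 with PSL(n,F) simple, and let r ≠ p be an odd prime dividing the order of PSL(n,F), with k the multiplicative order of q modulo r. Then PSL(n,F) has NO element of order r·p if and only if either k > n − 2, or n = 3, r = 3 and 3 divides q − 1 exactly once. -/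
theorem result {F : Type*} [Field F] [Fintype F] (p : ℕ) [Fact p.Prime] [CharP F p] (n : ℕ) (hn : 2 ≤ n) (hsmall : n = 2 → 4 ≤ Fintype.card F)
    (r : ℕ) (hr : r.Prime) (hr2 : r ≠ 2) (hrp : r ≠ p) (hrG : r ∣ Nat.card (Matrix.ProjectiveSpecialLinearGroup (Fin n) F))
    (k : ℕ) (hk : k = orderOf ((Fintype.card F : ℕ) : ZMod r)) :
    (r * p ∉ Set.range (orderOf : Matrix.ProjectiveSpecialLinearGroup (Fin n) F → ℕ)) ↔
      (n - 2 < k ∨ (n = 3 ∧ r = 3 ∧ 3 ∣ Fintype.card F - 1 ∧ ¬ 9 ∣ Fintype.card F - 1)) := by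
  haveI : Fact r.Prime := ⟨hr⟩
  subst hk
  have hkpos := PG.e_pos (F := F) p hrp
  have hpp : p.Prime := Fact.out
  constructor
  · intro hno
    by_contra hcon
    rw [not_or] at hcon
    obtain ⟨h1, h2⟩ := hcon
    apply hno
    by_cases h2k : 2 ≤ orderOf ((Fintype.card F : ℕ) : ZMod r)
    · obtain ⟨g, hg⟩ := PG.exists_order_rp_of_e (F := F) (n := n) p hrp h2k (by omega)
      exact ⟨g, hg⟩
    · have hk1 : orderOf ((Fintype.card F : ℕ) : ZMod r) = 1 := by omega
      have hrq : r ∣ Fintype.card F - 1 := PG.dvd_card_sub_one_iff.2 hk1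
      by_cases hn4 : 4 ≤ n
      · obtain ⟨a, ha0, ha⟩ := PG.exists_unit_of_dvd (K := F) r hrq
        obtain ⟨g, hg⟩ := PG.exists_order_rp_of_four (F := F) (n := n) p hrp hn4 a ha0 ha
        exact ⟨g, hg⟩
      · have hn3 : n = 3 := by omega
        subst hn3
        by_cases hr3 : r = 3
        · subst hr3
          have h9 : 9 ∣ Fintype.card F - 1 := by
            by_contra h9
            exact h2 ⟨rfl, rfl, hrq, h9⟩
          obtain ⟨a, ha0, ha⟩ := PG.exists_unit_of_dvd (K := F) 9 h9
          have h3 : orderOf (a ^ 3) = 3 := by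
            rw [orderOf_pow_of_dvd (by norm_num) (by rw [ha]; norm_num), ha]
          obtain ⟨g, hg⟩ := PG.exists_order_rp_of_three (F := F) p hrp a ha0 h3
          exact ⟨g, hg⟩
        · obtain ⟨a, ha0, ha⟩ := PG.exists_unit_of_dvd (K := F) r hrq
          have h3 : orderOf (a ^ 3) = r := by
            rw [Nat.Coprime.orderOf_pow, ha]
            rw [ha]
            exact (Nat.coprime_primes hr Nat.prime_three).2 hr3
          obtain ⟨g, hg⟩ := PG.exists_order_rp_of_three (F := F) p hrp a ha0 h3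
          exact ⟨g, hg⟩
  · rintro h ⟨g, hg⟩
    have hg' : orderOf g = r * p := hg
    have ha : orderOf (g ^ r) = p := by
      rw [orderOf_pow_of_dvd hr.ne_zero (by rw [hg']; exact dvd_mul_right _ _), hg']
      exact Nat.mul_div_cancel_left _ hr.pos
    have hb : orderOf (g ^ p) = r := by
      rw [orderOf_pow_of_dvd hpp.ne_zero (by rw [hg']; exact dvd_mul_left _ _), hg']
      exact Nat.mul_div_cancel _ hpp.pos
    obtain ⟨u, s, hu, hu0, hc, hso, hsc, -, -⟩ := PG.exists_lift p (by omega : 0 < n) hr hrp (g ^ r) (g ^ p)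
      ha hb ((Commute.refl g).pow_pow r p)
    rcases h with h | ⟨hn3, hr3, -, h9⟩
    · by_cases h2k : 2 ≤ orderOf ((Fintype.card F : ℕ) : ZMod r)
      · have := PG.add_two_le_of_lift p hrp (by omega) h2k u s hu hu0 hc hso
        omega
      · have h1 := PG.eq_one_of_lift_two p (by omega : n = 2) u s hu hu0 hc hsc r hso
        exact hr.one_lt.ne' h1
    · subst hr3
      exact h9 (PG.nine_dvd_of_lift p hn3 hrp u s hu hu0 hc hso)

end Cfsg.Agent.S2470
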