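import Cfsg.Statements.S2477
import Cfsg.Agent.Lib.Known.AltTen

set_option autoImplicit false
open Cfsg

namespace Cfsg.Agent.S2477

open Cfsg.Agent.Lib.Known

/-- The set of element orders of the alternating group of degree 10 is {1, 2, 3, 4, 5, 6, 7, 8, 9, 10, 12, 15, 21}. -/
theorem result : Set.range (orderOf : alternatingGroup (Fin 10) → ℕ) = {1, 2, 3, 4, 5, 6, 7, 8, 9, 10, 12, 15, 21} := by
  classical
  have key : ∀ m : Multiset ℕ, (∀ a ∈ m, 2 ≤ a) → m.sum ≤ 10 →
      (m.sum, m.lcm, (m.sum + Multiset.card m) % 2) ∈ a10Table := by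
    intro m
    induction m using Multiset.induction_on with
    | empty =>
      intro _ _
      simp only [Multiset.sum_zero, Multiset.lcm_zero, Multiset.card_zero]
      decide
    | cons a s ih =>
      intro h2 hs
      rw [Multiset.sum_cons] at hs ⊢
      rw [Multiset.lcm_cons, Multiset.card_cons]
      have ha := h2 a (Multiset.mem_cons_self a s)
      have hs' := ih (fun x hx => h2 x (Multiset.mem_cons_of_mem hx)) (by omega)
      have hc := a10_closed a (by omega) _ hs' ha (by simp only; omega)
      have heq : (a + s.sum + (Multiset.card s + 1)) % 2 = (a + 1 + (s.sum + Multiset.card s) % 2) % 2 := by omega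
      rw [heq]
      exact hc
  ext k
  rw [alt_order_iff]
  constructor
  · rintro ⟨m, hs, h2, rfl, he⟩
    have h1 := key m h2 hs
    rw [Nat.even_iff.mp he] at h1
    exact a10_orders _ _ h1
  · intro hk
    simp only [Set.mem_insert_iff, Set.mem_singleton_iff] at hk
    have wit : ∀ (m : Multiset ℕ), m.sum ≤ 10 → (∀ a ∈ m, 2 ≤ a) → m.lcm = k → Even (m.sum + Multiset.card m) →
      ∃ m : Multiset ℕ, m.sum ≤ 10 ∧ (∀ a ∈ m, 2 ≤ a) ∧ m.lcm = k ∧ Even (m.sum + Multiset.card m) :=
      fun m h1 h2 h3 h4 => ⟨m, h1, h2, h3, h4⟩
    rcases hk with rfl | rfl | rfl | rfl | rfl | rfl | rfl | rfl | rfl | rfl | rfl | rfl | rfl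
    · exact wit {} (by decide) (by decide) (by decide) (by decide)
    · exact wit ({2, 2} : Multiset ℕ) (by decide) (by decide) (by decide) (by decide)
    · exact wit ({3} : Multiset ℕ) (by decide) (by decide) (by decide) (by decide)
    · exact wit ({4, 2} : Multiset ℕ) (by decide) (by decide) (by decide) (by decide)
    · exact wit ({5} : Multiset ℕ) (by decide) (by decide) (by decide) (by decide)
    · exact wit ({6, 2} : Multiset ℕ) (by decide) (by decide) (by decide) (by decide)
    · exact wit ({7} : Multiset ℕ) (by decide) (by decide) (by decide) (by decide)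
    · exact wit ({8, 2} : Multiset ℕ) (by decide) (by decide) (by decide) (by decide)
    · exact wit ({9} : Multiset ℕ) (by decide) (by decide) (by decide) (by decide)
    · exact wit ({5, 2, 2} : Multiset ℕ) (by decide) (by decide) (by decide) (by decide)
    · exact wit ({4, 3, 2} : Multiset ℕ) (by decide) (by decide) (by decide) (by decide)
    · exact wit ({5, 3} : Multiset ℕ) (by decide) (by decide) (by decide) (by decide)
    · exact wit ({7, 3} : Multiset ℕ) (by decide) (by decide) (by decide) (by decide)

end Cfsg.Agent.S2477
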