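import Cfsg.Statements.S2518
import Cfsg.Agent.Lib.H14.G23Rep
import Cfsg.Agent.Lib.H14.ChevCongr
import Cfsg.Agent.S2475

set_option autoImplicit false
open Cfsg

namespace Cfsg.Agent.S2518


theorem ex_order_transfer {G H : Type*} [Group G] [Group H] (e : G ≃* H) (n : ℕ) :
    (∃ x : G, orderOf x = n) ↔ (∃ y : H, orderOf y = n) := by
  constructor
  · rintro ⟨g, hg⟩
    exact ⟨e g, by rw [← hg]; exact MulEquiv.orderOf_eq e g⟩
  · rintro ⟨g, hg⟩
    exact ⟨e.symm g, by rw [← hg]; exact MulEquiv.orderOf_eq e.symm g⟩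

open Cfsg.Agent.Lib.H14.G23Rep in
theorem psl13 {E : Type*} [Field E] [Fintype E] (hE : Fintype.card E = 13) (m : ℕ) :
    (∃ y : Matrix.ProjectiveSpecialLinearGroup (Fin 2) E, orderOf y = m) ↔ m ∣ 13 ∨ m ∣ 6 ∨ m ∣ 7 := by
  classical
  have hcE : Fintype.card E = Fintype.card (ZMod 13) := by rw [hE, ZMod.card]
  haveI : Fact (Nat.Prime 13) := ⟨by norm_num⟩
  let eE := FiniteField.ringEquivOfCardEq hcE
  haveI : CharP E 13 := charP_of_injective_ringHom (f := eE.symm.toRingHom) eE.symm.injective 13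
  have hrange := Cfsg.Agent.S2475.result (F := E) 13 (by rw [hE]; norm_num)
  rw [hE] at hrange
  have := Set.ext_iff.1 hrange m
  simp only [Set.mem_range, Set.mem_setOf_eq] at this
  have h6 : (13 - 1) / Nat.gcd 2 (13 - 1) = 6 := by decide
  have h7 : (13 + 1) / Nat.gcd 2 (13 - 1) = 7 := by decide
  rw [h6, h7] at this
  exact this

theorem psl13_prod {E : Type*} [Field E] [Fintype E] (hE : Fintype.card E = 13) (r s : ℕ)
    (hr : r.Prime) (hs : s.Prime) (hrs : r ≠ s) :
    (∃ y : Matrix.ProjectiveSpecialLinearGroup (Fin 2) E, orderOf y = r * s) ↔ r * s = 6 := by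
  rw [psl13 hE]
  constructor
  · have aux : ∀ p : ℕ, p.Prime → r * s ∣ p → False := by
      intro p hp h
      have h1 : r = p := (Nat.prime_dvd_prime_iff_eq hr hp).1 ((Dvd.intro _ rfl).trans h)
      have h2 : s = p := (Nat.prime_dvd_prime_iff_eq hs hp).1 ((Dvd.intro_left _ rfl).trans h)
      exact hrs (h1.trans h2.symm)
    rintro (h | h | h)
    · exact (aux 13 (by norm_num) h).elim
    · have h1 : r ∣ 6 := (Dvd.intro _ rfl).trans h
      have h2 : s ∣ 6 := (Dvd.intro_left _ rfl).trans h
      have h3 : r ≤ 6 := Nat.le_of_dvd (by norm_num) h1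
      have h4 : s ≤ 6 := Nat.le_of_dvd (by norm_num) h2
      interval_cases r <;> interval_cases s <;>
        first
          | rfl
          | (exfalso; revert hrs hr hs h; decide)
    · exact (aux 7 (by norm_num) h).elim
  · intro h
    rw [h]
    right; left; exact dvd_refl _



/-- Let F₃ be the field with 3 elements and F₁₃ the field with 13 elements. The Chevalley group G₂(F₃) and PSL(2, F₁₃) have the same prime graph: the same prime divisors of their orders, and for distinct primes r, s an element of order rs in one iff in the other. -/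
theorem result {F : Type*} [Field F] [Fintype F] (hF : Fintype.card F = 3) {E : Type*} [Field E] [Fintype E] (hE : Fintype.card E = 13) :
    ((∀ r : ℕ, r.Prime → (r ∣ Nat.card ↥(Cfsg.Lie.chevG2.group F) ↔ r ∣ Nat.card (Matrix.ProjectiveSpecialLinearGroup (Fin 2) E))) ∧
      (∀ r s : ℕ, r.Prime → s.Prime → r ≠ s → ((∃ x : ↥(Cfsg.Lie.chevG2.group F), orderOf x = r * s) ↔ (∃ y : (Matrix.ProjectiveSpecialLinearGroup (Fin 2) E), orderOf y = r * s)))) := by
  classical
  have hcard3 : Fintype.card F = Fintype.card (ZMod 3) := by rw [hF, ZMod.card]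
  obtain ⟨e1⟩ := Cfsg.Agent.Lib.H14.ChevCongr.group_congr (D := Cfsg.Lie.chevG2) (FiniteField.ringEquivOfCardEq hcard3)
  haveI : Finite (Matrix.ProjectiveSpecialLinearGroup (Fin 2) E) :=
    inferInstanceAs (Finite (Matrix.SpecialLinearGroup (Fin 2) E ⧸ Subgroup.center (Matrix.SpecialLinearGroup (Fin 2) E)))
  constructor
  · intro r hr
    rw [Nat.card_congr e1.toEquiv]
    have hL : r ∣ Nat.card ↥(Cfsg.Lie.chevG2.group (ZMod 3)) ↔ (r = 2 ∨ r = 3 ∨ r = 7 ∨ r = 13) := by
      constructor
      · exact Cfsg.Agent.Lib.H14.G23Rep.primes_G3 r hr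
      · intro h
        have hc := Cfsg.Agent.Lib.H14.G23Rep.card_G3
        rw [hc]
        rcases h with rfl | rfl | rfl | rfl <;> norm_num
    have hR : r ∣ Nat.card (Matrix.ProjectiveSpecialLinearGroup (Fin 2) E) ↔ (r = 2 ∨ r = 3 ∨ r = 7 ∨ r = 13) := by
      constructor
      · intro h
        haveI : Fact r.Prime := ⟨hr⟩
        obtain ⟨x, hx⟩ := exists_prime_orderOf_dvd_card' r h
        rcases (psl13 hE r).1 ⟨x, hx⟩ with h1 | h1 | h1
        · right; right; right; exact (Nat.prime_dvd_prime_iff_eq hr (by norm_num)).1 h1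
        · have h6 : (6 : ℕ) = 2 * 3 := by norm_num
          rw [h6] at h1
          rcases (Nat.Prime.dvd_mul hr).1 h1 with h2 | h2
          · left; exact (Nat.prime_dvd_prime_iff_eq hr Nat.prime_two).1 h2
          · right; left; exact (Nat.prime_dvd_prime_iff_eq hr Nat.prime_three).1 h2
        · right; right; left; exact (Nat.prime_dvd_prime_iff_eq hr (by norm_num)).1 h1
      · intro h
        have h1 : r ∣ 13 ∨ r ∣ 6 ∨ r ∣ 7 := by
          rcases h with rfl | rfl | rfl | rfl <;> norm_num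
        obtain ⟨x, hx⟩ := (psl13 hE r).2 h1
        rw [← hx]
        exact orderOf_dvd_natCard x
    rw [hL, hR]
  · intro r s hr hs hrs
    rw [psl13_prod hE r s hr hs hrs, ← Cfsg.Agent.Lib.H14.G23Rep.orders_G3 r s hr hs hrs]
    exact ex_order_transfer e1 (r * s)

end Cfsg.Agent.S2518
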