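import Cfsg.Statements.S2530
import Mathlib

set_option autoImplicit false
open Cfsg

namespace Cfsg.Agent.S2530

section Abstract

variable {G : Type*} [Group G] (r : ℕ → G)

/-- `seg a d = r (a+d-1) * ... * r a`. -/
def seg (a : ℕ) : ℕ → G
  | 0 => 1
  | d + 1 => r (a + d) * seg a d

theorem seg_succ' (a d : ℕ) : seg r a (d + 1) = seg r (a + 1) d * r a := by
  induction d with
  | zero => simp [seg]
  | succ d ih =>
    have h : a + (d + 1) = a + 1 + d := by omega
    rw [seg, ih, seg, ← mul_assoc, h]

theorem seg_add (a d e : ℕ) : seg r a (d + e) = seg r (a + e) d * seg r a e := by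
  induction d with
  | zero => simp [seg]
  | succ d ih =>
    have h1 : d + 1 + e = (d + e) + 1 := by omega
    have h2 : a + (d + e) = a + e + d := by omega
    rw [h1, seg, ih, seg, mul_assoc, h2]

variable {n : ℕ}

theorem seg_comm_low (hcomm : ∀ i j, i ≤ n → j ≤ n → i + 2 ≤ j → r i * r j = r j * r i)
    (i a d : ℕ) (hi : i ≤ n) (h1 : i + 2 ≤ a) (h2 : a + d ≤ n + 1) :
    seg r a d * r i = r i * seg r a d := by
  induction d with
  | zero => simp [seg]
  | succ d ih =>
    rw [seg, mul_assoc, ih (by omega), ← mul_assoc, ← mul_assoc, hcomm i (a + d) hi (by omega) (by omega)]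

theorem seg_comm_high (hcomm : ∀ i j, i ≤ n → j ≤ n → i + 2 ≤ j → r i * r j = r j * r i)
    (i a d : ℕ) (hi : i ≤ n) (h1 : a + d + 1 ≤ i) :
    seg r a d * r i = r i * seg r a d := by
  induction d with
  | zero => simp [seg]
  | succ d ih =>
    rw [seg, mul_assoc, ih (by omega), ← mul_assoc, ← mul_assoc, hcomm (a + d) i (by omega) hi (by omega)]

/-- Right multiplication of the coset representatives. -/
theorem step (hsq : ∀ i, i ≤ n → r i * r i = 1)
    (hcomm : ∀ i j, i ≤ n → j ≤ n → i + 2 ≤ j → r i * r j = r j * r i)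
    (hbraid : ∀ i, i + 1 ≤ n → r i * r (i + 1) * r i = r (i + 1) * r i * r (i + 1))
    (H : Subgroup G) (hH : ∀ i, i < n → r i ∈ H)
    (k i : ℕ) (hk : k ≤ n + 1) (hi : i ≤ n) :
    ∃ h ∈ H, ∃ k', k' ≤ n + 1 ∧ seg r k (n + 1 - k) * r i = h * seg r k' (n + 1 - k') := by
  rcases lt_trichotomy (i + 1) k with h1 | h1 | h1
  · -- i + 2 ≤ k
    refine ⟨r i, hH i (by omega), k, hk, ?_⟩
    exact seg_comm_low r hcomm i k _ hi (by omega) (by omega)
  · -- i + 1 = k
    subst h1
    refine ⟨1, H.one_mem, i, by omega, ?_⟩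
    have h2 : n + 1 - i = (n + 1 - (i + 1)) + 1 := by omega
    rw [one_mul, h2, seg_succ']
  · rcases Nat.lt_or_ge k i with h2 | h2
    · -- k < i
      obtain ⟨i', rfl⟩ : ∃ i', i = i' + 1 := ⟨i - 1, by omega⟩
      refine ⟨r i', hH i' (by omega), k, hk, ?_⟩
      -- split
      have h3 : n + 1 - k = (n - (i' + 1)) + ((i' - k) + 1 + 1) := by omega
      set A := seg r (i' + 2) (n - (i' + 1)) with hAdef
      set B := seg r k (i' - k) with hBdef
      have ht : seg r k (n + 1 - k) = A * (r (i' + 1) * (r i' * B)) := by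
        rw [h3, seg_add]
        have e1 : k + ((i' - k) + 1 + 1) = i' + 2 := by omega
        rw [e1, ← hAdef, seg, seg]
        have e2 : k + (i' - k + 1) = i' + 1 := by omega
        have e3 : k + (i' - k) = i' := by omega
        rw [e2, e3]
      have hA : A * r i' = r i' * A :=
        seg_comm_low r hcomm i' (i' + 2) _ (by omega) (by omega) (by omega)
      have hB : B * r (i' + 1) = r (i' + 1) * B :=
        seg_comm_high r hcomm (i' + 1) k _ hi (by omega)
      have hb := hbraid i' hi
      rw [ht]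
      calc A * (r (i' + 1) * (r i' * B)) * r (i' + 1) = A * (r (i' + 1) * r i') * (B * r (i' + 1)) := by group
        _ = A * (r (i' + 1) * r i') * (r (i' + 1) * B) := by rw [hB]
        _ = A * (r (i' + 1) * r i' * r (i' + 1)) * B := by group
        _ = A * (r i' * r (i' + 1) * r i') * B := by rw [hb]
        _ = (A * r i') * (r (i' + 1) * (r i' * B)) := by group
        _ = (r i' * A) * (r (i' + 1) * (r i' * B)) := by rw [hA]
        _ = r i' * (A * (r (i' + 1) * (r i' * B))) := by group
    · -- i = k
      have h3 : i = k := by omega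
      subst h3
      refine ⟨1, H.one_mem, i + 1, by omega, ?_⟩
      have h4 : n + 1 - i = (n + 1 - (i + 1)) + 1 := by omega
      rw [one_mul, h4, seg_succ', mul_assoc, hsq i hi, mul_one]

end Abstract

/-- The Coxeter relations of type A, in the presented group, with natural number indices. -/
noncomputable def simpleN (n : ℕ) (i : ℕ) : (CoxeterMatrix.A (n + 1)).Group :=
  if h : i < n + 1 then (CoxeterMatrix.A (n + 1)).toCoxeterSystem.simple ⟨i, h⟩ else 1

theorem simpleN_of_lt (n i : ℕ) (h : i < n + 1) : simpleN n i = (CoxeterMatrix.A (n + 1)).toCoxeterSystem.simple ⟨i, h⟩ := by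
  simp [simpleN, h]

theorem simpleN_sq (n i : ℕ) (h : i ≤ n) : simpleN n i * simpleN n i = 1 := by
  rw [simpleN_of_lt n i (by omega)]
  exact CoxeterSystem.simple_mul_simple_self _ _

theorem simpleN_comm (n i j : ℕ) (hi : i ≤ n) (hj : j ≤ n) (hij : i + 2 ≤ j) :
    simpleN n i * simpleN n j = simpleN n j * simpleN n i := by
  rw [simpleN_of_lt n i (by omega), simpleN_of_lt n j (by omega)]
  set cs := (CoxeterMatrix.A (n + 1)).toCoxeterSystem
  have h := cs.simple_mul_simple_pow (⟨i, by omega⟩ : Fin (n + 1)) ⟨j, by omega⟩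
  have hM : (CoxeterMatrix.A (n + 1)) (⟨i, by omega⟩ : Fin (n + 1)) ⟨j, by omega⟩ = 2 := by
    simp only [CoxeterMatrix.A, Matrix.of_apply]
    rw [if_neg (by simp; omega), if_neg (by simp; omega)]
  rw [hM, pow_two] at h
  have h1 := cs.simple_mul_simple_self (⟨i, by omega⟩ : Fin (n + 1))
  have h2 := cs.simple_mul_simple_self (⟨j, by omega⟩ : Fin (n + 1))
  set a := cs.simple (⟨i, by omega⟩ : Fin (n + 1))
  set b := cs.simple (⟨j, by omega⟩ : Fin (n + 1))
  have ha : a⁻¹ = a := (eq_inv_of_mul_eq_one_left h1).symm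
  have hb : b⁻¹ = b := (eq_inv_of_mul_eq_one_left h2).symm
  have h3 := eq_inv_of_mul_eq_one_left h
  rw [mul_inv_rev, ha, hb] at h3
  exact h3

theorem simpleN_braid (n i : ℕ) (hi : i + 1 ≤ n) :
    simpleN n i * simpleN n (i + 1) * simpleN n i = simpleN n (i + 1) * simpleN n i * simpleN n (i + 1) := by
  rw [simpleN_of_lt n i (by omega), simpleN_of_lt n (i + 1) (by omega)]
  set cs := (CoxeterMatrix.A (n + 1)).toCoxeterSystem
  have h := cs.simple_mul_simple_pow (⟨i, by omega⟩ : Fin (n + 1)) ⟨i + 1, by omega⟩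
  have hM : (CoxeterMatrix.A (n + 1)) (⟨i, by omega⟩ : Fin (n + 1)) ⟨i + 1, by omega⟩ = 3 := by
    simp only [CoxeterMatrix.A, Matrix.of_apply]
    rw [if_neg (by simp), if_pos (by simp)]
  rw [hM] at h
  have h1 := cs.simple_mul_simple_self (⟨i, by omega⟩ : Fin (n + 1))
  have h2 := cs.simple_mul_simple_self (⟨i + 1, by omega⟩ : Fin (n + 1))
  set a := cs.simple (⟨i, by omega⟩ : Fin (n + 1))
  set b := cs.simple (⟨i + 1, by omega⟩ : Fin (n + 1))
  have ha : a⁻¹ = a := (eq_inv_of_mul_eq_one_left h1).symm
  have hb : b⁻¹ = b := (eq_inv_of_mul_eq_one_left h2).symm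
  have h3 : a * b * a * (b * a * b) = 1 := by
    rw [← h]
    simp only [pow_succ, pow_zero, one_mul, mul_assoc]
  have h4 := eq_inv_of_mul_eq_one_left h3
  rw [mul_inv_rev, mul_inv_rev, ha, hb] at h4
  rw [h4, mul_assoc]

/-- Bound for the order of the Coxeter group of type `A`. -/
theorem card_le (n : ℕ) : Finite (CoxeterMatrix.A n).Group ∧ Nat.card (CoxeterMatrix.A n).Group ≤ (n + 1).factorial := by
  induction n with
  | zero =>
    have h : ∀ g : (CoxeterMatrix.A 0).Group, g = 1 := by
      intro g
      induction g using (CoxeterMatrix.A 0).toCoxeterSystem.simple_induction_right with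
      | one => rfl
      | mul_simple_right w i _ => exact i.elim0
    have h2 : Subsingleton (CoxeterMatrix.A 0).Group := ⟨fun a b => by rw [h a, h b]⟩
    refine ⟨inferInstance, ?_⟩
    rw [Nat.card_of_subsingleton (1 : (CoxeterMatrix.A 0).Group)]
    simp
  | succ n ih =>
    obtain ⟨hfin, hcard⟩ := ih
    set cs := (CoxeterMatrix.A n).toCoxeterSystem with hcs
    set cs' := (CoxeterMatrix.A (n + 1)).toCoxeterSystem with hcs'
    have hlift : (CoxeterMatrix.A n).IsLiftable (fun i : Fin n => cs'.simple i.castSucc) := by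
      intro i i'
      have h := cs'.simple_mul_simple_pow i.castSucc i'.castSucc
      have hM : (CoxeterMatrix.A (n + 1)) i.castSucc i'.castSucc = (CoxeterMatrix.A n) i i' := by
        simp [CoxeterMatrix.A]
      rwa [hM] at h
    let j : (CoxeterMatrix.A n).Group →* (CoxeterMatrix.A (n + 1)).Group := cs.lift ⟨_, hlift⟩
    have hj : ∀ i : Fin n, j (cs.simple i) = cs'.simple i.castSucc := fun i => cs.lift_apply_simple hlift i
    let H : Subgroup (CoxeterMatrix.A (n + 1)).Group := j.range
    have hH : ∀ i, i < n → simpleN n i ∈ H := by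
      intro i hi
      rw [simpleN_of_lt n i (by omega)]
      exact ⟨cs.simple ⟨i, hi⟩, hj ⟨i, hi⟩⟩
    have hgen : ∀ g : (CoxeterMatrix.A (n + 1)).Group, ∃ h ∈ H, ∃ k, k ≤ n + 1 ∧ g = h * seg (simpleN n) k (n + 1 - k) := by
      intro g
      induction g using cs'.simple_induction_right with
      | one =>
        refine ⟨1, H.one_mem, n + 1, le_rfl, ?_⟩
        simp [seg]
      | mul_simple_right w i ih2 =>
        obtain ⟨h, hh, k, hk, rfl⟩ := ih2
        obtain ⟨h', hh', k', hk', e⟩ := step (simpleN n) (simpleN_sq n)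
          (simpleN_comm n) (simpleN_braid n) H hH k i (by exact hk) (by have := i.2; omega)
        refine ⟨h * h', H.mul_mem hh hh', k', hk', ?_⟩
        rw [mul_assoc, mul_assoc, ← e, simpleN_of_lt n i (by have := i.2; omega)]
    have hfinH : Finite H := Finite.of_surjective j.rangeRestrict (MonoidHom.rangeRestrict_surjective j)
    let φ : H × Fin (n + 2) → (CoxeterMatrix.A (n + 1)).Group :=
      fun x => (x.1 : (CoxeterMatrix.A (n + 1)).Group) * seg (simpleN n) (x.2 : ℕ) (n + 1 - (x.2 : ℕ))
    have hφ : Function.Surjective φ := by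
      intro g
      obtain ⟨h, hh, k, hk, rfl⟩ := hgen g
      exact ⟨(⟨h, hh⟩, ⟨k, by omega⟩), rfl⟩
    refine ⟨Finite.of_surjective φ hφ, ?_⟩
    have h1 : Nat.card (CoxeterMatrix.A (n + 1)).Group ≤ Nat.card (H × Fin (n + 2)) :=
      Nat.card_le_card_of_surjective φ hφ
    have h2 : Nat.card H ≤ Nat.card (CoxeterMatrix.A n).Group :=
      Nat.card_le_card_of_surjective j.rangeRestrict (MonoidHom.rangeRestrict_surjective j)
    rw [Nat.card_prod, Nat.card_eq_fintype_card (α := Fin (n + 2)), Fintype.card_fin] at h1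
    calc _ ≤ Nat.card H * (n + 2) := h1
      _ ≤ (n + 1).factorial * (n + 2) := Nat.mul_le_mul_right _ (h2.trans hcard)
      _ = (n + 2).factorial := by
        rw [Nat.factorial_succ (n + 1)]
        ring

theorem swap_relation (n : ℕ) : (CoxeterMatrix.A n).IsLiftable (fun i : Fin n => Equiv.swap i.castSucc i.succ) := by
  intro i j
  simp only [CoxeterMatrix.A, Matrix.of_apply]
  by_cases hij : i = j
  · subst hij
    simp
  rw [if_neg hij]
  by_cases hadj : (j : ℕ) + 1 = i ∨ (i : ℕ) + 1 = j
  · rw [if_pos hadj]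
    rcases hadj with h | h
    · have h1 : (Equiv.swap i.castSucc i.succ * Equiv.swap j.castSucc j.succ) = Equiv.swap i.castSucc i.succ * Equiv.swap i.castSucc j.castSucc := by
        have e : j.succ = i.castSucc := by ext; simp; omega
        rw [e, Equiv.swap_comm j.castSucc i.castSucc]
      rw [h1]
      have h2 := Equiv.Perm.isThreeCycle_swap_mul_swap_same (a := i.castSucc) (b := i.succ) (c := j.castSucc)
        (by simp [Fin.ext_iff]) (by simp [Fin.ext_iff]; omega) (by simp [Fin.ext_iff]; omega)
      rw [← h2.orderOf]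
      exact pow_orderOf_eq_one _
    · have h1 : (Equiv.swap i.castSucc i.succ * Equiv.swap j.castSucc j.succ) = Equiv.swap j.castSucc i.castSucc * Equiv.swap j.castSucc j.succ := by
        have e : i.succ = j.castSucc := by ext; simp; omega
        rw [e, Equiv.swap_comm i.castSucc j.castSucc]
      rw [h1]
      have h2 := Equiv.Perm.isThreeCycle_swap_mul_swap_same (a := j.castSucc) (b := i.castSucc) (c := j.succ)
        (by simp [Fin.ext_iff]; omega) (by simp [Fin.ext_iff]) (by simp [Fin.ext_iff]; omega)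
      rw [← h2.orderOf]
      exact pow_orderOf_eq_one _
  · rw [if_neg hadj]
    push Not at hadj
    have hij' : (i : ℕ) ≠ j := fun h => hij (Fin.ext h)
    have hd : Equiv.Perm.Disjoint (Equiv.swap i.castSucc i.succ) (Equiv.swap j.castSucc j.succ) :=
      Equiv.Perm.disjoint_swap_swap (by simp [Fin.ext_iff]; omega)
    rw [hd.commute.mul_pow]
    simp [pow_two]

/-- The Coxeter presentation of the symmetric group: for every n, the symmetric group on n+1 letters is the Coxeter group of type A_n with the adjacent transpositions (i, i+1) as simple reflections; that is, it is presented by generators r_1, …, r_n subject to r_i² = 1, (r_i r_j)² = 1 for |i − j| > 1 and (r_i r_{i+1})³ = 1, with r_i mapping to (i, i+1). -/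
theorem result (n : ℕ) :
    ∃ cs : CoxeterSystem (CoxeterMatrix.A n) (Equiv.Perm (Fin (n + 1))), ∀ i : Fin n, cs.simple i = Equiv.swap i.castSucc i.succ := by
  classical
  obtain ⟨hfin, hcard⟩ := card_le n
  set cs := (CoxeterMatrix.A n).toCoxeterSystem with hcs
  let f : (CoxeterMatrix.A n).Group →* Equiv.Perm (Fin (n + 1)) := cs.lift ⟨_, swap_relation n⟩
  have hf : ∀ i : Fin n, f (cs.simple i) = Equiv.swap i.castSucc i.succ := fun i => cs.lift_apply_simple (swap_relation n) i
  have hsurj : Function.Surjective f := by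
    rw [← MonoidHom.range_eq_top]
    have h1 := Equiv.Perm.mclosure_swap_castSucc_succ n
    rw [eq_top_iff]
    have key : ∀ x ∈ Submonoid.closure (Set.range fun i : Fin n => Equiv.swap i.castSucc i.succ), x ∈ f.range := by
      intro x h2
      induction h2 using Submonoid.closure_induction with
      | mem x hx =>
        obtain ⟨i, rfl⟩ := hx
        exact ⟨cs.simple i, hf i⟩
      | one => exact f.range.one_mem
      | mul a b _ _ ha hb => exact f.range.mul_mem ha hb
    intro x _
    apply key
    rw [h1]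
    trivial
  have hbij : Function.Bijective f := by
    rw [Nat.bijective_iff_surjective_and_card]
    refine ⟨hsurj, le_antisymm ?_ ?_⟩
    · rw [Nat.card_eq_fintype_card (α := Equiv.Perm (Fin (n + 1))), Fintype.card_perm, Fintype.card_fin]
      exact hcard
    · exact Nat.card_le_card_of_surjective f hsurj
  let e : (CoxeterMatrix.A n).Group ≃* Equiv.Perm (Fin (n + 1)) := MulEquiv.ofBijective f hbij
  refine ⟨cs.map e, ?_⟩
  intro i
  rw [CoxeterSystem.map_simple]
  exact hf i

end Cfsg.Agent.S2530
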