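import Cfsg.Statements.S2809
import Cfsg.Agent.Lib.LocalEven.Amalgam

set_option autoImplicit false
open Cfsg

namespace Cfsg.Agent.S2809

/-- Let H be a finite group, p a prime, R a p-subgroup of H with C_H(R) ≤ R, and L a subgroup of N_H(R) acting nilpotently on R (some iterated commutator [R, L, …, L] is trivial). Then L is a p-group. -/
theorem result {H : Type*} [Group H] [Finite H] {p : ℕ} [Fact p.Prime] (R : Subgroup H) (hR : IsPGroup p ↥R) (hC : Subgroup.centralizer (R : Set H) ≤ R) (L : Subgroup H) (hL : L ≤ Subgroup.normalizer (R : Set H)) (hnil : ∃ n : ℕ, Cfsg.iterCommutator R L n = ⊥) : IsPGroup p ↥L := by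
  open Cfsg.Agent.Lib.LocalEven in
  obtain ⟨n, hn⟩ := hnil
  apply isPGroup_subgroup_of_forall_coprime
  intro x hx hcop
  have h1 := coprime_centralizes_of_nilpotent_action hR hL n hn hx hcop
  have h2 : x ∈ R := hC (by
    rw [Subgroup.mem_centralizer_iff]
    intro r hr
    exact (h1 r hr).symm)
  exact eq_one_of_coprime_of_pPower (orderOf_of_mem_isPGroup hR h2) hcop

end Cfsg.Agent.S2809
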