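import Cfsg.Statements.S2810
import Cfsg.Agent.Lib.LocalEven.Amalgam

set_option autoImplicit false
open Cfsg

namespace Cfsg.Agent.S2810

/-- Let H be a finite group of characteristic p and L a subgroup of H centralizing every factor of some H-invariant chain 1 = A₀ ≤ A₁ ≤ … ≤ Aₙ = O_p(H) of normal subgroups (that is, [A_{i+1}, L] ≤ Aᵢ for each i). Then L ≤ O_p(H). -/
theorem result {H : Type*} [Group H] [Finite H] {p : ℕ} [Fact p.Prime] (hchar : Subgroup.centralizer (Cfsg.pCore p H : Set H) ≤ Cfsg.pCore p H) (L : Subgroup H) (n : ℕ) (A : Fin (n + 1) → Subgroup H) (h0 : A 0 = ⊥) (hn : A (Fin.last n) = Cfsg.pCore p H) (hmono : Monotone A) (hnorm : ∀ i, (A i).Normal) (hcent : ∀ i : Fin n, ⁅A i.succ, L⁆ ≤ A i.castSucc) : L ≤ Cfsg.pCore p H := by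
  open Cfsg.Agent.Lib.LocalEven Cfsg.Agent.Lib.Basic in
  -- the stabilizer of the chain
  let C : Subgroup H :=
    { carrier := {g | ∀ i : Fin n, ∀ a ∈ A i.succ, a * g * a⁻¹ * g⁻¹ ∈ A i.castSucc}
      one_mem' := by
        intro i a _
        simp
      mul_mem' := by
        intro g k hg hk i a ha
        have h1 := hg i a ha
        have h2 := hk i a ha
        have h3 := (hnorm i.castSucc).conj_mem _ h2 g
        have e : a * (g * k) * a⁻¹ * (g * k)⁻¹ = (a * g * a⁻¹ * g⁻¹) * (g * (a * k * a⁻¹ * k⁻¹) * g⁻¹) := by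
          group
        rw [e]
        exact (A i.castSucc).mul_mem h1 h3
      inv_mem' := by
        intro g hg i a ha
        have h1 := hg i a ha
        have h3 := (hnorm i.castSucc).conj_mem _ ((A i.castSucc).inv_mem h1) g⁻¹
        have e : a * g⁻¹ * a⁻¹ * g⁻¹⁻¹ = g⁻¹ * (a * g * a⁻¹ * g⁻¹)⁻¹ * g⁻¹⁻¹ := by
          group
        rw [e]
        exact h3 }
  have hLC : L ≤ C := by
    intro l hl i a ha
    exact hcent i (Subgroup.commutator_mem_commutator ha hl)
  have hCn : C.Normal := by
    refine ⟨fun g hg t i a ha => ?_⟩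
    have h1 := (hnorm i.succ).conj_mem a ha t⁻¹
    have h2 := hg i _ h1
    have h3 := (hnorm i.castSucc).conj_mem _ h2 t
    have e : a * (t * g * t⁻¹) * a⁻¹ * (t * g * t⁻¹)⁻¹ =
        t * (t⁻¹ * a * t⁻¹⁻¹ * g * (t⁻¹ * a * t⁻¹⁻¹)⁻¹ * g⁻¹) * t⁻¹ := by
      group
    rw [e]
    exact h3
  have hp : IsPGroup p (C : Subgroup H) := by
    apply isPGroup_subgroup_of_forall_coprime
    intro x hx hcop
    have hmono' : ∀ i, A i ≤ pCore p H := by
      intro i
      rw [← hn]
      exact hmono (Fin.le_last i)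
    have key : ∀ k : ℕ, ∀ hk : k < n + 1, ∀ a ∈ A ⟨k, hk⟩, Commute x a := by
      intro k
      induction k with
      | zero =>
        intro hk a ha
        have : (⟨0, hk⟩ : Fin (n + 1)) = 0 := rfl
        rw [this, h0] at ha
        rw [Subgroup.mem_bot.1 ha]
        exact Commute.one_right x
      | succ k ih =>
        intro hk a ha
        have hk' : k < n := by omega
        have h1 := ih (by omega)
        refine coprime_commute_of_commutator_mem hcop (B := A ⟨k + 1, hk⟩) (A := A ⟨k, by omega⟩)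
          ((pCore_isPGroup p).to_le (hmono' _)) (hmono (by simp [Fin.le_def])) h1 ?_ a ha
        intro b hb
        exact hx ⟨k, hk'⟩ b hb
    have h2 : x ∈ pCore p H := hchar (by
      rw [Subgroup.mem_centralizer_iff]
      intro y hy
      rw [← hn] at hy
      exact (key n (by omega) y hy).symm)
    exact eq_one_of_coprime_of_pPower (orderOf_of_mem_isPGroup (pCore_isPGroup p) h2) hcop
  exact hLC.trans (le_pCore hCn hp)

end Cfsg.Agent.S2810
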