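import Cfsg.Statements.S2813
import Cfsg.Agent.Lib.LocalEven.Amalgam

set_option autoImplicit false
open Cfsg
open scoped commutatorElement

namespace Cfsg.Agent.S2813

/-- Let K be a subgroup of the finite group H with O_p(K) = 1 and Y a p-subgroup of N_H(K) with [K, Y, Y] = 1. Then [K, Y] = 1. -/
theorem result {H : Type*} [Group H] [Finite H] {p : ℕ} [Fact p.Prime] (K : Subgroup H) (hO : Cfsg.pCore p ↥K = ⊥) (Y : Subgroup H) (hY : IsPGroup p ↥Y) (hYK : Y ≤ Subgroup.normalizer (K : Set H)) (hq : ⁅⁅K, Y⁆, Y⁆ = ⊥) : ⁅K, Y⁆ = ⊥ := by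
  open Cfsg.Agent.Lib.LocalEven Cfsg.Agent.Lib.Basic in
  set M := ⁅K, Y⁆ with hM
  have hMK : M ≤ K := by
    rw [hM, Subgroup.commutator_le]
    intro k hk y hy
    have h1 : y * k⁻¹ * y⁻¹ ∈ K := (Subgroup.mem_normalizer_iff.1 (hYK hy) k⁻¹).1 (K.inv_mem hk)
    have e : ⁅k, y⁆ = k * (y * k⁻¹ * y⁻¹) := by rw [commutatorElement_def]; group
    rw [e]
    exact K.mul_mem hk h1
  have hYM : ∀ y ∈ Y, ∀ m ∈ M, Commute y m := by
    intro y hy m hm
    have h1 : ⁅m, y⁆ ∈ ⁅M, Y⁆ := Subgroup.commutator_mem_commutator hm hy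
    rw [hq] at h1
    have h2 := Subgroup.mem_bot.1 h1
    exact (commutatorElement_eq_one_iff_commute.1 h2).symm
  -- `K` normalizes `M`
  have hKM : ∀ k ∈ K, ∀ m ∈ M, k * m * k⁻¹ ∈ M := by
    intro k hk m hm
    -- conjugation by `k` maps generators of `M`: use `[a,y]^k = [ka, y] [k,y]^{-1}`
    have key : (⁅K, Y⁆).map (MulAut.conj k).toMonoidHom ≤ ⁅K, Y⁆ := by
      rw [Subgroup.commutator_def, MonoidHom.map_closure, Subgroup.closure_le]
      rintro _ ⟨_, ⟨a, ha, y, hy, rfl⟩, rfl⟩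
      simp only [MulEquiv.coe_toMonoidHom, MulAut.conj_apply]
      have e : k * ⁅a, y⁆ * k⁻¹ = ⁅k * a, y⁆ * (⁅k, y⁆)⁻¹ := by
        simp only [commutatorElement_def]; group
      rw [e]
      exact Subgroup.mul_mem _ (Subgroup.commutator_mem_commutator (K.mul_mem hk ha) hy)
        (Subgroup.inv_mem _ (Subgroup.commutator_mem_commutator hk hy))
    exact key ⟨m, hm, rfl⟩
  -- generators commute with `M`
  have hgenc : ∀ k ∈ K, ∀ y ∈ Y, ∀ m ∈ M, Commute (⁅k, y⁆) m := by
    intro k hk y hy m hm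
    set c := ⁅k, y⁆ with hc
    have hcM : c ∈ M := Subgroup.commutator_mem_commutator hk hy
    -- put `m' = k⁻¹ m k`
    have hm' : k⁻¹ * m * k ∈ M := by
      have := hKM k⁻¹ (K.inv_mem hk) m hm
      simpa using this
    have h1 : y * (k * (k⁻¹ * m * k) * k⁻¹) * y⁻¹ = k * (k⁻¹ * m * k) * k⁻¹ := by
      have := hYM y hy m hm
      have e : k * (k⁻¹ * m * k) * k⁻¹ = m := by group
      rw [e, this.eq]; group
    have h2 : y * k * y⁻¹ = c⁻¹ * k := by
      rw [hc, commutatorElement_def]; group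
    have h3 : y * (k * (k⁻¹ * m * k) * k⁻¹) * y⁻¹ =
        (y * k * y⁻¹) * (y * (k⁻¹ * m * k) * y⁻¹) * (y * k * y⁻¹)⁻¹ := by group
    have h4 : y * (k⁻¹ * m * k) * y⁻¹ = k⁻¹ * m * k := by
      rw [(hYM y hy _ hm').eq]; group
    rw [h3, h2, h4] at h1
    have h5 : c⁻¹ * m * c = m := by
      have e : c⁻¹ * k * (k⁻¹ * m * k) * (c⁻¹ * k)⁻¹ = c⁻¹ * m * c := by group
      have e2 : k * (k⁻¹ * m * k) * k⁻¹ = m := by group
      rw [e, e2] at h1
      exact h1
    have h6 : m * c = c * m := by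
      calc m * c = c * (c⁻¹ * m * c) := by group
        _ = c * m := by rw [h5]
    exact h6.symm
  -- `M` is commutative
  have hMc : ∀ a ∈ M, ∀ m ∈ M, Commute a m := by
    intro a ha m hm
    rw [hM, Subgroup.commutator_def] at ha
    induction ha using Subgroup.closure_induction with
    | mem x hx =>
      obtain ⟨k, hk, y, hy, rfl⟩ := hx
      exact hgenc k hk y hy m hm
    | one => exact Commute.one_left m
    | mul a b _ _ iha ihb => exact iha.mul_left ihb
    | inv a _ iha => exact iha.inv_left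
  -- generators are `p`-elements
  have hgenp : ∀ k ∈ K, ∀ y ∈ Y, ∃ n : ℕ, (⁅k, y⁆) ^ (p ^ n) = 1 := by
    intro k hk y hy
    set c := ⁅k, y⁆ with hc
    have hcM : c ∈ M := Subgroup.commutator_mem_commutator hk hy
    obtain ⟨n, hn⟩ := orderOf_of_mem_isPGroup hY hy
    refine ⟨n, ?_⟩
    have e : c * y = k * y * k⁻¹ := by rw [hc, commutatorElement_def]; group
    have h1 : (c * y) ^ (p ^ n) = 1 := by
      rw [e, conj_pow, ← hn, pow_orderOf_eq_one]; simp
    rw [((hYM y hy c hcM).symm).mul_pow, ← hn, pow_orderOf_eq_one, mul_one] at h1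
    rw [← hn]
    exact h1
  have hMp : IsPGroup p M := by
    have hall : ∀ a ∈ M, ∃ n : ℕ, a ^ (p ^ n) = 1 := by
      intro a ha
      have ha' := ha
      rw [hM, Subgroup.commutator_def] at ha'
      induction ha' using Subgroup.closure_induction with
      | mem x hx =>
        obtain ⟨k, hk, y, hy, rfl⟩ := hx
        exact hgenp k hk y hy
      | one => exact ⟨0, by simp⟩
      | mul a b ha1 hb1 iha ihb =>
        have ha2 : a ∈ M := by rw [hM, Subgroup.commutator_def]; exact ha1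
        have hb2 : b ∈ M := by rw [hM, Subgroup.commutator_def]; exact hb1
        obtain ⟨n₁, hn₁⟩ := iha ha2
        obtain ⟨n₂, hn₂⟩ := ihb hb2
        refine ⟨n₁ + n₂, ?_⟩
        rw [(hMc a ha2 b hb2).mul_pow, pow_add, pow_mul, hn₁, one_pow, one_mul, mul_comm, pow_mul,
          hn₂, one_pow]
      | inv a ha1 iha =>
        have ha2 : a ∈ M := by rw [hM, Subgroup.commutator_def]; exact ha1
        obtain ⟨n, hn⟩ := iha ha2
        exact ⟨n, by rw [inv_pow, hn, inv_one]⟩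
    intro a
    obtain ⟨n, hn⟩ := hall a a.2
    refine ⟨n, ?_⟩
    apply Subtype.ext
    simpa using hn
  -- `M` inside `K` is a normal `p`-subgroup
  have hN : (M.subgroupOf K).Normal := by
    refine ⟨fun m hm k => ?_⟩
    exact hKM k k.2 m hm
  have hP : IsPGroup p (M.subgroupOf K) := hMp.of_equiv (Subgroup.subgroupOfEquivOfLe hMK).symm
  have h1 : M.subgroupOf K ≤ pCore p K := le_pCore hN hP
  rw [hO] at h1
  rw [eq_bot_iff]
  intro m hm
  have : (⟨m, hMK hm⟩ : K) ∈ (⊥ : Subgroup K) := h1 hm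
  have h2 : (⟨m, hMK hm⟩ : K) = 1 := Subgroup.mem_bot.1 this
  exact Subgroup.mem_bot.2 (congrArg Subtype.val h2)

end Cfsg.Agent.S2813
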