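import Cfsg.Statements.S2818
import Cfsg.Agent.Lib.LocalEven.Kieler
import Cfsg.Agent.Lib.Transfer.Frattini

set_option autoImplicit false
open Cfsg
open scoped commutatorElement

namespace Cfsg.Agent.S2818

/-- Let P be a finite p-subgroup of a group G and H a subgroup of N_G(P) with [P, H] ≤ Ω₁(Z(P)) (the elements of order dividing p in the centre of P). Then H centralizes the Frattini subgroup of P. -/
theorem result {G : Type*} [Group G] [Finite G] {p : ℕ} [Fact p.Prime] (P : Subgroup G) (hP : IsPGroup p ↥P) (H : Subgroup G) (hH : H ≤ Subgroup.normalizer (P : Set G)) (h : ⁅P, H⁆ ≤ Cfsg.omegaOne p (P ⊓ Subgroup.centralizer (P : Set G))) : ⁅(frattini ↥P).map P.subtype, H⁆ = ⊥ := by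
  classical
  open Cfsg.Agent.Lib.LocalEven Cfsg.Agent.Lib.Basic in
  have hAel : IsElementaryAbelian p (omegaOne p (P ⊓ Subgroup.centralizer (P : Set G))) :=
    omegaOne_center_isElementaryAbelian P
  have hAZ : omegaOne p (P ⊓ Subgroup.centralizer (P : Set G)) ≤ P ⊓ Subgroup.centralizer (P : Set G) := omegaOne_le le_rfl
  rw [eq_bot_iff, Subgroup.commutator_le]
  rintro _ ⟨f, hf, rfl⟩ y hy
  rw [Subgroup.mem_bot]
  have hmem : ∀ x ∈ P, ⁅x, y⁆ ∈ omegaOne p (P ⊓ Subgroup.centralizer (P : Set G)) :=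
    fun x hx => h (Subgroup.commutator_mem_commutator hx hy)
  have hcomm : ∀ x : G, x ∈ P → ∀ a ∈ omegaOne p (P ⊓ Subgroup.centralizer (P : Set G)), x * a = a * x := by
    intro x hx a ha
    exact Subgroup.mem_centralizer_iff.1 (hAZ ha).2 x hx
  -- the homomorphism `x ↦ [x, y]`
  let φ : ↥P →* ↥(omegaOne p (P ⊓ Subgroup.centralizer (P : Set G))) :=
    { toFun := fun x => ⟨⁅(x : G), y⁆, hmem x x.2⟩
      map_one' := by
        apply Subtype.ext
        simp
      map_mul' := by
        intro a b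
        apply Subtype.ext
        show ⁅(a : G) * b, y⁆ = ⁅(a : G), y⁆ * ⁅(b : G), y⁆
        have h1 := hcomm a a.2 _ (hmem b b.2)
        rw [commutatorElement_def, commutatorElement_def, commutatorElement_def] at *
        calc (a : G) * b * y * ((a : G) * b)⁻¹ * y⁻¹
            = (a : G) * (b * y * (b : G)⁻¹ * y⁻¹) * (y * (a : G)⁻¹ * y⁻¹) := by group
          _ = ((b * y * (b : G)⁻¹ * y⁻¹) * (a : G)) * (y * (a : G)⁻¹ * y⁻¹) := by rw [h1]
          _ = ((b : G) * y * (b : G)⁻¹ * y⁻¹) * ((a : G) * y * (a : G)⁻¹ * y⁻¹) := by group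
          _ = ((a : G) * y * (a : G)⁻¹ * y⁻¹) * ((b : G) * y * (b : G)⁻¹ * y⁻¹) :=
            IsElementaryAbelian_comm hAel (hmem b b.2) (hmem a a.2) }
  have hle : frattini ↥P ≤ φ.ker := by
    apply Cfsg.Agent.Lib.Transfer.frattini_le_of_elementary (p := p)
    · intro x
      rw [MonoidHom.mem_ker, map_pow]
      apply Subtype.ext
      exact hAel.2 _ (φ x).2
    · intro x z
      rw [MonoidHom.mem_ker, map_mul, map_mul, map_mul, map_inv, map_inv]
      apply Subtype.ext
      simp only [Subgroup.coe_mul, Subgroup.coe_inv, Subgroup.coe_one]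
      have h2 : ((φ x : ↥(omegaOne p (P ⊓ Subgroup.centralizer (P : Set G)))) : G) * (φ z : ↥(omegaOne p (P ⊓ Subgroup.centralizer (P : Set G)))) = (φ z : ↥(omegaOne p (P ⊓ Subgroup.centralizer (P : Set G)))) * (φ x : ↥(omegaOne p (P ⊓ Subgroup.centralizer (P : Set G)))) :=
        IsElementaryAbelian_comm hAel (φ x).2 (φ z).2
      rw [h2]
      group
  have h3 := hle hf
  rw [MonoidHom.mem_ker] at h3
  exact congrArg Subtype.val h3

end Cfsg.Agent.S2818
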