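import Cfsg.Statements.S2821
import Cfsg.Agent.Lib.LocalEven.PReduced

set_option autoImplicit false
open Cfsg

namespace Cfsg.Agent.S2821

/-- Let H be a finite group, p a prime, T a Sylow p-subgroup and L a subgroup of characteristic p containing T; let Y_L be the largest p-reduced normal subgroup of L (the join of the normal elementary abelian p-subgroups V of L with O_p(L/C_L(V)) = 1). Then T₀ := C_T(Y_L) is a Sylow p-subgroup of C_H(Y_L); moreover O_p(L) ≤ T₀ ≤ C_L(Y_L) and Ω₁(Z(T)) ≤ Z_L ≤ Y_L ≤ Ω₁(Z(O_p(L))), where Z_L is generated by the Ω₁(Z(S)) over the Sylow p-subgroups S of L. -/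
theorem result {H : Type*} [Group H] [Finite H] {p : ℕ} [Fact p.Prime] (T : Sylow p H) (L : Subgroup H) (hTL : (T : Subgroup H) ≤ L) (hL : Subgroup.centralizer (Cfsg.pCore p ↥L : Set ↥L) ≤ Cfsg.pCore p ↥L) (T₀ : Subgroup H) (hT₀ : T₀ = (T : Subgroup H) ⊓ Subgroup.centralizer (((Cfsg.largestPReducedOf p L) : Subgroup H) : Set H)) : (∃ P : Sylow p ↥(Subgroup.centralizer (((Cfsg.largestPReducedOf p L) : Subgroup H) : Set H)), (P : Subgroup ↥(Subgroup.centralizer (((Cfsg.largestPReducedOf p L) : Subgroup H) : Set H))) = T₀.subgroupOf (Subgroup.centralizer (((Cfsg.largestPReducedOf p L) : Subgroup H) : Set H))) ∧ (Cfsg.pCoreOf p L) ≤ T₀ ∧ T₀ ≤ L ⊓ Subgroup.centralizer (((Cfsg.largestPReducedOf p L) : Subgroup H) : Set H) ∧ (Cfsg.omegaOne p ((T : Subgroup H) ⊓ Subgroup.centralizer (((T : Subgroup H) : Subgroup H) : Set H))) ≤ Cfsg.sylowCenterClosure p L ∧ Cfsg.sylowCenterClosure p L ≤ (Cfsg.largestPReducedOf p L) ∧ (Cfsg.largestPReducedOf p L)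 ≤ (Cfsg.omegaOne p ((Cfsg.pCoreOf p L) ⊓ Subgroup.centralizer (((Cfsg.pCoreOf p L) : Subgroup H) : Set H))) := by
  open Cfsg.Agent.Lib.LocalEven in
  have hTN : (T : Subgroup H) ≤ Subgroup.normalizer ((Subgroup.centralizer ((Cfsg.largestPReducedOf p L : Subgroup H) : Set H) : Subgroup H) : Set H) :=
    hTL.trans ((le_normalizer_largestPReducedOf L).trans (normalizer_le_normalizer_centralizer _))
  obtain ⟨S, hS⟩ := Cfsg.Agent.Lib.LocalEven.exists_sylow_of_sylow_le T hTL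
  refine ⟨?_, ?_, ?_, ?_, ?_, ?_⟩
  · rw [hT₀]
    exact Cfsg.Agent.Lib.LocalEven.exists_sylow_inf_of_normalizes T hTN
  · rw [hT₀]
    refine le_inf ?_ (Cfsg.Agent.Lib.LocalEven.pCoreOf_le_centralizer_largestPReducedOf L)
    rw [← hS]
    exact Cfsg.Agent.Lib.LocalEven.pCoreOf_le_sylow_map L S
  · rw [hT₀]
    exact inf_le_inf_right _ hTL
  · have := Cfsg.Agent.Lib.LocalEven.omegaOne_center_sylow_le_closure L S
    rwa [hS] at this
  · exact Cfsg.Agent.Lib.LocalEven.sylowCenterClosure_le_largestPReducedOf L hL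
  · intro y hy
    refine Subgroup.subset_closure ⟨⟨Cfsg.Agent.Lib.LocalEven.largestPReducedOf_le_pCoreOf L hy, ?_⟩,
      (Cfsg.Agent.Lib.LocalEven.largestPReducedOf_elementary L).2 y hy⟩
    refine Subgroup.mem_centralizer_iff.2 ?_
    intro q hq
    exact ((Subgroup.mem_centralizer_iff.1 (Cfsg.Agent.Lib.LocalEven.pCoreOf_le_centralizer_largestPReducedOf L hq)) y hy).symm

end Cfsg.Agent.S2821
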