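import Cfsg.Statements.S2822
import Cfsg.Agent.Lib.LocalEven.PReduced2

set_option autoImplicit false
open Cfsg
open scoped commutatorElement

namespace Cfsg.Agent.S2822

/-- Let H be a finite group, p a prime, T a Sylow p-subgroup, and L, M subgroups of characteristic p containing T, with largest p-reduced normal subgroups Y_L, Y_M. If L·C_H(Y_M) = M·C_H(Y_M), then Y_M ≤ Y_L. -/
theorem result {H : Type*} [Group H] [Finite H] {p : ℕ} [Fact p.Prime] (T : Sylow p H) (L M : Subgroup H) (hTL : (T : Subgroup H) ≤ L) (hTM : (T : Subgroup H) ≤ M) (hL : Subgroup.centralizer (Cfsg.pCore p ↥L : Set ↥L) ≤ Cfsg.pCore p ↥L) (hM : Subgroup.centralizer (Cfsg.pCore p ↥M : Set ↥M) ≤ Cfsg.pCore p ↥M) : L ⊔ Subgroup.centralizer (((Cfsg.largestPReducedOf p M) : Subgroup H) : Set H) = M ⊔ Subgroup.centralizer (((Cfsg.largestPReducedOf p M) : Subgroup H) : Set H) → (Cfsg.largestPReducedOf p M) ≤ (Cfsg.largestPReducedOf p L) := by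
  intro hsup
  open Cfsg.Agent.Lib.LocalEven in
  obtain ⟨S, hS⟩ := exists_sylow_of_sylow_le T hTM
  set Y := Cfsg.largestPReducedOf p M with hYdef
  have hYT : Y ≤ (T : Subgroup H) := by
    rw [← hS]
    exact (largestPReducedOf_le_pCoreOf M).trans (pCoreOf_le_sylow_map M S)
  have hCN : Subgroup.centralizer (Y : Set H) ≤ Subgroup.normalizer (Y : Set H) := by
    apply le_normalizer_of_conj_le
    rintro c hc _ ⟨y, hy, rfl⟩
    have := (Subgroup.mem_centralizer_iff.1 hc) y hy
    have e : (MulAut.conj c).toMonoidHom y = y := by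
      simp only [MulEquiv.coe_toMonoidHom, MulAut.conj_apply]
      rw [← this]; group
    rw [e]; exact hy
  have hMN : M ≤ Subgroup.normalizer (Y : Set H) := le_normalizer_largestPReducedOf M
  have hLN : L ≤ Subgroup.normalizer (Y : Set H) := by
    have : L ≤ M ⊔ Subgroup.centralizer (Y : Set H) := by
      rw [← hsup]; exact le_sup_left
    exact this.trans (sup_le hMN hCN)
  have hYred : IsPReducedNormal p (Y.subgroupOf M) := by
    rw [hYdef, subgroupOf_largestPReducedOf]
    exact largestPReduced_isPReduced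
  exact le_largestPReducedOf (hYT.trans hTL)
    (isPReduced_transfer (hYT.trans hTL) (largestPReducedOf_le M) hLN hMN hYred hsup)

end Cfsg.Agent.S2822
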