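import Cfsg.Statements.S2823
import Cfsg.Agent.Lib.LocalEven.PReduced2

set_option autoImplicit false
open Cfsg
open scoped commutatorElement

namespace Cfsg.Agent.S2823

/-- Let H be a finite group, p a prime, T a Sylow p-subgroup and L a subgroup of characteristic p containing T; let Z_L be the subgroup generated by the Ω₁(Z(S)) over the Sylow p-subgroups S of L and O^p(L) the subgroup generated by the elements of L of order prime to p. Then Z_L = Ω₁(Z(L))·[Z_L, O^p(L)] and [Z_L, L] = [Z_L, O^p(L)]. -/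
theorem result {H : Type*} [Group H] [Finite H] {p : ℕ} [Fact p.Prime] (T : Sylow p H) (L : Subgroup H) (hTL : (T : Subgroup H) ≤ L) (hL : Subgroup.centralizer (Cfsg.pCore p ↥L : Set ↥L) ≤ Cfsg.pCore p ↥L) : Cfsg.sylowCenterClosure p L = (Cfsg.omegaOne p (L ⊓ Subgroup.centralizer ((L : Subgroup H) : Set H))) ⊔ ⁅Cfsg.sylowCenterClosure p L, (Cfsg.pResidual p ↥L).map L.subtype⁆ ∧ ⁅Cfsg.sylowCenterClosure p L, L⁆ = ⁅Cfsg.sylowCenterClosure p L, (Cfsg.pResidual p ↥L).map L.subtype⁆ := by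
  classical
  open Cfsg.Agent.Lib.LocalEven Cfsg.Agent.Lib.Basic in
  set Z := Cfsg.sylowCenterClosure p L with hZdef
  set R := (Cfsg.pResidual p ↥L).map L.subtype with hRdef
  set W := Cfsg.omegaOne p (L ⊓ Subgroup.centralizer ((L : Subgroup H) : Set H)) with hWdef
  have hZeq : Z = (zOf p L).map L.subtype := sylowCenterClosure_eq_map_zOf L p
  have hel := zOf_isElementaryAbelian hL
  have hZL : Z ≤ L := by
    rw [hZeq]; exact Subgroup.map_subtype_le _
  have hLZ : L ≤ Subgroup.normalizer (Z : Set H) := by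
    rw [hZeq]; exact le_normalizer_map_subtype zOf_normal
  have hZc : ∀ a ∈ Z, ∀ b ∈ Z, a * b = b * a := by
    rw [hZeq]
    rintro _ ⟨a, ha, rfl⟩ _ ⟨b, hb, rfl⟩
    exact congrArg Subtype.val (IsElementaryAbelian_comm hel ha hb)
  have hZp : ∀ a ∈ Z, a ^ p = 1 := by
    rw [hZeq]
    rintro _ ⟨a, ha, rfl⟩
    exact congrArg Subtype.val (hel.2 a ha)
  have hRL : R ≤ L := Subgroup.map_subtype_le _
  have hLR : L ≤ Subgroup.normalizer (R : Set H) := le_normalizer_map_subtype (pResidual_normal p)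
  set K : Subgroup H := ⁅Z, R⁆ with hKdef
  have hKZ : K ≤ Z := by
    rw [hKdef, Subgroup.commutator_le]
    intro z hz r hr
    have e : ⁅z, r⁆ = z * (r * z⁻¹ * r⁻¹) := by rw [commutatorElement_def]; group
    rw [e]
    exact Z.mul_mem hz ((Subgroup.mem_normalizer_iff.1 (hLZ (hRL hr)) _).1 (Z.inv_mem hz))
  have hLK : L ≤ Subgroup.normalizer (K : Set H) :=
    (le_inf hLZ hLR).trans (normalizer_le_normalizer_commutator Z R)
  have hWZ : W ≤ Z := by
    rw [hWdef]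
    delta Cfsg.omegaOne
    rw [Subgroup.closure_le]
    rintro x ⟨⟨hxL, hxc⟩, hxp⟩
    rw [SetLike.mem_coe, hZeq]
    have hcen : ∀ l : ↥L, l * ⟨x, hxL⟩ = ⟨x, hxL⟩ * l := by
      intro l
      apply Subtype.ext
      exact (Subgroup.mem_centralizer_iff.1 hxc) l l.2
    obtain ⟨S⟩ : Nonempty (Sylow p ↥L) := inferInstance
    have hn : (Subgroup.zpowers (⟨x, hxL⟩ : ↥L)).Normal := by
      constructor
      rintro _ ⟨i, rfl⟩ l
      have e : l * (⟨x, hxL⟩ : ↥L) ^ i * l⁻¹ = (⟨x, hxL⟩ : ↥L) ^ i := by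
        have hc : Commute l (⟨x, hxL⟩ : ↥L) := hcen l
        have := (hc.zpow_right i).eq
        rw [this]; group
      show l * (⟨x, hxL⟩ : ↥L) ^ i * l⁻¹ ∈ _
      rw [e]
      exact ⟨i, rfl⟩
    have hp1 : (⟨x, hxL⟩ : ↥L) ^ p = 1 := Subtype.ext hxp
    have hpg : IsPGroup p ↥(Subgroup.zpowers (⟨x, hxL⟩ : ↥L)) := by
      rintro ⟨_, i, rfl⟩
      refine ⟨1, ?_⟩
      apply Subtype.ext
      show ((⟨x, hxL⟩ : ↥L) ^ i) ^ (p ^ 1) = 1
      rw [pow_one, ← zpow_natCast, ← zpow_mul, mul_comm, zpow_mul, zpow_natCast, hp1, one_zpow]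
    have hxS : (⟨x, hxL⟩ : ↥L) ∈ (S : Subgroup ↥L) :=
      normal_pGroup_le_sylow hn hpg S (Subgroup.mem_zpowers _)
    exact ⟨⟨x, hxL⟩, mem_zOf hxS (fun s _ => hcen s) hp1, rfl⟩
  have hZle : Z ≤ W ⊔ K := by
    rw [hZeq, Subgroup.map_le_iff_le_comap, zOf_le_iff]
    intro S z hz hzc hzp
    set S' := (S : Subgroup ↥L).map L.subtype with hS'
    have hS'L : S' ≤ L := Subgroup.map_subtype_le _
    have hzZ : (z : H) ∈ Z := by
      rw [hZeq]
      exact ⟨z, mem_zOf hz hzc hzp, rfl⟩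
    have hdec : ∀ l ∈ L, ∃ r ∈ R, ∃ s ∈ S', l = r * s := by
      intro l hl
      have h1 : (⟨l, hl⟩ : ↥L) ∈ Cfsg.pResidual p ↥L ⊔ (S : Subgroup ↥L) := by
        rw [pResidual_sup_sylow S]; trivial
      have hn : (S : Subgroup ↥L) ≤ Subgroup.normalizer ((Cfsg.pResidual p ↥L : Subgroup ↥L) : Set ↥L) := by
        rw [Subgroup.normalizer_eq_top_iff.2 (pResidual_normal p)]; exact le_top
      obtain ⟨r, hr, s, hs, e⟩ := (mem_sup_iff_of_normalizes hn).1 h1
      exact ⟨r, ⟨r, hr, rfl⟩, s, ⟨s, hs, rfl⟩, congrArg Subtype.val e⟩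
    have hzS : ∀ s ∈ S', s * (z : H) = z * s := by
      rintro _ ⟨s, hs, rfl⟩
      exact congrArg Subtype.val (hzc s hs)
    obtain ⟨w, hw, hwL, hwK⟩ := exists_trace L S' R Z hS'L hLZ hdec hZc hzZ hzS
    set m := S'.relIndex L with hm
    have hnd : ¬ p ∣ m := sylow_relIndex_not_dvd S
    have hwW : w ∈ W := by
      refine Subgroup.subset_closure ⟨⟨hZL hw, ?_⟩, hZp w hw⟩
      refine Subgroup.mem_centralizer_iff.2 ?_
      intro l hl
      exact hwL l hl
    have hzm : (z : H) ^ m ∈ W ⊔ K := by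
      have e : (z : H) ^ m = (w * ((z : H) ^ m)⁻¹)⁻¹ * w := by group
      rw [e]
      exact Subgroup.mul_mem _ (Subgroup.mem_sup_right (K.inv_mem hwK)) (Subgroup.mem_sup_left hwW)
    have hcop : m.Coprime (orderOf (z : H)) := by
      have h1 : orderOf (z : H) ∣ p := orderOf_dvd_of_pow_eq_one (congrArg Subtype.val hzp)
      exact Nat.Coprime.coprime_dvd_right h1 (((Nat.Prime.coprime_iff_not_dvd (Fact.out : p.Prime)).2 hnd).symm)
    obtain ⟨a, ha⟩ := exists_pow_eq_self_of_coprime hcop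
    show (z : H) ∈ W ⊔ K
    rw [← ha]
    exact Subgroup.pow_mem _ hzm a
  refine ⟨le_antisymm hZle (sup_le hWZ hKZ), ?_⟩
  apply le_antisymm
  · rw [Subgroup.commutator_le]
    intro z hz l hl
    have hz1 : z ∈ K ⊔ W := by
      rw [sup_comm]; exact hZle hz
    have hWK : W ≤ Subgroup.normalizer (K : Set H) := (hWZ.trans hZL).trans hLK
    obtain ⟨k, hk, c, hc, rfl⟩ := (mem_sup_iff_of_normalizes hWK).1 hz1
    -- `c` is central in `L`
    have hcL : ∀ x ∈ L, x * c = c * x := by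
      have hle : W ≤ Subgroup.centralizer (L : Set H) := by
        rw [hWdef]
        exact omegaOne_le inf_le_right
      exact fun x hx => (Subgroup.mem_centralizer_iff.1 (hle hc)) x hx
    have e : ⁅k * c, l⁆ = k * (l * k⁻¹ * l⁻¹) := by
      have h1 := hcL l hl
      rw [commutatorElement_def]
      calc k * c * l * (k * c)⁻¹ * l⁻¹ = k * (c * l) * c⁻¹ * k⁻¹ * l⁻¹ := by group
        _ = k * (l * c) * c⁻¹ * k⁻¹ * l⁻¹ := by rw [h1]
        _ = k * (l * k⁻¹ * l⁻¹) := by group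
    rw [e]
    exact K.mul_mem hk ((Subgroup.mem_normalizer_iff.1 (hLK hl) _).1 (K.inv_mem hk))
  · exact Subgroup.commutator_mono le_rfl hRL

end Cfsg.Agent.S2823
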