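import Cfsg.Statements.S2826
import Cfsg.Agent.Lib.LocalEven.PReduced3

set_option autoImplicit false
open Cfsg
open scoped commutatorElement

namespace Cfsg.Agent.S2826

/-- Let H be a finite group of characteristic p, T a Sylow p-subgroup, and V a normal elementary abelian p-subgroup of H containing Ω₁(Z(T)). Then C_H(Ω₁(Z(T))) = C_H([V, O^p(H)] ∩ Ω₁(Z(T))), O^p(H) being generated by the elements of order prime to p. -/
theorem result {H : Type*} [Group H] [Finite H] {p : ℕ} [Fact p.Prime] (hH : Subgroup.centralizer (Cfsg.pCore p H : Set H) ≤ Cfsg.pCore p H) (T : Sylow p H) (V : Subgroup H) [V.Normal] (hV : Cfsg.IsElementaryAbelian p V) (hZV : (Cfsg.omegaOne p ((T : Subgroup H) ⊓ Subgroup.centralizer (((T : Subgroup H) : Subgroup H) : Set H))) ≤ V) : Subgroup.centralizer ((Cfsg.omegaOne p ((T : Subgroup H) ⊓ Subgroup.centralizer (((T : Subgroup H) : Subgroup H) : Set H))) : Set H) = Subgroup.centralizer (((⁅V, Cfsg.pResidual p H⁆ ⊓ (Cfsg.omegaOne p ((T : Subgroup H) ⊓ Subgroup.centralizer (((T : Subgroup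 H) : Subgroup H) : Set H)))) : Subgroup H) : Set H) := by
  classical
  open Cfsg.Agent.Lib.LocalEven Cfsg.Agent.Lib.Basic in
  set Z := Cfsg.omegaOne p ((T : Subgroup H) ⊓ Subgroup.centralizer (((T : Subgroup H) : Subgroup H) : Set H)) with hZ
  set R := Cfsg.pResidual p H with hR
  have hRn : R.Normal := pResidual_normal p
  have hVn : V.Normal := inferInstance
  set K : Subgroup H := ⁅V, R⁆ with hK
  have hVT : V ≤ T := normal_pGroup_le_sylow hVn (IsElementaryAbelian_isPGroup hV) T
  have hVc : ∀ a ∈ V, ∀ b ∈ V, a * b = b * a := fun a ha b hb => IsElementaryAbelian_comm hV ha hb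
  have hZT : Z ≤ (T : Subgroup H) ⊓ Subgroup.centralizer (((T : Subgroup H) : Subgroup H) : Set H) := omegaOne_le le_rfl
  have hKV : K ≤ V := by
    rw [hK, Subgroup.commutator_le]
    intro v hv r hr
    have e : ⁅v, r⁆ = v * (r * v⁻¹ * r⁻¹) := by rw [commutatorElement_def]; group
    rw [e]
    exact V.mul_mem hv (hVn.conj_mem _ (V.inv_mem hv) r)
  apply le_antisymm
  · exact Subgroup.centralizer_le (SetLike.coe_subset_coe.2 inf_le_right)
  · intro x hx
    refine Subgroup.mem_centralizer_iff.2 ?_
    intro z hz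
    -- the trace of `z`
    have hdec : ∀ l ∈ (⊤ : Subgroup H), ∃ r ∈ R, ∃ s ∈ (T : Subgroup H), l = r * s := by
      intro l _
      have h1 : l ∈ R ⊔ (T : Subgroup H) := by rw [pResidual_sup_sylow T]; trivial
      have hn : (T : Subgroup H) ≤ Subgroup.normalizer (R : Set H) := by
        rw [Subgroup.normalizer_eq_top_iff.2 hRn]; exact le_top
      exact (mem_sup_iff_of_normalizes hn).1 h1
    have hzS : ∀ s ∈ (T : Subgroup H), s * z = z * s := fun s hs =>
      (Subgroup.mem_centralizer_iff.1 (hZT hz).2) s hs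
    obtain ⟨w, hw, hwL, hwK⟩ := exists_trace (⊤ : Subgroup H) (T : Subgroup H) R V le_top
      (by rw [Subgroup.normalizer_eq_top_iff.2 hVn]) hdec hVc (hZV hz) hzS
    set m := (T : Subgroup H).relIndex ⊤ with hm
    have hnd : ¬ p ∣ m := by
      rw [hm, Subgroup.relIndex_top_right]
      exact T.not_dvd_index
    have hwZ : w ∈ Z := by
      refine Subgroup.subset_closure ⟨⟨hVT hw, ?_⟩, hV.2 w hw⟩
      refine Subgroup.mem_centralizer_iff.2 ?_
      intro t _
      exact hwL t (Subgroup.mem_top t)
    set k := w * ((z : H) ^ m)⁻¹ with hk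
    have hkZ : k ∈ Z := Z.mul_mem hwZ (Z.inv_mem (Z.pow_mem hz m))
    have hkx : x * k = k * x := by
      have := (Subgroup.mem_centralizer_iff.1 hx) k ⟨hwK, hkZ⟩
      exact this.symm
    have hwx : x * w = w * x := by
      have := hwL x (Subgroup.mem_top x)
      exact this
    -- so `x` commutes with `z ^ m`
    have hzm : x ∈ Subgroup.centralizer ({(z : H) ^ m} : Set H) := by
      refine Subgroup.mem_centralizer_iff.2 ?_
      intro y hy
      rw [Set.mem_singleton_iff] at hy
      rw [hy]
      have e : (z : H) ^ m = k⁻¹ * w := by rw [hk]; group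
      rw [e]
      calc k⁻¹ * w * x = k⁻¹ * (x * w) := by rw [mul_assoc, hwx]
        _ = (k⁻¹ * x) * w := by group
        _ = (x * k⁻¹) * w := by
          congr 1
          have : x⁻¹ * k⁻¹ * x = k⁻¹ := by
            have h1 : k * x * k⁻¹ = x := by rw [← hkx]; group
            calc x⁻¹ * k⁻¹ * x = x⁻¹ * k⁻¹ * (k * x * k⁻¹) := by rw [h1]
              _ = k⁻¹ := by group
          calc k⁻¹ * x = x * (x⁻¹ * k⁻¹ * x) := by group
            _ = x * k⁻¹ := by rw [this]
        _ = x * (k⁻¹ * w) := by group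
    have hzp : (z : H) ^ p = 1 := (omegaOne_center_isElementaryAbelian (p := p) (T : Subgroup H)).2 z hz
    have hcop : m.Coprime (orderOf (z : H)) := by
      have h1 : orderOf (z : H) ∣ p := orderOf_dvd_of_pow_eq_one hzp
      exact Nat.Coprime.coprime_dvd_right h1 (((Nat.Prime.coprime_iff_not_dvd (Fact.out : p.Prime)).2 hnd).symm)
    obtain ⟨a, ha⟩ := exists_pow_eq_self_of_coprime hcop
    have hfin : (z : H) * x = x * z := by
      have hmem : x ∈ Subgroup.centralizer ({(z : H)} : Set H) := by
        refine Subgroup.mem_centralizer_iff.2 ?_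
        intro y hy
        rw [Set.mem_singleton_iff] at hy
        rw [hy, ← ha]
        have h2 := (Subgroup.mem_centralizer_iff.1 hzm) _ rfl
        have hc : Commute ((z : H) ^ m) x := h2
        exact (hc.pow_left a).eq
      exact (Subgroup.mem_centralizer_iff.1 hmem) z rfl
    exact hfin

end Cfsg.Agent.S2826
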