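import Cfsg.Statements.S2830
import Cfsg.Agent.Lib.LocalEven.PIrr

set_option autoImplicit false
open Cfsg

namespace Cfsg.Agent.S2830

/-- Let H act by conjugation on the elementary abelian p-subgroup V of a finite group G (H ≤ N(V)), with H p-irreducible and O^p(H) not centralizing V. Then C_H(V) is p-closed and C_T(V) ≤ O_p(H) for every p-subgroup T of H. If in addition O_p(H) centralizes V, then C_T(V) = T ∩ O_p(H) for every p-subgroup T of H, and V is p-reduced for H: O_p(H/C_H(V)) = 1. -/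
theorem result {G : Type*} [Group G] [Finite G] {p : ℕ} [Fact p.Prime] (V H : Subgroup G) (hV : Cfsg.IsElementaryAbelian p V) (hHV : H ≤ Subgroup.normalizer (V : Set G)) (hH : Cfsg.IsPIrreducible p ↥H) (hnc : ¬ (Cfsg.pResidual p ↥H).map H.subtype ≤ Subgroup.centralizer (V : Set G)) [hn : ((Subgroup.centralizer (V : Set G)).subgroupOf H).Normal] : Cfsg.IsPClosed p ↥(H ⊓ Subgroup.centralizer (V : Set G)) ∧ (∀ T : Subgroup G, T ≤ H → IsPGroup p ↥T → T ⊓ Subgroup.centralizer (V : Set G) ≤ Cfsg.pCoreOf p H) ∧ (Cfsg.pCoreOf p H ≤ Subgroup.centralizer (V : Set G) → (∀ T : Subgroup G, T ≤ H → IsPGroup p ↥T → T ⊓ Subgroup.centralizer (V : Set G) = T ⊓ Cfsg.pCoreOf p H) ∧ Cfsg.pCore p (↥H ⧸ (Subgroup.centralizer (V : Set G)).subgroupOf H) = ⊥) := by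
  classical
  open Cfsg Cfsg.Agent.Lib.Basic Cfsg.Agent.Lib.LocalEven in
  set C := Subgroup.centralizer (V : Set G) with hC
  set C' := C.subgroupOf H with hC'
  -- `C'` is `p`-closed
  have hC'c : Cfsg.IsPClosed p ↥C' := by
    by_contra hnc'
    apply hnc
    have h1 := hH.2 C' hn hnc'
    rw [Subgroup.map_le_iff_le_comap]
    intro x hx
    exact Subgroup.mem_subgroupOf.1 (h1 hx)
  have hmemcore : ∀ x : H, x.1 ∈ C → (∃ k, orderOf x = p ^ k) → x ∈ Cfsg.pCore p H := by
    intro x hxC hx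
    exact (Cfsg.Agent.Lib.LocalEven.isPClosed_normal_iff C').1 hC'c x (Subgroup.mem_subgroupOf.2 hxC) hx
  have hT2 : ∀ T : Subgroup G, T ≤ H → IsPGroup p ↥T → T ⊓ C ≤ Cfsg.pCoreOf p H := by
    intro T hTH hT t ht
    have htH : t ∈ H := hTH ht.1
    have hord : ∃ k, orderOf (⟨t, htH⟩ : H) = p ^ k := by
      obtain ⟨k, hk⟩ := Cfsg.Agent.Lib.LocalEven.orderOf_of_mem_isPGroup hT ht.1
      exact ⟨k, by rw [Subgroup.orderOf_mk]; exact hk⟩
    exact ⟨⟨t, htH⟩, hmemcore ⟨t, htH⟩ ht.2 hord, rfl⟩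
  refine ⟨?_, hT2, ?_⟩
  · have e : (H ⊓ C).subgroupOf H = C' := by
      rw [hC', Subgroup.inf_subgroupOf_left]
    have f : ↥C' ≃* ↥(H ⊓ C) :=
      (MulEquiv.subgroupCongr e.symm).trans (Subgroup.subgroupOfEquivOfLe inf_le_left)
    exact Cfsg.Agent.Lib.LocalEven.isPClosed_of_equiv f hC'c
  · intro hcore
    refine ⟨fun T hTH hT => ?_, ?_⟩
    · apply le_antisymm
      · exact le_inf inf_le_left (hT2 T hTH hT)
      · exact le_inf inf_le_left (inf_le_right.trans hcore)
    · -- the preimage of `O_p(H/C')`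
      set π := QuotientGroup.mk' C' with hπ
      set P := Cfsg.pCore p (↥H ⧸ C') with hP
      have hPp : IsPGroup p ↥P := Cfsg.Agent.Lib.Basic.pCore_isPGroup p
      have hPn : P.Normal := Cfsg.pCore_normal p _
      set D := P.comap π with hD
      have hDn : D.Normal := hPn.comap π
      have hnotin : ∀ x : H, x ∈ D → (orderOf x).Coprime p → x ∈ C' := by
        intro x hx hcop
        have h1 : π x = 1 := by
          apply Cfsg.Agent.Lib.LocalEven.eq_one_of_coprime_of_pPower (p := p)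
          · obtain ⟨k, hk⟩ := Cfsg.Agent.Lib.LocalEven.orderOf_of_mem_isPGroup hPp hx
            exact ⟨k, hk⟩
          · exact Nat.Coprime.coprime_dvd_left (orderOf_map_dvd π x) hcop
        have := (QuotientGroup.eq_one_iff x).1 h1
        exact this
      have hDc : Cfsg.IsPClosed p ↥D := by
        by_contra hnc'
        apply hnc
        have h1 := hH.2 D hDn hnc'
        rw [Subgroup.map_le_iff_le_comap]
        delta Cfsg.pResidual
        rw [Subgroup.closure_le]
        intro x hx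
        have h2 : x ∈ D := h1 (Subgroup.subset_closure hx)
        exact Subgroup.mem_subgroupOf.1 (hnotin x h2 hx)
      have hD_le : D ≤ C' := by
        intro x hx
        obtain ⟨u, v, rfl, hu, hv, hup, hvc, -⟩ :=
          Cfsg.Agent.Lib.LocalEven.exists_p_decomp (p := p) x (isOfFinOrder_of_finite x)
        have huD : u ∈ D := (Subgroup.zpowers_le.2 hx) hu
        have hvD : v ∈ D := (Subgroup.zpowers_le.2 hx) hv
        have hu1 : u ∈ Cfsg.pCore p H :=
          (Cfsg.Agent.Lib.LocalEven.isPClosed_normal_iff D).1 hDc u huD hup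
        have hu2 : u ∈ C' := Subgroup.mem_subgroupOf.2 (hcore ⟨u, hu1, rfl⟩)
        exact C'.mul_mem hu2 (hnotin v hvD hvc)
      rw [eq_bot_iff]
      intro q hq
      obtain ⟨x, rfl⟩ := QuotientGroup.mk'_surjective C' q
      have : x ∈ D := hq
      rw [Subgroup.mem_bot]
      exact (QuotientGroup.eq_one_iff x).2 (hD_le this)

end Cfsg.Agent.S2830
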