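import Cfsg.Statements.S2832
import Cfsg.Agent.Lib.LocalEven.PIrr

set_option autoImplicit false
open Cfsg

namespace Cfsg.Agent.S2832

/-- Let H be a finite group with Sylow p-subgroup T such that H is T-minimal (generated by the conjugates of T, with T in exactly one maximal subgroup), and let N be a normal subgroup of H. Then either H/N is a p-group or H/N is minimal over the image of T in the same sense. -/
theorem result {H : Type*} [Group H] [Finite H] {p : ℕ} [Fact p.Prime] (T : Sylow p H) (hmin : Cfsg.IsMinimalOver (T : Subgroup H)) (N : Subgroup H) [N.Normal] : IsPGroup p (H ⧸ N) ∨ Cfsg.IsMinimalOver ((T : Subgroup H).map (QuotientGroup.mk' N)) := by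
  obtain ⟨hcl, M, ⟨hM, hTM⟩, huniq⟩ := hmin
  set π := QuotientGroup.mk' N with hπ
  have hsurj : Function.Surjective π := QuotientGroup.mk'_surjective N
  by_cases htop : (T : Subgroup H).map π = ⊤
  · left
    have hsurj' : Function.Surjective (π.comp (T : Subgroup H).subtype) := by
      intro q
      have : q ∈ (T : Subgroup H).map π := by rw [htop]; trivial
      obtain ⟨t, ht, rfl⟩ := this
      exact ⟨⟨t, ht⟩, rfl⟩
    exact IsPGroup.of_surjective T.isPGroup' _ hsurj'
  · right
    refine ⟨?_, ?_⟩
    · have h := Subgroup.map_normalClosure ((T : Subgroup H) : Set H) π hsurj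
      rw [hcl, Subgroup.map_top_of_surjective _ hsurj] at h
      rw [← Subgroup.coe_map] at h
      exact h.symm
    · obtain ⟨M₀, hM₀, hTM₀⟩ := (eq_top_or_exists_le_coatom ((T : Subgroup H).map π)).resolve_left htop
      refine ⟨M₀, ⟨hM₀, hTM₀⟩, ?_⟩
      have key : ∀ M' : Subgroup (H ⧸ N), IsCoatom M' → (T : Subgroup H).map π ≤ M' → M' = M.map π := by
        intro M' hM' hTM'
        have h1 : IsCoatom (M'.comap π) := Subgroup.isCoatom_comap_of_surjective hsurj hM'
        have h2 : (T : Subgroup H) ≤ M'.comap π := Subgroup.map_le_iff_le_comap.1 hTM'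
        have h3 := huniq _ ⟨h1, h2⟩
        rw [← h3, Subgroup.map_comap_eq_self_of_surjective hsurj]
      intro M' ⟨hM', hTM'⟩
      rw [key M' hM' hTM', key M₀ hM₀ hTM₀]

end Cfsg.Agent.S2832
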