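import Cfsg.Statements.S2833
import Cfsg.Agent.Lib.LocalEven.PIrr

set_option autoImplicit false
open Cfsg
open scoped commutatorElement

namespace Cfsg.Agent.S2833

/-- Let V be a subgroup of a finite group G normalized by the subgroup L, let X ≤ L and g ∈ L with [V, X, X] = 1 and L generated by X and gXg⁻¹. Put W = [V, L]. Then W = [V, X]·[V, gXg⁻¹], C_W(X) = [V, X], and C_W(L) = [V, X] ∩ [V, gXg⁻¹]. -/
theorem result {G : Type*} [Group G] [Finite G] (V L : Subgroup G) (hLV : L ≤ Subgroup.normalizer (V : Set G)) (X : Subgroup G) (hX : X ≤ L) (g : G) (hg : g ∈ L) (hq : ⁅⁅V, X⁆, X⁆ = ⊥) (hgen : X ⊔ X.map (MulAut.conj g).toMonoidHom = L) (W : Subgroup G) (hW : W = ⁅V, L⁆) : ⁅V, X⁆ ⊔ ⁅V, X.map (MulAut.conj g).toMonoidHom⁆ = W ∧ W ⊓ Subgroup.centralizer (X : Set G) = ⁅V, X⁆ ∧ W ⊓ Subgroup.centralizer (L : Set G) = ⁅V, X⁆ ⊓ ⁅V, X.map (MulAut.conj g).toMonoidHom⁆ := by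
  have hgV : g ∈ Subgroup.normalizer (V : Set G) := hLV hg
  set c := (MulAut.conj g).toMonoidHom with hc
  have hcapp : ∀ y, c y = g * y * g⁻¹ := fun y => by simp [hc, MulAut.conj_apply]
  set X' := X.map c with hX'
  set A : Subgroup G := ⁅V, X⁆ with hA
  set B : Subgroup G := ⁅V, X'⁆ with hB
  have hXL : X' ≤ L := by rw [← hgen]; exact le_sup_right
  have hVc : V.map c = V := by
    ext y; constructor
    · rintro ⟨v, hv, rfl⟩
      rw [hcapp]; exact (Subgroup.mem_normalizer_iff.1 hgV v).1 hv
    · intro hy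
      refine ⟨g⁻¹ * y * g, ?_, by rw [hcapp]; group⟩
      apply (Subgroup.mem_normalizer_iff.1 hgV _).2
      have e : g * (g⁻¹ * y * g) * g⁻¹ = y := by group
      rw [e]; exact hy
  have hBA : B = A.map c := by
    rw [hB, hA, Subgroup.map_commutator, hVc]
  have hq' : ⁅B, X'⁆ = ⊥ := by
    rw [hBA, hX', ← Subgroup.map_commutator, hq, Subgroup.map_bot]
  have hcomX : ∀ a ∈ A, ∀ x ∈ X, x * a = a * x := by
    intro a ha x hx
    have h : ⁅a, x⁆ ∈ (⁅A, X⁆ : Subgroup G) := Subgroup.commutator_mem_commutator ha hx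
    rw [hq, Subgroup.mem_bot, commutatorElement_eq_one_iff_mul_comm] at h
    exact h.symm
  have hcomX' : ∀ b ∈ B, ∀ x ∈ X', x * b = b * x := by
    intro a ha x hx
    have h : ⁅a, x⁆ ∈ (⁅B, X'⁆ : Subgroup G) := Subgroup.commutator_mem_commutator ha hx
    rw [hq', Subgroup.mem_bot, commutatorElement_eq_one_iff_mul_comm] at h
    exact h.symm
  have hle_V : ∀ Y : Subgroup G, Y ≤ L → (⁅V, Y⁆ : Subgroup G) ≤ V := by
    intro Y hY
    rw [Subgroup.commutator_le]
    intro v hv y hy
    have e : ⁅v, y⁆ = v * (y * v⁻¹ * y⁻¹) := by rw [commutatorElement_def]; group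
    rw [e]
    exact V.mul_mem hv ((Subgroup.mem_normalizer_iff.1 (hLV (hY hy)) _).1 (V.inv_mem hv))
  have hAV : A ≤ V := hle_V X hX
  have hBV : B ≤ V := hle_V X' hXL
  -- `X` and `X'` normalize `U`
  have haux : ∀ Y Z : Subgroup G, (⁅V, Z⁆ : Subgroup G) ≤ V →
      Y ≤ Subgroup.normalizer (((⁅V, Y⁆ : Subgroup G) ⊔ (⁅V, Z⁆ : Subgroup G) : Subgroup G) : Set G) := by
    intro Y Z hZ
    apply Cfsg.Agent.Lib.LocalEven.le_normalizer_of_conj_le
    intro y hy
    rw [Subgroup.map_sup]
    refine sup_le ?_ ?_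
    · rintro _ ⟨a, ha, rfl⟩
      exact Subgroup.mem_sup_left (Cfsg.Agent.Lib.LocalEven.conj_commutator_mem_right V Y hy ha)
    · rintro _ ⟨b, hb, rfl⟩
      have e : (MulAut.conj y).toMonoidHom b = ⁅b, y⁆⁻¹ * b := by
        rw [MulEquiv.coe_toMonoidHom, MulAut.conj_apply, commutatorElement_def]; group
      rw [e]
      exact Subgroup.mul_mem _
        (Subgroup.mem_sup_left (Subgroup.inv_mem _ (Subgroup.commutator_mem_commutator (hZ hb) hy)))
        (Subgroup.mem_sup_right hb)
  set U : Subgroup G := A ⊔ B with hU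
  have hXU : X ≤ Subgroup.normalizer (U : Set G) := haux X X' hBV
  have hX'U : X' ≤ Subgroup.normalizer (U : Set G) := by
    have := haux X' X hAV
    rwa [sup_comm] at this
  have hLU : L ≤ Subgroup.normalizer (U : Set G) := by
    rw [← hgen]; exact sup_le hXU hX'U
  -- the key subgroup
  let K : Subgroup G :=
    { carrier := {l | l ∈ Subgroup.normalizer (U : Set G) ∧ ∀ v ∈ V, ⁅v, l⁆ ∈ U}
      mul_mem' := by
        rintro a b ⟨ha, ha'⟩ ⟨hb, hb'⟩
        refine ⟨Subgroup.mul_mem _ ha hb, fun v hv => ?_⟩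
        have e : ⁅v, a * b⁆ = ⁅v, a⁆ * (a * ⁅v, b⁆ * a⁻¹) := by
          simp only [commutatorElement_def]; group
        rw [e]
        exact U.mul_mem (ha' v hv) ((Subgroup.mem_normalizer_iff.1 ha _).1 (hb' v hv))
      one_mem' := ⟨Subgroup.one_mem _, fun v _ => by simp [commutatorElement_def, U.one_mem]⟩
      inv_mem' := by
        rintro a ⟨ha, ha'⟩
        refine ⟨Subgroup.inv_mem _ ha, fun v hv => ?_⟩
        have e : ⁅v, a⁻¹⁆ = a⁻¹ * ⁅v, a⁆⁻¹ * a⁻¹⁻¹ := by
          simp only [commutatorElement_def]; group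
        rw [e]
        exact (Subgroup.mem_normalizer_iff.1 (Subgroup.inv_mem _ ha) _).1 (U.inv_mem (ha' v hv)) }
  have hXK : X ≤ K := fun x hx =>
    ⟨hXU hx, fun v hv => Subgroup.mem_sup_left (Subgroup.commutator_mem_commutator hv hx)⟩
  have hX'K : X' ≤ K := fun x hx =>
    ⟨hX'U hx, fun v hv => Subgroup.mem_sup_right (Subgroup.commutator_mem_commutator hv hx)⟩
  have hLK : L ≤ K := by rw [← hgen]; exact sup_le hXK hX'K
  have hUW : U = W := by
    rw [hW]
    apply le_antisymm
    · exact sup_le (Subgroup.commutator_mono le_rfl hX) (Subgroup.commutator_mono le_rfl hXL)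
    · rw [Subgroup.commutator_le]
      intro v hv l hl
      exact (hLK hl).2 v hv
  have hWA : W ⊓ Subgroup.centralizer (X : Set G) = A := by
    apply le_antisymm
    · rintro w ⟨hw, hwc⟩
      rw [← hUW] at hw
      have hBnA : B ≤ Subgroup.normalizer (A : Set G) :=
        hBV.trans (Cfsg.Agent.Lib.LocalEven.le_normalizer_commutator_left V X)
      obtain ⟨a, ha, b, hb, rfl⟩ := (Cfsg.Agent.Lib.LocalEven.mem_sup_iff_of_normalizes hBnA).1 hw
      have hbX : ∀ x ∈ X, x * b = b * x := by
        intro x hx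
        have h1 := (Subgroup.mem_centralizer_iff.1 hwc) x hx
        have h2 := hcomX a ha x hx
        have h3 : a * (x * b) = a * (b * x) := by
          calc a * (x * b) = (a * x) * b := by group
            _ = (x * a) * b := by rw [h2]
            _ = x * (a * b) := by group
            _ = (a * b) * x := h1
            _ = a * (b * x) := by group
        exact mul_left_cancel h3
      have hbL : L ≤ Subgroup.centralizer ({b} : Set G) := by
        rw [← hgen]
        refine sup_le ?_ ?_
        · intro x hx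
          rw [Subgroup.mem_centralizer_iff]
          intro y hy
          rw [Set.mem_singleton_iff] at hy
          rw [hy]
          exact (hbX x hx).symm
        · intro x hx
          rw [Subgroup.mem_centralizer_iff]
          intro y hy
          rw [Set.mem_singleton_iff] at hy
          rw [hy]
          exact (hcomX' b hb x hx).symm
      have hbg : b * g = g * b := (Subgroup.mem_centralizer_iff.1 (hbL hg)) b rfl
      have hbA : b ∈ A := by
        rw [hBA] at hb
        obtain ⟨a', ha', e⟩ := hb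
        rw [hcapp] at e
        have e2 : a' = b := by
          have : g * a' = b * g := by rw [← e]; group
          rw [hbg] at this
          exact mul_left_cancel this
        rw [← e2]; exact ha'
      exact A.mul_mem ha hbA
    · intro a ha
      refine ⟨?_, ?_⟩
      · rw [← hUW]; exact Subgroup.mem_sup_left ha
      · refine Subgroup.mem_centralizer_iff.2 ?_
        intro x hx
        exact hcomX a ha x hx
  refine ⟨hUW, hWA, ?_⟩
  apply le_antisymm
  · rintro w ⟨hw, hwc⟩
    have hwA : w ∈ A := by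
      rw [← hWA]
      refine ⟨hw, ?_⟩
      refine Subgroup.mem_centralizer_iff.2 ?_
      intro x hx
      exact (Subgroup.mem_centralizer_iff.1 hwc) x (hX hx)
    refine ⟨hwA, ?_⟩
    rw [hBA]
    refine ⟨w, hwA, ?_⟩
    rw [hcapp]
    have := (Subgroup.mem_centralizer_iff.1 hwc) g hg
    rw [this]; group
  · rintro w ⟨hwA, hwB⟩
    refine ⟨?_, ?_⟩
    · rw [← hUW]; exact Subgroup.mem_sup_left hwA
    · have hwL : L ≤ Subgroup.centralizer ({w} : Set G) := by
        rw [← hgen]
        refine sup_le ?_ ?_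
        · intro x hx
          rw [Subgroup.mem_centralizer_iff]
          intro y hy
          rw [Set.mem_singleton_iff] at hy
          rw [hy]
          exact (hcomX w hwA x hx).symm
        · intro x hx
          rw [Subgroup.mem_centralizer_iff]
          intro y hy
          rw [Set.mem_singleton_iff] at hy
          rw [hy]
          exact (hcomX' w hwB x hx).symm
      refine Subgroup.mem_centralizer_iff.2 ?_
      intro l hl
      exact ((Subgroup.mem_centralizer_iff.1 (hwL hl)) w rfl).symm

end Cfsg.Agent.S2833
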