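import Cfsg.Statements.S2835
import Cfsg.Agent.Lib.LocalEven.PIrr

set_option autoImplicit false
open Cfsg

namespace Cfsg.Agent.S2835

/-- Let L be a finite group, L₀ a maximal subgroup, T a Sylow p-subgroup of L₀ and Y ≤ T, and suppose L is Y-minimal (generated by the conjugates of Y, with Y in exactly one maximal subgroup, necessarily L₀). Then N_L(T) ≤ L₀, O_p(L) ≤ L₀ and T is a Sylow p-subgroup of L; N_L(L₀) = L₀; L = ⟨Y, gYg⁻¹⟩ for each g ∈ L outside L₀; and if Y is abelian then Y ∩ gYg⁻¹ = C_Y(L) for each such g. -/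
theorem result {L : Type*} [Group L] [Finite L] {p : ℕ} [Fact p.Prime] (L₀ : Subgroup L) (hL₀ : IsCoatom L₀) (T : Sylow p ↥L₀) (Y : Subgroup L) (hYT : Y ≤ (T : Subgroup ↥L₀).map L₀.subtype) (hmin : Cfsg.IsMinimalOver Y) : Subgroup.normalizer (((T : Subgroup ↥L₀).map L₀.subtype : Subgroup L) : Set L) ≤ L₀ ∧ Cfsg.pCore p L ≤ L₀ ∧ (∃ P : Sylow p L, (P : Subgroup L) = (T : Subgroup ↥L₀).map L₀.subtype) ∧ Subgroup.normalizer (L₀ : Set L) = L₀ ∧ (∀ g : L, g ∉ L₀ → Y ⊔ Y.map (MulAut.conj g).toMonoidHom = ⊤) ∧ (IsMulCommutative ↥Y → ∀ g : L, g ∉ L₀ → Y ⊓ Y.map (MulAut.conj g).toMonoidHom = Y ⊓ Subgroup.center L) := by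
  classical
  obtain ⟨hcl, M, ⟨hM, hYM⟩, huniq⟩ := hmin
  set T' : Subgroup L := (T : Subgroup ↥L₀).map L₀.subtype with hT'
  have hT'L₀ : T' ≤ L₀ := by
    rintro _ ⟨t, _, rfl⟩
    exact t.2
  have hYL₀ : Y ≤ L₀ := hYT.trans hT'L₀
  have hML₀ : M = L₀ := (huniq L₀ ⟨hL₀, hYL₀⟩).symm
  have hle : ∀ K : Subgroup L, Y ≤ K → K ≠ ⊤ → K ≤ L₀ := by
    intro K hK hne
    obtain ⟨M', hM', hKM'⟩ := (eq_top_or_exists_le_coatom K).resolve_left hne
    rw [huniq M' ⟨hM', hK.trans hKM'⟩, hML₀] at hKM'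
    exact hKM'
  have hnotnormal : ∀ K : Subgroup L, K.Normal → Y ≤ K → K = ⊤ := by
    intro K hK hYK
    haveI := hK
    rw [eq_top_iff, ← hcl]
    exact Subgroup.normalClosure_le_normal hYK
  have hT'p : IsPGroup p ↥T' := T.isPGroup'.map L₀.subtype
  -- (1)
  have h1 : Subgroup.normalizer (T' : Set L) ≤ L₀ := by
    apply hle
    · exact hYT.trans Subgroup.le_normalizer
    · intro htop
      have hn : T'.Normal := Subgroup.normalizer_eq_top_iff.1 htop
      have := hnotnormal T' hn hYT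
      exact hL₀.1 (top_le_iff.1 (this ▸ hT'L₀))
  -- a `p`-group case is impossible
  have hnotp : ¬ IsPGroup p L := by
    intro hpL
    haveI : Group.IsNilpotent L := IsPGroup.isNilpotent hpL
    have h2 : L₀ < Subgroup.normalizer (L₀ : Set L) :=
      Group.normalizerCondition_of_isNilpotent L₀ hL₀.lt_top
    have h3 : Subgroup.normalizer (L₀ : Set L) = ⊤ := hL₀.2 _ h2
    have hn : L₀.Normal := Subgroup.normalizer_eq_top_iff.1 h3
    exact hL₀.1 (hnotnormal L₀ hn hYL₀)
  -- (2)
  have h2 : Cfsg.pCore p L ≤ L₀ := by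
    have hTn : T' ≤ Subgroup.normalizer ((Cfsg.pCore p L : Subgroup L) : Set L) := by
      rw [Subgroup.normalizer_eq_top_iff.2 (Cfsg.pCore_normal p L)]; exact le_top
    have hQp : IsPGroup p ↥(Cfsg.pCore p L ⊔ T') :=
      IsPGroup.to_sup_of_normal_left' (Cfsg.Agent.Lib.Basic.pCore_isPGroup p) hT'p hTn
    by_cases htop : Cfsg.pCore p L ⊔ T' = ⊤
    · exfalso
      apply hnotp
      rw [htop] at hQp
      exact hQp.of_equiv Subgroup.topEquiv
    · exact le_sup_left.trans (hle _ (hYT.trans le_sup_right) htop)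
  -- (3)
  have h3 : ∃ P : Sylow p L, (P : Subgroup L) = T' := by
    obtain ⟨S, hS⟩ := hT'p.exists_le_sylow
    refine ⟨S, ?_⟩
    apply le_antisymm _ hS
    by_contra hnot
    haveI : Group.IsNilpotent ↥(S : Subgroup L) := IsPGroup.isNilpotent S.isPGroup'
    have hlt : T'.subgroupOf (S : Subgroup L) < ⊤ := by
      rw [lt_top_iff_ne_top]
      intro htop
      exact hnot (Subgroup.subgroupOf_eq_top.1 htop)
    have hlt2 := Group.normalizerCondition_of_isNilpotent _ hlt
    obtain ⟨s, hs, hsT⟩ := SetLike.exists_of_lt hlt2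
    have hsN : (s : L) ∈ Subgroup.normalizer (T' : Set L) := by
      rw [Subgroup.mem_normalizer_iff] at hs ⊢
      intro x
      constructor
      · intro hx
        have := (hs ⟨x, hS hx⟩).1 (Subgroup.mem_subgroupOf.2 hx)
        exact Subgroup.mem_subgroupOf.1 this
      · intro hx
        have hxS : x ∈ (S : Subgroup L) := by
          have h5 : (s : L) * x * (s : L)⁻¹ ∈ (S : Subgroup L) := hS hx
          have e : x = (s : L)⁻¹ * ((s : L) * x * (s : L)⁻¹) * (s : L) := by group
          rw [e]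
          exact (S : Subgroup L).mul_mem ((S : Subgroup L).mul_mem ((S : Subgroup L).inv_mem s.2) h5) s.2
        have := (hs ⟨x, hxS⟩).2 (Subgroup.mem_subgroupOf.2 hx)
        exact Subgroup.mem_subgroupOf.1 this
    have hsM : (s : L) ∈ L₀ := h1 hsN
    -- the `p`-subgroup `S ⊓ M` of `M` containing `T`
    have hQ : IsPGroup p ↥(((S : Subgroup L)).subgroupOf L₀) := by
      exact (S.isPGroup'.comap_of_injective L₀.subtype L₀.subtype_injective)
    have hTQ : (T : Subgroup ↥L₀) ≤ (S : Subgroup L).subgroupOf L₀ := by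
      intro t ht
      apply Subgroup.mem_subgroupOf.2
      exact hS ⟨t, ht, rfl⟩
    have hTeq := T.is_maximal' hQ hTQ
    have hsT' : (s : L) ∈ T' := by
      have : (⟨s, hsM⟩ : ↥L₀) ∈ (T : Subgroup ↥L₀) := by
        rw [← hTeq]
        exact Subgroup.mem_subgroupOf.2 s.2
      exact ⟨_, this, rfl⟩
    exact hsT (Subgroup.mem_subgroupOf.2 hsT')
  -- (4)
  have h4 : Subgroup.normalizer (L₀ : Set L) = L₀ := by
    by_contra hne
    have hlt : L₀ < Subgroup.normalizer (L₀ : Set L) := lt_of_le_of_ne Subgroup.le_normalizer (Ne.symm hne)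
    have h3 : Subgroup.normalizer (L₀ : Set L) = ⊤ := hL₀.2 _ hlt
    have hn : L₀.Normal := Subgroup.normalizer_eq_top_iff.1 h3
    exact hL₀.1 (hnotnormal L₀ hn hYL₀)
  -- (5)
  have h5 : ∀ g : L, g ∉ L₀ → Y ⊔ Y.map (MulAut.conj g).toMonoidHom = ⊤ := by
    intro g hg
    by_contra hne
    apply hg
    have hle1 := hle _ le_sup_left hne
    have hle2 : Y.map (MulAut.conj g).toMonoidHom ≤ L₀ := le_sup_right.trans hle1
    have hcongr : Y ≤ L₀.map (MulAut.conj g⁻¹).toMonoidHom := by
      intro y hy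
      refine ⟨g * y * g⁻¹, hle2 ⟨y, hy, rfl⟩, ?_⟩
      simp [MulAut.conj_apply]
      group
    have hne2 : L₀.map (MulAut.conj g⁻¹).toMonoidHom ≠ ⊤ := by
      intro htop
      apply hL₀.1
      rw [eq_top_iff]
      intro x _
      have : g⁻¹ * x * g⁻¹⁻¹ ∈ L₀.map (MulAut.conj g⁻¹).toMonoidHom := by rw [htop]; trivial
      obtain ⟨z, hz, e⟩ := this
      simp only [MulEquiv.coe_toMonoidHom, MulAut.conj_apply] at e
      have : z = x := mul_left_cancel (mul_right_cancel e)
      rwa [← this]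
    have hle3 := hle _ hcongr hne2
    have hcard : L₀.map (MulAut.conj g⁻¹).toMonoidHom = L₀ := by
      apply Subgroup.eq_of_le_of_card_ge hle3
      rw [Subgroup.card_map_of_injective (MulAut.conj g⁻¹).injective]
    have hgn : g⁻¹ ∈ Subgroup.normalizer (L₀ : Set L) := by
      rw [Subgroup.mem_normalizer_iff]
      intro x
      constructor
      · intro hx
        rw [← hcard]
        exact ⟨x, hx, rfl⟩
      · intro hx
        rw [← hcard] at hx
        obtain ⟨z, hz, e⟩ := hx
        simp only [MulEquiv.coe_toMonoidHom, MulAut.conj_apply] at e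
        have : z = x := mul_left_cancel (mul_right_cancel e)
        rwa [← this]
    rw [h4] at hgn
    simpa using hgn
  refine ⟨h1, h2, h3, h4, h5, ?_⟩
  intro hab g hg
  have hcomm : ∀ a ∈ Y, ∀ b ∈ Y, a * b = b * a := by
    intro a ha b hb
    have := hab.is_comm.comm ⟨a, ha⟩ ⟨b, hb⟩
    exact congrArg Subtype.val this
  apply le_antisymm
  · rintro y ⟨hy, z, hz, e⟩
    simp only [MulEquiv.coe_toMonoidHom, MulAut.conj_apply] at e
    refine ⟨hy, ?_⟩
    have hL : (⊤ : Subgroup L) ≤ Subgroup.centralizer ({y} : Set L) := by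
      rw [← h5 g hg]
      refine sup_le ?_ ?_
      · intro a ha
        rw [Subgroup.mem_centralizer_iff]
        intro b hb
        rw [Set.mem_singleton_iff] at hb
        rw [hb]
        exact hcomm y hy a ha
      · rintro _ ⟨a, ha, rfl⟩
        rw [Subgroup.mem_centralizer_iff]
        intro b hb
        rw [Set.mem_singleton_iff] at hb
        rw [hb, ← e]
        simp only [MulEquiv.coe_toMonoidHom, MulAut.conj_apply]
        have := hcomm z hz a ha
        calc g * z * g⁻¹ * (g * a * g⁻¹) = g * (z * a) * g⁻¹ := by group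
          _ = g * (a * z) * g⁻¹ := by rw [this]
          _ = g * a * g⁻¹ * (g * z * g⁻¹) := by group
    refine Subgroup.mem_center_iff.2 ?_
    intro l
    exact ((Subgroup.mem_centralizer_iff.1 (hL (Subgroup.mem_top l))) y rfl).symm
  · rintro y ⟨hy, hyc⟩
    refine ⟨hy, y, hy, ?_⟩
    simp only [MulEquiv.coe_toMonoidHom, MulAut.conj_apply]
    have hyc' := Subgroup.mem_center_iff.1 hyc g
    rw [hyc']; group

end Cfsg.Agent.S2835
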