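import Cfsg.Statements.S2836
import Cfsg.Agent.S2835

set_option autoImplicit false
open Cfsg

namespace Cfsg.Agent.S2836

/-- Let L be a finite group, L₀ a maximal subgroup, T a Sylow p-subgroup of L₀, Y ≤ T, and suppose L is Y-minimal. Let D be the intersection of the conjugates of L₀ (the core of L₀). Then D contains O_p(L) and D/O_p(L) is the Frattini subgroup of L/O_p(L), so D is p-closed; and every normal subgroup N of L contained in L₀ is p-closed with N/O_p(N) a nilpotent group of order prime to p. -/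
theorem result {L : Type*} [Group L] [Finite L] {p : ℕ} [Fact p.Prime] (L₀ : Subgroup L) (hL₀ : IsCoatom L₀) (T : Sylow p ↥L₀) (Y : Subgroup L) (hYT : Y ≤ (T : Subgroup ↥L₀).map L₀.subtype) (hmin : Cfsg.IsMinimalOver Y) : (Cfsg.pCore p L ≤ L₀.normalCore ∧ (L₀.normalCore).map (QuotientGroup.mk' (Cfsg.pCore p L)) = frattini (L ⧸ Cfsg.pCore p L) ∧ Cfsg.IsPClosed p ↥(L₀.normalCore)) ∧ ∀ (N : Subgroup L) [N.Normal], N ≤ L₀ → Cfsg.IsPClosed p ↥N ∧ Group.IsNilpotent (↥N ⧸ Cfsg.pCore p ↥N) ∧ (Nat.card (↥N ⧸ Cfsg.pCore p ↥N)).Coprime p := by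
  classical
  obtain ⟨h1, h2, ⟨P, hP⟩, h4, h5, -⟩ := Cfsg.Agent.S2835.result L₀ hL₀ T Y hYT hmin
  obtain ⟨hcl, M, ⟨hM, hYM⟩, huniq⟩ := hmin
  set T' : Subgroup L := (T : Subgroup ↥L₀).map L₀.subtype with hT'
  have hT'L₀ : T' ≤ L₀ := by
    rintro _ ⟨t, _, rfl⟩
    exact t.2
  have hYL₀ : Y ≤ L₀ := hYT.trans hT'L₀
  have hML₀ : M = L₀ := (huniq L₀ ⟨hL₀, hYL₀⟩).symm
  have hle : ∀ K : Subgroup L, Y ≤ K → K ≠ ⊤ → K ≤ L₀ := by
    intro K hK hne
    obtain ⟨M', hM', hKM'⟩ := (eq_top_or_exists_le_coatom K).resolve_left hne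
    rw [huniq M' ⟨hM', hK.trans hKM'⟩, hML₀] at hKM'
    exact hKM'
  have hYP : Y ≤ (P : Subgroup L) := by rw [hP]; exact hYT
  -- normal subgroups inside `L₀`
  have hN : ∀ (N : Subgroup L) [N.Normal], N ≤ L₀ → Cfsg.IsPClosed p ↥N := by
    intro N hNn hNL₀
    obtain ⟨Q, hQ⟩ := Cfsg.Agent.Lib.LocalEven.exists_sylow_inf_normal P N
    have hfr := Sylow.normalizer_sup_eq_top Q
    rw [hQ] at hfr
    have hTn : (P : Subgroup L) ≤ Subgroup.normalizer (((P : Subgroup L) ⊓ N : Subgroup L) : Set L) := by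
      intro t ht
      rw [Subgroup.mem_normalizer_iff]
      intro x
      constructor
      · rintro ⟨hx1, hx2⟩
        exact ⟨(P : Subgroup L).mul_mem ((P : Subgroup L).mul_mem ht hx1) ((P : Subgroup L).inv_mem ht),
          hNn.conj_mem x hx2 t⟩
      · rintro ⟨hx1, hx2⟩
        have h3 : t⁻¹ * (t * x * t⁻¹) * t⁻¹⁻¹ ∈ N := hNn.conj_mem _ hx2 t⁻¹
        have h4 : t⁻¹ * (t * x * t⁻¹) * t⁻¹⁻¹ ∈ (P : Subgroup L) :=
          (P : Subgroup L).mul_mem ((P : Subgroup L).mul_mem ((P : Subgroup L).inv_mem ht) hx1)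
            ((P : Subgroup L).inv_mem ((P : Subgroup L).inv_mem ht))
        have e : t⁻¹ * (t * x * t⁻¹) * t⁻¹⁻¹ = x := by group
        rw [e] at h3 h4
        exact ⟨h4, h3⟩
    have hnt : Subgroup.normalizer (((P : Subgroup L) ⊓ N : Subgroup L) : Set L) = ⊤ := by
      by_contra hne
      have h5 := hle _ (hYP.trans hTn) hne
      apply hL₀.1
      rw [eq_top_iff, ← hfr]
      exact sup_le h5 hNL₀
    have hnormal : ((P : Subgroup L) ⊓ N).Normal := Subgroup.normalizer_eq_top_iff.1 hnt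
    apply Cfsg.Agent.Lib.LocalEven.isPClosed_of_sylow_normal Q
    have e : (Q : Subgroup N) = ((P : Subgroup L) ⊓ N).subgroupOf N := by
      apply Subgroup.map_injective N.subtype_injective
      rw [hQ, Subgroup.map_subgroupOf_eq_of_le inf_le_right]
    rw [e]
    infer_instance
  set O := Cfsg.pCore p L with hOdef
  have hOn : O.Normal := Cfsg.pCore_normal p L
  have hOp : IsPGroup p ↥O := Cfsg.Agent.Lib.Basic.pCore_isPGroup p
  set π := QuotientGroup.mk' O with hπ
  have hπs : Function.Surjective π := QuotientGroup.mk'_surjective O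
  have hπker : ∀ x, π x = 1 ↔ x ∈ O := fun x => QuotientGroup.eq_one_iff x
  set D := L₀.normalCore with hDdef
  have hOD : O ≤ D := Subgroup.normal_le_normalCore.2 h2
  have hDL₀ : D ≤ L₀ := Subgroup.normalCore_le L₀
  have hDn : D.Normal := Subgroup.normalCore_normal L₀
  have hDc : Cfsg.IsPClosed p ↥D := hN D hDL₀
  -- `O` is a Sylow subgroup of `D`
  have hDindex : ¬ p ∣ O.relIndex D := by
    obtain ⟨R⟩ : Nonempty (Sylow p ↥D) := inferInstance
    have hRO : (R : Subgroup ↥D) ≤ O.subgroupOf D := by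
      intro r hr
      apply Subgroup.mem_subgroupOf.2
      have hr1 := (IsPGroup.iff_orderOf.1 R.isPGroup') ⟨r, hr⟩
      refine (Cfsg.Agent.Lib.LocalEven.isPClosed_normal_iff D).1 hDc r r.2 ?_
      obtain ⟨k, hk⟩ := hr1
      refine ⟨k, ?_⟩
      rw [← hk, Subgroup.orderOf_mk, Subgroup.orderOf_coe]
    intro hdvd
    apply R.not_dvd_index
    exact hdvd.trans (Subgroup.index_dvd_of_le hRO)
  have hD_coatom : ∀ Xb : Subgroup (L ⧸ O), IsCoatom Xb → D.map π ≤ Xb := by
    intro Xb hXb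
    rw [Subgroup.map_le_iff_le_comap]
    set X := Xb.comap π with hXdef
    have hX : IsCoatom X := Subgroup.isCoatom_comap_of_surjective hπs hXb
    have hOX : O ≤ X := by
      intro o ho
      show π o ∈ Xb
      rw [(hπker o).2 ho]
      exact Xb.one_mem
    by_contra hDX
    have hsup : X ⊔ D = ⊤ := hX.2 _ (lt_of_le_of_ne le_sup_left (fun h => hDX (h ▸ le_sup_right)))
    have hidx : ¬ p ∣ X.index := by
      have e1 := Cfsg.Agent.Lib.LocalEven.relIndex_inf_normal X D
      rw [hsup, Subgroup.relIndex_top_right] at e1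
      rw [← e1]
      intro hdvd
      apply hDindex
      exact hdvd.trans (Subgroup.relIndex_dvd_of_le_left D (le_inf hOX hOD))
    obtain ⟨S⟩ : Nonempty (Sylow p ↥X) := inferInstance
    have hnS := Cfsg.Agent.Lib.LocalEven.sylow_relIndex_not_dvd S
    have hSle := Cfsg.Agent.Lib.LocalEven.sylow_map_le S
    have hnS' : ¬ p ∣ ((S : Subgroup ↥X).map X.subtype).relIndex ⊤ := by
      rw [Subgroup.relIndex_top_right, ← Subgroup.relIndex_mul_index hSle]
      intro hd
      rcases (Fact.out : p.Prime).dvd_mul.1 hd with hd | hd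
      · exact hnS hd
      · exact hidx hd
    have hnP : ¬ p ∣ (P : Subgroup L).relIndex ⊤ := by
      rw [Subgroup.relIndex_top_right]; exact P.not_dvd_index
    obtain ⟨r, -, hr⟩ := Cfsg.Agent.Lib.LocalEven.exists_conj_of_relIndex (p := p) (R := ⊤) le_top le_top
      (Cfsg.Agent.Lib.LocalEven.sylow_map_isPGroup S) P.isPGroup' hnS' hnP
    -- conjugate `X` to contain `Y`
    have hYX : Y ≤ X.map (MulAut.conj r).toMonoidHom := by
      refine hYP.trans ?_
      rw [hr]
      exact Subgroup.map_mono hSle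
    have hXne : X.map (MulAut.conj r).toMonoidHom ≠ ⊤ := by
      intro htop
      apply hX.1
      rw [eq_top_iff]
      intro x _
      have : r * x * r⁻¹ ∈ X.map (MulAut.conj r).toMonoidHom := by rw [htop]; trivial
      obtain ⟨z, hz, e⟩ := this
      simp only [MulEquiv.coe_toMonoidHom, MulAut.conj_apply] at e
      have : z = x := mul_left_cancel (mul_right_cancel e)
      rwa [← this]
    have hXL₀ := hle _ hYX hXne
    -- `X` equals a conjugate of `L₀`, hence contains `D`
    set Z := L₀.map (MulAut.conj r⁻¹).toMonoidHom with hZ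
    have hXZ : X ≤ Z := by
      intro x hx
      refine ⟨r * x * r⁻¹, hXL₀ ⟨x, hx, rfl⟩, ?_⟩
      simp only [MulEquiv.coe_toMonoidHom, MulAut.conj_apply]
      group
    have hZne : Z ≠ ⊤ := by
      intro htop
      apply hL₀.1
      rw [eq_top_iff]
      intro x _
      have : r⁻¹ * x * r⁻¹⁻¹ ∈ Z := by rw [htop]; trivial
      obtain ⟨z, hz, e⟩ := this
      simp only [MulEquiv.coe_toMonoidHom, MulAut.conj_apply] at e
      have : z = x := mul_left_cancel (mul_right_cancel e)
      rwa [← this]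
    have hXeq : X = Z := by
      by_contra hne
      exact hZne (hX.2 Z (lt_of_le_of_ne hXZ hne))
    apply hDX
    rw [hXeq]
    intro d hd
    refine ⟨r * d * r⁻¹, hDL₀ (hDn.conj_mem d hd r), ?_⟩
    simp only [MulEquiv.coe_toMonoidHom, MulAut.conj_apply]
    group
  have hL₀map : IsCoatom (L₀.map π) := by
    constructor
    · intro htop
      apply hL₀.1
      rw [eq_top_iff]
      intro x _
      have : π x ∈ L₀.map π := by rw [htop]; trivial
      obtain ⟨l, hl, e⟩ := this
      have h3 : l⁻¹ * x ∈ O := by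
        rw [← hπker, map_mul, map_inv, e]; simp
      have e2 : x = l * (l⁻¹ * x) := by group
      rw [e2]
      exact L₀.mul_mem hl (h2 h3)
    · intro K hK
      have hlt : L₀ < K.comap π := by
        refine lt_of_le_of_ne (Subgroup.map_le_iff_le_comap.1 hK.le) ?_
        intro h
        apply hK.ne
        apply le_antisymm hK.le
        intro k hk
        obtain ⟨x, rfl⟩ := hπs k
        have : x ∈ K.comap π := hk
        rw [← h] at this
        exact ⟨x, this, rfl⟩
      have h3 := hL₀.2 _ hlt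
      rw [eq_top_iff]
      intro q _
      obtain ⟨x, rfl⟩ := hπs q
      have : x ∈ K.comap π := by rw [h3]; trivial
      exact this
  have hFratt : D.map π = frattini (L ⧸ O) := by
    apply le_antisymm
    · exact le_iInf₂ (fun X hX => hD_coatom X hX)
    · have hFn : ((frattini (L ⧸ O)).comap π).Normal := Subgroup.Normal.comap inferInstance π
      have hFL₀ : (frattini (L ⧸ O)).comap π ≤ L₀ := by
        intro x hx
        have hx1 : π x ∈ L₀.map π := frattini_le_coatom hL₀map hx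
        obtain ⟨l, hl, e⟩ := hx1
        have h3 : l⁻¹ * x ∈ O := by
          rw [← hπker, map_mul, map_inv, e]; simp
        have e2 : x = l * (l⁻¹ * x) := by group
        rw [e2]
        exact L₀.mul_mem hl (h2 h3)
      have hFD : (frattini (L ⧸ O)).comap π ≤ D := Subgroup.normal_le_normalCore.2 hFL₀
      intro y hy
      obtain ⟨x, rfl⟩ := hπs y
      exact ⟨x, hFD hy, rfl⟩
  refine ⟨⟨hOD, hFratt, hDc⟩, ?_⟩
  intro N hNn hNL₀
  have hNc := hN N hNL₀
  refine ⟨hNc, ?_, ?_⟩
  · -- nilpotency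
    have hNle : N ≤ D := Subgroup.normal_le_normalCore.2 hNL₀
    have hcore : ∀ n : N, (n : L) ∈ O → n ∈ Cfsg.pCore p ↥N := by
      intro n hn
      have hAn : (O.subgroupOf N).Normal := inferInstance
      have hAp : IsPGroup p ↥(O.subgroupOf N) :=
        hOp.comap_of_injective N.subtype N.subtype_injective
      exact Cfsg.Agent.Lib.Basic.le_pCore hAn hAp (Subgroup.mem_subgroupOf.2 hn)
    have hcore' : ∀ n : N, n ∈ Cfsg.pCore p ↥N → (n : L) ∈ O := by
      intro n hn
      exact Cfsg.Agent.Lib.LocalEven.map_pCore_le_pCore N ⟨n, hn, rfl⟩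
    let f : ↥N →* (L ⧸ O) := π.comp N.subtype
    have hf : Cfsg.pCore p ↥N ≤ f.ker := by
      intro n hn
      rw [MonoidHom.mem_ker]
      exact (hπker _).2 (hcore' n hn)
    haveI : (Cfsg.pCore p ↥N).Normal := Cfsg.pCore_normal p ↥N
    let g : (↥N ⧸ Cfsg.pCore p ↥N) →* (L ⧸ O) := QuotientGroup.lift _ f hf
    have hgr : ∀ q, g q ∈ frattini (L ⧸ O) := by
      intro q
      obtain ⟨n, rfl⟩ := QuotientGroup.mk_surjective q
      rw [← hFratt]
      exact ⟨n, hNle n.2, rfl⟩
    let g' : (↥N ⧸ Cfsg.pCore p ↥N) →* ↥(frattini (L ⧸ O)) := g.codRestrict _ hgr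
    have hker : g'.ker ≤ Subgroup.center _ := by
      intro q hq
      obtain ⟨n, rfl⟩ := QuotientGroup.mk_surjective q
      rw [MonoidHom.mem_ker] at hq
      have h3 : π n = 1 := congrArg Subtype.val hq
      have h4 : (QuotientGroup.mk n : ↥N ⧸ Cfsg.pCore p ↥N) = 1 :=
        (QuotientGroup.eq_one_iff n).2 (hcore n ((hπker _).1 h3))
      rw [h4]
      exact Subgroup.one_mem _
    haveI : Group.IsNilpotent ↥(frattini (L ⧸ O)) := frattini_nilpotent
    exact Subgroup.isNilpotent_of_ker_le_center g' hker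
  · -- coprimality
    obtain ⟨R⟩ : Nonempty (Sylow p ↥N) := inferInstance
    have hRle : (R : Subgroup ↥N) ≤ Cfsg.pCore p ↥N := by
      intro r hr
      rw [Cfsg.Agent.Lib.LocalEven.isPClosed_iff] at hNc
      apply hNc
      obtain ⟨k, hk⟩ := (IsPGroup.iff_orderOf.1 R.isPGroup') ⟨r, hr⟩
      refine ⟨k, ?_⟩
      rw [← hk]
      exact (Subgroup.orderOf_mk (H := (R : Subgroup ↥N)) r hr).symm
    have hnd : ¬ p ∣ (Cfsg.pCore p ↥N).index := fun h =>
      R.not_dvd_index (h.trans (Subgroup.index_dvd_of_le hRle))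
    rw [← Subgroup.index_eq_card]
    exact ((Nat.Prime.coprime_iff_not_dvd (Fact.out : p.Prime)).2 hnd).symm

end Cfsg.Agent.S2836
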