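import Cfsg.Statements.S2837
import Cfsg.Agent.S2835
import Cfsg.Agent.Lib.Transfer.Frattini

set_option autoImplicit false
open Cfsg
open scoped commutatorElement

namespace Cfsg.Agent.S2837

/-- Let L be a finite group of characteristic p, L₀ a maximal subgroup, Y an elementary abelian p-subgroup of L₀ with L Y-minimal and O_p(L) ≤ N_L(Y). Put A = the normal closure of O_p(L) ∩ Y in L. Then for every g ∈ L outside L₀: Φ(A) = A' = [A ∩ Y, A] = [A ∩ Y, A ∩ gYg⁻¹] ≤ C_Y(L), and Y ∩ gYg⁻¹ = (A ∩ Y) ∩ (A ∩ gYg⁻¹) = C_Y(L) = C_A(L). -/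
theorem result {L : Type*} [Group L] [Finite L] {p : ℕ} [Fact p.Prime] (hchar : Subgroup.centralizer (Cfsg.pCore p L : Set L) ≤ Cfsg.pCore p L) (L₀ : Subgroup L) (hL₀ : IsCoatom L₀) (Y : Subgroup L) (hYL₀ : Y ≤ L₀) (hYel : Cfsg.IsElementaryAbelian p Y) (hmin : Cfsg.IsMinimalOver Y) (hOY : Cfsg.pCore p L ≤ Subgroup.normalizer (Y : Set L)) (A : Subgroup L) (hA : A = Subgroup.normalClosure (((Cfsg.pCore p L ⊓ Y : Subgroup L)) : Set L)) (g : L) (hg : g ∉ L₀) : (frattini ↥A).map A.subtype = ⁅A, A⁆ ∧ ⁅A, A⁆ = ⁅A ⊓ Y, A⁆ ∧ ⁅A ⊓ Y, A⁆ = ⁅A ⊓ Y, A ⊓ Y.map (MulAut.conj g).toMonoidHom⁆ ∧ ⁅A ⊓ Y, A⁆ ≤ Y ⊓ Subgroup.center L ∧ Y ⊓ Y.map (MulAut.conj g).toMonoidHom = Y ⊓ Subgroup.center L ∧ (A ⊓ Y) ⊓ (A ⊓ Y.map (MulAut.conj g).toMonoidHom) = Y ⊓ Subgroup.center L ∧ A ⊓ Subgroup.center L = Y ⊓ Subgroup.center L := by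
  classical
  have hYp : IsPGroup p ↥Y := by
    intro y
    refine ⟨1, ?_⟩
    apply Subtype.ext
    simpa using hYel.2 y y.2
  have hY'p : IsPGroup p ↥(Y.subgroupOf L₀) := hYp.comap_of_injective L₀.subtype L₀.subtype_injective
  obtain ⟨T, hT⟩ := hY'p.exists_le_sylow
  have hYT : Y ≤ (T : Subgroup ↥L₀).map L₀.subtype := fun y hy =>
    ⟨⟨y, hYL₀ hy⟩, hT (Subgroup.mem_subgroupOf.2 hy), rfl⟩
  obtain ⟨h1, h2, h3, h4, h5, h6⟩ := Cfsg.Agent.S2835.result L₀ hL₀ T Y hYT hmin
  have hab : IsMulCommutative ↥Y := hYel.1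
  have hgen := h5 g hg
  have hcen := h6 hab g hg
  set c := (MulAut.conj g).toMonoidHom with hc
  have hcapp : ∀ y, c y = g * y * g⁻¹ := fun y => by simp [hc, MulAut.conj_apply]
  set Y' := Y.map c with hY'
  set Q := Cfsg.pCore p L with hQdef
  have hQn : Q.Normal := Cfsg.pCore_normal p L
  have hQp : IsPGroup p ↥Q := Cfsg.Agent.Lib.Basic.pCore_isPGroup p
  have hYc : ∀ a ∈ Y, ∀ b ∈ Y, a * b = b * a := by
    intro a ha b hb
    have := hab.is_comm.comm ⟨a, ha⟩ ⟨b, hb⟩
    exact congrArg Subtype.val this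
  have hY'c : ∀ a ∈ Y', ∀ b ∈ Y', a * b = b * a := by
    rintro _ ⟨a, ha, rfl⟩ _ ⟨b, hb, rfl⟩
    rw [hcapp, hcapp]
    calc g * a * g⁻¹ * (g * b * g⁻¹) = g * (a * b) * g⁻¹ := by group
      _ = g * (b * a) * g⁻¹ := by rw [hYc a ha b hb]
      _ = g * b * g⁻¹ * (g * a * g⁻¹) := by group
  have hQY' : Q ≤ Subgroup.normalizer (Y' : Set L) := by
    apply Cfsg.Agent.Lib.LocalEven.le_normalizer_of_conj_le
    rintro q hq _ ⟨_, ⟨y, hy, rfl⟩, rfl⟩
    have hq' : g⁻¹ * q * g⁻¹⁻¹ ∈ Q := hQn.conj_mem q hq g⁻¹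
    have h7 := (Subgroup.mem_normalizer_iff.1 (hOY hq') y).1 hy
    refine ⟨_, h7, ?_⟩
    simp only [hcapp, MulEquiv.coe_toMonoidHom, MulAut.conj_apply]
    group
  -- the general normalizing lemma
  have hnorm : ∀ Y₁ Y₂ : Subgroup L, Q ≤ Subgroup.normalizer (Y₁ : Set L) →
      (∀ a ∈ Y₁, ∀ b ∈ Y₁, a * b = b * a) →
      Y₁ ≤ Subgroup.normalizer (((Q ⊓ Y₁) ⊔ (Q ⊓ Y₂) : Subgroup L) : Set L) := by
    intro Y₁ Y₂ hQ1 hcY
    apply Cfsg.Agent.Lib.LocalEven.le_normalizer_of_conj_le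
    intro y hy
    rw [Subgroup.map_sup]
    refine sup_le ?_ ?_
    · rintro _ ⟨a, ha, rfl⟩
      apply Subgroup.mem_sup_left
      have e : (MulAut.conj y).toMonoidHom a = a := by
        simp only [MulEquiv.coe_toMonoidHom, MulAut.conj_apply]
        rw [hcY y hy a ha.2]; group
      rw [e]; exact ha
    · rintro _ ⟨u, hu, rfl⟩
      have e : (MulAut.conj y).toMonoidHom u = (y * (u * y⁻¹ * u⁻¹)) * u := by
        simp only [MulEquiv.coe_toMonoidHom, MulAut.conj_apply]
        group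
      rw [e]
      refine Subgroup.mul_mem _ (Subgroup.mem_sup_left ⟨?_, ?_⟩) (Subgroup.mem_sup_right hu)
      · have e2 : y * (u * y⁻¹ * u⁻¹) = (y * u * y⁻¹) * u⁻¹ := by group
        rw [e2]
        exact Q.mul_mem (hQn.conj_mem u hu.1 y) (Q.inv_mem hu.1)
      · exact Y₁.mul_mem hy ((Subgroup.mem_normalizer_iff.1 (hQ1 hu.1) _).1 (Y₁.inv_mem hy))
  set W := Q ⊓ Y with hW
  set W' := Q ⊓ Y' with hW'
  have hNn : (W ⊔ W').Normal := by
    rw [← Subgroup.normalizer_eq_top_iff, eq_top_iff, ← hgen]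
    refine sup_le (hnorm Y Y' hOY hYc) ?_
    have := hnorm Y' Y hQY' hY'c
    rwa [sup_comm] at this
  have hAeq : A = W ⊔ W' := by
    rw [hA]
    apply le_antisymm
    · haveI := hNn
      exact Subgroup.normalClosure_le_normal (le_sup_left (a := W) (b := W'))
    · haveI : (Subgroup.normalClosure ((W : Subgroup L) : Set L)).Normal := inferInstance
      refine sup_le Subgroup.le_normalClosure ?_
      rintro u ⟨huQ, y, hy, e⟩
      rw [hcapp] at e
      have hyW : y ∈ W := by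
        refine ⟨?_, hy⟩
        have := hQn.conj_mem u huQ g⁻¹
        have e2 : g⁻¹ * u * g⁻¹⁻¹ = y := by rw [← e]; group
        rwa [e2] at this
      rw [← e]
      exact Subgroup.Normal.conj_mem inferInstance y (Subgroup.le_normalClosure hyW) g
  have hWQ : W ⊔ W' ≤ Q := sup_le inf_le_left inf_le_left
  have hAQ : A ≤ Q := hAeq ▸ hWQ
  have hAY : A ⊓ Y = W := by
    apply le_antisymm
    · exact le_inf (inf_le_left.trans hAQ) inf_le_right
    · rw [hAeq]; exact le_inf le_sup_left inf_le_right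
  have hAY' : A ⊓ Y' = W' := by
    apply le_antisymm
    · exact le_inf (inf_le_left.trans hAQ) inf_le_right
    · rw [hAeq]; exact le_inf le_sup_right inf_le_right
  rw [hAY, hAY']
  -- `Q` normalizes `W`, `W'`
  have hinf : ∀ Y₁ : Subgroup L, Q ≤ Subgroup.normalizer (Y₁ : Set L) →
      Q ≤ Subgroup.normalizer ((Q ⊓ Y₁ : Subgroup L) : Set L) := by
    intro Y₁ hQ1
    apply Cfsg.Agent.Lib.LocalEven.le_normalizer_of_conj_le
    rintro q hq _ ⟨a, ha, rfl⟩
    exact ⟨hQn.conj_mem a ha.1 q, (Subgroup.mem_normalizer_iff.1 (hQ1 hq) a).1 ha.2⟩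
  have hWn : W' ≤ Subgroup.normalizer (W : Set L) := inf_le_left.trans (hinf Y hOY)
  have hW'n : W ≤ Subgroup.normalizer (W' : Set L) := inf_le_left.trans (hinf Y' hQY')
  set K : Subgroup L := ⁅W, W'⁆ with hK
  have hKle : K ≤ W ⊓ W' := Cfsg.Agent.Lib.LocalEven.commutator_le_inf_of_normalizes hWn hW'n
  have hWW'Y : W ⊓ W' ≤ Y ⊓ Subgroup.center L := by
    rw [← hcen]
    exact inf_le_inf inf_le_right inf_le_right
  have hKc : K ≤ Y ⊓ Subgroup.center L := hKle.trans hWW'Y
  have hKn : K.Normal := by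
    constructor
    intro k hk l
    have := (hKc hk).2
    have e : l * k * l⁻¹ = k := by
      rw [(Subgroup.mem_center_iff.1 this) l]; group
    rw [e]; exact hk
  have hsup : ∀ A₁ A₂ B : Subgroup L, (⁅A₁, B⁆ : Subgroup L) ≤ K → (⁅A₂, B⁆ : Subgroup L) ≤ K →
      (⁅A₁ ⊔ A₂, B⁆ : Subgroup L) ≤ K := by
    intro A₁ A₂ B h₁ h₂
    rw [Subgroup.commutator_le] at h₁ h₂ ⊢
    let S : Subgroup L :=
      { carrier := {a | ∀ b ∈ B, ⁅a, b⁆ ∈ K}
        mul_mem' := by
          intro a a' ha ha' b hb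
          have e : ⁅a * a', b⁆ = a * ⁅a', b⁆ * a⁻¹ * ⁅a, b⁆ := by
            simp only [commutatorElement_def]; group
          rw [e]
          exact K.mul_mem (hKn.conj_mem _ (ha' b hb) a) (ha b hb)
        one_mem' := by
          intro b _
          simp [commutatorElement_def, K.one_mem]
        inv_mem' := by
          intro a ha b hb
          have e : ⁅a⁻¹, b⁆ = a⁻¹ * ⁅a, b⁆⁻¹ * a⁻¹⁻¹ := by
            simp only [commutatorElement_def]; group
          rw [e]
          exact hKn.conj_mem _ (K.inv_mem (ha b hb)) _ }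
    have hle : A₁ ⊔ A₂ ≤ S := sup_le (fun a ha b hb => h₁ a ha b hb) (fun a ha b hb => h₂ a ha b hb)
    intro a ha b hb
    exact hle ha b hb
  have hcomm1 : (⁅W, W⁆ : Subgroup L) ≤ K := by
    rw [Subgroup.commutator_le]
    intro a ha b hb
    have : a * b = b * a := hYc a ha.2 b hb.2
    rw [commutatorElement_eq_one_iff_mul_comm.2 this]
    exact K.one_mem
  have hcomm2 : (⁅W', W'⁆ : Subgroup L) ≤ K := by
    rw [Subgroup.commutator_le]
    intro a ha b hb
    have : a * b = b * a := hY'c a ha.2 b hb.2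
    rw [commutatorElement_eq_one_iff_mul_comm.2 this]
    exact K.one_mem
  have hcomm3 : (⁅W', W⁆ : Subgroup L) ≤ K := by
    rw [Subgroup.commutator_comm]
  have hWsup : (⁅W ⊔ W', W⁆ : Subgroup L) ≤ K := hsup _ _ _ hcomm1 hcomm3
  have hWsup' : (⁅W ⊔ W', W'⁆ : Subgroup L) ≤ K := hsup _ _ _ le_rfl hcomm2
  have hsupsup : (⁅W ⊔ W', W ⊔ W'⁆ : Subgroup L) ≤ K := by
    rw [Subgroup.commutator_comm]
    apply hsup _ _ _ <;> rw [Subgroup.commutator_comm] <;> assumption
  have hWA' : W ≤ A := by rw [hAeq]; exact le_sup_left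
  have hW'A' : W' ≤ A := by rw [hAeq]; exact le_sup_right
  have hAA : (⁅A, A⁆ : Subgroup L) = K := by
    apply le_antisymm
    · rw [hAeq]; exact hsupsup
    · exact Subgroup.commutator_mono hWA' hW'A'
  have hWA : (⁅W, A⁆ : Subgroup L) = K := by
    apply le_antisymm
    · rw [← hAA]; exact Subgroup.commutator_mono hWA' le_rfl
    · exact Subgroup.commutator_mono le_rfl hW'A'
  have hZW : Y ⊓ Subgroup.center L ≤ Q := by
    have hZn : (Y ⊓ Subgroup.center L).Normal := by
      constructor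
      intro z hz l
      have e : l * z * l⁻¹ = z := by
        rw [(Subgroup.mem_center_iff.1 hz.2) l]; group
      rw [e]; exact hz
    exact Cfsg.Agent.Lib.Basic.le_pCore hZn (hYp.to_le inf_le_left)
  have hAp : IsPGroup p ↥A := hQp.to_le hAQ
  refine ⟨?_, ?_, ?_, ?_, hcen, ?_, ?_⟩
  · -- Frattini
    rw [← Subgroup.map_subtype_commutator]
    congr 1
    apply le_antisymm
    · haveI : (commutator ↥A).Normal := inferInstance
      apply Cfsg.Agent.Lib.Transfer.frattini_le_of_elementary (p := p)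
      · intro x
        have hx : (x : L) ∈ W ⊔ W' := hAeq ▸ x.2
        obtain ⟨w, hw, u, hu, e⟩ := (Cfsg.Agent.Lib.LocalEven.mem_sup_iff_of_normalizes hWn).1 hx
        have hxe : x = (⟨w, hWA' hw⟩ : ↥A) * (⟨u, hW'A' hu⟩ : ↥A) := Subtype.ext e
        have h8 : Abelianization.of (x ^ p) = 1 := by
          rw [hxe, map_pow, map_mul, mul_pow, ← map_pow, ← map_pow]
          have e1 : (⟨w, hWA' hw⟩ : ↥A) ^ p = 1 := Subtype.ext (hYel.2 w hw.2)
          have e2 : (⟨u, hW'A' hu⟩ : ↥A) ^ p = 1 := by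
            apply Subtype.ext
            obtain ⟨y, hy, e3⟩ := hu.2
            show u ^ p = 1
            rw [← e3, ← map_pow, hYel.2 y hy, map_one]
          rw [e1, e2]; simp
        exact (QuotientGroup.eq_one_iff _).1 h8
      · intro x y
        have : x * y * x⁻¹ * y⁻¹ = ⁅x, y⁆ := rfl
        rw [this, commutator_def]
        exact Subgroup.commutator_mem_commutator (Subgroup.mem_top x) (Subgroup.mem_top y)
    · exact Cfsg.Agent.Lib.Transfer.commutator_le_frattini hAp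
  · rw [hAA, hWA]
  · exact hWA
  · rw [hWA]; exact hKc
  · apply le_antisymm hWW'Y
    intro z hz
    have hzY' : z ∈ Y ⊓ Y' := by rw [hcen]; exact hz
    exact ⟨⟨hZW hz, hz.1⟩, ⟨hZW hz, hzY'.2⟩⟩
  · apply le_antisymm
    · rintro z ⟨hzA, hzc⟩
      rw [hAeq] at hzA
      obtain ⟨w, hw, u, hu, rfl⟩ := (Cfsg.Agent.Lib.LocalEven.mem_sup_iff_of_normalizes hWn).1 hzA
      have hcen' := Subgroup.mem_center_iff.1 hzc
      have hucom : ∀ l, l * u = u * l := by
        have hL : (⊤ : Subgroup L) ≤ Subgroup.centralizer ({u} : Set L) := by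
          rw [← hgen]
          refine sup_le ?_ ?_
          · intro y hy
            refine Subgroup.mem_centralizer_iff.2 ?_
            intro b hb
            rw [Set.mem_singleton_iff] at hb
            rw [hb]
            have h9 := hcen' y
            have h10 := hYc y hy w hw.2
            have h11 : w * (y * u) = w * (u * y) := by
              calc w * (y * u) = (w * y) * u := by group
                _ = (y * w) * u := by rw [h10]
                _ = y * (w * u) := by group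
                _ = (w * u) * y := h9
                _ = w * (u * y) := by group
            exact (mul_left_cancel h11).symm
          · intro y hy
            refine Subgroup.mem_centralizer_iff.2 ?_
            intro b hb
            rw [Set.mem_singleton_iff] at hb
            rw [hb]
            exact hY'c u hu.2 y hy
        intro l
        have := Subgroup.mem_centralizer_iff.1 (hL (Subgroup.mem_top l)) u rfl
        exact this.symm
      obtain ⟨y, hy, e⟩ := hu.2
      rw [hcapp] at e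
      have e3 : u = y := by
        have h12 : g * u = g * y := by
          calc g * u = u * g := hucom g
            _ = (g * y * g⁻¹) * g := by rw [e]
            _ = g * y := by group
        exact mul_left_cancel h12
      refine ⟨Y.mul_mem hw.2 (e3 ▸ hy), hzc⟩
    · rintro z ⟨hzY, hzc⟩
      exact ⟨hWA' ⟨hZW ⟨hzY, hzc⟩, hzY⟩, hzc⟩

end Cfsg.Agent.S2837
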