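import Cfsg.Statements.S2855
-- import your own Cfsg.Agent.* helpers here
import Mathlib
import Cfsg.Agent.Lib.Coprime.PMin
import Cfsg.Agent.Lib.LocalEven2.CharP
import Cfsg.Agent.Lib.OddLocal.Sup

set_option autoImplicit false
open Cfsg

namespace Cfsg.Agent.S2855

open Subgroup Cfsg.Agent.Lib.Basic Cfsg.Agent.Lib.LocalEven Cfsg.Agent.Lib.Coprime.PMin
open scoped commutatorElement

section helpers

variable {H : Type*} [Group H] [Finite H] {p : ℕ} [hp : Fact p.Prime]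

/-- Conjugation. -/
abbrev cj (g : H) : H →* H := (MulAut.conj g).toMonoidHom

lemma cj_apply (g x : H) : cj g x = g * x * g⁻¹ := rfl

lemma map_cj_mul (X : Subgroup H) (g h : H) : X.map (cj (g * h)) = (X.map (cj h)).map (cj g) := by
  rw [Subgroup.map_map]
  congr 1
  ext x
  simp [cj_apply, mul_assoc]

lemma map_cj_one (X : Subgroup H) : X.map (cj (1 : H)) = X := by
  ext x
  simp [cj_apply]

lemma map_cj_inv_cancel (X : Subgroup H) (g : H) : (X.map (cj g)).map (cj g⁻¹) = X := by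
  rw [← map_cj_mul, inv_mul_cancel, map_cj_one]

lemma map_cj_cancel_inv (X : Subgroup H) (g : H) : (X.map (cj g⁻¹)).map (cj g) = X := by
  rw [← map_cj_mul, mul_inv_cancel, map_cj_one]

lemma card_map_cj (X : Subgroup H) (g : H) : Nat.card ↥(X.map (cj g)) = Nat.card X :=
  Subgroup.card_map_of_injective (MulAut.conj g).injective

lemma map_cj_normal (X : Subgroup H) [hX : X.Normal] (g : H) : X.map (cj g) = X := by
  apply Subgroup.eq_of_le_of_card_ge
  · rintro _ ⟨x, hx, rfl⟩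
    exact hX.conj_mem x hx g
  · rw [card_map_cj]

lemma map_cj_of_normalizer {X : Subgroup H} {g : H} (hg : g ∈ normalizer (X : Set H)) : X.map (cj g) = X := by
  apply Subgroup.eq_of_le_of_card_ge
  · rintro _ ⟨x, hx, rfl⟩
    exact (mem_normalizer_iff.mp hg x).mp hx
  · rw [card_map_cj]

lemma normalizer_of_map_cj {X : Subgroup H} {g : H} (hg : X.map (cj g) = X) : g ∈ normalizer (X : Set H) := by
  apply Cfsg.Agent.Lib.Coprime.mem_normalizer_of_conj_le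
  intro x hx
  rw [← hg]
  exact ⟨x, hx, rfl⟩

lemma mem_sup_Q {Q X : Subgroup H} [hQ : Q.Normal] {x : H} : x ∈ X ⊔ Q ↔ ∃ q ∈ Q, ∃ y ∈ X, x = q * y := by
  rw [sup_comm]
  apply mem_sup_iff_of_normalizes
  intro y _
  apply Cfsg.Agent.Lib.Coprime.mem_normalizer_of_conj_le
  intro z hz
  exact hQ.conj_mem z hz y

/-- A `p'`-lift. -/
lemma lift_coprime {G' G'' : Type*} [Group G'] [Group G''] [Finite G'] [Finite G''] (f : G' →* G'') (x : G')
    (hx : (orderOf (f x)).Coprime p) : ∃ y : G', (orderOf y).Coprime p ∧ f y = f x ∧ ∃ a : ℕ, y = x ^ a := by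
  obtain ⟨k, m, hm, hkm⟩ := Nat.exists_eq_pow_mul_and_not_dvd (orderOf_pos x).ne' p hp.out.ne_one
  have co : (orderOf (f x)).Coprime (p ^ k) := Nat.Coprime.pow_right k hx
  obtain ⟨a, ha1, ha2⟩ := Nat.chineseRemainder co 1 0
  refine ⟨x ^ a, ?_, ?_, a, rfl⟩
  · have h1 : orderOf (x ^ a) ∣ m := by
      apply orderOf_dvd_of_pow_eq_one
      have hd : p ^ k ∣ a := (Nat.modEq_zero_iff_dvd).mp ha2
      obtain ⟨c, rfl⟩ := hd
      have h2 : p ^ k * c * m = (p ^ k * m) * c := by ring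
      rw [← pow_mul, h2, pow_mul, ← hkm, pow_orderOf_eq_one, one_pow]
    have h2 : m.Coprime p := ((Nat.Prime.coprime_iff_not_dvd hp.out).mpr hm).symm
    exact Nat.Coprime.coprime_dvd_left h1 h2
  · rw [map_pow]
    have := (pow_eq_pow_iff_modEq (x := f x)).mpr ha1
    rwa [pow_one] at this

/-- Class at most two modulo `O_p` implies `p`-closed. -/
lemma closed_of_class_two (N : Subgroup H) (h1 : ∀ a b : H, ⁅a, b⁆ ∈ N) (h2 : ∀ n ∈ N, ∀ g : H, ⁅n, g⁆ ∈ Cfsg.pCore p H) :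
    Cfsg.IsPClosed p H := by
  apply isPClosed_of_mem
  rintro x ⟨k, hk⟩
  set O := Cfsg.pCore p H with hO
  haveI hOn : O.Normal := pCore_normal p H
  let π : H →* H ⧸ O := QuotientGroup.mk' O
  have hO' : Cfsg.pCore p (H ⧸ O) = ⊥ := by
    rw [pCore_quotient O (pCore_isPGroup p)]
    exact QuotientGroup.map_mk'_self O
  have hx1 : (π x) ^ (p ^ k) = 1 := by
    rw [← map_pow, ← hk, pow_orderOf_eq_one, map_one]
  have hsurj : Function.Surjective π := QuotientGroup.mk'_surjective O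
  have key : ∀ g : H, ⁅π g, π x⁆ = 1 := by
    intro g
    set c := ⁅π g, π x⁆ with hc
    have hcent : ∀ h : H ⧸ O, h * c * h⁻¹ = c := by
      intro h
      obtain ⟨h', rfl⟩ := hsurj h
      have h3 : c = π ⁅g, x⁆ := by rw [map_commutatorElement]
      have h4 : ⁅⁅g, x⁆, h'⁆ ∈ O := h2 _ (h1 g x) h'
      have h5 : π ⁅⁅g, x⁆, h'⁆ = 1 := (QuotientGroup.eq_one_iff _).mpr h4
      rw [map_commutatorElement, ← h3, commutatorElement_eq_one_iff_mul_comm] at h5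
      rw [← h5, mul_inv_cancel_right]
    have hpow : ∀ n : ℕ, ⁅π g, (π x) ^ n⁆ = c ^ n := by
      intro n
      induction n with
      | zero => simp
      | succ n ih =>
        have h6 : (π x) ^ n * c * ((π x) ^ n)⁻¹ = c := hcent _
        calc ⁅π g, (π x) ^ (n + 1)⁆ = ⁅π g, (π x) ^ n⁆ * ((π x) ^ n * c * ((π x) ^ n)⁻¹) := by
              simp only [commutatorElement_def, hc, pow_succ]
              group
          _ = c ^ (n + 1) := by rw [h6, ih, pow_succ]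
    have h7 : c ^ (p ^ k) = 1 := by
      rw [← hpow, hx1, commutatorElement_one_right]
    have h8 : orderOf c ∣ p ^ k := orderOf_dvd_of_pow_eq_one h7
    obtain ⟨j, -, hj⟩ := (Nat.dvd_prime_pow hp.out).mp h8
    have h9 := mem_pCore_of_central_mod (p := p) (x := c) ⟨j, hj⟩ (fun g' => by
      rw [hcent, mul_inv_cancel]
      exact one_mem _)
    rw [hO'] at h9
    exact h9
  have h8 : orderOf (π x) ∣ p ^ k := orderOf_dvd_of_pow_eq_one hx1
  obtain ⟨j, -, hj⟩ := (Nat.dvd_prime_pow hp.out).mp h8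
  have h9 := mem_pCore_of_central_mod (p := p) (x := π x) ⟨j, hj⟩ (fun g' => by
    obtain ⟨g, rfl⟩ := hsurj g'
    have h10 := key g
    rw [commutatorElement_def] at h10
    rw [h10]
    exact one_mem _)
  rw [hO'] at h9
  exact (QuotientGroup.eq_one_iff x).mp h9

lemma inf_of_norm {A B C : Subgroup H} (hA : ¬ p ∣ A.relIndex B) (hAB : A ≤ B) (hCB : C ≤ B)
    (hN : B ≤ normalizer (C : Set H)) : ¬ p ∣ (A ⊓ C).relIndex C := by
  have h1 := Cfsg.Agent.Lib.OddLocal.card_sup_mul_card_inf (A := C) (B := A) (hAB.trans hN)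
  have h2 := Cfsg.Agent.Lib.OddLocal.card_mul_relIndex (le_sup_right : A ≤ C ⊔ A)
  have h3 := Cfsg.Agent.Lib.OddLocal.card_mul_relIndex (inf_le_right : A ⊓ C ≤ C)
  have h4 := Subgroup.relIndex_mul_relIndex A (C ⊔ A) B le_sup_right (sup_le hCB hAB)
  have h5 : (A ⊓ C).relIndex C = A.relIndex (C ⊔ A) := by
    have hp1 : 0 < Nat.card A := Nat.card_pos
    have hp2 : 0 < Nat.card ↥(A ⊓ C) := Nat.card_pos
    rw [inf_comm C A, ← h2, ← h3] at h1
    apply Nat.eq_of_mul_eq_mul_left (Nat.mul_pos hp1 hp2)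
    nlinarith [h1]
  rw [h5]
  intro hdvd
  apply hA
  rw [← h4]
  exact hdvd.trans (Dvd.intro _ rfl)

/-- The property of a largest proper overgroup. -/
structure LP (S U W : Subgroup H) : Prop where
  le : W ≤ U
  ge : S ≤ W
  ne : W ≠ U
  max : ∀ X : Subgroup H, S ≤ X → X ≤ U → X ≠ U → X ≤ W

lemma LP.eq_sSup {S U W : Subgroup H} (h : LP S U W) : sSup {X : Subgroup H | S ≤ X ∧ X ≤ U ∧ X ≠ U} = W :=
  le_antisymm (sSup_le fun X hX => h.max X hX.1 hX.2.1 hX.2.2) (le_sSup ⟨h.ge, h.le, h.ne⟩)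

lemma LP.conj {S U W : Subgroup H} (h : LP S U W) (g : H) : LP (S.map (cj g)) (U.map (cj g)) (W.map (cj g)) := by
  refine ⟨Subgroup.map_mono h.le, Subgroup.map_mono h.ge, ?_, ?_⟩
  · intro he
    apply h.ne
    have := congrArg (fun X => X.map (cj g⁻¹)) he
    simpa only [map_cj_inv_cancel] using this
  · intro X h1 h2 h3
    have h4 := h.max (X.map (cj g⁻¹)) ?_ ?_ ?_
    · have h5 := Subgroup.map_mono (f := cj g) h4
      rwa [map_cj_cancel_inv] at h5
    · have h5 := Subgroup.map_mono (f := cj g⁻¹) h1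
      rwa [map_cj_inv_cancel] at h5
    · have h5 := Subgroup.map_mono (f := cj g⁻¹) h2
      rwa [map_cj_inv_cancel] at h5
    · intro he
      apply h3
      have := congrArg (fun Y => Y.map (cj g)) he
      simpa only [map_cj_cancel_inv] using this

variable (𝒦 : Set (Subgroup H)) (hne : 𝒦.Nonempty) (hinv : ∀ h : H, ∀ E ∈ 𝒦, E.map (MulAut.conj h).toMonoidHom ∈ 𝒦)
  (htr : ∀ E ∈ 𝒦, ∀ K ∈ 𝒦, ∃ h : H, K = E.map (MulAut.conj h).toMonoidHom) (hres : Cfsg.pResidual p H ≤ sSup 𝒦)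
  (hnorm : ∀ E ∈ 𝒦, sSup 𝒦 ⊔ Cfsg.pCore p H ≤ Subgroup.normalizer ((E ⊔ Cfsg.pCore p H : Subgroup H) : Set H))

include hinv in
lemma sSup_normal : (sSup 𝒦).Normal := by
  refine ⟨fun n hn g => ?_⟩
  have hle : sSup 𝒦 ≤ (sSup 𝒦).comap (cj g) :=
    sSup_le fun E hE x hx => (le_sSup (hinv g E hE)) ⟨x, hx, rfl⟩
  exact hle hn

include hinv hres in
lemma sup_sylow_top (T : Sylow p H) : sSup 𝒦 ⊔ (T : Subgroup H) = ⊤ := by
  have hRn := sSup_normal 𝒦 hinv
  rw [eq_top_iff]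
  refine pq (p := p) (A := sSup 𝒦) ?_ le_top ?_ ?_
  · intro x _
    apply Cfsg.Agent.Lib.Coprime.mem_normalizer_of_conj_le
    intro y hy
    exact hRn.conj_mem y hy x
  · rw [Subgroup.relIndex_top_right]
    exact T.not_dvd_index
  · intro x _
    obtain ⟨k, hk⟩ := exists_pow_coprime (p := p) x
    exact ⟨k, hres (Subgroup.subset_closure hk)⟩

include hinv hnorm in
/-- `T ∩ E` is a Sylow subgroup of `E`. -/
lemma inf_sylow (T : Sylow p H) {E : Subgroup H} (hE : E ∈ 𝒦) : ¬ p ∣ ((T : Subgroup H) ⊓ E).relIndex E := by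
  set Q := Cfsg.pCore p H with hQ
  haveI hQn : Q.Normal := pCore_normal p H
  haveI hRn := sSup_normal 𝒦 hinv
  have hQT : Q ≤ (T : Subgroup H) := pCore_le_sylow T
  have hS := inf_syl T (sSup 𝒦 ⊔ Q)
  have hU : E ⊔ Q ≤ sSup 𝒦 ⊔ Q := sup_le_sup_right (le_sSup hE) Q
  have h1 := inf_of_norm hS inf_le_right hU (hnorm E hE)
  have h2 : (T : Subgroup H) ⊓ (sSup 𝒦 ⊔ Q) ⊓ (E ⊔ Q) = (T : Subgroup H) ⊓ (E ⊔ Q) := by
    rw [inf_assoc, inf_eq_right.mpr hU]
  rw [h2] at h1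
  -- pass from `E ⊔ Q` to `E`
  have h3 : (T : Subgroup H) ⊓ (E ⊔ Q) = ((T : Subgroup H) ⊓ E) ⊔ Q := by
    apply le_antisymm
    · intro x hx
      obtain ⟨hx1, hx2⟩ := Subgroup.mem_inf.mp hx
      obtain ⟨q, hq, e, he, rfl⟩ := mem_sup_Q.mp hx2
      have h4 : e ∈ (T : Subgroup H) := by
        have h5 : e = q⁻¹ * (q * e) := by group
        rw [h5]
        exact mul_mem (inv_mem (hQT hq)) hx1
      exact mem_sup_Q.mpr ⟨q, hq, e, Subgroup.mem_inf.mpr ⟨h4, he⟩, rfl⟩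
    · exact sup_le (inf_le_inf_left _ le_sup_left) (le_inf hQT le_sup_right)
  have h4 : Q ⊓ ((T : Subgroup H) ⊓ E) = Q ⊓ E := by
    rw [← inf_assoc, inf_eq_left.mpr hQT]
  have c1 := Cfsg.Agent.Lib.OddLocal.card_sup_mul_card_inf_of_normal Q E hQn
  have c2 := Cfsg.Agent.Lib.OddLocal.card_sup_mul_card_inf_of_normal Q ((T : Subgroup H) ⊓ E) hQn
  rw [sup_comm Q, h4] at c2
  rw [sup_comm Q] at c1
  have c3 := Cfsg.Agent.Lib.OddLocal.card_mul_relIndex (inf_le_right : (T : Subgroup H) ⊓ (E ⊔ Q) ≤ E ⊔ Q)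
  have c4 := Cfsg.Agent.Lib.OddLocal.card_mul_relIndex (inf_le_right : (T : Subgroup H) ⊓ E ≤ E)
  rw [h3] at c3 h1
  have h5 : (((T : Subgroup H) ⊓ E) ⊔ Q).relIndex (E ⊔ Q) = ((T : Subgroup H) ⊓ E).relIndex E := by
    have hp1 : 0 < Nat.card ↥(((T : Subgroup H) ⊓ E) ⊔ Q) := Nat.card_pos
    have hp2 : 0 < Nat.card ↥(Q ⊓ E) := Nat.card_pos
    apply Nat.eq_of_mul_eq_mul_left (Nat.mul_pos hp1 hp2)
    have e1 : Nat.card ↥(((T : Subgroup H) ⊓ E) ⊔ Q) * Nat.card ↥(Q ⊓ E) * (((T : Subgroup H) ⊓ E) ⊔ Q).relIndex (E ⊔ Q)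
        = Nat.card ↥(E ⊔ Q) * Nat.card ↥(Q ⊓ E) := by rw [← c3]; ring
    have e2 : Nat.card ↥(((T : Subgroup H) ⊓ E) ⊔ Q) * Nat.card ↥(Q ⊓ E) * ((T : Subgroup H) ⊓ E).relIndex E
        = Nat.card Q * (Nat.card ↥((T : Subgroup H) ⊓ E) * ((T : Subgroup H) ⊓ E).relIndex E) := by rw [c2]; ring
    rw [e1, e2, c4, c1]
  rwa [h5] at h1

end helpers

section partA

variable {H : Type*} [Group H] [Finite H] {p : ℕ} [hp : Fact p.Prime]
variable (𝒦 : Set (Subgroup H)) (hne : 𝒦.Nonempty) (hinv : ∀ h : H, ∀ E ∈ 𝒦, E.map (MulAut.conj h).toMonoidHom ∈ 𝒦)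
  (htr : ∀ E ∈ 𝒦, ∀ K ∈ 𝒦, ∃ h : H, K = E.map (MulAut.conj h).toMonoidHom) (hres : Cfsg.pResidual p H ≤ sSup 𝒦)
  (hnorm : ∀ E ∈ 𝒦, sSup 𝒦 ⊔ Cfsg.pCore p H ≤ Subgroup.normalizer ((E ⊔ Cfsg.pCore p H : Subgroup H) : Set H))

include hinv hnorm in
lemma exists_LP (hmin : ∀ E ∈ 𝒦, ∀ T : Sylow p ↥E, Cfsg.IsMinimalOver (T : Subgroup ↥E)) (T : Sylow p H)
    {E : Subgroup H} (hE : E ∈ 𝒦) :
    ∃ W, LP ((T : Subgroup H) ⊓ (E ⊔ Cfsg.pCore p H)) (E ⊔ Cfsg.pCore p H) W := by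
  classical
  set Q := Cfsg.pCore p H with hQ
  haveI hQn : Q.Normal := pCore_normal p H
  have hQT : Q ≤ (T : Subgroup H) := pCore_le_sylow T
  have hP1 : IsPGroup p ↥(((T : Subgroup H) ⊓ E).subgroupOf E) :=
    (T.isPGroup'.to_le inf_le_left).comap_subtype
  have hP2 : ¬ p ∣ (((T : Subgroup H) ⊓ E).subgroupOf E).index := inf_sylow 𝒦 hinv hnorm T hE
  let TE : Sylow p ↥E := hP1.toSylow hP2
  have hTE : (TE : Subgroup ↥E) = ((T : Subgroup H) ⊓ E).subgroupOf E := IsPGroup.toSylow_coe hP1 hP2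
  obtain ⟨-, M, ⟨hMc, hTM⟩, huniq⟩ := hmin E hE TE
  rw [hTE] at hTM
  refine ⟨M.map E.subtype ⊔ Q, sup_le_sup_right (map_subtype_le _) Q, ?_, ?_, ?_⟩
  · intro x hx
    obtain ⟨hx1, hx2⟩ := Subgroup.mem_inf.mp hx
    obtain ⟨q, hq, e, he, rfl⟩ := mem_sup_Q.mp hx2
    have h4 : e ∈ (T : Subgroup H) := by
      have h5 : e = q⁻¹ * (q * e) := by group
      rw [h5]
      exact mul_mem (inv_mem (hQT hq)) hx1
    refine mem_sup_Q.mpr ⟨q, hq, e, ⟨⟨e, he⟩, ?_, rfl⟩, rfl⟩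
    apply hTM
    rw [Subgroup.mem_subgroupOf]
    exact Subgroup.mem_inf.mpr ⟨h4, he⟩
  · intro he
    apply hMc.1
    rw [eq_top_iff]
    rintro ⟨e, he'⟩ -
    have h1 : e ∈ M.map E.subtype ⊔ Q := by
      rw [he]
      exact Subgroup.mem_sup_left he'
    obtain ⟨q, hq, m, ⟨m', hm', rfl⟩, hqm⟩ := mem_sup_Q.mp h1
    have hqE : q ∈ E := by
      have h5 : q = e * (m' : H)⁻¹ := by rw [hqm]; simp
      rw [h5]
      exact mul_mem he' (inv_mem m'.2)
    have hqM : (⟨q, hqE⟩ : ↥E) ∈ M := by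
      apply hTM
      rw [Subgroup.mem_subgroupOf]
      exact Subgroup.mem_inf.mpr ⟨hQT hq, hqE⟩
    have h6 : (⟨e, he'⟩ : ↥E) = ⟨q, hqE⟩ * m' := by
      apply Subtype.ext
      exact hqm
    rw [h6]
    exact mul_mem hqM hm'
  · intro X hXS hXU hXne
    have hne' : X.subgroupOf E ≠ ⊤ := by
      intro ht
      apply hXne
      refine le_antisymm hXU (sup_le ?_ ?_)
      · intro e he
        have : (⟨e, he⟩ : ↥E) ∈ X.subgroupOf E := by rw [ht]; exact Subgroup.mem_top _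
        exact Subgroup.mem_subgroupOf.mp this
      · exact (le_inf hQT le_sup_right).trans hXS
    obtain ⟨M', hM', hXM'⟩ := (eq_top_or_exists_le_coatom (X.subgroupOf E)).resolve_left hne'
    have hTEX : ((T : Subgroup H) ⊓ E).subgroupOf E ≤ X.subgroupOf E := by
      intro e he
      rw [Subgroup.mem_subgroupOf] at he ⊢
      obtain ⟨h1, h2⟩ := Subgroup.mem_inf.mp he
      exact hXS (Subgroup.mem_inf.mpr ⟨h1, Subgroup.mem_sup_left h2⟩)
    have hMM : M' = M := huniq M' ⟨hM', by rw [hTE]; exact hTEX.trans hXM'⟩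
    intro x hx
    obtain ⟨q, hq, e, he, hxe⟩ := mem_sup_Q.mp (hXU hx)
    have hqX : q ∈ X := hXS (Subgroup.mem_inf.mpr ⟨hQT hq, Subgroup.mem_sup_right hq⟩)
    have heX : e ∈ X := by
      have h5 : e = q⁻¹ * x := by rw [hxe]; group
      rw [h5]
      exact mul_mem (inv_mem hqX) hx
    have heM : (⟨e, he⟩ : ↥E) ∈ M := by
      rw [← hMM]
      exact hXM' (Subgroup.mem_subgroupOf.mpr heX)
    exact mem_sup_Q.mpr ⟨q, hq, e, ⟨⟨e, he⟩, heM, rfl⟩, hxe⟩

include hne hinv htr hres hnorm in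
theorem partA (hmin : ∀ E ∈ 𝒦, ∀ T : Sylow p ↥E, Cfsg.IsMinimalOver (T : Subgroup ↥E)) (T : Sylow p H) :
    Cfsg.IsMinimalOver (T : Subgroup H) := by
  classical
  set Q := Cfsg.pCore p H with hQ
  set R := sSup 𝒦 with hR
  haveI hQn : Q.Normal := pCore_normal p H
  haveI hRn : R.Normal := sSup_normal 𝒦 hinv
  have hQT : Q ≤ (T : Subgroup H) := pCore_le_sylow T
  have hsup : R ⊔ (T : Subgroup H) = ⊤ := sup_sylow_top 𝒦 hinv hres T
  have hdec : ∀ x : H, ∃ r ∈ R, ∃ t ∈ (T : Subgroup H), x = r * t := by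
    intro x
    have hx : x ∈ R ⊔ (T : Subgroup H) := by rw [hsup]; exact Subgroup.mem_top _
    refine (mem_sup_iff_of_normalizes ?_).mp hx
    intro y _
    apply Cfsg.Agent.Lib.Coprime.mem_normalizer_of_conj_le
    intro z hz
    exact hRn.conj_mem z hz y
  have hLP := fun {E : Subgroup H} (hE : E ∈ 𝒦) => exists_LP 𝒦 hinv hnorm hmin T hE
  let Wf : Subgroup H → Subgroup H := fun U => sSup {X : Subgroup H | (T : Subgroup H) ⊓ U ≤ X ∧ X ≤ U ∧ X ≠ U}
  have hWf : ∀ {E : Subgroup H}, E ∈ 𝒦 → LP ((T : Subgroup H) ⊓ (E ⊔ Q)) (E ⊔ Q) (Wf (E ⊔ Q)) := by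
    intro E hE
    obtain ⟨W, hW⟩ := hLP hE
    have : Wf (E ⊔ Q) = W := hW.eq_sSup
    rw [this]
    exact hW
  have hWf_eq : ∀ {U W : Subgroup H}, LP ((T : Subgroup H) ⊓ U) U W → Wf U = W := fun h => h.eq_sSup
  have hmapsup : ∀ (E : Subgroup H) (g : H), (E ⊔ Q).map (cj g) = E.map (cj g) ⊔ Q := by
    intro E g
    rw [Subgroup.map_sup, map_cj_normal Q]
  -- the subgroup `P`
  let P : Subgroup H :=
    { carrier := {g | ∀ E ∈ 𝒦, (Wf (E ⊔ Q)).map (cj g) = Wf ((E ⊔ Q).map (cj g))}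
      one_mem' := by
        intro E _
        rw [map_cj_one, map_cj_one]
      mul_mem' := by
        intro g h hg hh E hE
        rw [map_cj_mul, map_cj_mul, hh E hE, hmapsup E h]
        have := hg (E.map (cj h)) (hinv h E hE)
        rw [this]
      inv_mem' := by
        intro g hg E hE
        have hE' : E.map (cj g⁻¹) ∈ 𝒦 := hinv g⁻¹ E hE
        have h1 := hg _ hE'
        rw [← hmapsup, map_cj_cancel_inv] at h1
        rw [← h1, map_cj_inv_cancel] }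
  have hTP : (T : Subgroup H) ≤ P := by
    intro t ht E hE
    have h1 := (hWf hE).conj t
    have h2 : ((T : Subgroup H) ⊓ (E ⊔ Q)).map (cj t) = (T : Subgroup H) ⊓ (E ⊔ Q).map (cj t) := by
      rw [Subgroup.map_inf _ _ (cj t) (MulAut.conj t).injective]
      congr 1
      exact map_cj_of_normalizer (Subgroup.le_normalizer ht)
    rw [h2] at h1
    exact (hWf_eq h1).symm
  have hnormU : ∀ {E : Subgroup H}, E ∈ 𝒦 → ∀ r ∈ R, (E ⊔ Q).map (cj r) = E ⊔ Q :=
    fun {E} hE r hr => map_cj_of_normalizer (hnorm E hE (Subgroup.mem_sup_left hr))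
  have hclaim : ∀ M : Subgroup H, M ≠ ⊤ → (T : Subgroup H) ≤ M → ∀ r ∈ R, r ∈ M → r ∈ P := by
    intro M hMne hTM r hr hrM E hE
    have hLPU := hWf hE
    have hUr : (E ⊔ Q).map (cj r) = E ⊔ Q := hnormU hE r hr
    rw [hUr]
    have hUM : ¬ (E ⊔ Q) ≤ M := by
      intro hle
      apply hMne
      rw [eq_top_iff, ← hsup]
      refine sup_le ?_ hTM
      apply sSup_le
      intro K hK
      obtain ⟨h, rfl⟩ := htr E hE K hK
      obtain ⟨r', hr', t', ht', rfl⟩ := hdec h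
      have hK1 : (E.map (cj (r' * t'))) ≤ (E.map (cj t') ⊔ Q).map (cj r') := by
        rw [map_cj_mul]
        exact Subgroup.map_mono le_sup_left
      rw [hnormU (hinv t' E hE) r' hr', ← hmapsup] at hK1
      refine hK1.trans ?_
      rintro _ ⟨u, hu, rfl⟩
      have htM : t' ∈ M := hTM ht'
      exact mul_mem (mul_mem htM (hle hu)) (inv_mem htM)
    have hMU : M ⊓ (E ⊔ Q) ≤ Wf (E ⊔ Q) :=
      hLPU.max _ (inf_le_inf_right _ hTM) inf_le_right (fun he => hUM (inf_eq_right.mp he))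
    have hXS : (T : Subgroup H) ⊓ (E ⊔ Q) ≤ (Wf (E ⊔ Q)).map (cj r⁻¹) := by
      intro s hs
      obtain ⟨hs1, hs2⟩ := Subgroup.mem_inf.mp hs
      have h1 : r * s * r⁻¹ ∈ M ⊓ (E ⊔ Q) := by
        refine Subgroup.mem_inf.mpr ⟨mul_mem (mul_mem hrM (hTM hs1)) (inv_mem hrM), ?_⟩
        rw [← hUr]
        exact ⟨s, hs2, rfl⟩
      refine ⟨r * s * r⁻¹, hMU h1, ?_⟩
      simp [cj_apply, mul_assoc]
    have hXU : (Wf (E ⊔ Q)).map (cj r⁻¹) ≤ E ⊔ Q := by
      have h1 := Subgroup.map_mono (f := cj r⁻¹) hLPU.le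
      rwa [hnormU hE r⁻¹ (inv_mem hr)] at h1
    have hXne : (Wf (E ⊔ Q)).map (cj r⁻¹) ≠ E ⊔ Q := by
      intro he
      apply hLPU.ne
      have h1 := congrArg (fun Y => Y.map (cj r)) he
      simp only [map_cj_cancel_inv] at h1
      rw [h1, hUr]
    have hXW := hLPU.max _ hXS hXU hXne
    have hXeq : (Wf (E ⊔ Q)).map (cj r⁻¹) = Wf (E ⊔ Q) :=
      Subgroup.eq_of_le_of_card_ge hXW (by rw [card_map_cj])
    have h1 := congrArg (fun Y => Y.map (cj r)) hXeq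
    simp only [map_cj_cancel_inv] at h1
    exact h1.symm
  have hMP : ∀ M : Subgroup H, M ≠ ⊤ → (T : Subgroup H) ≤ M → M ≤ P := by
    intro M hMne hTM x hx
    obtain ⟨r, hr, t, ht, rfl⟩ := hdec x
    have hrM : r ∈ M := by
      have h1 : r = (r * t) * t⁻¹ := by group
      rw [h1]
      exact mul_mem hx (inv_mem (hTM ht))
    exact mul_mem (hclaim M hMne hTM r hr hrM) (hTP ht)
  have hTEsyl : ∀ {E : Subgroup H}, E ∈ 𝒦 → Subgroup.normalClosure ((((T : Subgroup H) ⊓ E).subgroupOf E : Subgroup ↥E) : Set ↥E) = ⊤ := by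
    intro E hE
    have hP1 : IsPGroup p ↥(((T : Subgroup H) ⊓ E).subgroupOf E) :=
      (T.isPGroup'.to_le inf_le_left).comap_subtype
    have hP2 : ¬ p ∣ (((T : Subgroup H) ⊓ E).subgroupOf E).index := inf_sylow 𝒦 hinv hnorm T hE
    have h1 := (hmin E hE (hP1.toSylow hP2)).1
    rwa [IsPGroup.toSylow_coe hP1 hP2] at h1
  have hPne : P ≠ ⊤ := by
    intro hPt
    obtain ⟨E₀, hE₀⟩ := hne
    have hLP₀ := hWf hE₀
    have hEN : ∀ e ∈ E₀, (Wf (E₀ ⊔ Q)).map (cj e) = Wf (E₀ ⊔ Q) := by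
      intro e he
      have h1 : e ∈ P := by rw [hPt]; exact Subgroup.mem_top _
      have h2 := h1 E₀ hE₀
      rw [hnormU hE₀ e (le_sSup hE₀ he)] at h2
      exact h2
    let N₀ : Subgroup ↥E₀ := (Wf (E₀ ⊔ Q)).subgroupOf E₀
    haveI hN₀ : N₀.Normal := by
      refine ⟨fun n hn g => ?_⟩
      have h1 : (n : H) ∈ Wf (E₀ ⊔ Q) := Subgroup.mem_subgroupOf.mp hn
      apply Subgroup.mem_subgroupOf.mpr
      have h2 := hEN g g.2
      rw [← h2]
      exact ⟨n, h1, rfl⟩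
    have hTEN : ((T : Subgroup H) ⊓ E₀).subgroupOf E₀ ≤ N₀ := by
      intro e he
      obtain ⟨h1, h2⟩ := Subgroup.mem_inf.mp (Subgroup.mem_subgroupOf.mp he)
      exact Subgroup.mem_subgroupOf.mpr (hLP₀.ge (Subgroup.mem_inf.mpr ⟨h1, Subgroup.mem_sup_left h2⟩))
    have hNt : N₀ = ⊤ := by
      rw [eq_top_iff, ← hTEsyl hE₀]
      exact Subgroup.normalClosure_le_normal hTEN
    apply hLP₀.ne
    refine le_antisymm hLP₀.le (sup_le ?_ ?_)
    · intro e he
      have h1 : (⟨e, he⟩ : ↥E₀) ∈ N₀ := by rw [hNt]; exact Subgroup.mem_top _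
      exact Subgroup.mem_subgroupOf.mp h1
    · exact (le_inf hQT le_sup_right).trans hLP₀.ge
  have hTne : (T : Subgroup H) ≠ ⊤ := by
    intro he
    apply hPne
    rw [eq_top_iff, ← he]
    exact hTP
  refine ⟨?_, ?_⟩
  · -- generation
    set N := Subgroup.normalClosure ((T : Subgroup H) : Set H) with hN
    have hTN : (T : Subgroup H) ≤ N := Subgroup.le_normalClosure
    haveI : N.Normal := by rw [hN]; infer_instance
    rw [eq_top_iff, ← hsup]
    refine sup_le (sSup_le ?_) hTN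
    intro E hE e he
    have h1 : Subgroup.normalClosure ((((T : Subgroup H) ⊓ E).subgroupOf E : Subgroup ↥E) : Set ↥E) ≤ N.subgroupOf E := by
      apply Subgroup.normalClosure_le_normal
      intro x hx
      exact Subgroup.mem_subgroupOf.mpr (hTN (Subgroup.mem_inf.mp (Subgroup.mem_subgroupOf.mp hx)).1)
    rw [hTEsyl hE] at h1
    exact Subgroup.mem_subgroupOf.mp (h1 (Subgroup.mem_top (⟨e, he⟩ : ↥E)))
  · obtain ⟨M₀, hM₀, hTM₀⟩ := (eq_top_or_exists_le_coatom (T : Subgroup H)).resolve_left hTne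
    have key : ∀ M' : Subgroup H, IsCoatom M' → (T : Subgroup H) ≤ M' → M' = P := by
      intro M' hM' hTM'
      rcases hM'.le_iff.mp (hMP M' hM'.1 hTM') with h | h
      · exact absurd h hPne
      · exact h.symm
    refine ⟨M₀, ⟨hM₀, hTM₀⟩, ?_⟩
    rintro M' ⟨hM', hTM'⟩
    rw [key M' hM' hTM', key M₀ hM₀ hTM₀]

end partA

section partB

variable {H : Type*} [Group H] [Finite H] {p : ℕ} [hp : Fact p.Prime]
variable (𝒦 : Set (Subgroup H)) (hne : 𝒦.Nonempty) (hinv : ∀ h : H, ∀ E ∈ 𝒦, E.map (MulAut.conj h).toMonoidHom ∈ 𝒦)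
  (htr : ∀ E ∈ 𝒦, ∀ K ∈ 𝒦, ∃ h : H, K = E.map (MulAut.conj h).toMonoidHom) (hres : Cfsg.pResidual p H ≤ sSup 𝒦)
  (hnorm : ∀ E ∈ 𝒦, sSup 𝒦 ⊔ Cfsg.pCore p H ≤ Subgroup.normalizer ((E ⊔ Cfsg.pCore p H : Subgroup H) : Set H))

include hne hinv htr hres hnorm in
theorem partB (hsi : ∀ E ∈ 𝒦, Cfsg.IsStronglyPIrreducible p ↥E) :
    Cfsg.IsPIrreducible p H ∧ ∀ E ∈ 𝒦, ∀ K ∈ 𝒦,
      (Cfsg.pResidual p ↥(E ⊔ Cfsg.pCore p H)).map (E ⊔ Cfsg.pCore p H).subtype =
        (Cfsg.pResidual p ↥(K ⊔ Cfsg.pCore p H)).map (K ⊔ Cfsg.pCore p H).subtype ∨ ⁅E, K⁆ ≤ Cfsg.pCore p H := by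
  classical
  set Q := Cfsg.pCore p H with hQ
  haveI hQn : Q.Normal := pCore_normal p H
  have hQp : IsPGroup p Q := pCore_isPGroup p
  set R := sSup 𝒦 with hR
  haveI hRn : R.Normal := sSup_normal 𝒦 hinv
  let π : H →* H ⧸ Q := QuotientGroup.mk' Q
  have hsurj : Function.Surjective π := QuotientGroup.mk'_surjective Q
  have hker : ∀ x, π x = 1 ↔ x ∈ Q := fun x => QuotientGroup.eq_one_iff x
  have hO : Cfsg.pCore p (H ⧸ Q) = ⊥ := by
    rw [pCore_quotient Q hQp, ← hQ]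
    exact QuotientGroup.map_mk'_self Q
  have hmapU : ∀ E : Subgroup H, (E ⊔ Q).map π = E.map π := by
    intro E
    rw [Subgroup.map_sup, (QuotientGroup.map_mk'_self Q : Q.map π = ⊥), sup_bot_eq]
  have hπcj : ∀ (X : Subgroup H) (h : H), (X.map π).map (cj (π h)) = (X.map (cj h)).map π := by
    intro X h
    rw [Subgroup.map_map, Subgroup.map_map]
    congr 1
  let 𝒟 : Set (Subgroup (H ⧸ Q)) := (fun E => E.map π) '' 𝒦
  let Rb : Subgroup (H ⧸ Q) := R.map π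
  have hRbn : Rb.Normal := hRn.map π hsurj
  have hRbnorm : ∀ E ∈ 𝒦, Rb ≤ normalizer ((E.map π : Subgroup (H ⧸ Q)) : Set (H ⧸ Q)) := by
    intro E hE
    rintro _ ⟨r, hr, rfl⟩
    apply Cfsg.Agent.Lib.Coprime.mem_normalizer_of_conj_le
    rintro _ ⟨e, he, rfl⟩
    have h1 : r * e * r⁻¹ ∈ E ⊔ Q :=
      (mem_normalizer_iff.mp (hnorm E hE (Subgroup.mem_sup_left hr)) e).mp (Subgroup.mem_sup_left he)
    have h2 : π (r * e * r⁻¹) ∈ (E ⊔ Q).map π := ⟨_, h1, rfl⟩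
    rw [hmapU] at h2
    simpa [map_mul, map_inv] using h2
  have hDR : ∀ E ∈ 𝒦, E.map π ≤ Rb := fun E hE => Subgroup.map_mono (le_sSup hE)
  have hQE : ∀ E : Subgroup H, Q.subgroupOf E ≤ Cfsg.pCore p ↥E := by
    intro E
    apply Cfsg.Agent.Lib.Components.le_pCore inferInstance
    exact hQp.comap_subtype
  have O1 : ∀ E ∈ 𝒦, ∀ x : ↥E, x ∈ Cfsg.pCore p ↥E → π x = 1 := by
    intro E hE x hx
    have hX : Cfsg.pCoreOf p (E.map π) = ⊥ := by
      haveI := hRbn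
      refine sub_bot hO (R := Rb) ?_ ?_ ?_
      · exact (map_subtype_le _).trans (hDR E hE)
      · exact (hRbnorm E hE).trans (Cfsg.Agent.Lib.LocalEven2.normalizer_le_normalizer_pCoreOf _)
      · exact (pCore_isPGroup p).map (E.map π).subtype
    let ρ : ↥E →* ↥(E.map π) := π.subgroupMap E
    have hρ : Function.Surjective ρ := π.subgroupMap_surjective E
    have h1 : ρ x ∈ Cfsg.pCore p ↥(E.map π) :=
      Cfsg.Agent.Lib.Basic.le_pCore ((pCore_normal p ↥E).map ρ hρ) ((pCore_isPGroup p).map ρ) ⟨x, hx, rfl⟩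
    have h2 : ((ρ x : ↥(E.map π)) : H ⧸ Q) ∈ Cfsg.pCoreOf p (E.map π) := ⟨_, h1, rfl⟩
    rw [hX] at h2
    exact h2
  have hSI : ∀ E ∈ 𝒦, SI p (E.map π) := by
    intro E hE
    have hEs := hsi E hE
    let f : ↥E →* H ⧸ Q := π.comp E.subtype
    have hfD : ∀ e : ↥E, f e ∈ E.map π := fun e => ⟨e, e.2, rfl⟩
    refine ⟨?_, ?_⟩
    · intro A hDA
      let NA : Subgroup ↥E := A.comap f
      have hNA : NA.Normal := by
        refine ⟨fun n hn g => ?_⟩
        show f (g * n * g⁻¹) ∈ A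
        rw [map_mul, map_mul, map_inv]
        exact (mem_normalizer_iff.mp (hDA (hfD g)) (f n)).mp hn
      by_cases hres' : Cfsg.pResidual p ↥E ≤ NA
      · right
        rintro _ ⟨x, hx, rfl⟩ hc
        obtain ⟨y, hy, hyf, -⟩ := lift_coprime (p := p) f ⟨x, hx⟩ hc
        have h1 : y ∈ NA := hres' (Subgroup.subset_closure hy)
        have h2 : f y ∈ A := h1
        rw [hyf] at h2
        exact h2
      · left
        have h1 : ⁅NA, (⊤ : Subgroup ↥E)⁆ ≤ Cfsg.pCore p ↥E := by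
          by_contra hcon
          exact hres' (hEs.2 NA hNA hcon)
        intro a ha e he
        obtain ⟨ha1, ⟨x, hx, rfl⟩⟩ := Subgroup.mem_inf.mp ha
        obtain ⟨y, hy, rfl⟩ := he
        have h2 : ⁅(⟨x, hx⟩ : ↥E), (⟨y, hy⟩ : ↥E)⁆ ∈ Cfsg.pCore p ↥E :=
          h1 (Subgroup.commutator_mem_commutator (show (⟨x, hx⟩ : ↥E) ∈ NA from ha1) (Subgroup.mem_top _))
        have h3 := O1 E hE _ h2
        have h4 : ⁅π x, π y⁆ = 1 := by
          rw [← map_commutatorElement]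
          exact h3
        exact commutatorElement_eq_one_iff_mul_comm.mp h4
    · intro hb
      apply hEs.1
      refine closed_of_class_two (commutator ↥E)
        (fun a b => Subgroup.commutator_mem_commutator (Subgroup.mem_top _) (Subgroup.mem_top _)) ?_
      intro n hn g
      have hfrange : (⊤ : Subgroup ↥E).map f = E.map π := by
        ext y
        constructor
        · rintro ⟨e, -, rfl⟩
          exact hfD e
        · rintro ⟨x, hx, rfl⟩
          exact ⟨⟨x, hx⟩, Subgroup.mem_top _, rfl⟩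
      have h1 : f n ∈ ⁅E.map π, E.map π⁆ := by
        rw [← hfrange, ← Subgroup.map_commutator]
        exact ⟨n, hn, rfl⟩
      have h2 : ⁅f n, f g⁆ ∈ ⁅⁅E.map π, E.map π⁆, E.map π⁆ :=
        Subgroup.commutator_mem_commutator h1 (hfD g)
      rw [hb] at h2
      have h3 : f ⁅n, g⁆ = 1 := by
        rw [map_commutatorElement]
        exact h2
      have h4 : ((⁅n, g⁆ : ↥E) : H) ∈ Q := (hker _).mp h3
      exact hQE E (Subgroup.mem_subgroupOf.mpr h4)
  have C : Ctx p 𝒟 Rb := by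
    refine ⟨hO, hRbn, ?_, ?_, ?_, ?_, ?_, ?_⟩
    · apply le_antisymm
      · apply sSup_le
        rintro _ ⟨E, hE, rfl⟩
        exact hDR E hE
      · apply Subgroup.map_le_iff_le_comap.mpr
        apply sSup_le
        intro E hE
        apply Subgroup.map_le_iff_le_comap.mp
        exact le_sSup ⟨E, hE, rfl⟩
    · rintro _ ⟨E, hE, rfl⟩
      exact hRbnorm E hE
    · intro g hg
      obtain ⟨x, rfl⟩ := hsurj g
      obtain ⟨y, hy, hyf, -⟩ := lift_coprime (p := p) π x hg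
      rw [← hyf]
      exact ⟨y, hres (Subgroup.subset_closure hy), rfl⟩
    · intro h D hD
      obtain ⟨E, hE, rfl⟩ := hD
      obtain ⟨h', rfl⟩ := hsurj h
      exact ⟨E.map (cj h'), hinv h' E hE, (hπcj E h').symm⟩
    · rintro _ ⟨E, hE, rfl⟩ _ ⟨K, hK, rfl⟩
      obtain ⟨h, rfl⟩ := htr E hE K hK
      exact ⟨π h, (hπcj E h).symm⟩
    · rintro _ ⟨E, hE, rfl⟩
      exact hSI E hE
  refine ⟨⟨?_, ?_⟩, ?_⟩
  · intro hcl
    obtain ⟨E₀, hE₀⟩ := hne
    apply (hsi E₀ hE₀).1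
    apply isPClosed_of_mem
    intro x hx
    have h1 : (x : H) ∈ Q :=
      IsPClosed_mem_pCore hcl (hx.imp fun k hk => by rw [Subgroup.orderOf_coe, hk])
    exact hQE E₀ (Subgroup.mem_subgroupOf.mpr h1)
  · intro N hN hNc
    haveI := hN
    haveI hNb : (N.map π).Normal := hN.map π hsurj
    rcases final C (N := N.map π) with h | h
    · apply pResidual_le_of_le_sup hQp
      rw [Cfsg.pResidual, Subgroup.closure_le]
      intro g hg
      obtain ⟨n, hn, hng⟩ := h (π g) (Nat.Coprime.coprime_dvd_left (orderOf_map_dvd π _) hg)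
      have h2 : n⁻¹ * g ∈ Q := by
        apply (hker _).mp
        rw [map_mul, map_inv, hng, inv_mul_cancel]
      have h3 : g = n * (n⁻¹ * g) := by group
      rw [h3]
      exact mul_mem (Subgroup.mem_sup_left hn) (Subgroup.mem_sup_right h2)
    · exfalso
      apply hNc
      rw [isPClosed_normal_iff N]
      rintro x hx ⟨k, hk⟩
      have h1 : π x = 1 := h (π x) ⟨x, hx, rfl⟩ ⟨k, by rw [← map_pow, ← hk, pow_orderOf_eq_one, map_one]⟩
      exact (hker x).mp h1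
  · have hresle : ∀ {E K : Subgroup H}, (∀ e ∈ E.map π, (orderOf e).Coprime p → e ∈ K.map π) →
        (Cfsg.pResidual p ↥(E ⊔ Q)).map (E ⊔ Q).subtype ≤ (Cfsg.pResidual p ↥(K ⊔ Q)).map (K ⊔ Q).subtype := by
      intro E K h
      rw [Cfsg.pResidual, MonoidHom.map_closure, Subgroup.closure_le]
      rintro _ ⟨g, hg, rfl⟩
      have hg1 : (orderOf (g : H)).Coprime p := by
        rw [Subgroup.orderOf_coe]
        exact hg
      have h1 : π g ∈ E.map π := by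
        rw [← hmapU]
        exact ⟨g, g.2, rfl⟩
      obtain ⟨k, hk, hkg⟩ := h _ h1 (Nat.Coprime.coprime_dvd_left (orderOf_map_dvd π _) hg1)
      have h2 : k⁻¹ * (g : H) ∈ Q := by
        apply (hker _).mp
        rw [map_mul, map_inv, hkg, inv_mul_cancel]
      have h3 : (g : H) ∈ K ⊔ Q := by
        have h4 : (g : H) = k * (k⁻¹ * g) := by group
        rw [h4]
        exact mul_mem (Subgroup.mem_sup_left hk) (Subgroup.mem_sup_right h2)
      refine ⟨⟨g, h3⟩, Subgroup.subset_closure ?_, rfl⟩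
      show (orderOf _).Coprime p
      rw [← Subgroup.orderOf_coe]
      exact hg1
    intro E hE K hK
    rcases dich C (⟨E, hE, rfl⟩ : E.map π ∈ 𝒟) (⟨K, hK, rfl⟩ : K.map π ∈ 𝒟) with h | ⟨h1, h2⟩
    · right
      rw [Subgroup.commutator_le]
      intro e he k hk
      apply (hker _).mp
      rw [map_commutatorElement]
      have h3 : ⁅π e, π k⁆ ∈ ⁅E.map π, K.map π⁆ :=
        Subgroup.commutator_mem_commutator ⟨e, he, rfl⟩ ⟨k, hk, rfl⟩
      rw [h] at h3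
      exact h3
    · left
      exact le_antisymm (hresle h1) (hresle h2)

end partB

/-- Let H be a finite group, p a prime, and 𝒦 a nonempty set of subgroups of H permuted transitively by conjugation, with R the subgroup generated by the members of 𝒦. Suppose O^p(H) ≤ R, each E ∈ 𝒦 has E·O_p(H) normal in R·O_p(H), and each E ∈ 𝒦 is p-minimal (generated by the conjugates of a Sylow p-subgroup T_E of E, with T_E in exactly one maximal subgroup of E). Then H is p-minimal in the same sense. If instead each E ∈ 𝒦 is strongly p-irreducible, then H is p-irreducible and, for E, K ∈ 𝒦, either O^p(E·O_p(H)) = O^p(K·O_p(H)) or [E, K] ≤ O_p(H). -/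
theorem result {H : Type*} [Group H] [Finite H] {p : ℕ} [Fact p.Prime] (𝒦 : Set (Subgroup H)) (hne : 𝒦.Nonempty) (hinv : ∀ h : H, ∀ E ∈ 𝒦, E.map (MulAut.conj h).toMonoidHom ∈ 𝒦) (htr : ∀ E ∈ 𝒦, ∀ K ∈ 𝒦, ∃ h : H, K = E.map (MulAut.conj h).toMonoidHom) (hres : Cfsg.pResidual p H ≤ sSup 𝒦) (hnorm : ∀ E ∈ 𝒦, sSup 𝒦 ⊔ Cfsg.pCore p H ≤ Subgroup.normalizer ((E ⊔ Cfsg.pCore p H : Subgroup H) : Set H)) : ((∀ E ∈ 𝒦, ∀ T : Sylow p ↥E, Cfsg.IsMinimalOver (T : Subgroup ↥E)) → ∀ T : Sylow p H, Cfsg.IsMinimalOver (T : Subgroup H)) ∧ ((∀ E ∈ 𝒦, Cfsg.IsStronglyPIrreducible p ↥E) → Cfsg.IsPIrreducible p H ∧ ∀ E ∈ 𝒦, ∀ K ∈ 𝒦, (Cfsg.pResidual p ↥(E ⊔ Cfsg.pCore p H)).map (E ⊔ Cfsg.pCore p H).subtype = (Cfsg.pResidual p ↥(K ⊔ Cfsg.pCore p H)).map (K ⊔ Cfsg.pCore p H).subtype ∨ ⁅E, K⁆ ≤ Cfsg.pCore p H) := by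
  exact ⟨fun hmin T => partA 𝒦 hne hinv htr hres hnorm hmin T, fun hsi => partB 𝒦 hne hinv htr hres hnorm hsi⟩

end Cfsg.Agent.S2855
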