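import Cfsg.Statements.S2882
import Cfsg.Agent.Lib.M24.SelfNorm
import Cfsg.Agent.Lib.Golay.M24Chain

set_option autoImplicit false
open Cfsg

namespace Cfsg.Agent.S2882

/-- In the Mathieu group of degree 24 (realised as the automorphism group of the extended binary Golay code) every Sylow 2-subgroup is self-normalizing. -/
theorem result (S : Sylow 2 ↥Cfsg.M24) : Subgroup.normalizer ((S : Subgroup ↥Cfsg.M24) : Set ↥Cfsg.M24) = (S : Subgroup ↥Cfsg.M24) := by
  classical
  let P0 : Sylow 2 ↥Cfsg.M24 := Sylow.ofCard Lib.M24.SelfNorm.PM (by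
    have h1 : Nat.card ↥Cfsg.M24 = 2 ^ 10 * 239085 := by
      rw [Lib.Golay.card_M24]
      norm_num
    have h2 : (Nat.card ↥Cfsg.M24).factorization 2 = 10 := by
      rw [h1, Nat.factorization_mul (by norm_num) (by norm_num)]
      have h3 : (239085 : ℕ).factorization 2 = 0 :=
        Nat.factorization_eq_zero_of_not_dvd (by norm_num)
      rw [Nat.factorization_pow, Finsupp.add_apply, Finsupp.smul_apply, Nat.Prime.factorization_self Nat.prime_two, h3]
      rfl
    rw [h2, Lib.M24.SelfNorm.card_PM]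
    norm_num)
  obtain ⟨h, hS⟩ := MulAction.exists_smul_eq ↥Cfsg.M24 P0 S
  have hmem : ∀ y : ↥Cfsg.M24, y ∈ (S : Subgroup ↥Cfsg.M24) ↔ h⁻¹ * y * h ∈ Lib.M24.SelfNorm.PM := by
    intro y
    rw [← hS, Sylow.coe_subgroup_smul, Subgroup.mem_pointwise_smul_iff_inv_smul_mem]
    rw [MulAut.smul_def, MulAut.conj_inv_apply]
    rfl
  apply le_antisymm
  · intro x hx
    have hn := Subgroup.mem_normalizer_iff.1 hx
    rw [hmem]
    apply Lib.M24.SelfNorm.normalizer_le
    rw [Subgroup.mem_normalizer_iff]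
    intro y
    have e1 := hn (h * y * h⁻¹)
    rw [hmem, hmem] at e1
    have e2 : h⁻¹ * (h * y * h⁻¹) * h = y := by group
    have e3 : h⁻¹ * (x * (h * y * h⁻¹) * x⁻¹) * h = (h⁻¹ * x * h) * y * (h⁻¹ * x * h)⁻¹ := by group
    rw [e2, e3] at e1
    exact e1
  · exact Subgroup.le_normalizer

end Cfsg.Agent.S2882
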