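import Cfsg.Statements.S2933
import Cfsg.Agent.Lib.LocalEven2.T33g
-- import your own Cfsg.Agent.* helpers here

set_option autoImplicit false
open Cfsg

namespace Cfsg.Agent.S2933

/-- Conjugation as an automorphism of a normalized subgroup. -/
def conjT {G : Type*} [Group G] (T : Subgroup G) (g : G) (hg : g ∈ Subgroup.normalizer (T : Set G)) : ↥T ≃* ↥T where
  toFun u := ⟨g * u * g⁻¹, (Subgroup.mem_normalizer_iff.mp hg u).mp u.2⟩
  invFun u := ⟨g⁻¹ * u * g, by
    have h1 := (Subgroup.mem_normalizer_iff.mp (Subgroup.inv_mem _ hg) u).mp u.2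
    simpa using h1⟩
  left_inv u := by
    apply Subtype.ext
    show g⁻¹ * (g * u * g⁻¹) * g = u
    group
  right_inv u := by
    apply Subtype.ext
    show g * (g⁻¹ * u * g) * g⁻¹ = u
    group
  map_mul' u v := by
    apply Subtype.ext
    show g * (u * v) * g⁻¹ = g * u * g⁻¹ * (g * v * g⁻¹)
    group

theorem conjT_val {G : Type*} [Group G] (T : Subgroup G) (g : G) (hg : g ∈ Subgroup.normalizer (T : Set G)) (u : ↥T) :
    (conjT T g hg u : G) = g * u * g⁻¹ := rfl

/-- The four-group has no fixed points. -/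
theorem fpf_on_V {G : Type*} [Group G] [Finite G] (V : Subgroup G) (hV : Nat.card ↥V = 4 ∧ ∀ v ∈ V, v ^ 2 = 1)
    (hVc : ∀ u ∈ V, ∀ v ∈ V, u * v = v * u) (ρ : G) (hρ3 : ρ ^ 3 = 1) (hρn : ρ ∈ Subgroup.normalizer (V : Set G))
    (hVρ : ⁅V, Subgroup.zpowers ρ⁆ = V) {v : G} (hv : v ∈ V) (hfix : ρ * v * ρ⁻¹ = v) : v = 1 := by
  classical
  by_contra hv1
  have hconj : ∀ u ∈ V, ρ * u * ρ⁻¹ ∈ V := fun u hu => (Subgroup.mem_normalizer_iff.mp hρn u).mp hu
  have hsq : ∀ u ∈ V, u * u = 1 := fun u hu => by rw [← pow_two]; exact hV.2 u hu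
  -- a third element
  obtain ⟨w, hw, hw1, hwv⟩ : ∃ w ∈ V, w ≠ 1 ∧ w ≠ v := by
    by_contra hcon
    push Not at hcon
    have h1 : Nat.card ↥V ≤ 2 := by
      have h2 : Function.Injective (fun u : ↥V => (if (u : G) = 1 then (0 : Fin 2) else 1)) := by
        intro a b hab
        apply Subtype.ext
        by_cases ha : (a : G) = 1 <;> by_cases hb : (b : G) = 1
        · rw [ha, hb]
        · simp [ha, hb] at hab
        · simp [ha, hb] at hab
        · rw [hcon _ a.2 ha, hcon _ b.2 hb]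
      have := Nat.card_le_card_of_injective _ h2
      simpa using this
    rw [hV.1] at h1
    omega
  have hvw : v * w ∈ V := V.mul_mem hv hw
  have hd1 : (1 : G) ≠ v := fun h => hv1 h.symm
  have hd2 : (1 : G) ≠ w := fun h => hw1 h.symm
  have hd3 : (1 : G) ≠ v * w := by
    intro h
    apply hwv
    have : v = w⁻¹ := eq_inv_of_mul_eq_one_left h.symm
    rw [this]
    exact (inv_eq_of_mul_eq_one_left (hsq w hw)).symm
  have hd4 : v ≠ w := fun h => hwv h.symm
  have hd5 : v ≠ v * w := by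
    intro h
    apply hw1
    exact (mul_eq_left.mp h.symm)
  have hd6 : w ≠ v * w := by
    intro h
    apply hv1
    exact (mul_eq_right.mp h.symm)
  have hfill := Cfsg.Agent.Lib.LocalEven2.T33.fill4 (fun u : G => u ∈ V) 1 v w (v * w) V.one_mem hv hw hvw hd1 hd2 hd3 hd4 hd5 hd6
    (by
      show Nat.card ↥V ≤ 4
      rw [hV.1])
  have hρw : ρ * w * ρ⁻¹ = w := by
    rcases hfill.2 _ (hconj w hw) with h | h | h | h
    · exfalso
      apply hw1
      have : w = ρ⁻¹ * (ρ * w * ρ⁻¹) * ρ := by group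
      rw [this, h]
      group
    · exfalso
      apply hwv
      have e1 : w = ρ⁻¹ * (ρ * w * ρ⁻¹) * ρ := by group
      rw [e1, h]
      nth_rw 1 [← hfix]
      group
    · exact h
    · exfalso
      -- three applications
      have e2 : ρ * (ρ * w * ρ⁻¹) * ρ⁻¹ = w := by
        rw [h]
        have : ρ * (v * w) * ρ⁻¹ = (ρ * v * ρ⁻¹) * (ρ * w * ρ⁻¹) := by group
        rw [this, hfix, h, ← mul_assoc, hsq v hv, one_mul]
      have e3 : ρ * (ρ * (ρ * w * ρ⁻¹) * ρ⁻¹) * ρ⁻¹ = w := by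
        have : ρ * (ρ * (ρ * w * ρ⁻¹) * ρ⁻¹) * ρ⁻¹ = ρ ^ 3 * w * (ρ ^ 3)⁻¹ := by
          have e : ρ ^ 3 = ρ * ρ * ρ := by simp [pow_succ]
          rw [e]
          group
        rw [this, hρ3]
        group
      rw [e2, h] at e3
      exact hd6 e3.symm
  have hρall : ∀ u ∈ V, ρ * u * ρ⁻¹ = u := by
    intro u hu
    rcases hfill.2 u hu with rfl | rfl | rfl | rfl
    · group
    · exact hfix
    · exact hρw
    · have : ρ * (v * w) * ρ⁻¹ = (ρ * v * ρ⁻¹) * (ρ * w * ρ⁻¹) := by group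
      rw [this, hfix, hρw]
  have hcomm : ∀ u ∈ V, Commute u ρ := by
    intro u hu
    have := hρall u hu
    rw [mul_inv_eq_iff_eq_mul] at this
    exact this.symm
  have hbot : ⁅V, Subgroup.zpowers ρ⁆ = ⊥ := by
    rw [eq_bot_iff, Subgroup.commutator_le]
    intro u hu g hg
    obtain ⟨k, rfl⟩ := Subgroup.mem_zpowers_iff.mp hg
    rw [Subgroup.mem_bot, commutatorElement_eq_one_iff_commute]
    exact (hcomm u hu).zpow_right k
  rw [hbot] at hVρ
  rw [← hVρ] at hV
  simp at hV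

/-- Let T be a 2-subgroup of a finite group G, V ≤ Z(T) a four-group, and t, ρ ∈ N_G(V) ∩ N_G(T) elements of order 2 and 3 with t commuting with ρ and with V. If [V, ρ] = V and C_T(t) = V, then T is elementary abelian of order 16, or homocyclic of rank 2 (ℤ/2ⁿ × ℤ/2ⁿ for some n ≥ 1), or isomorphic to a Sylow 2-subgroup of PSL₃(4) or of PSU₃(4). -/
theorem result {G : Type*} [Group G] [Finite G] (T V : Subgroup G) (hT : IsPGroup 2 ↥T) (hVT : V ≤ T ⊓ Subgroup.centralizer (T : Set G)) (hV : Nat.card ↥V = 4 ∧ ∀ v ∈ V, v ^ 2 = 1) (t ρ : G) (ht : orderOf t = 2) (hρ : orderOf ρ = 3) (htn : t ∈ Subgroup.normalizer (V : Set G) ⊓ Subgroup.normalizer (T : Set G)) (hρn : ρ ∈ Subgroup.normalizer (V : Set G) ⊓ Subgroup.normalizer (T : Set G)) (htρ : t * ρ = ρ * t) (htV : t ∈ Subgroup.centralizer (V : Set G)) (hVρ : ⁅V, Subgroup.zpowers ρ⁆ = V) (hCt : T ⊓ Subgroup.centralizer ({t} : Set G) = V) : (Nat.card ↥T = 16 ∧ ∀ x ∈ T, x ^ 2 = 1) ∨ (∃ n : ℕ,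 1 ≤ n ∧ Nonempty (↥T ≃* Multiplicative (ZMod (2 ^ n)) × Multiplicative (ZMod (2 ^ n)))) ∨ (∃ (F : Type) (_ : Field F) (_ : Fintype F), Fintype.card F = 4 ∧ ∀ P : Sylow 2 (Matrix.ProjectiveSpecialLinearGroup (Fin 3) F), Nonempty (↥T ≃* ↥(P : Subgroup (Matrix.ProjectiveSpecialLinearGroup (Fin 3) F)))) ∨ (∃ (F : Type) (_ : Field F) (_ : Fintype F), Fintype.card F = 16 ∧ ∀ P : Sylow 2 (Cfsg.PSU 3 F 4), Nonempty (↥T ≃* ↥(P : Subgroup (Cfsg.PSU 3 F 4)))) := by
  classical
  haveI : Finite ↥T := inferInstance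
  have ht2 : t * t = 1 := by
    rw [← pow_two, ← ht]
    exact pow_orderOf_eq_one t
  have hρ3 : ρ ^ 3 = 1 := by
    rw [← hρ]
    exact pow_orderOf_eq_one ρ
  have htinv : t⁻¹ = t := inv_eq_of_mul_eq_one_left ht2
  set τ := conjT T t htn.2 with hτ
  set r := conjT T ρ hρn.2 with hr
  have hτv : ∀ u : ↥T, (τ u : G) = t * u * t⁻¹ := fun u => rfl
  have hrv : ∀ u : ↥T, (r u : G) = ρ * u * ρ⁻¹ := fun u => rfl
  have htt : ∀ g, τ (τ g) = g := by
    intro g
    apply Subtype.ext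
    rw [hτv, hτv, htinv]
    calc t * (t * (g : G) * t) * t = (t * t) * g * (t * t) := by group
      _ = g := by rw [ht2]; group
  have hrrr : ∀ g, r (r (r g)) = g := by
    intro g
    apply Subtype.ext
    rw [hrv, hrv, hrv]
    calc ρ * (ρ * (ρ * (g : G) * ρ⁻¹) * ρ⁻¹) * ρ⁻¹ = ρ ^ 3 * g * (ρ ^ 3)⁻¹ := by
          have e : ρ ^ 3 = ρ * ρ * ρ := by simp [pow_succ]
          rw [e]
          group
      _ = g := by rw [hρ3]; group
  have htr : ∀ g, τ (r g) = r (τ g) := by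
    intro g
    apply Subtype.ext
    rw [hτv, hrv, hrv, hτv]
    have e : t⁻¹ * ρ = ρ * t⁻¹ := by
      rw [htinv]
      exact htρ
    calc t * (ρ * (g : G) * ρ⁻¹) * t⁻¹ = (t * ρ) * g * (t * ρ)⁻¹ := by group
      _ = (ρ * t) * g * (ρ * t)⁻¹ := by rw [htρ]
      _ = ρ * (t * g * t⁻¹) * ρ⁻¹ := by group
  have hfixV : ∀ v : ↥T, τ v = v ↔ (v : G) ∈ V := by
    intro v
    rw [← hCt]
    constructor
    · intro h
      refine ⟨v.2, ?_⟩
      show (v : G) ∈ Subgroup.centralizer {t}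
      rw [Subgroup.mem_centralizer_singleton_iff]
      have h1 : t * (v : G) * t⁻¹ = v := congrArg Subtype.val h
      rw [mul_inv_eq_iff_eq_mul] at h1
      exact h1.symm
    · rintro ⟨-, h⟩
      apply Subtype.ext
      rw [hτv]
      replace h : (v : G) ∈ Subgroup.centralizer {t} := h
      rw [Subgroup.mem_centralizer_singleton_iff] at h
      rw [mul_inv_eq_iff_eq_mul]
      exact h.symm
  have hVc : ∀ u ∈ V, ∀ g ∈ T, u * g = g * u := by
    intro u hu g hg
    have : u ∈ Subgroup.centralizer (T : Set G) := (hVT hu).2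
    rw [Subgroup.mem_centralizer_iff] at this
    exact (this g hg).symm
  have hVT' : V ≤ T := fun u hu => (hVT hu).1
  have hrfix : ∀ g, r g = g → g = 1 := by
    intro g hg
    have hne : Cfsg.Agent.Lib.LocalEven2.T33.fixG r = ⊥ := by
      by_contra hne
      obtain ⟨z, hzC, hz1, hz2, -⟩ := Cfsg.Agent.Lib.LocalEven2.T33.exists_fixed hT τ htt (Cfsg.Agent.Lib.LocalEven2.T33.fixG r) (by
        intro u hu
        show r (τ u) = τ u
        rw [← htr]
        exact congrArg τ hu) hne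
      apply hz1
      apply Subtype.ext
      exact fpf_on_V V hV (fun u hu v hv => hVc u hu v (hVT' hv)) ρ hρ3 hρn.1 hVρ ((hfixV z).mp hz2) (congrArg Subtype.val hzC)
    have : g ∈ Cfsg.Agent.Lib.LocalEven2.T33.fixG r := hg
    rw [hne, Subgroup.mem_bot] at this
    exact this
  have D : Cfsg.Agent.Lib.LocalEven2.T33.Data τ r := by
    refine ⟨hT, htt, hrrr, htr, hrfix, ?_, ?_, ?_⟩
    · intro v hv g
      apply Subtype.ext
      exact hVc _ ((hfixV v).mp hv) _ g.2
    · intro v hv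
      apply Subtype.ext
      have := hV.2 _ ((hfixV v).mp hv)
      rw [pow_two] at this
      exact this
    · rw [← hV.1]
      apply Nat.card_congr
      refine ⟨fun v => ⟨v.1.1, (hfixV v.1).mp v.2⟩, fun v => ⟨⟨v.1, hVT' v.2⟩, (hfixV _).mpr v.2⟩, ?_, ?_⟩
      · intro v
        rfl
      · intro v
        rfl
  rcases Cfsg.Agent.Lib.LocalEven2.T33.main_abstract D with h | h | h | h
  · left
    refine ⟨h.1, ?_⟩
    intro x hx
    have := h.2 ⟨x, hx⟩
    exact congrArg Subtype.val this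
  · exact Or.inr (Or.inl h)
  · exact Or.inr (Or.inr (Or.inl h))
  · exact Or.inr (Or.inr (Or.inr h))

end Cfsg.Agent.S2933
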