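import Cfsg.Statements.S2968
import Cfsg.Agent.Lib.LocalEven2.Sylow
-- import your own Cfsg.Agent.* helpers here

set_option autoImplicit false
open Cfsg

namespace Cfsg.Agent.S2968

open Cfsg.Agent.Lib.LocalEven2

/-- Let G be a finite group, p a prime, P a Sylow p-subgroup of G and x ∈ P an element of p-power order which is isolated in G (the only conjugate of x commuting with x is x itself). Then x lies in the centre of P, and the subgroup generated by x is both strongly closed and weakly closed in P with respect to G. -/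
theorem result {G : Type*} [Group G] [Finite G] {p : ℕ} [Fact p.Prime] (P : Sylow p G) (x : G) (hxP : x ∈ (P : Subgroup G)) (hx : ∃ k : ℕ, orderOf x = p ^ k) (hiso : Cfsg.IsIsolated x) : x ∈ (P : Subgroup G) ⊓ Subgroup.centralizer ((P : Subgroup G) : Set G) ∧ Cfsg.IsStronglyClosed (Subgroup.zpowers x) (P : Subgroup G) ∧ Cfsg.IsWeaklyClosed (Subgroup.zpowers x) (P : Subgroup G) := by
  have hcentral : ∀ r ∈ (P : Subgroup G), Commute r x := fun r hr =>
    commute_of_isIsolated hiso P.isPGroup' hxP hr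
  have hconj : ∀ g : G, ∃ k, orderOf (g * x * g⁻¹) = p ^ k := by
    intro g
    obtain ⟨k, hk⟩ := hx
    exact ⟨k, by rw [Cfsg.Agent.Lib.Coprime.orderOf_conj, hk]⟩
  refine ⟨?_, ?_, ?_⟩
  · refine Subgroup.mem_inf.2 ⟨hxP, ?_⟩
    rw [Subgroup.mem_centralizer_iff]
    intro r hr
    exact (hcentral r hr).eq
  · refine ⟨(Subgroup.zpowers_le).2 hxP, ?_⟩
    intro y hy g hz
    obtain ⟨k, rfl⟩ := Subgroup.mem_zpowers_iff.1 hy
    set z := g * x ^ k * g⁻¹ with hzdef
    have hz' : z = (g * x * g⁻¹) ^ k := by rw [conj_zpow]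
    -- `x` and `g x g⁻¹` lie in `C(z)`.
    set M := Subgroup.centralizer ({z} : Set G) with hM
    have hxM : x ∈ M := by
      rw [hM, Subgroup.mem_centralizer_singleton_iff]
      exact (hcentral z hz).eq.symm
    have hyM : g * x * g⁻¹ ∈ M := by
      rw [hM, Subgroup.mem_centralizer_singleton_iff, hz']
      exact ((Commute.refl _).zpow_right k).eq
    obtain ⟨c, hc, T, hT, _, hxT, hyT⟩ := exists_conj_common_of_pElement hx (hconj g) hxM hyM
    have h2 := commute_of_isIsolated hiso hT hxT hyT
    have e : c * (g * x * g⁻¹) * c⁻¹ = (c * g) * x * (c * g)⁻¹ := by group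
    rw [e] at h2
    have h3 := hiso (c * g) h2.symm
    have h4 : c * z * c⁻¹ = z := by
      have := Subgroup.mem_centralizer_singleton_iff.1 hc
      rw [this]; group
    have h5 : c * z * c⁻¹ = x ^ k := by
      calc c * z * c⁻¹ = c * (g * x * g⁻¹) ^ k * c⁻¹ := by rw [hz']
        _ = (c * (g * x * g⁻¹) * c⁻¹) ^ k := conj_zpow.symm
        _ = x ^ k := by rw [e, h3]
    have h6 : z = x ^ k := h4.symm.trans h5
    rw [h6]
    exact Subgroup.zpow_mem_zpowers x k
  · refine ⟨(Subgroup.zpowers_le).2 hxP, ?_⟩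
    intro g hg
    have h1 : g * x * g⁻¹ ∈ (P : Subgroup G) := hg ⟨x, Subgroup.mem_zpowers x, rfl⟩
    have h2 := hcentral _ h1
    have h3 := hiso g h2.symm
    rw [MonoidHom.map_zpowers]
    have : (MulAut.conj g).toMonoidHom x = x := h3
    rw [this]

end Cfsg.Agent.S2968
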