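import Cfsg.Statements.S2969
import Cfsg.Agent.Lib.LocalEven2.Sylow
-- import your own Cfsg.Agent.* helpers here

set_option autoImplicit false
open Cfsg

namespace Cfsg.Agent.S2969

open Cfsg.Agent.Lib.LocalEven2

/-- Let G be a finite group, p a prime and x ∈ G an element of p-power order which is isolated in G. If R is a p-subgroup of G containing x, then N_G(R) ≤ C_G(x); in particular x lies in the centre of R. Moreover, if x lies in a normal subgroup N of a subgroup H of G, then H = N·C_H(x). -/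
theorem result {G : Type*} [Group G] [Finite G] {p : ℕ} [Fact p.Prime] (x : G) (hx : ∃ k : ℕ, orderOf x = p ^ k) (hiso : Cfsg.IsIsolated x) : (∀ R : Subgroup G, IsPGroup p ↥R → x ∈ R → Subgroup.normalizer (R : Set G) ≤ Subgroup.centralizer ({x} : Set G)) ∧ (∀ H N : Subgroup G, N ≤ H → H ≤ Subgroup.normalizer (N : Set G) → x ∈ N → N ⊔ (H ⊓ Subgroup.centralizer ({x} : Set G)) = H) := by
  have hconj : ∀ g : G, ∃ k, orderOf (g * x * g⁻¹) = p ^ k := by
    intro g
    obtain ⟨k, hk⟩ := hx
    exact ⟨k, by rw [Cfsg.Agent.Lib.Coprime.orderOf_conj, hk]⟩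
  refine ⟨?_, ?_⟩
  · intro R hR hxR g hg
    have h1 : g * x * g⁻¹ ∈ R := (Subgroup.mem_normalizer_iff.1 hg x).1 hxR
    have h2 := commute_of_isIsolated hiso hR hxR h1
    have h3 := hiso g h2.symm
    rw [Subgroup.mem_centralizer_singleton_iff]
    calc g * x = (g * x * g⁻¹) * g := by group
      _ = x * g := by rw [h3]
  · intro H N hNH hHN hxN
    apply le_antisymm (sup_le hNH inf_le_left)
    intro h hh
    have h1 : h * x * h⁻¹ ∈ N := (Subgroup.mem_normalizer_iff.1 (hHN hh) x).1 hxN
    obtain ⟨n, hn, T, hT, _, hxT, hyT⟩ := exists_conj_common_of_pElement hx (hconj h) hxN h1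
    have h2 := commute_of_isIsolated hiso hT hxT hyT
    have e : n * (h * x * h⁻¹) * n⁻¹ = (n * h) * x * (n * h)⁻¹ := by group
    rw [e] at h2
    have h3 := hiso (n * h) h2.symm
    have hnh : n * h ∈ H ⊓ Subgroup.centralizer ({x} : Set G) := by
      refine Subgroup.mem_inf.2 ⟨H.mul_mem (hNH hn) hh, ?_⟩
      rw [Subgroup.mem_centralizer_singleton_iff]
      calc n * h * x = (n * h * x * (n * h)⁻¹) * (n * h) := by group
        _ = x * (n * h) := by rw [h3]
    have e2 : h = n⁻¹ * (n * h) := by group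
    rw [e2]
    exact Subgroup.mul_mem _ (Subgroup.mem_sup_left (N.inv_mem hn)) (Subgroup.mem_sup_right hnh)

end Cfsg.Agent.S2969
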