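import Cfsg.Statements.S2970
import Cfsg.Agent.Lib.LocalEven2.Sylow
-- import your own Cfsg.Agent.* helpers here

set_option autoImplicit false
open Cfsg

namespace Cfsg.Agent.S2970

open Cfsg.Agent.Lib.LocalEven2 Cfsg.Agent.Lib.LocalEven

/-- A `p'`-element normalizing a cyclic `p`-subgroup and fixing a nontrivial element of it centralizes it. -/
theorem commute_of_cyclic {G : Type*} [Group G] [Finite G] {p : ℕ} [Fact p.Prime] {P : Subgroup G}
    (hP : IsPGroup p P) (hc : IsCyclic P) {v x : G} (hv : (orderOf v).Coprime p)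
    (hvn : v ∈ Subgroup.normalizer (P : Set G)) (hx : x ∈ P) (hx1 : x ≠ 1) (hvx : Commute v x) :
    ∀ b ∈ P, Commute v b := by
  have hpp : p.Prime := Fact.out
  obtain ⟨⟨b, hb⟩, hgen⟩ := hc.exists_generator
  have hmem : ∀ y ∈ P, ∃ k : ℤ, b ^ k = y := by
    intro y hy
    obtain ⟨k, hk⟩ := Subgroup.mem_zpowers_iff.1 (hgen ⟨y, hy⟩)
    exact ⟨k, congrArg Subtype.val hk⟩
  obtain ⟨n, hn⟩ := orderOf_of_mem_isPGroup hP hb
  obtain ⟨m, hm⟩ := hmem _ ((Subgroup.mem_normalizer_iff.1 hvn b).1 hb)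
  obtain ⟨a, ha⟩ := hmem x hx
  -- powers of `v` act by powers of `m`.
  have hact : ∀ i : ℕ, v ^ i * b * (v ^ i)⁻¹ = b ^ (m ^ i) := by
    intro i
    induction i with
    | zero => simp
    | succ i ih =>
      have e : v ^ (i + 1) * b * (v ^ (i + 1))⁻¹ = v ^ i * (v * b * v⁻¹) * (v ^ i)⁻¹ := by
        rw [pow_succ]; group
      rw [e, ← hm, ← conj_zpow, ih, ← zpow_mul, pow_succ]
  have h1 : b ^ (m ^ orderOf v) = b := by
    rw [← hact, pow_orderOf_eq_one]; simp
  have h2 : ((p ^ n : ℕ) : ℤ) ∣ m ^ orderOf v - 1 := by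
    rw [← hn, orderOf_dvd_iff_zpow_eq_one, zpow_sub, h1]; simp
  -- `m ≡ 1 mod p`.
  have h3 : b ^ (a * (m - 1)) = 1 := by
    have e1 : v * x * v⁻¹ = x := by rw [hvx.eq]; group
    rw [← ha] at e1
    rw [← conj_zpow, ← hm, ← zpow_mul] at e1
    rw [mul_sub, zpow_sub, mul_one, mul_comm a m, e1]; simp
  have h4 : (p : ℤ) ∣ m - 1 := by
    by_contra hnd
    have h5 : ((p ^ n : ℕ) : ℤ) ∣ a * (m - 1) := by
      rw [← hn]; exact orderOf_dvd_iff_zpow_eq_one.2 h3
    have hcop : IsCoprime ((p ^ n : ℕ) : ℤ) (m - 1) := by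
      push_cast
      apply IsCoprime.pow_left
      exact (Prime.coprime_iff_not_dvd (Nat.prime_iff_prime_int.1 hpp)).2 hnd
    have h6 := hcop.dvd_of_dvd_mul_right h5
    apply hx1
    rw [← ha, ← hn] at *
    exact orderOf_dvd_iff_zpow_eq_one.1 h6
  -- geometric sum.
  set t := orderOf v with ht
  have h5 : (∑ i ∈ Finset.range t, m ^ i) * (m - 1) = m ^ t - 1 := geom_sum_mul m t
  have h6 : ¬ (p : ℤ) ∣ ∑ i ∈ Finset.range t, m ^ i := by
    intro hd
    have h7 : ((∑ i ∈ Finset.range t, m ^ i : ℤ) : ZMod p) = 0 :=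
      (ZMod.intCast_zmod_eq_zero_iff_dvd _ p).2 hd
    have h8 : ((m : ℤ) : ZMod p) = 1 := by
      have : ((m - 1 : ℤ) : ZMod p) = 0 := (ZMod.intCast_zmod_eq_zero_iff_dvd _ p).2 h4
      push_cast at this
      push_cast
      exact sub_eq_zero.1 this
    push_cast at h7 h8
    rw [h8] at h7
    simp at h7
    have h9 : p ∣ t := (ZMod.natCast_eq_zero_iff t p).1 h7
    have := Nat.Coprime.eq_one_of_dvd (hv.symm) h9
    exact hpp.one_lt.ne' this
  have h7 : ((p ^ n : ℕ) : ℤ) ∣ m - 1 := by
    have hcop : IsCoprime ((p ^ n : ℕ) : ℤ) (∑ i ∈ Finset.range t, m ^ i) := by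
      push_cast
      apply IsCoprime.pow_left
      exact (Prime.coprime_iff_not_dvd (Nat.prime_iff_prime_int.1 hpp)).2 h6
    rw [← h5] at h2
    exact hcop.dvd_of_dvd_mul_left h2
  have h8 : b ^ m = b := by
    rw [← hn] at h7
    have := orderOf_dvd_iff_zpow_eq_one.1 h7
    rw [zpow_sub, zpow_one] at this
    exact mul_inv_eq_one.1 this
  have hvb : Commute v b := by
    show v * b = b * v
    have : v * b * v⁻¹ = b := by rw [← hm, h8]
    calc v * b = (v * b * v⁻¹) * v := by group
      _ = b * v := by rw [this]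
  intro y hy
  obtain ⟨k, rfl⟩ := hmem y hy
  exact hvb.zpow_right k

/-- Let G be a finite group, p a prime and x ∈ G an element of p-power order which is isolated in G. Then the image of x in any quotient G ⧸ N is isolated in G ⧸ N; and if x ≠ 1 and the Sylow p-subgroups of G are cyclic, then G has a normal p-complement. -/
theorem result {G : Type*} [Group G] [Finite G] {p : ℕ} [Fact p.Prime] (x : G) (hx : ∃ k : ℕ, orderOf x = p ^ k) (hiso : Cfsg.IsIsolated x) : (∀ (N : Subgroup G) [N.Normal], Cfsg.IsIsolated (QuotientGroup.mk x : G ⧸ N)) ∧ (x ≠ 1 → (∀ P : Sylow p G, IsCyclic ↥(P : Subgroup G)) → Cfsg.HasNormalPComplement p G) := by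
  refine ⟨?_, ?_⟩
  · intro N _ gbar hcomm
    obtain ⟨g, rfl⟩ := QuotientGroup.mk_surjective gbar
    set π := QuotientGroup.mk' N with hπ
    have hπe : ∀ a : G, (QuotientGroup.mk a : G ⧸ N) = π a := fun _ => rfl
    set y := g * x * g⁻¹ with hy
    have hyπ : (QuotientGroup.mk g : G ⧸ N) * QuotientGroup.mk x * (QuotientGroup.mk g)⁻¹ = π y := by
      rw [hy]; simp [hπe]
    rw [hyπ] at hcomm ⊢
    rw [hπe]
    have hyo : ∃ k, orderOf y = p ^ k := by
      obtain ⟨k, hk⟩ := hx
      exact ⟨k, by rw [hy, Cfsg.Agent.Lib.Coprime.orderOf_conj, hk]⟩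
    set M : Subgroup G := (Subgroup.centralizer ({π y} : Set (G ⧸ N))).comap π with hM
    have hxM : x ∈ M := by
      rw [hM, Subgroup.mem_comap, Subgroup.mem_centralizer_singleton_iff]
      exact hcomm.eq
    have hyM : y ∈ M := by
      rw [hM, Subgroup.mem_comap, Subgroup.mem_centralizer_singleton_iff]
    obtain ⟨m, hm, T, hT, _, hxT, hyT⟩ := exists_conj_common_of_pElement hx hyo hxM hyM
    have h2 := commute_of_isIsolated hiso hT hxT hyT
    have e : m * y * m⁻¹ = (m * g) * x * (m * g)⁻¹ := by rw [hy]; group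
    rw [e] at h2
    have h3 := hiso (m * g) h2.symm
    rw [← e] at h3
    have h4 : π m * π y = π y * π m := Subgroup.mem_centralizer_singleton_iff.1 hm
    have h5 : π m * π y * (π m)⁻¹ = π x := by
      rw [← map_inv, ← map_mul, ← map_mul, h3]
    rw [← h5, h4]
    simp
  · intro hx1 hcyc
    have hxp := isPGroup_zpowers hx
    obtain ⟨P, hP⟩ := hxp.exists_le_sylow
    have hxP : x ∈ (P : Subgroup G) := hP (Subgroup.mem_zpowers x)
    have hN : Subgroup.normalizer ((P : Subgroup G) : Set G) ≤ Subgroup.centralizer ((P : Subgroup G) : Set G) := by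
      intro g hg
      have hcx : Commute g x := by
        have h1 : g * x * g⁻¹ ∈ (P : Subgroup G) := (Subgroup.mem_normalizer_iff.1 hg x).1 hxP
        have h2 := commute_of_isIsolated hiso P.isPGroup' hxP h1
        have h3 := hiso g h2.symm
        show g * x = x * g
        calc g * x = (g * x * g⁻¹) * g := by group
          _ = x * g := by rw [h3]
      obtain ⟨u, v, huv, hu, hv, huo, hvo, _⟩ := exists_p_decomp (p := p) g (isOfFinOrder_of_finite g)
      have hzn : Subgroup.zpowers g ≤ Subgroup.normalizer ((P : Subgroup G) : Set G) :=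
        (Subgroup.zpowers_le).2 hg
      have huP : u ∈ (P : Subgroup G) := by
        have h1 : IsPGroup p (Subgroup.zpowers u) := isPGroup_zpowers huo
        have h2 : IsPGroup p (Subgroup.zpowers u ⊔ (P : Subgroup G) : Subgroup G) :=
          IsPGroup.to_sup_of_normal_right' h1 P.isPGroup' ((Subgroup.zpowers_le).2 (hzn hu))
        have h3 := P.is_maximal' h2 le_sup_right
        rw [← h3]
        exact Subgroup.mem_sup_left (Subgroup.mem_zpowers u)
      have hvx : Commute v x := by
        obtain ⟨k, rfl⟩ := Subgroup.mem_zpowers_iff.1 hv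
        exact hcx.zpow_left k
      have hvP := commute_of_cyclic P.isPGroup' (hcyc P) hvo (hzn hv) hxP hx1 hvx
      have hPcomm : ∀ a ∈ (P : Subgroup G), ∀ b ∈ (P : Subgroup G), Commute a b := by
        intro a ha b hb
        haveI := hcyc P
        have h1 := (IsCyclic.commGroup (α := (P : Subgroup G))).mul_comm ⟨a, ha⟩ ⟨b, hb⟩
        exact congrArg Subtype.val h1
      rw [Subgroup.mem_centralizer_iff]
      intro b hb
      rw [huv]
      have h1 := hPcomm u huP b hb
      have h2 := hvP b hb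
      exact ((h1.symm).mul_right h2.symm).eq
    exact ⟨P, _, inferInstance, MonoidHom.ker_transferSylow_isComplement' P hN⟩

end Cfsg.Agent.S2970
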