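import Cfsg.Statements.S2971
import Cfsg.Agent.S2970
import Cfsg.Agent.Lib.LocalEven2.ZStar
import Cfsg.Agent.Lib.OddLocal.UniqueP
import Cfsg.Agent.Lib.Coprime.Action
import Cfsg.Agent.Lib.Basic.Nilpotent
import Cfsg.Agent.Lib.Transfer.Basic
import Cfsg.Agent.Lib.PGroups.Parts
-- import your own Cfsg.Agent.* helpers here

set_option autoImplicit false
open Cfsg

namespace Cfsg.Agent.S2971

open Cfsg.Agent.Lib.LocalEven2 Cfsg.Agent.Lib.OddLocal Cfsg.Agent.Lib.Coprime Cfsg.Agent.Lib.Basic

theorem mem_zpowers_of_rank_one {G : Type*} [Group G] [Finite G] {p : ℕ} [Fact p.Prime]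
    (hrk : Cfsg.PRankLE p 1 G) {x h : G} (hx : orderOf x = p) (hc : Commute h x) (hh : h ^ p = 1) :
    h ∈ Subgroup.zpowers x := by
  set A : Subgroup G := Subgroup.zpowers h ⊔ Subgroup.zpowers x with hA
  have hcomm : IsMulCommutative A := by
    haveI : IsMulCommutative (Subgroup.zpowers h) := ⟨⟨fun a b => by
      obtain ⟨a, i, ha⟩ := a
      obtain ⟨b, j, hb⟩ := b
      apply Subtype.ext
      simp only [Subgroup.coe_mul]
      rw [← ha, ← hb]
      exact (Commute.refl h).zpow_zpow i j⟩⟩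
    haveI : IsMulCommutative (Subgroup.zpowers x) := ⟨⟨fun a b => by
      obtain ⟨a, i, ha⟩ := a
      obtain ⟨b, j, hb⟩ := b
      apply Subtype.ext
      simp only [Subgroup.coe_mul]
      rw [← ha, ← hb]
      exact (Commute.refl x).zpow_zpow i j⟩⟩
    apply isMulCommutative_sup_of_commute
    intro a ha
    rw [Subgroup.mem_centralizer_iff]
    intro b hb
    obtain ⟨i, rfl⟩ := Subgroup.mem_zpowers_iff.1 ha
    obtain ⟨j, rfl⟩ := Subgroup.mem_zpowers_iff.1 hb
    exact (hc.zpow_zpow i j).eq.symm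
  have hexp : ∀ a ∈ A, a ^ p = 1 := by
    intro a ha
    have hle : Subgroup.zpowers x ≤ Subgroup.normalizer ((Subgroup.zpowers h : Subgroup G) : Set G) := by
      intro y hy
      obtain ⟨j, rfl⟩ := Subgroup.mem_zpowers_iff.1 hy
      apply Cfsg.Agent.Lib.PGroups.mem_normalizer_of_conj_le'
      intro w hw
      obtain ⟨i, rfl⟩ := Subgroup.mem_zpowers_iff.1 hw
      have e : x ^ j * h ^ i * (x ^ j)⁻¹ = h ^ i := by
        rw [← (hc.zpow_zpow i j).eq]; group
      rw [e]
      exact hw
    obtain ⟨k, hk, y, hy, rfl⟩ := (mem_sup_iff_of_le_normalizer hle a).1 ha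
    obtain ⟨i, rfl⟩ := Subgroup.mem_zpowers_iff.1 hk
    obtain ⟨j, rfl⟩ := Subgroup.mem_zpowers_iff.1 hy
    rw [(hc.zpow_zpow i j).mul_pow, ← zpow_natCast, ← zpow_natCast, ← zpow_mul, ← zpow_mul, mul_comm i, mul_comm j,
      zpow_mul, zpow_mul, zpow_natCast, zpow_natCast, hh, ← hx, pow_orderOf_eq_one]
    simp
  have hcard := hrk A hcomm hexp
  rw [pow_one] at hcard
  have hxA : Subgroup.zpowers x ≤ A := le_sup_right
  have hcx : Nat.card (Subgroup.zpowers x) = p := by rw [Nat.card_zpowers, hx]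
  have e := Subgroup.eq_of_le_of_card_ge hxA (by rw [hcx]; exact hcard)
  rw [e]
  exact (le_sup_left : Subgroup.zpowers h ≤ A) (Subgroup.mem_zpowers h)

/-- Let G be a finite group and p an odd prime such that G has p-rank at most 1 (no elementary abelian subgroup of order p²). If x ∈ G is an isolated element of order p, then x is central modulo the largest normal subgroup of G of order prime to p. -/
theorem result {G : Type*} [Group G] [Finite G] {p : ℕ} [Fact p.Prime] (hp : p ≠ 2) (hrk : Cfsg.PRankLE p 1 G) (x : G) (hx : orderOf x = p) (hiso : Cfsg.IsIsolated x) : Cfsg.InZStar p x := by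
  have hpp : p.Prime := Fact.out
  have hx1 : x ≠ 1 := by
    intro e
    rw [e, orderOf_one] at hx
    exact hpp.one_lt.ne hx
  have hxz : IsPGroup p (Subgroup.zpowers x) := isPGroup_zpowers ⟨1, by simpa using hx⟩
  obtain ⟨P, hP⟩ := hxz.exists_le_sylow
  have hxP : x ∈ (P : Subgroup G) := hP (Subgroup.mem_zpowers x)
  have hU : UniqueP p ↥(P : Subgroup G) := by
    have key : ∀ H : Subgroup ↥(P : Subgroup G), Nat.card H = p →
        H = Subgroup.zpowers (⟨x, hxP⟩ : ↥(P : Subgroup G)) := by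
      intro H hH
      apply Subgroup.eq_of_le_of_card_ge
      · intro h hh
        have h1 : h ^ p = 1 := by
          have := pow_card_eq_one' (G := H) (x := ⟨h, hh⟩)
          rw [hH] at this
          exact congrArg Subtype.val this
        have h2 := mem_zpowers_of_rank_one hrk hx (h := (h : G))
          (commute_of_isIsolated hiso P.isPGroup' hxP h.2) (by simpa using congrArg Subtype.val h1)
        obtain ⟨k, hk⟩ := Subgroup.mem_zpowers_iff.1 h2
        exact Subgroup.mem_zpowers_iff.2 ⟨k, Subtype.ext (by simpa using hk)⟩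
      · rw [hH, Nat.card_zpowers]
        have : orderOf (⟨x, hxP⟩ : ↥(P : Subgroup G)) = orderOf x := Subgroup.orderOf_mk _ _
        rw [this, hx]
    intro H K hH hK
    rw [key H hH, key K hK]
  have hcyc : IsCyclic ↥(P : Subgroup G) :=
    isCyclic_of_uniqueP_odd hp _ ↥(P : Subgroup G) rfl P.isPGroup' hU
  have hall : ∀ P' : Sylow p G, IsCyclic ↥(P' : Subgroup G) := fun P' =>
    isCyclic_of_surjective _ (Sylow.equiv P P').surjective
  have hN := (Cfsg.Agent.S2970.result x ⟨1, by simpa using hx⟩ hiso).2 hx1 hall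
  obtain ⟨N, hNn, hc⟩ := Cfsg.Agent.Lib.Transfer.exists_normal_isComplement'_of_hasNormalPComplement hN P
  have hNcop : (Nat.card N).Coprime p := Cfsg.Agent.Lib.Transfer.card_coprime_of_isComplement' P hc
  have hNle : N ≤ pPrimeCore p G := le_pPrimeCore hNn hNcop
  intro g
  apply hNle
  obtain ⟨⟨n, y⟩, hny, -⟩ := hc.existsUnique g
  simp only at hny
  have hcomm : Commute (y : G) x := commute_of_isIsolated hiso P.isPGroup' hxP y.2
  have e : g * x * g⁻¹ * x⁻¹ = (n : G) * (x * (n : G)⁻¹ * x⁻¹) := by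
    rw [← hny]
    have : (y : G) * x * (y : G)⁻¹ = x := by rw [hcomm.eq]; group
    calc ((n : G) * y) * x * ((n : G) * y)⁻¹ * x⁻¹ = (n : G) * ((y : G) * x * (y : G)⁻¹) * (n : G)⁻¹ * x⁻¹ := by group
      _ = (n : G) * x * (n : G)⁻¹ * x⁻¹ := by rw [this]
      _ = _ := by group
  rw [e]
  exact N.mul_mem n.2 (hNn.conj_mem _ (N.inv_mem n.2) x)

end Cfsg.Agent.S2971
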