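import Cfsg.Statements.S3076
import Cfsg.Agent.Lib.Basic.Core
import Cfsg.Agent.Lib.Transfer.Basic
import Cfsg.Agent.Lib.Coprime.Conj
import Mathlib.GroupTheory.Transfer
-- import your own Cfsg.Agent.* helpers here

set_option autoImplicit false
open Cfsg

namespace Cfsg.Agent.S3076

open Cfsg.Agent.Lib.Basic
open Subgroup

set_option linter.unusedSectionVars false

section abstract

variable {A : Type*} [Group A] [Finite A] {p : ℕ} [Fact p.Prime]

/-- The preimage of `O_p(A/K)`. -/
abbrev preP (p : ℕ) (K : Subgroup A) [K.Normal] : Subgroup A :=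
  (Cfsg.pCore p (A ⧸ K)).comap (QuotientGroup.mk' K)

theorem preP_normal (K : Subgroup A) [K.Normal] : (preP p K).Normal := by
  unfold preP
  exact Subgroup.Normal.comap (Cfsg.Agent.Lib.Basic.pCore_normal p) _

theorem le_preP (K M : Subgroup A) [K.Normal] (hM : M.Normal) (k : ℕ) (hk : K.relIndex M = p ^ k) :
    M ≤ preP p K := by
  have h1 : (M.map (QuotientGroup.mk' K)).Normal := hM.map _ (QuotientGroup.mk'_surjective K)
  have h2 : Nat.card (M.map (QuotientGroup.mk' K)) = p ^ k := by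
    rw [← hk, ← Subgroup.relIndex_ker, QuotientGroup.ker_mk']
  have h3 : IsPGroup p (M.map (QuotientGroup.mk' K)) := IsPGroup.of_card h2
  have h4 := le_pCore h1 h3
  intro x hx
  exact h4 ⟨x, hx, rfl⟩

theorem relIndex_preP (K : Subgroup A) [K.Normal] : ∃ k, K.relIndex (preP p K) = p ^ k := by
  have h1 := (pCore_isPGroup (G := A ⧸ K) p)
  obtain ⟨k, hk⟩ := h1.exists_card_eq
  refine ⟨k, ?_⟩
  rw [← hk]
  have h2 := Subgroup.relIndex_ker (K := preP p K) (QuotientGroup.mk' K)
  rw [QuotientGroup.ker_mk', Subgroup.map_comap_eq_self_of_surjective (QuotientGroup.mk'_surjective K)] at h2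
  exact h2

theorem ker_le_preP (K : Subgroup A) [K.Normal] : K ≤ preP p K := by
  intro x hx
  have : QuotientGroup.mk' K x = 1 := (QuotientGroup.eq_one_iff x).2 hx
  show QuotientGroup.mk' K x ∈ Cfsg.pCore p (A ⧸ K)
  rw [this]
  exact one_mem _

theorem normal_pGroup_le_preP (K H : Subgroup A) [K.Normal] (hH : H.Normal) (hHp : IsPGroup p H) :
    H ≤ preP p K := by
  have h1 : (H.map (QuotientGroup.mk' K)).Normal := hH.map _ (QuotientGroup.mk'_surjective K)
  have h4 := le_pCore h1 (hHp.map _)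
  intro x hx
  exact h4 ⟨x, hx, rfl⟩

/-- `O_{p'}(A)` centralizes a normal `p`-subgroup. -/
theorem pPrimeCore_le_centralizer (H : Subgroup A) (hH : H.Normal) (hHp : IsPGroup p H) :
    Cfsg.pPrimeCore p A ≤ centralizer (H : Set A) := by
  rw [← Subgroup.commutator_eq_bot_iff_le_centralizer]
  rw [eq_bot_iff]
  have hc : ⁅Cfsg.pPrimeCore p A, H⁆ ≤ Cfsg.pPrimeCore p A ⊓ H := Subgroup.commutator_le_inf _ _
  refine hc.trans ?_
  have hco : (Nat.card (Cfsg.pPrimeCore p A)).Coprime (Nat.card H) := by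
    obtain ⟨k, hk⟩ := hHp.exists_card_eq
    rw [hk]
    exact Nat.Coprime.pow_right _ (pPrimeCore_coprime p)
  exact (Subgroup.disjoint_of_coprime_natCard hco).eq_bot.le

/-- The element-order argument for normal subgroups with index prime to `p`. -/
theorem mem_of_pow_of_not_dvd (H N : Subgroup A) [H.Normal] (hSyl : ¬ p ∣ H.relIndex N) {x : A}
    (hxN : x ∈ N) {k : ℕ} (hx : orderOf x = p ^ k) : x ∈ H := by
  have hp : p.Prime := Fact.out
  have h1 : orderOf (QuotientGroup.mk' H x) ∣ p ^ k := by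
    rw [← hx]; exact orderOf_map_dvd _ _
  have h2 : orderOf (QuotientGroup.mk' H x) ∣ H.relIndex N := by
    conv_rhs => rw [← QuotientGroup.ker_mk' H, Subgroup.relIndex_ker]
    exact Subgroup.orderOf_dvd_natCard _ ⟨x, hxN, rfl⟩
  have hco : Nat.Coprime (p ^ k) (H.relIndex N) :=
    Nat.Coprime.pow_left _ ((Nat.Prime.coprime_iff_not_dvd hp).2 hSyl)
  have h3 : orderOf (QuotientGroup.mk' H x) = 1 := Nat.Coprime.eq_one_of_dvd (Nat.Coprime.coprime_dvd_left h1 hco) h2
  rw [orderOf_eq_one_iff] at h3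
  exact (QuotientGroup.eq_one_iff x).1 h3

/-- A central Sylow in `C` gives `C ≤ H ⊔ O_{p'}(A)`. -/
theorem le_sup_pPrimeCore_of_central (H C : Subgroup A) [hCn : C.Normal] [hHn : H.Normal] (hHp : IsPGroup p H)
    (hC : C ≤ centralizer (H : Set A)) (hi : ¬ p ∣ H.relIndex C) :
    C ≤ H ⊔ Cfsg.pPrimeCore p A := by
  classical
  let Z : Subgroup C := H.subgroupOf C
  have hZp : IsPGroup p Z := hHp.comap_of_injective C.subtype C.subtype_injective
  let Zs : Sylow p C := hZp.toSylow hi
  have hZcentral : normalizer ((Zs : Subgroup C) : Set C) ≤ centralizer ((Zs : Subgroup C) : Set C) := by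
    intro c _
    rw [mem_centralizer_iff]
    intro z hz
    apply Subtype.ext
    have h1 : (z : A) ∈ H := Subgroup.mem_subgroupOf.1 hz
    exact (mem_centralizer_iff.1 (hC c.2) z h1)
  have hcomp := MonoidHom.ker_transferSylow_isComplement' Zs hZcentral
  set T := (MonoidHom.transferSylow Zs hZcentral).ker with hT
  have hTn : T.Normal := inferInstance
  have hmem := fun x => Cfsg.Agent.Lib.Transfer.mem_iff_coprime_of_isComplement' Zs hcomp x
  let K₁ : Subgroup A := T.map C.subtype
  have hK₁mem : ∀ x, x ∈ K₁ ↔ x ∈ C ∧ Nat.Coprime (orderOf x) p := by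
    intro x
    constructor
    · rintro ⟨t, ht, rfl⟩
      refine ⟨t.2, ?_⟩
      have := (hmem t).1 ht
      show Nat.Coprime (orderOf (t : A)) p
      rwa [Subgroup.orderOf_coe]
    · rintro ⟨hx, hco⟩
      refine ⟨⟨x, hx⟩, (hmem _).2 ?_, rfl⟩
      rwa [Subgroup.orderOf_mk]
  have hK₁n : K₁.Normal := by
    constructor
    intro n hn g
    rw [hK₁mem] at hn ⊢
    refine ⟨hCn.conj_mem _ hn.1 g, ?_⟩
    have : orderOf (g * n * g⁻¹) = orderOf n := Cfsg.Agent.Lib.Transfer.orderOf_conj_eq g n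
    rw [this]
    exact hn.2
  have hK₁c : (Nat.card K₁).Coprime p := by
    have h1 := Cfsg.Agent.Lib.Transfer.card_coprime_of_isComplement' Zs hcomp
    have h2 : Nat.card K₁ = Nat.card T := Subgroup.card_map_of_injective C.subtype_injective
    rwa [h2]
  have hK₁le : K₁ ≤ Cfsg.pPrimeCore p A := le_pPrimeCore hK₁n hK₁c
  intro c hc
  have htop : T ⊔ (Zs : Subgroup C) = ⊤ := hcomp.sup_eq_top
  have hmemc : (⟨c, hc⟩ : C) ∈ T ⊔ (Zs : Subgroup C) := by rw [htop]; trivial
  have h3 : c ∈ (T ⊔ (Zs : Subgroup C)).map C.subtype := ⟨⟨c, hc⟩, hmemc, rfl⟩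
  rw [Subgroup.map_sup] at h3
  have h4 : (Zs : Subgroup C).map C.subtype ≤ H := by
    rintro _ ⟨z, hz, rfl⟩
    exact Subgroup.mem_subgroupOf.1 hz
  have h5 : T.map C.subtype ⊔ (Zs : Subgroup C).map C.subtype ≤ H ⊔ Cfsg.pPrimeCore p A :=
    sup_le (hK₁le.trans le_sup_right) (h4.trans le_sup_left)
  exact h5 h3

/-- The abstract form of the statement. -/
theorem abstract_iff (H C : Subgroup A) [hHn : H.Normal] [hCn : C.Normal] (hHp : IsPGroup p H)
    (hC : C = centralizer (H : Set A)) (R : Sylow p A) (hHR : H ≤ R) :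
    ¬ p ∣ H.relIndex (preP p C) ↔
      ((R : Subgroup A) ⊓ C ≤ H ∧ Cfsg.pPrimePCore p A = H ⊔ C) := by
  have hp : p.Prime := Fact.out
  set N := preP p C with hN
  have hNn : N.Normal := preP_normal C
  have hLdef : Cfsg.pPrimePCore p A = preP p (Cfsg.pPrimeCore p A) := rfl
  set K' := Cfsg.pPrimeCore p A with hK'
  have hK'n : K'.Normal := pPrimeCore_normal p A
  set L := Cfsg.pPrimePCore p A with hL
  have hLn : L.Normal := by rw [hLdef]; exact preP_normal K'
  have hK'C : K' ≤ C := by rw [hC]; exact pPrimeCore_le_centralizer H hHn hHp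
  have hK'L : K' ≤ L := by rw [hLdef]; exact ker_le_preP K'
  have hHL : H ≤ L := by rw [hLdef]; exact normal_pGroup_le_preP K' H hHn hHp
  have hHN : H ≤ N := normal_pGroup_le_preP C H hHn hHp
  have hCN : C ≤ N := ker_le_preP C
  obtain ⟨a, ha⟩ := relIndex_preP (p := p) C
  obtain ⟨b, hb⟩ := relIndex_preP (p := p) K'
  rw [← hN] at ha
  rw [← hLdef] at hb
  have hLN : L ≤ N := by
    have h1 : C.relIndex L ∣ p ^ b := hb ▸ Subgroup.relIndex_dvd_of_le_left L hK'C
    obtain ⟨j, _, hj⟩ := (Nat.dvd_prime_pow hp).1 h1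
    exact le_preP C L hLn j hj
  constructor
  · intro hSyl
    constructor
    · intro x hx
      obtain ⟨hxR, hxC⟩ := Subgroup.mem_inf.1 hx
      have hxp := R.isPGroup'
      obtain ⟨k, hk⟩ := (IsPGroup.iff_orderOf.1 hxp) ⟨x, hxR⟩
      rw [Subgroup.orderOf_mk] at hk
      exact mem_of_pow_of_not_dvd H N hSyl (hCN hxC) hk
    · apply le_antisymm
      · refine hLN.trans ?_
        have h1 : (H ⊔ C).relIndex N ∣ H.relIndex N := Subgroup.relIndex_dvd_of_le_left N le_sup_left
        have h2 : (H ⊔ C).relIndex N ∣ p ^ a := ha ▸ Subgroup.relIndex_dvd_of_le_left N le_sup_right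
        have hco : Nat.Coprime (p ^ a) (H.relIndex N) :=
          Nat.Coprime.pow_left _ ((Nat.Prime.coprime_iff_not_dvd hp).2 hSyl)
        have h3 : (H ⊔ C).relIndex N = 1 := Nat.Coprime.eq_one_of_dvd (Nat.Coprime.coprime_dvd_left h2 hco) h1
        exact Subgroup.relIndex_eq_one.1 h3
      · apply sup_le hHL
        have hi : ¬ p ∣ H.relIndex C := by
          intro hdvd
          apply hSyl
          have e1 : H.relIndex (C ⊔ H) = H.relIndex C := Subgroup.relIndex_sup_right C H
          have e2 : H.relIndex (C ⊔ H) * (C ⊔ H).relIndex N = H.relIndex N :=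
            Subgroup.relIndex_mul_relIndex H (C ⊔ H) N le_sup_right (sup_le hCN hHN)
          rw [← e2, e1]
          exact hdvd.trans (dvd_mul_right _ _)
        have h1 := le_sup_pPrimeCore_of_central H C hHp (hC ▸ le_rfl) hi
        exact h1.trans (sup_le hHL hK'L)
  · rintro ⟨hRC, hLeq⟩
    have hNL : N ≤ L := by
      have h1 : K'.relIndex C * C.relIndex L = K'.relIndex L :=
        Subgroup.relIndex_mul_relIndex K' C L hK'C (hLeq ▸ le_sup_right)
      have h2 : K'.relIndex C ∣ p ^ b := hb ▸ Dvd.intro _ h1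
      obtain ⟨j, _, hj⟩ := (Nat.dvd_prime_pow hp).1 h2
      have h3 : K'.relIndex C * C.relIndex N = K'.relIndex N :=
        Subgroup.relIndex_mul_relIndex K' C N hK'C hCN
      rw [hj, ha, ← pow_add] at h3
      rw [hLdef]
      exact le_preP K' N hNn _ h3.symm
    have hRN : (R : Subgroup A) ⊓ N ≤ H := by
      intro x hx
      obtain ⟨hxR, hxN⟩ := Subgroup.mem_inf.1 hx
      have hxL : x ∈ ((H ⊔ C : Subgroup A) : Set A) := by rw [← hLeq]; exact hNL hxN
      rw [Subgroup.mul_normal] at hxL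
      obtain ⟨h, hh, c, hc, rfl⟩ := hxL
      have hcR : c ∈ (R : Subgroup A) := by
        have e : c = h⁻¹ * (h * c) := by group
        rw [e]
        exact Subgroup.mul_mem _ (Subgroup.inv_mem _ (hHR hh)) hxR
      exact H.mul_mem hh (hRC (Subgroup.mem_inf.2 ⟨hcR, hc⟩))
    have hEq : H = (R : Subgroup A) ⊓ N := le_antisymm (le_inf hHR hHN) hRN
    rw [hEq, Subgroup.inf_relIndex_right]
    exact Cfsg.Agent.Lib.Coprime.sylow_relIndex_normal_not_dvd R N

end abstract

/-- Let P be a Sylow p-subgroup of the finite group G and H ≤ P a subgroup with N_P(H) a Sylow p-subgroup of N_G(H). Let N be the preimage in N_G(H) of O_p(N_G(H)/C_G(H)). Then H is a Sylow p-subgroup of N if and only if C_P(H) ≤ H and O_{p',p}(N_G(H)) = H·C_G(H). -/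
theorem result {G : Type*} [Group G] [Finite G] {p : ℕ} [Fact p.Prime]
    (P : Sylow p G) (H : Subgroup G) (hHP : H ≤ (P : Subgroup G))
    (hSyl : ¬ p ∣ ((P : Subgroup G) ⊓ Subgroup.normalizer (H : Set G)).relIndex (Subgroup.normalizer (H : Set G)))
    [hC : ((Subgroup.centralizer (H : Set G)).subgroupOf (Subgroup.normalizer (H : Set G))).Normal] :
    (H ≤ ((Cfsg.pCore p (↥(Subgroup.normalizer (H : Set G)) ⧸
              (Subgroup.centralizer (H : Set G)).subgroupOf (Subgroup.normalizer (H : Set G)))).comap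
            (QuotientGroup.mk' _)).map (Subgroup.normalizer (H : Set G)).subtype ∧
      ¬ p ∣ H.relIndex (((Cfsg.pCore p (↥(Subgroup.normalizer (H : Set G)) ⧸
              (Subgroup.centralizer (H : Set G)).subgroupOf (Subgroup.normalizer (H : Set G)))).comap
            (QuotientGroup.mk' _)).map (Subgroup.normalizer (H : Set G)).subtype)) ↔
    ((P : Subgroup G) ⊓ Subgroup.centralizer (H : Set G) ≤ H ∧
      (Cfsg.pPrimePCore p ↥(Subgroup.normalizer (H : Set G))).map (Subgroup.normalizer (H : Set G)).subtype =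
        H ⊔ Subgroup.centralizer (H : Set G)) := by
  classical
  have hCA : centralizer (H : Set G) ≤ normalizer (H : Set G) := Subgroup.centralizer_le_normalizer _
  have hHA : H ≤ normalizer (H : Set G) := le_normalizer
  let A := normalizer (H : Set G)
  let H' : Subgroup A := H.subgroupOf A
  let C' : Subgroup A := (centralizer (H : Set G)).subgroupOf A
  have hH'n : H'.Normal := (Subgroup.normal_subgroupOf_iff_le_normalizer hHA).2 le_rfl
  have hHp : IsPGroup p H := P.isPGroup'.to_le hHP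
  have hHp' : IsPGroup p H' := hHp.comap_of_injective A.subtype A.subtype_injective
  have hC' : C' = centralizer (H' : Set A) := by
    ext x
    rw [Subgroup.mem_subgroupOf, mem_centralizer_iff, mem_centralizer_iff]
    constructor
    · intro h1 y hy
      exact Subtype.ext (h1 y (Subgroup.mem_subgroupOf.1 hy))
    · intro h1 y hy
      exact congrArg Subtype.val (h1 ⟨y, hHA hy⟩ (Subgroup.mem_subgroupOf.2 hy))
  have hR₀p : IsPGroup p (((P : Subgroup G) ⊓ normalizer (H : Set G)).subgroupOf A) :=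
    (P.isPGroup'.to_le inf_le_left).comap_of_injective A.subtype A.subtype_injective
  let R : Sylow p A := hR₀p.toSylow hSyl
  have hRmem : ∀ x : A, x ∈ (R : Subgroup A) ↔ (x : G) ∈ (P : Subgroup G) := by
    intro x
    show x ∈ ((P : Subgroup G) ⊓ normalizer (H : Set G)).subgroupOf A ↔ _
    rw [Subgroup.mem_subgroupOf, Subgroup.mem_inf]
    exact ⟨fun h => h.1, fun h => ⟨h, x.2⟩⟩
  have hHR : H' ≤ (R : Subgroup A) := by
    intro x hx
    rw [hRmem]
    exact hHP (Subgroup.mem_subgroupOf.1 hx)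
  have key := @abstract_iff A _ _ p _ H' C' hH'n hC hHp' hC' R hHR
  set N' := preP p C' with hN'
  have hmapH : H'.map A.subtype = H := by
    rw [Subgroup.subgroupOf_map_subtype]
    exact inf_eq_left.2 hHA
  have hmapC : C'.map A.subtype = centralizer (H : Set G) := by
    rw [Subgroup.subgroupOf_map_subtype]
    exact inf_eq_left.2 hCA
  have hHN' : H ≤ N'.map A.subtype := by
    have h1 : H' ≤ N' := normal_pGroup_le_preP C' H' hH'n hHp'
    rw [← hmapH]
    exact Subgroup.map_mono h1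
  have hrel : H.relIndex (N'.map A.subtype) = H'.relIndex N' := (Subgroup.relIndex_comap H A.subtype N').symm
  show (H ≤ N'.map A.subtype ∧ ¬ p ∣ H.relIndex (N'.map A.subtype)) ↔ _
  rw [hrel]
  constructor
  · rintro ⟨_, h2⟩
    obtain ⟨h3, h4⟩ := key.1 h2
    constructor
    · intro x hx
      obtain ⟨hxP, hxC⟩ := Subgroup.mem_inf.1 hx
      have h5 : (⟨x, hCA hxC⟩ : A) ∈ (R : Subgroup A) ⊓ C' :=
        Subgroup.mem_inf.2 ⟨(hRmem _).2 hxP, Subgroup.mem_subgroupOf.2 hxC⟩
      exact Subgroup.mem_subgroupOf.1 (h3 h5)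
    · rw [h4, Subgroup.map_sup, hmapH, hmapC]
  · rintro ⟨h3, h4⟩
    refine ⟨hHN', key.2 ⟨?_, ?_⟩⟩
    · intro x hx
      obtain ⟨hxR, hxC⟩ := Subgroup.mem_inf.1 hx
      exact Subgroup.mem_subgroupOf.2 (h3 (Subgroup.mem_inf.2 ⟨(hRmem x).1 hxR, Subgroup.mem_subgroupOf.1 hxC⟩))
    · apply Subgroup.map_injective A.subtype_injective
      rw [h4, Subgroup.map_sup, hmapH, hmapC]

end Cfsg.Agent.S3076
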