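import Cfsg.Statements.S2972
import Cfsg.Agent.S3076
import Cfsg.Agent.Lib.LocalEven2.ZStar
import Cfsg.Agent.Lib.Coprime.Action
import Cfsg.Agent.Lib.Basic.MinNormal
import Cfsg.Agent.Lib.PGroups.Parts
-- import your own Cfsg.Agent.* helpers here

set_option autoImplicit false
open Cfsg

namespace Cfsg.Agent.S2972

open Cfsg.Agent.Lib.LocalEven2 Cfsg.Agent.Lib.Coprime Cfsg.Agent.Lib.Basic Subgroup

set_option linter.unusedSectionVars false
set_option linter.style.haveILetI false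
set_option linter.unusedVariables false

variable {G : Type*} [Group G] [Finite G] {p : ℕ} [Fact p.Prime]

theorem normalClosure_eq_top {x : G} (hiso : Cfsg.IsIsolated x)
    (hmin : ∀ (H : Subgroup G) (hxH : x ∈ H), H ≠ ⊤ → Cfsg.InZStar p (⟨x, hxH⟩ : ↥H))
    (hbot : pPrimeCore p G = ⊥) (hnc : ¬ ∀ g : G, g * x * g⁻¹ = x) :
    Subgroup.normalClosure ({x} : Set G) = ⊤ := by
  by_contra hne
  set X := Subgroup.normalClosure ({x} : Set G) with hX
  have hXn : X.Normal := Subgroup.normalClosure_normal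
  have hxX : x ∈ X := Subgroup.subset_normalClosure rfl
  have hz := hmin X hxX hne
  rw [Cfsg.InZStar, pPrimeCore_subgroup_eq_bot hbot hXn] at hz
  apply hnc
  intro g
  apply hiso g
  have hmem : g * x * g⁻¹ ∈ X := hXn.conj_mem x hxX g
  have h1 := hz ⟨g * x * g⁻¹, hmem⟩
  have h2 : (g * x * g⁻¹) * x * (g * x * g⁻¹)⁻¹ * x⁻¹ = 1 := by
    simpa using congrArg Subtype.val (Subgroup.mem_bot.1 h1)
  have h3 : (g * x * g⁻¹) * x = x * (g * x * g⁻¹) := by
    have h4 : (g * x * g⁻¹) * x * (g * x * g⁻¹)⁻¹ = x := by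
      calc (g * x * g⁻¹) * x * (g * x * g⁻¹)⁻¹
          = ((g * x * g⁻¹) * x * (g * x * g⁻¹)⁻¹ * x⁻¹) * x := by group
        _ = x := by rw [h2, one_mul]
    calc (g * x * g⁻¹) * x = ((g * x * g⁻¹) * x * (g * x * g⁻¹)⁻¹) * (g * x * g⁻¹) := by group
      _ = x * (g * x * g⁻¹) := by rw [h4]
  exact h3.symm

theorem dvd_card_of_normal (hbot : pPrimeCore p G = ⊥) {N : Subgroup G} (hN : N.Normal) (hne : N ≠ ⊥) :
    p ∣ Nat.card N := by
  by_contra h
  have hp : p.Prime := Fact.out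
  have h1 : N ≤ pPrimeCore p G := le_pPrimeCore hN ((Nat.Prime.coprime_iff_not_dvd hp).2 h).symm
  rw [hbot, le_bot_iff] at h1
  exact hne h1

/-- Step `G = N ⟨x⟩`. -/
theorem sup_zpowers_eq_top {x : G} (hiso : Cfsg.IsIsolated x) (hnz : ¬ Cfsg.InZStar p x)
    (hmin : ∀ (H : Subgroup G) (hxH : x ∈ H), H ≠ ⊤ → Cfsg.InZStar p (⟨x, hxH⟩ : ↥H))
    (hquot : ∀ (N : Subgroup G) [N.Normal], N ≠ ⊥ → Cfsg.InZStar p (QuotientGroup.mk x : G ⧸ N))
    (hbot : pPrimeCore p G = ⊥) (hcl : Subgroup.normalClosure ({x} : Set G) = ⊤)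
    (hnc : ¬ ∀ g : G, g * x * g⁻¹ = x)
    {N : Subgroup G} (hN : IsMinNormal N) : N ⊔ Subgroup.zpowers x = ⊤ := by
  classical
  by_contra hne
  obtain ⟨hNn, hNb, hNm⟩ := hN
  haveI := hNn
  set H := N ⊔ Subgroup.zpowers x with hH
  have hNH : N ≤ H := le_sup_left
  have hxH : x ∈ H := (le_sup_right : Subgroup.zpowers x ≤ H) (Subgroup.mem_zpowers x)
  have hz := hmin H hxH hne
  -- `x` centralizes `N`.
  have hcomm : ∀ n ∈ N, n * x * n⁻¹ = x := by
    intro n hn
    have h1 := hz ⟨n, hNH hn⟩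
    have h2 : n * x * n⁻¹ * x⁻¹ ∈ coreIn p H := ⟨_, h1, rfl⟩
    have h3 : n * x * n⁻¹ * x⁻¹ ∈ N := by
      have e : n * x * n⁻¹ * x⁻¹ = n * (x * n⁻¹ * x⁻¹) := by group
      rw [e]
      exact N.mul_mem hn (hNn.conj_mem _ (N.inv_mem hn) x)
    have h4 := inf_coreIn_eq_bot hbot hNn hNH h3 h2
    calc n * x * n⁻¹ = (n * x * n⁻¹ * x⁻¹) * x := by group
      _ = x := by rw [h4, one_mul]
  -- `N` is central.
  have hxC : x ∈ centralizer (N : Set G) := by
    rw [mem_centralizer_iff]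
    intro n hn
    calc n * x = (n * x * n⁻¹) * n := by group
      _ = x * n := by rw [hcomm n hn]
  have hCn : (centralizer (N : Set G)).Normal := inferInstance
  have hcen : ∀ g : G, g ∈ centralizer (N : Set G) := by
    intro g
    have h1 : Subgroup.normalClosure ({x} : Set G) ≤ centralizer (N : Set G) :=
      Subgroup.normalClosure_le_normal (by simpa using hxC)
    rw [hcl] at h1
    exact h1 (Subgroup.mem_top g)
  -- `N` has order `p`.
  have hdvd := dvd_card_of_normal hbot hNn hNb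
  obtain ⟨c, hc⟩ := exists_prime_orderOf_dvd_card' (G := N) p hdvd
  have hc' : orderOf (c : G) = p := by rw [Subgroup.orderOf_coe, hc]
  have hZn : (Subgroup.zpowers (c : G)).Normal := by
    refine ⟨fun y hy g => ?_⟩
    obtain ⟨k, rfl⟩ := Subgroup.mem_zpowers_iff.1 hy
    have e : g * (c : G) ^ k * g⁻¹ = (c : G) ^ k := by
      have h1 : g * (c : G) = (c : G) * g := (mem_centralizer_iff.1 (hcen g) _ c.2).symm ▸ rfl
      have h2 : Commute g (c : G) := h1
      rw [(h2.zpow_right k).eq]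
      group
    rw [e]
    exact hy
  have hp : p.Prime := Fact.out
  have hZbot : Subgroup.zpowers (c : G) ≠ ⊥ := by
    intro e
    rw [Subgroup.zpowers_eq_bot] at e
    rw [e, orderOf_one] at hc'
    exact hp.one_lt.ne hc'
  have hZN : Subgroup.zpowers (c : G) = N := by
    rcases hNm _ hZn ((Subgroup.zpowers_le).2 c.2) with h | h
    · exact absurd h hZbot
    · exact h
  have hNp : IsPGroup p N := by
    rw [← hZN]
    exact isPGroup_zpowers ⟨1, by simpa using hc'⟩
  -- the preimage of the `p'`-core.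
  set C := (pPrimeCore p (G ⧸ N)).comap (QuotientGroup.mk' N) with hCdef
  have hCC : C.Normal := Subgroup.Normal.comap (Cfsg.Agent.Lib.Basic.pPrimeCore_normal (G := G ⧸ N) p) _
  have hi : ¬ p ∣ N.relIndex C := by
    rw [hCdef, relIndex_comap_pPrimeCore]
    intro hd
    have := Nat.Coprime.eq_one_of_dvd (pPrimeCore_coprime (G := G ⧸ N) p).symm hd
    exact hp.one_lt.ne' this
  have hle := Cfsg.Agent.S3076.le_sup_pPrimeCore_of_central N C hNp (fun g _ => hcen g) hi
  rw [hbot, sup_bot_eq] at hle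
  apply hnc
  intro g
  have h1 : g * x * g⁻¹ * x⁻¹ ∈ N := by
    apply hle
    have h2 := hquot N hNb (QuotientGroup.mk g)
    rw [hCdef, Subgroup.mem_comap]
    simpa using h2
  apply hiso g
  set z := g * x * g⁻¹ * x⁻¹ with hz'
  have e : g * x * g⁻¹ = z * x := by rw [hz']; group
  rw [e]
  have hzc : x * z = z * x := mem_centralizer_iff.1 (hcen x) z h1 ▸ rfl
  calc x * (z * x) = (x * z) * x := by group
    _ = (z * x) * x := by rw [hzc]

/-- A minimal normal subgroup cannot be abelian. -/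
theorem not_comm_of_minNormal {x : G} (hiso : Cfsg.IsIsolated x) (hbot : pPrimeCore p G = ⊥)
    (hnc : ¬ ∀ g : G, g * x * g⁻¹ = x) (hx : orderOf x = p)
    {N : Subgroup G} (hN : IsMinNormal N) (hsup : N ⊔ Subgroup.zpowers x = ⊤) :
    ¬ IsMulCommutative ↥N := by
  intro hcomm
  obtain ⟨hNn, hNb, hNm⟩ := hN
  haveI := hNn
  have hdvd := dvd_card_of_normal hbot hNn hNb
  obtain ⟨c, hc⟩ := exists_prime_orderOf_dvd_card' (G := N) p hdvd
  have hc' : orderOf (c : G) = p := by rw [Subgroup.orderOf_coe, hc]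
  have hp : p.Prime := Fact.out
  have hT : torsionSubgroupOf N p = N := by
    have hn : (torsionSubgroupOf N p).Normal := torsionSubgroupOf_normal p
    rcases hNm _ hn (fun y hy => hy.1) with h | h
    · exfalso
      have h1 : (c : G) ∈ torsionSubgroupOf N p := ⟨c.2, by rw [← hc', pow_orderOf_eq_one]⟩
      rw [h] at h1
      have h2 : (c : G) = 1 := Subgroup.mem_bot.1 h1
      rw [h2, orderOf_one] at hc'
      exact hp.one_lt.ne hc'
    · exact h
  have hNp : IsPGroup p N := by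
    intro y
    refine ⟨1, ?_⟩
    have h1 : (y : G) ∈ torsionSubgroupOf N p := by rw [hT]; exact y.2
    apply Subtype.ext
    simpa using h1.2
  have hxp : IsPGroup p (Subgroup.zpowers x) := isPGroup_zpowers ⟨1, by simpa using hx⟩
  have hsupp : IsPGroup p ↥(N ⊔ Subgroup.zpowers x) := hNp.to_sup_of_normal_left hxp
  rw [hsup] at hsupp
  apply hnc
  intro g
  have h1 := commute_of_isIsolated hiso hsupp (Subgroup.mem_top x) (Subgroup.mem_top g)
  rw [h1.eq]
  group

/-- Every minimal normal subgroup of `N` is all of `N`. -/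
theorem minNormal_eq_top {x : G} (hiso : Cfsg.IsIsolated x) (hbot : pPrimeCore p G = ⊥)
    (hx : orderOf x = p)
    {N : Subgroup G} (hN : IsMinNormal N) (hsup : N ⊔ Subgroup.zpowers x = ⊤)
    {K₀ : Subgroup ↥N} (hK₀ : IsMinNormal K₀) : K₀ = ⊤ := by
  classical
  obtain ⟨hNn, hNb, hNm⟩ := hN
  haveI := hNn
  obtain ⟨hKn, hKb, hKm⟩ := hK₀
  haveI := hKn
  have hcoreN := pPrimeCore_subgroup_eq_bot hbot hNn
  have hdvd := dvd_card_of_normal hcoreN hKn hKb
  obtain ⟨c₀, hc₀⟩ := exists_prime_orderOf_dvd_card' (G := K₀) p hdvd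
  set c : G := ((c₀ : ↥N) : G) with hc
  have hcord : orderOf c = p := by
    rw [hc, Subgroup.orderOf_coe, Subgroup.orderOf_coe, hc₀]
  have hxp : ∃ k, orderOf x = p ^ k := ⟨1, by simpa using hx⟩
  have hcp : ∃ k, orderOf c = p ^ k := ⟨1, by simpa using hcord⟩
  obtain ⟨m, -, T, hT, -, hxT, hmc⟩ := exists_conj_common_of_pElement (M := ⊤) hxp hcp
    (Subgroup.mem_top x) (Subgroup.mem_top c)
  have hcomm := commute_of_isIsolated hiso hT hxT hmc
  -- decompose `m⁻¹`
  have hnorm : Subgroup.zpowers x ≤ normalizer (N : Set G) := by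
    rw [(Subgroup.normalizer_eq_top_iff).2 hNn]
    exact le_top
  obtain ⟨k, hk, y, hy, hm⟩ := (mem_sup_iff_of_le_normalizer hnorm m⁻¹).1 (by rw [hsup]; exact Subgroup.mem_top _)
  obtain ⟨j, rfl⟩ := Subgroup.mem_zpowers_iff.1 hy
  have hmeq : m = x ^ (-j) * k⁻¹ := by
    have : m = (m⁻¹)⁻¹ := by group
    rw [this, hm]
    simp
  -- the conjugate `c'`
  set n : ↥N := ⟨k⁻¹, N.inv_mem hk⟩ with hn
  set c₁ : ↥N := n * (c₀ : ↥N) * n⁻¹ with hc₁
  have hc₁K : c₁ ∈ K₀ := hKn.conj_mem _ c₀.2 n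
  have hc₁ne : c₁ ≠ 1 := by
    intro e
    have h1 : (c₀ : ↥N) = 1 := by
      have e2 : (c₀ : ↥N) = n⁻¹ * c₁ * n := by rw [hc₁]; group
      rw [e2, e]; group
    have h2 : c = 1 := by rw [hc, h1]; rfl
    rw [h2, orderOf_one] at hcord
    exact (Fact.out : p.Prime).one_lt.ne hcord
  have hc₁G : ((c₁ : ↥N) : G) = k⁻¹ * c * k := by
    simp [hc₁, hn, hc]
  have hxc₁ : x * ((c₁ : ↥N) : G) * x⁻¹ = ((c₁ : ↥N) : G) := by
    have e1 : m * c * m⁻¹ = x ^ (-j) * ((c₁ : ↥N) : G) * (x ^ (-j))⁻¹ := by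
      rw [hmeq, hc₁G]; group
    rw [e1] at hcomm
    have h3 : Commute (x ^ (-j)) x := (Commute.refl x).zpow_left _
    have h4 : ((c₁ : ↥N) : G) * x = x * ((c₁ : ↥N) : G) := by
      have h5 := hcomm.eq
      have h6 : x ^ (-j) * (((c₁ : ↥N) : G) * x) * (x ^ (-j))⁻¹ = x ^ (-j) * (x * ((c₁ : ↥N) : G)) * (x ^ (-j))⁻¹ := by
        calc x ^ (-j) * (((c₁ : ↥N) : G) * x) * (x ^ (-j))⁻¹
            = x ^ (-j) * ((c₁ : ↥N) : G) * (x * (x ^ (-j))⁻¹) := by group
          _ = x ^ (-j) * ((c₁ : ↥N) : G) * ((x ^ (-j))⁻¹ * x) := by rw [(h3.inv_left).eq]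
          _ = x ^ (-j) * ((c₁ : ↥N) : G) * (x ^ (-j))⁻¹ * x := by group
          _ = x * (x ^ (-j) * ((c₁ : ↥N) : G) * (x ^ (-j))⁻¹) := h5
          _ = (x * x ^ (-j)) * (((c₁ : ↥N) : G) * (x ^ (-j))⁻¹) := by group
          _ = (x ^ (-j) * x) * (((c₁ : ↥N) : G) * (x ^ (-j))⁻¹) := by rw [h3.eq]
          _ = x ^ (-j) * (x * ((c₁ : ↥N) : G)) * (x ^ (-j))⁻¹ := by group
      exact mul_left_cancel (mul_right_cancel h6)
    calc x * ((c₁ : ↥N) : G) * x⁻¹ = (x * ((c₁ : ↥N) : G)) * x⁻¹ := rfl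
      _ = (((c₁ : ↥N) : G) * x) * x⁻¹ := by rw [h4]
      _ = _ := by group
  -- the automorphism
  let φ : MulAut ↥N := MulAut.conjNormal x
  have hφ : ∀ z : ↥N, ((φ z : ↥N) : G) = x * (z : G) * x⁻¹ := fun z => MulAut.conjNormal_apply x z
  set K₁ : Subgroup ↥N := K₀.map φ.toMonoidHom with hK₁
  have hK₁n : K₁.Normal := Subgroup.Normal.map hKn _ φ.surjective
  have hinf : K₀ ⊓ K₁ = K₀ := by
    rcases hKm (K₀ ⊓ K₁) (by haveI := hKn; haveI := hK₁n; infer_instance) inf_le_left with h | h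
    · exfalso
      have h1 : c₁ ∈ K₀ ⊓ K₁ := by
        refine ⟨hc₁K, ⟨c₁, hc₁K, ?_⟩⟩
        apply Subtype.ext
        exact (hφ c₁).trans hxc₁
      rw [h] at h1
      exact hc₁ne (Subgroup.mem_bot.1 h1)
    · exact h
  have hle : K₀ ≤ K₁ := inf_eq_left.1 hinf
  have hcard : Nat.card K₁ = Nat.card K₀ := Subgroup.card_map_of_injective φ.injective
  have hK₁eq : K₀ = K₁ := Subgroup.eq_of_le_of_card_ge hle hcard.le
  -- `K` is normal in `G`
  set K : Subgroup G := K₀.map N.subtype with hK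
  have hKnorm : normalizer (K : Set G) = ⊤ := by
    rw [eq_top_iff, ← hsup]
    apply sup_le
    · intro n hn
      apply Cfsg.Agent.Lib.PGroups.mem_normalizer_of_conj_le'
      rintro w ⟨w₀, hw₀, rfl⟩
      refine ⟨⟨n, hn⟩ * w₀ * (⟨n, hn⟩ : ↥N)⁻¹, hKn.conj_mem _ hw₀ _, ?_⟩
      simp
    · apply (Subgroup.zpowers_le).2
      apply Cfsg.Agent.Lib.PGroups.mem_normalizer_of_conj_le'
      rintro w ⟨w₀, hw₀, rfl⟩
      have h1 : φ w₀ ∈ K₁ := ⟨w₀, hw₀, rfl⟩
      rw [← hK₁eq] at h1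
      exact ⟨φ w₀, h1, hφ w₀⟩
  have hKG : K.Normal := (Subgroup.normalizer_eq_top_iff).1 hKnorm
  rcases hNm K hKG (Subgroup.map_subtype_le _) with h | h
  · exfalso
    rw [hK, Subgroup.map_eq_bot_iff_of_injective _ N.subtype_injective] at h
    exact hKb h
  · apply Subgroup.map_injective N.subtype_injective
    rw [← hK, h]
    ext z
    simp

/-- Let G be a finite group, p a prime and x ∈ G an isolated element of order p (the only conjugate of x commuting with x is x) which is not central modulo the largest normal subgroup of order prime to p, while x is central modulo the largest normal subgroup of order prime to p in every proper subgroup containing x, and the image of x is so in every quotient of G by a nontrivial normal subgroup (a minimal counterexample to the Z*_p statement). Then the derived subgroup G' is a non-abelian simple group and G = G'⟨x⟩. -/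
theorem result {G : Type*} [Group G] [Finite G] {p : ℕ} [Fact p.Prime] (x : G) (hx : orderOf x = p) (hiso : Cfsg.IsIsolated x) (hnz : ¬ Cfsg.InZStar p x) (hmin : ∀ (H : Subgroup G) (hxH : x ∈ H), H ≠ ⊤ → Cfsg.InZStar p (⟨x, hxH⟩ : ↥H)) (hquot : ∀ (N : Subgroup G) [N.Normal], N ≠ ⊥ → Cfsg.InZStar p (QuotientGroup.mk x : G ⧸ N)) : IsSimpleGroup ↥(commutator G) ∧ ¬ IsMulCommutative ↥(commutator G) ∧ commutator G ⊔ Subgroup.zpowers x = ⊤ := by
  classical
  have hp : p.Prime := Fact.out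
  have hbot := pPrimeCore_eq_bot_of_min hnz hquot
  have hx1 : x ≠ 1 := by
    intro e
    rw [e, orderOf_one] at hx
    exact hp.one_lt.ne hx
  haveI : Nontrivial G := ⟨⟨x, 1, hx1⟩⟩
  have hnc : ¬ ∀ g : G, g * x * g⁻¹ = x := by
    intro h
    apply hnz
    intro g
    rw [h g, mul_inv_cancel]
    exact Subgroup.one_mem _
  have hcl := normalClosure_eq_top hiso hmin hbot hnc
  obtain ⟨N, hN⟩ := exists_isMinNormal (G := G)
  have hsup := sup_zpowers_eq_top hiso hnz hmin hquot hbot hcl hnc hN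
  have hnab := not_comm_of_minNormal hiso hbot hnc hx hN hsup
  obtain ⟨hNn, hNb, hNm⟩ := id hN
  haveI := hNn
  have hle : commutator G ≤ N := by
    apply Subgroup.Normal.commutator_le_of_self_sup_commutative_eq_top hsup
    infer_instance
  have hge : N ≤ commutator G := by
    have hcn : (⁅N, N⁆ : Subgroup G).Normal := inferInstance
    rcases hNm _ hcn (Subgroup.commutator_le_left N N) with h | h
    · exfalso
      apply hnab
      have h1 : N ≤ centralizer (N : Set G) := (Subgroup.commutator_eq_bot_iff_le_centralizer).1 h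
      refine ⟨⟨fun a b => Subtype.ext ?_⟩⟩
      exact (mem_centralizer_iff.1 (h1 b.2) a a.2)
    · rw [← h, commutator_def]
      exact Subgroup.commutator_mono le_top le_top
  have heq : commutator G = N := le_antisymm hle hge
  rw [heq]
  refine ⟨?_, hnab, hsup⟩
  have hnt : Nontrivial ↥N := (Subgroup.nontrivial_iff_ne_bot N).2 hNb
  refine ⟨?_⟩
  intro H hH
  by_cases hb : H = ⊥
  · exact Or.inl hb
  · right
    obtain ⟨M, hM, hMH⟩ := exists_isMinNormal_le hH hb
    have h1 := minNormal_eq_top hiso hbot hx hN hsup hM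
    rw [h1] at hMH
    exact top_le_iff.1 hMH

end Cfsg.Agent.S2972
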