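import Cfsg.Statements.S3049
import Cfsg.Agent.Lib.Components.Layer
import Cfsg.Agent.Lib.Components.PComp2
import Cfsg.Agent.Lib.Components.RankTwo
import Cfsg.Agent.Lib.OddLocal.PGroup
import Cfsg.Agent.Lib.Transfer.Frobenius
import Cfsg.Agent.Lib.LocalEven2.Sylow
import Cfsg.Agent.Lib.LocalEven2.GT1
import Cfsg.Agent.Lib.Basic.Misc2
import Cfsg.Agent.Lib.PGroups.Parts
-- import your own Cfsg.Agent.* helpers here

set_option autoImplicit false
open Cfsg

namespace Cfsg.Agent.S3049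

open Subgroup Cfsg Cfsg.Agent.Lib.Components

variable {G : Type*} [Group G] [Finite G] {p : ℕ} [hpf : Fact p.Prime]

/-- An isolated element is central in every `p`-subgroup containing it. -/
theorem iso_central {x : G} (hiso : IsIsolated x) {S : Subgroup G} (hS : IsPGroup p S) (hx : x ∈ S) :
    ∀ s ∈ S, s * x = x * s := by
  set T := S ⊓ centralizer ({x} : Set G) with hT
  have hxT : x ∈ T := ⟨hx, mem_centralizer_singleton_iff.mpr rfl⟩
  by_cases hTS : T = S
  · intro s hs
    have h1 : s ∈ T := by rw [hTS]; exact hs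
    exact mem_centralizer_singleton_iff.mp h1.2
  exfalso
  have hlt : T < S := lt_of_le_of_ne inf_le_left hTS
  obtain ⟨s, hs, hsT⟩ := SetLike.exists_of_lt (Cfsg.Agent.Lib.LocalEven2.lt_inf_normalizer_of_lt hS hlt)
  have h1 : s * x * s⁻¹ ∈ T := (mem_normalizer_iff.mp hs.2 x).mp hxT
  have h2 : s * x * s⁻¹ * x = x * (s * x * s⁻¹) := mem_centralizer_singleton_iff.mp h1.2
  have h3 := hiso s (Commute.symm h2)
  apply hsT
  refine ⟨hs.1, mem_centralizer_singleton_iff.mpr ?_⟩
  exact mul_inv_eq_iff_eq_mul.mp h3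

theorem card_mul_le_of_lt {H K : Subgroup G} (hK : IsPGroup p K) (h : H < K) :
    p * Nat.card H ≤ Nat.card K := by
  have hp : p.Prime := hpf.out
  obtain ⟨n, hn⟩ := hK.exists_card_eq
  have hd : Nat.card H ∣ Nat.card K := Subgroup.card_dvd_of_le h.le
  rw [hn] at hd
  obtain ⟨m, hm, e⟩ := (Nat.dvd_prime_pow hp).mp hd
  have hmn : m ≠ n := by
    rintro rfl
    apply h.ne
    apply Subgroup.eq_of_le_of_card_ge h.le
    rw [hn, e]
  have hlt : m + 1 ≤ n := by omega
  rw [hn, e, ← pow_succ']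
  exact Nat.pow_le_pow_right hp.pos hlt

omit [Finite G] in
theorem ea_zpowers {u : G} (hu : u ^ p = 1) : IsElementaryAbelian p (zpowers u) := by
  refine ⟨inferInstance, ?_⟩
  rintro _ ⟨k, rfl⟩
  show (u ^ k) ^ p = 1
  rw [← zpow_natCast, zpow_comm, zpow_natCast, hu, one_zpow]

omit [Finite G] in
theorem zpowers_commute {u v : G} (h : u * v = v * u) :
    ∀ a ∈ zpowers u, ∀ b ∈ zpowers v, a * b = b * a := by
  rintro _ ⟨i, rfl⟩ _ ⟨j, rfl⟩
  exact (Commute.zpow_zpow h i j)

/-- The basic rank computation. -/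
theorem rank_two (hrank : PRankLE p 2 G) {u v w : G} (hu1 : u ≠ 1) (hu : u ^ p = 1) (hv : v ^ p = 1)
    (hw : w ^ p = 1) (huv : u * v = v * u) (huw : u * w = w * u) (hvw : v * w = w * v)
    (hvn : v ∉ zpowers u) : w ∈ zpowers u ⊔ zpowers v := by
  by_contra hwn
  have hp : p.Prime := hpf.out
  have e1 := Cfsg.Agent.Lib.Components.ea_sup (ea_zpowers (p := p) hu) (ea_zpowers (p := p) hv) (zpowers_commute huv)
  have e2 := Cfsg.Agent.Lib.Components.ea_sup e1 (ea_zpowers (p := p) hw) (by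
    intro a ha b hb
    have hle : zpowers u ⊔ zpowers v ≤ centralizer (zpowers w : Set G) := by
      refine sup_le ?_ ?_
      · intro c hc
        rw [mem_centralizer_iff]
        intro d hd
        exact (zpowers_commute huw c hc d hd).symm
      · intro c hc
        rw [mem_centralizer_iff]
        intro d hd
        exact (zpowers_commute hvw c hc d hd).symm
    exact ((mem_centralizer_iff.mp (hle ha)) b hb).symm)
  have hcard := hrank _ e2.1 e2.2
  have hpg := Cfsg.Agent.Lib.Components.isPGroup_of_ea e2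
  have h1 : zpowers u < zpowers u ⊔ zpowers v :=
    lt_of_le_of_ne le_sup_left (fun h => hvn (by
      rw [h]; exact (le_sup_right : zpowers v ≤ zpowers u ⊔ zpowers v) (mem_zpowers v)))
  have h2 : zpowers u ⊔ zpowers v < zpowers u ⊔ zpowers v ⊔ zpowers w :=
    lt_of_le_of_ne le_sup_left (fun h => hwn (by
      rw [h]; exact (le_sup_right : zpowers w ≤ zpowers u ⊔ zpowers v ⊔ zpowers w) (mem_zpowers w)))
  have h3 := card_mul_le_of_lt hpg h2
  have h4 := card_mul_le_of_lt (hpg.to_le h2.le) (by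
    exact h1)
  have h5 : Nat.card (zpowers u) = p := by
    rw [Nat.card_zpowers, orderOf_eq_prime hu hu1]
  rw [h5] at h4
  have h6 : p * (p * p) ≤ p ^ 2 := by
    calc p * (p * p) ≤ p * Nat.card ↥(zpowers u ⊔ zpowers v) := Nat.mul_le_mul_left _ h4
      _ ≤ _ := h3
      _ ≤ p ^ 2 := hcard
  have h7 : 0 < p * p := by positivity [hp.pos]
  nlinarith [hp.two_le]

/-- Lemma Z: no fusion of elements of order `p` by `p'`-elements implies `p`-nilpotence. -/
theorem npc_of_no_fusion (hp : p ≠ 2) {H : Type*} [Group H] [Finite H] (S : Sylow p H)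
    (h : ∀ g : H, (orderOf g).Coprime p → ∀ y ∈ (S : Subgroup H), y ^ p = 1 →
      g * y * g⁻¹ ∈ (S : Subgroup H) → g * y * g⁻¹ = y) :
    HasNormalPComplement p H := by
  apply Cfsg.Agent.Lib.Transfer.hasNormalPComplement_of_stable
  intro D hD g hg hgc
  obtain ⟨P, hDP⟩ := hD.exists_le_sylow
  obtain ⟨c, hc⟩ := MulAction.exists_smul_eq H P S
  set g' := c * g * c⁻¹ with hg'
  have hg'c : (orderOf g').Coprime p := by
    rw [hg', Cfsg.Agent.Lib.Transfer.orderOf_conj_eq]
    exact hgc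
  set D' := D.map (MulAut.conj c).toMonoidHom with hD'
  have hD'p : IsPGroup p D' := hD.map _
  have hD'S : D' ≤ (S : Subgroup H) := by
    rintro _ ⟨d, hd, rfl⟩
    rw [← hc]
    exact Cfsg.Agent.Lib.Transfer.conj_mem_smul_sylow (hDP hd)
  have hinv : ∀ y ∈ D', g' * y * g'⁻¹ ∈ D' := by
    rintro _ ⟨d, hd, rfl⟩
    refine ⟨g * d * g⁻¹, (mem_normalizer_iff.mp hg d).mp hd, ?_⟩
    simp only [MulEquiv.coe_toMonoidHom, MulAut.conj_apply, hg']
    group
  have hfix : ∀ y ∈ D', y ^ p = 1 → g' * y * g'⁻¹ = y := fun y hy hyp =>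
    h g' hg'c y (hD'S hy) hyp (hD'S (hinv y hy))
  have hall := Cfsg.Agent.Lib.OddLocal.fix_of_fix_omega p hp g' hg'c D' hD'p hinv hfix
  rw [mem_centralizer_iff]
  intro d hd
  have h1 := hall (c * d * c⁻¹) ⟨d, hd, rfl⟩
  have h2 : g * d * g⁻¹ = d := by
    have h3 : c * (g * d * g⁻¹) * c⁻¹ = c * d * c⁻¹ := by
      rw [← h1, hg']
      group
    exact mul_left_cancel (mul_right_cancel h3)
  exact (mul_inv_eq_iff_eq_mul.mp h2).symm

theorem gen_of_ne_one {u a : G} (hu : orderOf u = p) (ha : a ∈ zpowers u) (ha1 : a ≠ 1) :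
    u ∈ zpowers a := by
  have hp : p.Prime := hpf.out
  have hle : zpowers a ≤ zpowers u := by rwa [Subgroup.zpowers_le]
  have hd : orderOf a ∣ p := by rw [← hu]; exact orderOf_dvd_of_mem_zpowers ha
  have hoa : orderOf a = p := by
    rcases (Nat.dvd_prime hp).mp hd with h | h
    · exact absurd (orderOf_eq_one_iff.mp h) ha1
    · exact h
  have heq : zpowers a = zpowers u := by
    apply Subgroup.eq_of_le_of_card_ge hle
    rw [Nat.card_zpowers, Nat.card_zpowers, hu, hoa]
  rw [heq]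
  exact mem_zpowers u

/-- The `p`-core is trivial. -/
theorem core_bot (hp : p ≠ 2) (hcore : pPrimeCore p G = ⊥) (hrank : PRankLE p 2 G) {x : G}
    (hx : orderOf x = p) (hiso : IsIsolated x) (hnc : x ∉ center G) : pCore p G = ⊥ := by
  have hpp : p.Prime := hpf.out
  by_contra hQ
  have hQp : IsPGroup p (pCore p G) := pCore_isPGroup
  have hx1 : x ≠ 1 := by
    rintro rfl
    rw [orderOf_one] at hx
    exact hpp.ne_one hx.symm
  have hxp : x ^ p = 1 := by rw [← hx]; exact pow_orderOf_eq_one x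
  have hxQ : x ∉ pCore p G := by
    intro hxQ
    apply hnc
    rw [mem_center_iff]
    intro g
    have h1 : g * x * g⁻¹ ∈ pCore p G := (pCore_normal p G).conj_mem x hxQ g
    have h2 := iso_central hiso hQp hxQ _ h1
    have h3 := hiso g (Commute.symm h2)
    exact mul_inv_eq_iff_eq_mul.mp h3
  have hZp : IsPGroup p (zpowers x) := IsPGroup.of_card (n := 1) (by
    rw [Nat.card_zpowers, hx, pow_one])
  obtain ⟨S, hS⟩ := hZp.exists_le_sylow
  have hxS : x ∈ (S : Subgroup G) := hS (mem_zpowers x)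
  have hQS : pCore p G ≤ (S : Subgroup G) := Cfsg.Agent.Lib.Basic.pCore_le_sylow S
  have hcent : ∀ s ∈ (S : Subgroup G), s * x = x * s := iso_central hiso S.isPGroup' hxS
  -- the central element of the core
  set Z₁ : Subgroup G := pCore p G ⊓ centralizer (pCore p G : Set G) with hZ₁
  haveI hZ₁n : Z₁.Normal := inferInstance
  have hZ₁b : Z₁ ≠ ⊥ := by
    obtain ⟨z, hz, hz1, -, hzc⟩ := Cfsg.Agent.Lib.LocalEven2.exists_central_order_p hQp le_rfl
      Subgroup.le_normalizer hQ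
    intro h
    have : z ∈ Z₁ := ⟨hz, mem_centralizer_iff.mpr (fun t ht => hzc t ht)⟩
    rw [h, mem_bot] at this
    exact hz1 this
  have hZ₁S : Z₁ ≤ (S : Subgroup G) := inf_le_left.trans hQS
  obtain ⟨z, hzZ, hz1, hzp, hzc⟩ := Cfsg.Agent.Lib.LocalEven2.exists_central_order_p S.isPGroup' hZ₁S
    (fun s _ => (mem_normalizer_iff.mpr (fun y => by
      constructor
      · intro hy; exact hZ₁n.conj_mem y hy s
      · intro hy
        have := hZ₁n.conj_mem _ hy s⁻¹
        simpa [mul_assoc] using this))) hZ₁b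
  have hzQ : z ∈ pCore p G := hzZ.1
  have hzo : orderOf z = p := orderOf_eq_prime hzp hz1
  have hzx : z ∉ zpowers x := by
    intro hzx
    exact hxQ ((Subgroup.zpowers_le.mpr hzQ) (gen_of_ne_one hx hzx hz1))
  have hxz : x * z = z * x := (hcent z (hQS hzQ)).symm
  -- `⟨z⟩` is normal
  have hzn : (zpowers z).Normal := by
    refine ⟨fun y hy g => ?_⟩
    obtain ⟨k, rfl⟩ := Subgroup.mem_zpowers_iff.mp hy
    rw [← conj_zpow]
    refine zpow_mem ?_ k
    have h1 : g * z * g⁻¹ ∈ Z₁ := hZ₁n.conj_mem z hzZ g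
    have h2 : (g * z * g⁻¹) ^ p = 1 := by rw [conj_pow, hzp]; simp
    have h3 : z * (g * z * g⁻¹) = (g * z * g⁻¹) * z :=
      (mem_centralizer_iff.mp h1.2 z hzQ)
    have h4 := rank_two hrank (w := g * z * g⁻¹) hx1 hxp hzp h2 hxz
      (hcent _ (hZ₁S h1)).symm h3 hzx
    obtain ⟨a, ha, b, hb, e⟩ := Cfsg.Agent.Lib.Components.exists_mul_of_mem_sup_of_commutes
      (zpowers_commute hxz) h4
    have ha1 : a = 1 := by
      by_contra hane
      have h5 : a ∈ pCore p G := by
        have h6 : a = (g * z * g⁻¹) * b⁻¹ := by rw [e]; group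
        rw [h6]
        exact mul_mem h1.1 (inv_mem ((Subgroup.zpowers_le.mpr hzQ) hb))
      exact hxQ ((Subgroup.zpowers_le.mpr h5) (gen_of_ne_one hx ha hane))
    rw [e, ha1, one_mul]
    exact hb
  set C := centralizer (zpowers z : Set G) with hC
  haveI hCn : C.Normal := inferInstance
  have hSC : (S : Subgroup G) ≤ C := by
    intro s hs
    rw [hC, mem_centralizer_iff]
    rintro _ ⟨k, rfl⟩
    exact ((show Commute s z from hzc s hs).zpow_right k).symm
  have hxC : x ∈ C := hSC hxS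
  have hnpc : HasNormalPComplement p C := by
    apply npc_of_no_fusion hp (S.subtype hSC)
    rintro ⟨g, hg⟩ -  ⟨y, hy⟩ hyS hyp hgyS
    have hgz : g * z = z * g := (mem_centralizer_iff.mp hg z (mem_zpowers z)).symm
    have hyS' : y ∈ (S : Subgroup G) := hyS
    have hyp' : y ^ p = 1 := congrArg Subtype.val hyp
    have hgyS' : g * y * g⁻¹ ∈ (S : Subgroup G) := hgyS
    apply Subtype.ext
    show g * y * g⁻¹ = y
    have h1 := rank_two hrank (w := y) hx1 hxp hzp hyp' hxz (hcent y hyS').symm (hzc y hyS').symm hzx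
    obtain ⟨a, ha, b, hb, e⟩ := Cfsg.Agent.Lib.Components.exists_mul_of_mem_sup_of_commutes
      (zpowers_commute hxz) h1
    have hbg : g * b * g⁻¹ = b := by
      obtain ⟨k, rfl⟩ := Subgroup.mem_zpowers_iff.mp hb
      rw [← conj_zpow]
      congr 1
      rw [hgz]
      group
    by_cases ha1 : a = 1
    · rw [e, ha1, one_mul, hbg]
    · have hbS : b ∈ (S : Subgroup G) := by
        obtain ⟨k, rfl⟩ := Subgroup.mem_zpowers_iff.mp hb
        exact zpow_mem (hQS hzQ) k
      have h2 : (g * y * g⁻¹) * b⁻¹ = g * a * g⁻¹ := by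
        have h8 : g * y * g⁻¹ = (g * a * g⁻¹) * (g * b * g⁻¹) := by rw [e]; group
        rw [h8, hbg]
        group
      have h3 : g * a * g⁻¹ ∈ (S : Subgroup G) := by
        rw [← h2]
        exact mul_mem hgyS' (inv_mem hbS)
      obtain ⟨k, hk⟩ := Subgroup.mem_zpowers_iff.mp (gen_of_ne_one hx ha ha1)
      have h4 : g * x * g⁻¹ ∈ (S : Subgroup G) := by
        rw [← hk, ← conj_zpow]
        exact zpow_mem h3 k
      have h5 := hcent _ h4
      have h6 := hiso g (Commute.symm h5)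
      have h7 : g * a * g⁻¹ = a := by
        obtain ⟨l, rfl⟩ := Subgroup.mem_zpowers_iff.mp ha
        rw [← conj_zpow, h6]
      rw [e]
      calc g * (a * b) * g⁻¹ = (g * a * g⁻¹) * (g * b * g⁻¹) := by group
        _ = a * b := by rw [h7, hbg]
  obtain ⟨N, hNn, hNc, k, hk⟩ := Cfsg.Agent.Lib.Transfer.exists_hall_of_hasNormalPComplement hnpc
  haveI := hNn
  have hN2 : (N.map C.subtype).Normal := by
    refine ⟨?_⟩
    rintro _ ⟨y, hy, rfl⟩ g
    have h1 : Nat.Coprime (orderOf y) p :=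
      (Cfsg.Agent.Lib.Transfer.mem_iff_coprime_of_hall hNc hk y).mp hy
    have h2 : g * (y : G) * g⁻¹ ∈ C := hCn.conj_mem _ y.2 g
    refine ⟨⟨_, h2⟩, (Cfsg.Agent.Lib.Transfer.mem_iff_coprime_of_hall hNc hk _).mpr ?_, rfl⟩
    rw [Subgroup.orderOf_mk, Cfsg.Agent.Lib.Transfer.orderOf_conj_eq, Subgroup.orderOf_coe]
    exact h1
  have hN3 : N.map C.subtype ≤ pPrimeCore p G := by
    apply le_pPrimeCore hN2
    rw [Subgroup.card_map_of_injective C.subtype_injective]
    exact hNc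
  rw [hcore] at hN3
  have hNb : N = ⊥ := by
    rw [eq_bot_iff]
    intro y hy
    have : (y : G) ∈ N.map C.subtype := ⟨y, hy, rfl⟩
    have h2 := hN3 this
    rw [mem_bot] at h2
    rw [mem_bot]
    exact Subtype.ext h2
  have hCp : IsPGroup p C := by
    apply IsPGroup.of_card (n := k)
    rw [hNb, Subgroup.index_bot] at hk
    exact hk
  exact hxQ (le_pCore hCn hCp hxC)

/-- Two components are impossible. -/
theorem no_two (hp : p ≠ 2) (hrank : PRankLE p 2 G) {K₁ K₂ : Subgroup G} (hK₁ : IsComponent K₁)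
    (hK₂ : IsComponent K₂) (hne : K₁ ≠ K₂) (hs₁ : IsSimpleGroup K₁) (hp₁ : p ∣ Nat.card K₁)
    (hi : K₁ ⊓ K₂ = ⊥) {a₂ : G} (ha₂ : a₂ ∈ K₂) (ha₂o : orderOf a₂ = p) {u₁ u₂ : G} (hu₁ : u₁ ∈ K₁)
    (hu₁o : orderOf u₁ = p) (hu₂ : u₂ ∈ K₂) (hiso : IsIsolated (u₁ * u₂)) : False := by
  have hpp : p.Prime := hpf.out
  have comm : ∀ a ∈ K₁, ∀ b ∈ K₂, a * b = b * a := component_commutes hK₁ hK₂ hne
  set U : K₁ := ⟨u₁, hu₁⟩ with hU
  have hUo : orderOf U = p := by rw [hU, Subgroup.orderOf_mk]; exact hu₁o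
  have hu₁p : u₁ ^ p = 1 := by rw [← hu₁o]; exact pow_orderOf_eq_one u₁
  have ha₂p : a₂ ^ p = 1 := by rw [← ha₂o]; exact pow_orderOf_eq_one a₂
  have hu₁1 : u₁ ≠ 1 := by
    rintro rfl
    rw [orderOf_one] at hu₁o
    exact hpp.ne_one hu₁o.symm
  have ha₂1 : a₂ ≠ 1 := by
    rintro rfl
    rw [orderOf_one] at ha₂o
    exact hpp.ne_one ha₂o.symm
  have hisoU : IsIsolated U := by
    intro g hc
    have hc' : u₁ * ((g : G) * u₁ * (g : G)⁻¹) = ((g : G) * u₁ * (g : G)⁻¹) * u₁ := congrArg Subtype.val hc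
    have hg2 : (g : G) * u₂ * (g : G)⁻¹ = u₂ := by
      rw [comm _ g.2 _ hu₂]
      group
    have e : (g : G) * (u₁ * u₂) * (g : G)⁻¹ = ((g : G) * u₁ * (g : G)⁻¹) * u₂ := by
      calc (g : G) * (u₁ * u₂) * (g : G)⁻¹ = ((g : G) * u₁ * (g : G)⁻¹) * ((g : G) * u₂ * (g : G)⁻¹) := by group
        _ = _ := by rw [hg2]
    have hmem : (g : G) * u₁ * (g : G)⁻¹ ∈ K₁ := mul_mem (mul_mem g.2 hu₁) (inv_mem g.2)
    have hcom : Commute (u₁ * u₂) ((g : G) * (u₁ * u₂) * (g : G)⁻¹) := by
      rw [e]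
      show u₁ * u₂ * (((g : G) * u₁ * (g : G)⁻¹) * u₂) = ((g : G) * u₁ * (g : G)⁻¹) * u₂ * (u₁ * u₂)
      calc u₁ * u₂ * (((g : G) * u₁ * (g : G)⁻¹) * u₂)
          = u₁ * (u₂ * ((g : G) * u₁ * (g : G)⁻¹)) * u₂ := by group
        _ = u₁ * (((g : G) * u₁ * (g : G)⁻¹) * u₂) * u₂ := by rw [comm _ hmem _ hu₂]
        _ = (u₁ * ((g : G) * u₁ * (g : G)⁻¹)) * u₂ * u₂ := by group
        _ = (((g : G) * u₁ * (g : G)⁻¹) * u₁) * u₂ * u₂ := by rw [hc']
        _ = ((g : G) * u₁ * (g : G)⁻¹) * (u₁ * u₂) * u₂ := by group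
        _ = ((g : G) * u₁ * (g : G)⁻¹) * (u₂ * u₁) * u₂ := by rw [comm _ hu₁ _ hu₂]
        _ = _ := by group
    have h3 := hiso (g : G) hcom
    rw [e] at h3
    apply Subtype.ext
    exact mul_right_cancel h3
  have hZp : IsPGroup p (zpowers U) := IsPGroup.of_card (n := 1) (by
    rw [Nat.card_zpowers, hUo, pow_one])
  obtain ⟨S₁, hS₁⟩ := hZp.exists_le_sylow
  have hUS : U ∈ (S₁ : Subgroup K₁) := hS₁ (mem_zpowers U)
  have hcent := iso_central hisoU S₁.isPGroup' hUS
  have ha₂n : a₂ ∉ zpowers u₁ := by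
    intro h
    have h1 : a₂ ∈ K₁ := (Subgroup.zpowers_le.mpr hu₁) h
    have h2 : a₂ ∈ K₁ ⊓ K₂ := ⟨h1, ha₂⟩
    rw [hi, mem_bot] at h2
    exact ha₂1 h2
  have hreduce : ∀ y ∈ (S₁ : Subgroup K₁), y ^ p = 1 → y ∈ zpowers U := by
    intro y hy hyp
    have hyp' : (y : G) ^ p = 1 := congrArg Subtype.val hyp
    have h1 : u₁ * (y : G) = (y : G) * u₁ := (congrArg Subtype.val (hcent y hy)).symm
    have h2 := rank_two hrank (u := u₁) (v := a₂) (w := (y : G)) hu₁1 hu₁p ha₂p hyp' (comm _ hu₁ _ ha₂) h1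
      (comm _ y.2 _ ha₂).symm ha₂n
    obtain ⟨b, hb, c, hc, e⟩ := Cfsg.Agent.Lib.Components.exists_mul_of_mem_sup_of_commutes
      (zpowers_commute (comm _ hu₁ _ ha₂)) h2
    have hbK : b ∈ K₁ := (Subgroup.zpowers_le.mpr hu₁) hb
    have hcK₂ : c ∈ K₂ := (Subgroup.zpowers_le.mpr ha₂) hc
    have hcK₁ : c ∈ K₁ := by
      have : c = b⁻¹ * (y : G) := by rw [e]; group
      rw [this]
      exact mul_mem (inv_mem hbK) y.2
    have hc1 : c = 1 := by
      have h3 : c ∈ K₁ ⊓ K₂ := ⟨hcK₁, hcK₂⟩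
      rw [hi, mem_bot] at h3
      exact h3
    rw [hc1, mul_one] at e
    obtain ⟨k, hk⟩ := Subgroup.mem_zpowers_iff.mp hb
    refine Subgroup.mem_zpowers_iff.mpr ⟨k, Subtype.ext ?_⟩
    rw [e, ← hk]
    simp [hU]
  have hnpc : HasNormalPComplement p K₁ := by
    apply npc_of_no_fusion hp S₁
    intro g _ y hy hyp hgy
    by_cases hy1 : y = 1
    · rw [hy1]; simp
    have h1 := hreduce y hy hyp
    have h2 : (g * y * g⁻¹) ^ p = 1 := by rw [conj_pow, hyp]; simp
    have h3 := hreduce _ hgy h2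
    obtain ⟨k, hk⟩ := Subgroup.mem_zpowers_iff.mp (gen_of_ne_one hUo h1 hy1)
    have h4 : g * U * g⁻¹ ∈ zpowers U := by
      have h8 : g * U * g⁻¹ = (g * y * g⁻¹) ^ k := by rw [conj_zpow, hk]
      rw [h8]
      exact zpow_mem h3 k
    have h5 : Commute U (g * U * g⁻¹) := by
      obtain ⟨l, hl⟩ := Subgroup.mem_zpowers_iff.mp h4
      rw [← hl]
      exact (Commute.refl U).zpow_right l
    have h6 := hisoU g h5
    obtain ⟨l, hl⟩ := Subgroup.mem_zpowers_iff.mp h1
    rw [← hl, ← conj_zpow, h6]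
  obtain ⟨N, hNn, hNc, k, hk⟩ := Cfsg.Agent.Lib.Transfer.exists_hall_of_hasNormalPComplement hnpc
  rcases hs₁.eq_bot_or_eq_top_of_normal N hNn with h | h
  · rw [h, Subgroup.index_bot] at hk
    have hPg : IsPGroup p K₁ := IsPGroup.of_card hk
    exact qs_not_isNilpotent hK₁.2 hPg.isNilpotent
  · rw [h, Subgroup.card_top] at hNc
    exact hpp.one_lt.ne' (Nat.eq_one_of_dvd_coprimes hNc hp₁ dvd_rfl)

/-- Let G be a finite group and p an odd prime with O_{p'}(G) = 1. Suppose that G has p-rank at most 2 (no elementary abelian subgroup of order p³) and that some element x of order p is isolated in G (no G-conjugate of x other than x commutes with x) and not central. Then the generalized Fitting subgroup F*(G) is a non-abelian simple group. Since O_{p'}(G) = 1, such an x is not central modulo O_{p'}(G): the hypotheses describe a counterexample to the Z*_p statement in p-rank at most 2. -/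
theorem result {G : Type*} [Group G] [Finite G] {p : ℕ} [Fact p.Prime] (hp : p ≠ 2) (hcore : Cfsg.pPrimeCore p G = ⊥)
    (hrank : Cfsg.PRankLE p 2 G) (x : G) (hx : orderOf x = p) (hiso : Cfsg.IsIsolated x) (hnc : x ∉ Subgroup.center G) :
    IsSimpleGroup ↥(Cfsg.generalizedFittingSubgroup G) ∧ ¬ IsMulCommutative ↥(Cfsg.generalizedFittingSubgroup G) := by
  have hpp : p.Prime := Fact.out
  have hQ := core_bot hp hcore hrank hx hiso hnc
  have hx1 : x ≠ 1 := by
    rintro rfl
    rw [orderOf_one] at hx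
    exact hpp.ne_one hx.symm
  have hxp : x ^ p = 1 := by rw [← hx]; exact pow_orderOf_eq_one x
  have hF : fittingSubgroup G = ⊥ := by rw [fitting_eq_pCore hcore, hQ]
  have hGF : generalizedFittingSubgroup G = layer G := by
    rw [generalizedFittingSubgroup, hF, sup_bot_eq]
  have hLne : layer G ≠ ⊥ := by
    intro h
    have h1 := centralizer_gfit_le (G := G)
    rw [hGF, h] at h1
    have h2 : x ∈ centralizer ((⊥ : Subgroup G) : Set G) := by
      rw [mem_centralizer_iff]
      intro y hy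
      have : y = 1 := by simpa using hy
      simp [this]
    have h3 := h1 h2
    rw [mem_bot] at h3
    exact hx1 h3
  obtain ⟨K, hK⟩ : ∃ K, IsComponent K := by
    by_contra hno
    push Not at hno
    apply hLne
    rw [layer, sSup_eq_bot]
    intro K hK
    exact absurd hK (hno K)
  -- centres are trivial
  have hZ : ∀ L : Subgroup G, IsComponent L → center L = ⊥ := by
    intro L hL
    rw [eq_bot_iff]
    intro z hz
    have hzL : (z : G) ∈ layer G := component_le_layer hL z.2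
    have hzc : ∀ y ∈ layer G, (z : G) * y = y * z := fun y hy =>
      center_component_le hL (z := (z : G)) ⟨z, hz, rfl⟩ hy
    set W : Subgroup G := layer G ⊓ centralizer (layer G : Set G) with hW
    haveI hWn : W.Normal := inferInstance
    have hWc : IsMulCommutative W := by
      refine ⟨⟨fun a b => Subtype.ext ?_⟩⟩
      exact mem_centralizer_iff.mp a.2.2 b b.2.1 |>.symm
    have hWnil : Group.IsNilpotent W := by
      letI : CommGroup W := { (inferInstance : Group W) with mul_comm := fun a b => mul_comm' a b }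
      infer_instance
    have hWF := le_fitting hWn hWnil
    rw [hF] at hWF
    have hzW : (z : G) ∈ W := ⟨hzL, mem_centralizer_iff.mpr fun y hy => (hzc y hy).symm⟩
    have h1 := hWF hzW
    rw [mem_bot] at h1
    rw [mem_bot]
    exact Subtype.ext h1
  have hsimple : ∀ L : Subgroup G, IsComponent L → IsSimpleGroup L := by
    intro L hL
    haveI := qs_nontrivial hL.2
    refine ⟨fun N hN => ?_⟩
    rcases qs_normal hL.2 N with h | h
    · exact Or.inr h
    · left
      rw [hZ L hL] at h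
      exact le_bot_iff.mp h
  have hdvd : ∀ L : Subgroup G, IsComponent L → p ∣ Nat.card L := by
    intro L hL
    by_contra hnd
    have h1 := subnormal_le_pPrimeCore (p := p) hL.1 (((Nat.Prime.coprime_iff_not_dvd hpp).mpr hnd).symm)
    rw [hcore] at h1
    exact component_ne_bot hL (le_bot_iff.mp h1)
  have hZp : IsPGroup p (zpowers x) := IsPGroup.of_card (n := 1) (by
    rw [Nat.card_zpowers, hx, pow_one])
  obtain ⟨S, hS⟩ := hZp.exists_le_sylow
  have hxS : x ∈ (S : Subgroup G) := hS (mem_zpowers x)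
  have hcent : ∀ s ∈ (S : Subgroup G), s * x = x * s := iso_central hiso S.isPGroup' hxS
  have hel : ∀ L : Subgroup G, IsComponent L → ∃ a ∈ (S : Subgroup G), a ∈ L ∧ orderOf a = p := by
    intro L hL
    have h1 := Cfsg.Agent.Lib.Basic.not_dvd_relIndex_of_isSubnormal S hL.1
    have h2 : p ∣ Nat.card ((S : Subgroup G) ⊓ L : Subgroup G) := by
      have h7 : Nat.card ((S : Subgroup G).subgroupOf L) = Nat.card ((S : Subgroup G) ⊓ L : Subgroup G) := by
        rw [← Subgroup.inf_subgroupOf_right]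
        exact Nat.card_congr (Subgroup.subgroupOfEquivOfLe inf_le_right).toEquiv
      have h4 : Nat.card ((S : Subgroup G) ⊓ L : Subgroup G) * (S : Subgroup G).relIndex L = Nat.card L := by
        rw [← h7]
        exact Subgroup.card_mul_index _
      have h6 := hdvd L hL
      rw [← h4] at h6
      exact ((Nat.Prime.dvd_mul hpp).mp h6).resolve_right h1
    obtain ⟨a, ha⟩ := exists_prime_orderOf_dvd_card' (G := ((S : Subgroup G) ⊓ L : Subgroup G)) p h2
    exact ⟨a, a.2.1, a.2.2, by rw [← Subgroup.orderOf_coe] at ha; exact ha⟩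
  have hinter : ∀ L₁ L₂ : Subgroup G, IsComponent L₁ → IsComponent L₂ → L₁ ≠ L₂ → L₁ ⊓ L₂ = ⊥ := by
    intro L₁ L₂ h₁ h₂ hne
    rw [eq_bot_iff]
    intro y hy
    have h1 : (⟨y, hy.1⟩ : L₁) ∈ center L₁ := by
      rw [mem_center_iff]
      intro l
      exact Subtype.ext (component_commutes h₁ h₂ hne _ l.2 _ hy.2)
    rw [hZ L₁ h₁, mem_bot] at h1
    rw [mem_bot]
    exact congrArg Subtype.val h1
  have huniq : ∀ L : Subgroup G, IsComponent L → L = K := by
    intro L hL
    by_contra hne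
    obtain ⟨a₁, ha₁S, ha₁L, ha₁o⟩ := hel L hL
    obtain ⟨a₂, ha₂S, ha₂K, ha₂o⟩ := hel K hK
    have ha₁p : a₁ ^ p = 1 := by rw [← ha₁o]; exact pow_orderOf_eq_one a₁
    have ha₂p : a₂ ^ p = 1 := by rw [← ha₂o]; exact pow_orderOf_eq_one a₂
    have ha₁1 : a₁ ≠ 1 := by
      rintro rfl
      rw [orderOf_one] at ha₁o
      exact hpp.ne_one ha₁o.symm
    have ha₂1 : a₂ ≠ 1 := by
      rintro rfl
      rw [orderOf_one] at ha₂o
      exact hpp.ne_one ha₂o.symm
    have hcomm := component_commutes hL hK hne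
    have hi := hinter L K hL hK hne
    have hn : a₂ ∉ zpowers a₁ := by
      intro h
      have h1 : a₂ ∈ L := (Subgroup.zpowers_le.mpr ha₁L) h
      have h2 : a₂ ∈ L ⊓ K := ⟨h1, ha₂K⟩
      rw [hi, mem_bot] at h2
      exact ha₂1 h2
    have h1 := rank_two hrank (w := x) ha₁1 ha₁p ha₂p hxp (hcomm _ ha₁L _ ha₂K) (hcent a₁ ha₁S)
      (hcent a₂ ha₂S) hn
    obtain ⟨u₁, hu₁, u₂, hu₂, e⟩ := Cfsg.Agent.Lib.Components.exists_mul_of_mem_sup_of_commutes
      (zpowers_commute (hcomm _ ha₁L _ ha₂K)) h1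
    have hu₁L : u₁ ∈ L := (Subgroup.zpowers_le.mpr ha₁L) hu₁
    have hu₂K : u₂ ∈ K := (Subgroup.zpowers_le.mpr ha₂K) hu₂
    have hordr : ∀ {b c : G}, orderOf b = p → c ∈ zpowers b → c ≠ 1 → orderOf c = p := by
      intro b c hb hc hc1
      have hd : orderOf c ∣ p := by rw [← hb]; exact orderOf_dvd_of_mem_zpowers hc
      rcases (Nat.dvd_prime hpp).mp hd with h | h
      · exact absurd (orderOf_eq_one_iff.mp h) hc1
      · exact h
    by_cases hu₁1 : u₁ = 1
    · have hu₂1 : u₂ ≠ 1 := by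
        rintro rfl
        rw [hu₁1, one_mul] at e
        exact hx1 e
      have hiso' : IsIsolated (u₂ * 1) := by
        rw [mul_one]
        rw [hu₁1, one_mul] at e
        rw [← e]
        exact hiso
      exact no_two hp hrank hK hL (Ne.symm hne) (hsimple K hK) (hdvd K hK) (hinter K L hK hL (Ne.symm hne))
        ha₁L ha₁o hu₂K (hordr ha₂o hu₂ hu₂1) (one_mem L) hiso'
    · have hiso' : IsIsolated (u₁ * u₂) := by
        rw [← e]
        exact hiso
      exact no_two hp hrank hL hK hne (hsimple L hL) (hdvd L hL) hi ha₂K ha₂o hu₁L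
        (hordr ha₁o hu₁ hu₁1) hu₂K hiso'
  have hlayer : layer G = K :=
    le_antisymm (layer_le fun L hL => (huniq L hL).le) (component_le_layer hK)
  rw [hGF, hlayer]
  exact ⟨hsimple K hK, qs_not_commutative hK.2⟩

end Cfsg.Agent.S3049
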