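import Cfsg.Statements.S3064
import Cfsg.Agent.S0035
import Cfsg.Agent.S3076
import Cfsg.Agent.Lib.LocalEven2.Sylow
import Cfsg.Agent.Lib.Transfer.Misc
-- import your own Cfsg.Agent.* helpers here

set_option autoImplicit false
open Cfsg

namespace Cfsg.Agent.S3064

open Cfsg.Agent.Lib.Coprime (mem_conj_map card_conj_map)
open Cfsg.Agent.Lib.LocalEven2
open Subgroup
open scoped Pointwise

universe u

section

variable {G : Type u} [Group G] [Finite G] {p : ℕ} [Fact p.Prime]

/-- Two conjugates of `x` in a Sylow subgroup containing `x` are equal. -/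
theorem conj_eq_of_mem_sylow (S : Sylow p G) {x : G}
    (hU : ∀ g : G, g⁻¹ * x * g ∈ (S : Subgroup G) → g⁻¹ * x * g = x)
    (T : Sylow p G) (hxT : x ∈ (T : Subgroup G)) (g : G) (hg : g⁻¹ * x * g ∈ (T : Subgroup G)) :
    g⁻¹ * x * g = x := by
  obtain ⟨h, rfl⟩ := MulAction.exists_smul_eq G S T
  rw [Cfsg.Agent.Lib.Transfer.coe_smul_sylow, mem_conj_map] at hxT hg
  have h1 := hU h hxT
  have e : h⁻¹ * (g⁻¹ * x * g) * h = (g * h)⁻¹ * x * (g * h) := by group
  rw [e] at hg
  have h2 := hU (g * h) hg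
  have h3 : h⁻¹ * (g⁻¹ * x * g) * h = h⁻¹ * x * h := by rw [e, h1, h2]
  have e2 : g⁻¹ * x * g = h * (h⁻¹ * (g⁻¹ * x * g) * h) * h⁻¹ := by group
  rw [e2, h3]
  group

end

/-- The main induction. -/
theorem main_induction {p : ℕ} [Fact p.Prime] : ∀ (n : ℕ) (G : Type u) [Group G] [Finite G], Nat.card G = n →
    ∀ (S : Sylow p G) (x : G), x ∈ (S : Subgroup G) →
    (∀ g : G, g⁻¹ * x * g ∈ (S : Subgroup G) → g⁻¹ * x * g = x) →
    (∀ H : Subgroup G, (Nat.card H).Coprime p → (∀ h ∈ H, x * h * x⁻¹ ∈ H) → ∀ h ∈ H, x * h = h * x) →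
    x ∈ Subgroup.center G := by
  intro n
  induction n using Nat.strong_induction_on with
  | _ n ih =>
  intro G _ _ hn S x hx hU hb
  classical
  by_contra hcen
  -- `x` has `p`-power order
  have hxord : ∃ k, orderOf x = p ^ k := by
    have := (IsPGroup.iff_orderOf.1 S.isPGroup') ⟨x, hx⟩
    simpa [Subgroup.orderOf_mk] using this
  -- Step A: proper subgroups
  have hA : ∀ B : Subgroup G, B ≠ ⊤ → x ∈ B → ∀ b ∈ B, b * x = x * b := by
    intro B hBtop hxB b hb'
    let x' : B := ⟨x, hxB⟩
    have hx'p : IsPGroup p (zpowers x') := by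
      apply isPGroup_zpowers
      simpa [x', Subgroup.orderOf_mk] using hxord
    obtain ⟨SB, hSB⟩ := hx'p.exists_le_sylow
    have hSBp : IsPGroup p ((SB : Subgroup B).map B.subtype) := SB.isPGroup'.map _
    obtain ⟨T, hT⟩ := hSBp.exists_le_sylow
    have hmemT : ∀ y : B, y ∈ (SB : Subgroup B) → (y : G) ∈ (T : Subgroup G) :=
      fun y hy => hT ⟨y, hy, rfl⟩
    have hxT : x ∈ (T : Subgroup G) := hmemT x' (hSB (mem_zpowers x'))
    have hU' : ∀ g : B, g⁻¹ * x' * g ∈ (SB : Subgroup B) → g⁻¹ * x' * g = x' := by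
      intro g hg
      apply Subtype.ext
      exact conj_eq_of_mem_sylow S hU T hxT g (hmemT _ hg)
    have hb'' : ∀ H : Subgroup B, (Nat.card H).Coprime p → (∀ h ∈ H, x' * h * x'⁻¹ ∈ H) →
        ∀ h ∈ H, x' * h = h * x' := by
      intro H hH hnorm h hh
      apply Subtype.ext
      refine hb (H.map B.subtype) ?_ ?_ h ⟨h, hh, rfl⟩
      · rw [Subgroup.card_map_of_injective B.subtype_injective]
        exact hH
      · rintro _ ⟨k, hk, rfl⟩
        exact ⟨_, hnorm k hk, rfl⟩
    have hcard : Nat.card B < n := by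
      rw [← hn]
      refine lt_of_le_of_ne (Subgroup.card_le_card_group B) fun e => hBtop ?_
      exact Subgroup.eq_top_of_card_eq B e
    have := ih _ hcard B rfl SB x' (hSB (mem_zpowers x')) hU' hb''
    have h2 := Subgroup.mem_center_iff.1 this ⟨b, hb'⟩
    exact congrArg Subtype.val h2
  -- Step B: isolated
  have hiso : ∀ g : G, (g⁻¹ * x * g) * x = x * (g⁻¹ * x * g) → g⁻¹ * x * g = x := by
    intro g hcomm
    have h1 : IsPGroup p (zpowers x) := isPGroup_zpowers hxord
    have hyord : ∃ k, orderOf (g⁻¹ * x * g) = p ^ k := by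
      have e : g⁻¹ * x * g = g⁻¹ * x * g⁻¹⁻¹ := by simp
      rw [e, Cfsg.Agent.Lib.Coprime.orderOf_conj]
      exact hxord
    have h2 : IsPGroup p (zpowers (g⁻¹ * x * g)) := isPGroup_zpowers hyord
    have h3 : zpowers (g⁻¹ * x * g) ≤ normalizer ((zpowers x : Subgroup G) : Set G) := by
      rw [zpowers_le, mem_normalizer_iff]
      intro t
      have hc : ∀ t ∈ zpowers x, (g⁻¹ * x * g) * t * (g⁻¹ * x * g)⁻¹ = t := by
        rintro _ ⟨k, rfl⟩
        have h4 : Commute (g⁻¹ * x * g) (x ^ k) := (show Commute (g⁻¹ * x * g) x from hcomm).zpow_right k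
        show (g⁻¹ * x * g) * x ^ k * (g⁻¹ * x * g)⁻¹ = x ^ k
        rw [h4.eq, mul_inv_cancel_right]
      constructor
      · intro ht
        rwa [hc t ht]
      · intro ht
        by_contra hnot
        have h5 : (g⁻¹ * x * g)⁻¹ * ((g⁻¹ * x * g) * t * (g⁻¹ * x * g)⁻¹) * (g⁻¹ * x * g) = t := by group
        have h6 : ((g⁻¹ * x * g) * t * (g⁻¹ * x * g)⁻¹) = t := by
          have h7 := hc _ ht
          have h8 : (g⁻¹ * x * g) * ((g⁻¹ * x * g) * t * (g⁻¹ * x * g)⁻¹) * (g⁻¹ * x * g)⁻¹ = (g⁻¹ * x * g) * t * (g⁻¹ * x * g)⁻¹ := h7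
          have h9 := mul_left_cancel (mul_right_cancel h8)
          exact h9
        rw [h6] at ht
        exact hnot ht
    have h10 : IsPGroup p (zpowers x ⊔ zpowers (g⁻¹ * x * g) : Subgroup G) := h1.to_sup_of_normal_left' h2 h3
    obtain ⟨T, hT⟩ := h10.exists_le_sylow
    exact conj_eq_of_mem_sylow S hU T (hT (le_sup_left (α := Subgroup G) (mem_zpowers x))) g
      (hT (le_sup_right (α := Subgroup G) (mem_zpowers _)))
  -- Step C: generation
  have hgen : ∀ g : G, g⁻¹ * x * g ≠ x → zpowers x ⊔ zpowers (g⁻¹ * x * g) = ⊤ := by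
    intro g hg
    by_contra hne
    apply hg
    apply hiso
    exact hA _ hne (le_sup_left (α := Subgroup G) (mem_zpowers x)) _
      (le_sup_right (α := Subgroup G) (mem_zpowers _))
  set M : Subgroup G := centralizer ({x} : Set G) with hM
  have hmemM : ∀ g, g ∈ M ↔ x * g = g * x := by
    intro g
    rw [hM, mem_centralizer_iff]
    simp
  have hxM : x ∈ M := (hmemM x).2 rfl
  have hSM : (S : Subgroup G) ≤ M := by
    intro s hs
    rw [hmemM]
    have h1 : s⁻¹ * x * s ∈ (S : Subgroup G) := S.mul_mem (S.mul_mem (S.inv_mem hs) hx) hs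
    have h2 := hU s h1
    calc x * s = s * (s⁻¹ * x * s) := by group
      _ = s * x := by rw [h2]
  set Z : Subgroup G := Subgroup.center G with hZ
  have hZM : Z ≤ M := by
    intro z hz
    rw [hmemM]
    exact (Subgroup.mem_center_iff.1 hz x)
  have hMtop : M ≠ ⊤ := by
    intro e
    apply hcen
    rw [Subgroup.mem_center_iff]
    intro g
    have : g ∈ M := by rw [e]; trivial
    exact ((hmemM g).1 this).symm
  -- the Frobenius group
  set f := QuotientGroup.mk' Z with hf
  have hfsurj : Function.Surjective f := QuotientGroup.mk'_surjective Z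
  have hfker : f.ker = Z := QuotientGroup.ker_mk' Z
  have hf1 : ∀ g, f g = 1 ↔ g ∈ Z := fun g => (QuotientGroup.eq_one_iff g)
  set Mb : Subgroup (G ⧸ Z) := M.map f with hMb
  have hmemMb : ∀ g, f g ∈ Mb ↔ g ∈ M := by
    intro g
    constructor
    · rintro ⟨m, hm, hmg⟩
      have h1 : m⁻¹ * g ∈ Z := by
        rw [← hf1, map_mul, map_inv, hmg, inv_mul_cancel]
      have e : g = m * (m⁻¹ * g) := by group
      rw [e]
      exact M.mul_mem hm (hZM h1)
    · intro hg
      exact ⟨g, hg, rfl⟩
  have hfrob : Cfsg.IsFrobeniusComplement Mb := by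
    refine ⟨?_, ?_, ?_⟩
    · intro e
      have h1 : f x ∈ Mb := (hmemMb x).2 hxM
      rw [e, Subgroup.mem_bot, hf1] at h1
      exact hcen h1
    · intro e
      apply hMtop
      rw [eq_top_iff]
      intro g _
      rw [← hmemMb, e]
      trivial
    · intro gb hgb
      obtain ⟨g, rfl⟩ := hfsurj gb
      have hgM : g ∉ M := fun h => hgb ((hmemMb g).2 h)
      have hy : g⁻¹⁻¹ * x * g⁻¹ ≠ x := by
        intro e
        apply hgM
        rw [hmemM]
        rw [inv_inv] at e
        calc x * g = (g * x * g⁻¹) * g := by rw [e]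
          _ = g * x := by group
      have hgn := hgen g⁻¹ hy
      rw [inv_inv] at hgn
      rw [eq_bot_iff]
      intro wb hwb
      obtain ⟨hw1, hw2⟩ := Subgroup.mem_inf.1 hwb
      obtain ⟨m, hm, rfl⟩ := hw1
      rw [Cfsg.Agent.Lib.Basic.mem_conj_smul] at hw2
      have e : (f g)⁻¹ * f m * f g = f (g⁻¹ * m * g) := by simp
      rw [e, hmemMb, hmemM] at hw2
      rw [Subgroup.mem_bot, hf1, hZ, Subgroup.mem_center_iff]
      intro t
      have ht : t ∈ zpowers x ⊔ zpowers (g * x * g⁻¹) := by rw [hgn]; trivial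
      have hle : zpowers x ⊔ zpowers (g * x * g⁻¹) ≤ centralizer ({m} : Set G) := by
        apply sup_le
        · rw [zpowers_le, mem_centralizer_iff]
          intro c hc
          rw [Set.mem_singleton_iff.1 hc]
          exact ((hmemM m).1 hm).symm
        · rw [zpowers_le, mem_centralizer_iff]
          intro c hc
          rw [Set.mem_singleton_iff.1 hc]
          calc m * (g * x * g⁻¹) = g * ((g⁻¹ * m * g) * x) * g⁻¹ := by group
            _ = g * (x * (g⁻¹ * m * g)) * g⁻¹ := by rw [hw2]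
            _ = (g * x * g⁻¹) * m := by group
      exact (mem_centralizer_iff.1 (hle ht) m rfl).symm
  obtain ⟨Nb, _, hNbn, hcomp⟩ := Cfsg.Agent.S0035.result Mb hfrob
  -- the preimage
  set K : Subgroup G := Nb.comap f with hK
  have hKn : K.Normal := hNbn.comap f
  have hZK : Z ≤ K := by
    intro z hz
    show f z ∈ Nb
    rw [(hf1 z).2 hz]
    exact one_mem _
  obtain ⟨Q⟩ : Nonempty (Sylow p Z) := inferInstance
  set H : Subgroup G := (Q : Subgroup Z).map Z.subtype with hH
  have hHZ : H ≤ Z := Subgroup.map_subtype_le _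
  have hHn : H.Normal := by
    constructor
    intro n hn g
    have hc := Subgroup.mem_center_iff.1 (hHZ hn) g
    have e : g * n * g⁻¹ = n := by rw [hc]; group
    rwa [e]
  have hHp : IsPGroup p H := Q.isPGroup'.map _
  have hKC : K ≤ centralizer (H : Set G) := by
    intro k _
    rw [mem_centralizer_iff]
    intro h hh
    exact (Subgroup.mem_center_iff.1 (hHZ hh) k).symm
  have hi : ¬ p ∣ H.relIndex K := by
    have h1 := Subgroup.relIndex_mul_relIndex H Z K hHZ hZK
    have h2 : H.relIndex Z = (Q : Subgroup Z).index := by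
      have e : H.subgroupOf Z = (Q : Subgroup Z) := by
        rw [hH]
        exact Subgroup.comap_map_eq_self_of_injective Z.subtype_injective _
      rw [Subgroup.relIndex, e]
    have h3 : Z.relIndex K = Nat.card Nb := by
      have h4 := Subgroup.relIndex_ker (K := K) f
      rw [hfker, hK, Subgroup.map_comap_eq_self_of_surjective hfsurj] at h4
      exact h4
    have h5 : Nat.card Nb = Mb.index := hcomp.index_eq_card.symm
    have h6 : Mb.index = M.index := by
      have h7 : M = Mb.comap f := by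
        ext g
        rw [Subgroup.mem_comap, hmemMb]
      rw [h7]
      exact (Subgroup.index_comap_of_surjective Mb hfsurj).symm
    have h8 : ¬ p ∣ M.index := fun hd => S.not_dvd_index (hd.trans (Subgroup.index_dvd_of_le hSM))
    rw [← h1, h2, h3, h5, h6]
    intro hd
    rcases (Fact.out : p.Prime).dvd_mul.1 hd with h9 | h9
    · exact Q.not_dvd_index h9
    · exact h8 h9
  have hKle := Cfsg.Agent.S3076.le_sup_pPrimeCore_of_central H K hHp hKC hi
  have hOM : Cfsg.pPrimeCore p G ≤ M := by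
    intro o ho
    rw [hmemM]
    refine hb (Cfsg.pPrimeCore p G) (Cfsg.Agent.Lib.Basic.pPrimeCore_coprime p) ?_ o ho
    intro h hh
    exact (Cfsg.Agent.Lib.Basic.pPrimeCore_normal p).conj_mem h hh x
  have hKM : K ≤ M := hKle.trans (sup_le (hHZ.trans hZM) hOM)
  have hNbbot : Nb = ⊥ := by
    rw [eq_bot_iff]
    intro nb hnb
    obtain ⟨n, rfl⟩ := hfsurj nb
    have h1 : n ∈ K := hnb
    have h2 : f n ∈ Mb := (hmemMb n).2 (hKM h1)
    exact Subgroup.mem_bot.2 (Subgroup.disjoint_def.1 hcomp.disjoint hnb h2)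
  have htop := hcomp.sup_eq_top
  rw [hNbbot, bot_sup_eq] at htop
  exact hfrob.2.1 htop

/-- Let S be a Sylow p-subgroup of the finite group G and x an element of S such that (i) x is the only G-conjugate of x lying in S, and (ii) x centralizes every subgroup of order prime to p that it normalizes. Then x lies in the centre of G. -/
theorem result {G : Type*} [Group G] [Finite G] {p : ℕ} [Fact p.Prime]
    (S : Sylow p G) (x : G) (hx : x ∈ S)
    (hU : ∀ g : G, g⁻¹ * x * g ∈ S → g⁻¹ * x * g = x)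
    (hb : ∀ H : Subgroup G, (Nat.card H).Coprime p → (∀ h ∈ H, x * h * x⁻¹ ∈ H) → ∀ h ∈ H, x * h = h * x) :
    x ∈ Subgroup.center G := by
  have := Fintype.ofFinite G
  exact main_induction _ G rfl S x hx hU hb

end Cfsg.Agent.S3064
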