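import Cfsg.Statements.S3073
import Cfsg.Agent.Lib.LocalEven2.KS
-- import your own Cfsg.Agent.* helpers here

set_option autoImplicit false
universe u
open Cfsg

namespace Cfsg.Agent.S3073

/-- For an odd prime p, every finite p-group S has a characteristic subgroup K with C_S(K) ≤ K such that, whenever S is (isomorphic to) a Sylow p-subgroup of a finite group G, G has a normal p-complement if and only if N_G(K)/C_G(K) is a p-group, i.e. every element of N_G(K) of order prime to p centralizes K (K transported into G along the isomorphism). -/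
theorem result (p : ℕ) [Fact p.Prime] (hp : p ≠ 2)
    (S : Type u) [Group S] [Finite S] (hS : IsPGroup p S) :
    ∃ K : Subgroup S, K.Characteristic ∧ Subgroup.centralizer (K : Set S) ≤ K ∧
      ∀ (G : Type u) [Group G] [Finite G] (P : Sylow p G) (e : ↥(P : Subgroup G) ≃* S),
        Cfsg.HasNormalPComplement p G ↔
          ∀ g ∈ Subgroup.normalizer (((K.comap (e : ↥(P : Subgroup G) →* S)).map (P : Subgroup G).subtype : Subgroup G) : Set G),
            (orderOf g).Coprime p →
              g ∈ Subgroup.centralizer (((K.comap (e : ↥(P : Subgroup G) →* S)).map (P : Subgroup G).subtype : Subgroup G) : Set G) := by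
  classical
  obtain ⟨K, hKc, hKC, hK⟩ := Cfsg.Agent.Lib.LocalEven2.ks_aux hp _ S hS rfl
  refine ⟨K, hKc, hKC, ?_⟩
  intro G _ _ P e
  let ι : S →* G := (P : Subgroup G).subtype.comp e.symm.toMonoidHom
  have hinj : Function.Injective ι := (P : Subgroup G).subtype_injective.comp e.symm.injective
  have hrange : ι.range = (P : Subgroup G) := by
    ext y
    constructor
    · rintro ⟨x, rfl⟩
      exact (e.symm x).2
    · intro hy
      refine ⟨e ⟨y, hy⟩, ?_⟩
      show ((e.symm (e ⟨y, hy⟩) : (P : Subgroup G)) : G) = y
      simp
  have hidx : ¬ p ∣ ι.range.index := by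
    rw [hrange]
    exact P.not_dvd_index
  have hmap : (K.comap (e : ↥(P : Subgroup G) →* S)).map (P : Subgroup G).subtype = K.map ι := by
    ext y
    constructor
    · rintro ⟨x, hx, rfl⟩
      refine ⟨e x, hx, ?_⟩
      show ((e.symm (e x) : (P : Subgroup G)) : G) = x
      simp
    · rintro ⟨x, hx, rfl⟩
      refine ⟨e.symm x, ?_, rfl⟩
      show e (e.symm x) ∈ K
      simpa using hx
  rw [hmap]
  constructor
  · intro h g hg hgc
    refine Cfsg.Agent.Lib.Transfer.frobeniusStable_of_hasNormalPComplement h (K.map ι) ?_ g hg hgc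
    exact (hS.to_subgroup K).map ι
  · intro h
    exact hK G ι hinj hidx h

end Cfsg.Agent.S3073
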