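import Cfsg.Statements.S3277
import Mathlib
import Cfsg.Agent.Lib.Components.InvFour

set_option autoImplicit false
open Cfsg

namespace Cfsg.Agent.S3277

open Subgroup Cfsg.Agent.Lib.Components
open scoped Pointwise

variable {G : Type*} [Group G]

theorem comm_of_exp2 {H : Subgroup G} (h : ∀ c ∈ H, c ^ 2 = 1) {a b : G} (ha : a ∈ H) (hb : b ∈ H) :
    a * b = b * a := by
  have h1 := h _ (H.mul_mem ha hb)
  have h2 := h a ha
  have h3 := h b hb
  have hai : a⁻¹ = a := inv_eq_of_mul_eq_one_left (by rw [← sq, h2])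
  have hbi : b⁻¹ = b := inv_eq_of_mul_eq_one_left (by rw [← sq, h3])
  have : (a * b)⁻¹ = a * b := inv_eq_of_mul_eq_one_left (by rw [← sq, h1])
  rw [mul_inv_rev, hai, hbi] at this
  exact this.symm

theorem four_cover [Finite G] {C : Subgroup G} (hC : Nat.card C = 4) {x y : G} (hx : x ∈ C) (hy : y ∈ C)
    (hx1 : x ≠ 1) (hy1 : y ≠ 1) (hxy : x ≠ y) (hxy1 : x * y ≠ 1) :
    ∀ c ∈ C, c = 1 ∨ c = x ∨ c = y ∨ c = x * y := by
  classical
  intro c hc
  by_contra hcon
  push Not at hcon
  obtain ⟨h1, h2, h3, h4⟩ := hcon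
  have hs : ({1, x, y, x * y, c} : Finset G).card = 5 := by
    rw [Finset.card_insert_of_notMem, Finset.card_insert_of_notMem, Finset.card_insert_of_notMem,
      Finset.card_insert_of_notMem, Finset.card_singleton]
    · simp only [Finset.mem_singleton]; exact fun h => h4 h.symm
    · simp only [Finset.mem_insert, Finset.mem_singleton, not_or]
      exact ⟨fun h => by
        apply hx1
        have : x * y = 1 * y := by rw [one_mul]; exact h.symm
        exact mul_right_cancel this, fun h => h3 h.symm⟩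
    · simp only [Finset.mem_insert, Finset.mem_singleton, not_or]
      exact ⟨hxy, fun h => by
        apply hy1
        have : x * y = x * 1 := by rw [mul_one]; exact h.symm
        exact mul_left_cancel this, fun h => h2 h.symm⟩
    · simp only [Finset.mem_insert, Finset.mem_singleton, not_or]
      exact ⟨hx1.symm, hy1.symm, hxy1.symm, h1.symm⟩
  have hsub : ((({1, x, y, x * y, c} : Finset G) : Finset G) : Set G) ⊆ (C : Set G) := by
    intro a ha
    simp only [Finset.coe_insert, Finset.coe_singleton, Set.mem_insert_iff, Set.mem_singleton_iff] at ha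
    rcases ha with rfl | rfl | rfl | rfl | rfl
    · exact C.one_mem
    · exact hx
    · exact hy
    · exact C.mul_mem hx hy
    · exact hc
  have := Set.ncard_le_ncard hsub (Set.toFinite _)
  rw [Set.ncard_coe_finset, hs] at this
  have h4' : (C : Set G).ncard = 4 := by rw [← hC]; exact (Nat.card_coe_set_eq _).symm
  omega

theorem card_centralizer_conj [Finite G] (g u : G) :
    Nat.card (centralizer ({g * u * g⁻¹} : Set G)) = Nat.card (centralizer ({u} : Set G)) := by
  have : centralizer ({g * u * g⁻¹} : Set G)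
      = (centralizer ({u} : Set G)).map (MulAut.conj g).toMonoidHom := by
    ext c
    simp only [mem_centralizer_singleton_iff, mem_map]
    constructor
    · intro hc
      refine ⟨g⁻¹ * c * g, ?_, by simp [MulAut.conj_apply]; group⟩
      have : c * (g * u * g⁻¹) = g * u * g⁻¹ * c := hc
      calc g⁻¹ * c * g * u = g⁻¹ * (c * (g * u * g⁻¹)) * g := by group
        _ = g⁻¹ * (g * u * g⁻¹ * c) * g := by rw [this]
        _ = u * (g⁻¹ * c * g) := by group
    · rintro ⟨d, hd, rfl⟩
      simp only [MulEquiv.coe_toMonoidHom, MulAut.conj_apply]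
      have : d * u = u * d := hd
      calc g * d * g⁻¹ * (g * u * g⁻¹) = g * (d * u) * g⁻¹ := by group
        _ = g * (u * d) * g⁻¹ := by rw [this]
        _ = g * u * g⁻¹ * (g * d * g⁻¹) := by group
  rw [this]
  exact Subgroup.card_map_of_injective (MulAut.conj g).injective

/-- Step A: a 2-element normalizing `C(x)` but not in it yields a normal elementary abelian
subgroup of order 2 or 4. -/
theorem stepA [Finite G] (x : G) (hx : orderOf x = 2)
    (hC4 : Nat.card ↥(centralizer ({x} : Set G)) = 4) (hCe : ∀ c ∈ centralizer ({x} : Set G), c ^ 2 = 1)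
    (hne : ∀ E : Subgroup G, E.Normal → Cfsg.IsElementaryAbelian 2 E → Nat.card ↥E ≠ 2 ∧ Nat.card ↥E ≠ 4)
    (g : G) (hgN : g ∈ normalizer ((centralizer ({x} : Set G) : Subgroup G) : Set G))
    (hgC : g ∉ centralizer ({x} : Set G)) (k : ℕ) (hgk : g ^ (2 ^ k) = 1) : False := by
  classical
  obtain ⟨C, hCdef⟩ : ∃ C, C = centralizer ({x} : Set G) := ⟨_, rfl⟩
  rw [← hCdef] at hC4 hCe hgN hgC
  have hxC : ∀ c, c ∈ C ↔ c * x = x * c := by
    intro c; rw [hCdef, mem_centralizer_singleton_iff]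
  have hxmem : x ∈ C := (hxC x).2 rfl
  have hx2 : x ^ 2 = 1 := hCe x hxmem
  have hx1 : x ≠ 1 := by
    rintro rfl; simp at hx
  have hN : ∀ c ∈ C, g * c * g⁻¹ ∈ C := fun c hc => (mem_normalizer_iff.mp hgN c).1 hc
  have hNi : ∀ c, g * c * g⁻¹ ∈ C → c ∈ C := fun c hc => (mem_normalizer_iff.mp hgN c).2 hc
  obtain ⟨y, hy⟩ : ∃ y, y = g * x * g⁻¹ := ⟨_, rfl⟩
  have hyC : y ∈ C := by rw [hy]; exact hN x hxmem
  have hyx : y ≠ x := by
    intro h
    apply hgC
    rw [hxC]
    have : g * x * g⁻¹ = x := by rw [← hy]; exact h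
    calc g * x = g * x * g⁻¹ * g := by group
      _ = x * g := by rw [this]
  have hy1 : y ≠ 1 := by
    intro h
    apply hx1
    rw [hy] at h
    calc x = g⁻¹ * (g * x * g⁻¹) * g := by group
      _ = 1 := by rw [h]; group
  have hxy1 : x * y ≠ 1 := by
    intro h
    have hxi : x⁻¹ = x := inv_eq_of_mul_eq_one_left (by rw [← sq, hx2])
    apply hyx
    have := eq_inv_of_mul_eq_one_right h
    rw [this, hxi]
  have hcomm : x * y = y * x := comm_of_exp2 hCe hxmem hyC
  obtain ⟨z, hz⟩ : ∃ z, z = x * y := ⟨_, rfl⟩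
  have hzC : z ∈ C := by rw [hz]; exact C.mul_mem hxmem hyC
  have hcover : ∀ c ∈ C, c = 1 ∨ c = x ∨ c = y ∨ c = z := by
    intro c hc
    rw [hz]
    exact four_cover hC4 hxmem hyC hx1 hy1 hyx.symm hxy1 c hc
  have hz1 : z ≠ 1 := by rw [hz]; exact hxy1
  have hz2 : z ^ 2 = 1 := hCe z hzC
  have hzord : orderOf z = 2 := by
    haveI : Fact (Nat.Prime 2) := ⟨Nat.prime_two⟩
    exact orderOf_eq_prime hz2 hz1
  have hgy : g * y * g⁻¹ = x ∨ g * y * g⁻¹ = z := by
    have h1 := hcover _ (hN y hyC)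
    rcases h1 with h | h | h | h
    · exfalso; apply hy1
      calc y = g⁻¹ * (g * y * g⁻¹) * g := by group
        _ = 1 := by rw [h]; group
    · exact Or.inl h
    · exfalso; apply hyx
      have : g * y * g⁻¹ = g * x * g⁻¹ := by rw [h, ← hy]
      have h2 := mul_left_cancel (mul_right_cancel this)
      exact h2
    · exact Or.inr h
  have hgz : g * z * g⁻¹ = z := by
    rcases hgy with h | h
    · have h1 : g * z * g⁻¹ = (g * x * g⁻¹) * (g * y * g⁻¹) := by rw [hz]; group
      rw [h1, ← hy, h, hz, hcomm]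
    · exfalso
      have h1 : g * z * g⁻¹ = (g * x * g⁻¹) * (g * y * g⁻¹) := by rw [hz]; group
      have hgz' : g * z * g⁻¹ = x := by
        rw [h1, ← hy, h, hz]
        have hy2 := hCe y hyC
        calc y * (x * y) = y * (y * x) := by rw [hcomm]
          _ = y ^ 2 * x := by rw [sq]; group
          _ = x := by rw [hy2, one_mul]
      have hg3 : g ^ 3 * x * (g ^ 3)⁻¹ = x := by
        have e1 : g ^ 3 * x * (g ^ 3)⁻¹ = g * (g * (g * x * g⁻¹) * g⁻¹) * g⁻¹ := by
          simp only [pow_succ, pow_zero, one_mul]; group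
        rw [e1, ← hy, h, hgz']
      have hg3C : g ^ 3 ∈ C := by
        rw [hxC]
        calc g ^ 3 * x = g ^ 3 * x * (g ^ 3)⁻¹ * g ^ 3 := by group
          _ = x * g ^ 3 := by rw [hg3]
      have hg6 : g ^ 6 = 1 := by
        have := hCe _ hg3C
        rw [← pow_mul] at this
        exact this
      have hord1 : orderOf g ∣ 6 := orderOf_dvd_of_pow_eq_one hg6
      have hord2 : orderOf g ∣ 2 ^ k := orderOf_dvd_of_pow_eq_one hgk
      obtain ⟨j, hj, hj'⟩ := (Nat.dvd_prime_pow Nat.prime_two).1 hord2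
      have hj2 : j ≤ 1 := by
        by_contra hcon
        have : 4 ∣ orderOf g := by
          rw [hj']
          exact pow_dvd_pow 2 (by omega : 2 ≤ j)
        have := this.trans hord1
        omega
      have hg2 : g ^ 2 = 1 := by
        apply orderOf_dvd_iff_pow_eq_one.mp
        rw [hj']
        exact pow_dvd_pow 2 hj2
      have : g ^ 3 = g := by
        rw [pow_succ, hg2, one_mul]
      rw [this] at hg3C
      exact hgC hg3C
  -- `z` is not conjugate to `x`
  have hzcent : C ≤ centralizer ({z} : Set G) := by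
    intro c hc
    rw [mem_centralizer_singleton_iff]
    exact comm_of_exp2 hCe hc hzC
  have hgz2 : g ∈ centralizer ({z} : Set G) := by
    rw [mem_centralizer_singleton_iff]
    calc g * z = g * z * g⁻¹ * g := by group
      _ = z * g := by rw [hgz]
  have hzx : ¬ IsConj x z := by
    intro hc
    obtain ⟨h, hh⟩ := isConj_iff.mp hc
    have h1 : Nat.card (centralizer ({z} : Set G)) = 4 := by
      rw [← hh, card_centralizer_conj, ← hCdef, hC4]
    have he := Subgroup.eq_of_le_of_card_ge hzcent (by rw [h1, hC4])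
    exact hgC (by rw [he]; exact hgz2)
  have hxconjy : IsConj x y := isConj_iff.mpr ⟨g, hy.symm⟩
  have hJx : ∀ w : G, orderOf w = 2 → Commute w x → w = x ∨ w = y ∨ w = z := by
    intro w hw hcw
    have hwC : w ∈ C := (hxC w).2 hcw.eq
    rcases hcover w hwC with h | h | h | h
    · rw [h] at hw; simp at hw
    · exact Or.inl h
    · exact Or.inr (Or.inl h)
    · exact Or.inr (Or.inr h)
  have hJy : ∀ w : G, orderOf w = 2 → Commute w y → w = x ∨ w = y ∨ w = z := by
    intro w hw hcw
    have hwC : w ∈ C := by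
      have h1 : g⁻¹ * w * g ∈ C := by
        rw [hxC]
        have h2 : w * (g * x * g⁻¹) = (g * x * g⁻¹) * w := by rw [← hy]; exact hcw.eq
        calc g⁻¹ * w * g * x = g⁻¹ * (w * (g * x * g⁻¹)) * g := by group
          _ = g⁻¹ * ((g * x * g⁻¹) * w) * g := by rw [h2]
          _ = x * (g⁻¹ * w * g) := by group
      have h3 := hN _ h1
      have h4 : g * (g⁻¹ * w * g) * g⁻¹ = w := by group
      rwa [h4] at h3
    rcases hcover w hwC with h | h | h | h
    · rw [h] at hw; simp at hw
    · exact Or.inl h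
    · exact Or.inr (Or.inl h)
    · exact Or.inr (Or.inr h)
  have hcc := commute_conj_of_three hx hzord hJx hJy hxconjy hzx
  have hE := isElementaryAbelian_normalClosure hz2 hcc
  obtain ⟨E, hEdef⟩ : ∃ E, E = normalClosure ({z} : Set G) := ⟨_, rfl⟩
  rw [← hEdef] at hE
  have hEn : E.Normal := by rw [hEdef]; exact normalClosure_normal
  have hzE : z ∈ E := by rw [hEdef]; exact subset_normalClosure rfl
  have hEab : ∀ a ∈ E, ∀ b ∈ E, a * b = b * a := by
    intro a ha b hb
    exact comm_of_exp2 hE.2 ha hb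
  obtain ⟨hE2, hE4⟩ := hne E hEn hE
  have hdvd2 : 2 ∣ Nat.card E := by
    have h1 : orderOf (⟨z, hzE⟩ : E) = 2 := by
      rw [Subgroup.orderOf_mk]; exact hzord
    rw [← h1]
    exact orderOf_dvd_natCard _
  by_cases hle : E ≤ C
  · have h1 := Subgroup.card_dvd_of_le hle
    rw [hC4] at h1
    have h2 : Nat.card E ∈ Nat.divisors 4 := by
      rw [Nat.mem_divisors]; exact ⟨h1, by norm_num⟩
    have h3 : Nat.divisors 4 = {1, 2, 4} := by decide
    rw [h3] at h2
    simp only [Finset.mem_insert, Finset.mem_singleton] at h2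
    omega
  · obtain ⟨e, heE, heC⟩ := SetLike.not_le_iff_exists.mp hle
    have hxE : x ∉ E := by
      intro hxE
      exact heC ((hxC e).2 (hEab e heE x hxE))
    have hyE : y ∉ E := by
      intro hyE
      apply hxE
      have : x = z * y := by
        rw [hz, mul_assoc, ← sq, hCe y hyC, mul_one]
      rw [this]
      exact E.mul_mem hzE hyE
    have hEC : ∀ a ∈ E, a ∈ C → a = 1 ∨ a = z := by
      intro a ha hac
      rcases hcover a hac with h | h | h | h
      · exact Or.inl h
      · rw [h] at ha; exact absurd ha hxE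
      · rw [h] at ha; exact absurd ha hyE
      · exact Or.inr h
    have hxi : x⁻¹ = x := inv_eq_of_mul_eq_one_left (by rw [← sq, hx2])
    have hbr : ∀ a ∈ E, a ∉ C → a * (x * a * x) = z := by
      intro a ha hac
      have h1 : x * a * x ∈ E := by
        have := hEn.conj_mem a ha x
        rwa [hxi] at this
      have h2 : a * (x * a * x) ∈ E := E.mul_mem ha h1
      have h3 : a * (x * a * x) ∈ C := by
        rw [hxC]
        have := hEab a ha (x * a * x) h1
        calc a * (x * a * x) * x = a * (x * a) * (x * x) := by group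
          _ = a * (x * a) := by rw [← sq, hx2, mul_one]
          _ = (x * x) * a * (x * a) := by rw [← sq, hx2, one_mul]
          _ = x * (x * a * x * a) := by group
          _ = x * (a * (x * a * x)) := by rw [← this]
      rcases hEC _ h2 h3 with h4 | h4
      · exfalso
        apply hac
        rw [hxC]
        have ha2 := hE.2 a ha
        have hai : a⁻¹ = a := inv_eq_of_mul_eq_one_left (by rw [← sq, ha2])
        have h5 := eq_inv_of_mul_eq_one_right h4
        rw [hai] at h5
        calc a * x = (x * a * x) * x := by rw [h5]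
          _ = x * a * (x * x) := by group
          _ = x * a := by rw [← sq, hx2, mul_one]
      · exact h4
    have hEsub : (E : Set G) ⊆ (({1, z, e, e * z} : Finset G) : Set G) := by
      intro a ha
      have haE : a ∈ E := ha
      simp only [Finset.coe_insert, Finset.coe_singleton, Set.mem_insert_iff, Set.mem_singleton_iff]
      by_cases hac : a ∈ C
      · rcases hEC a haE hac with h | h
        · exact Or.inl h
        · exact Or.inr (Or.inl h)
      · right; right
        have h1 := hbr a haE hac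
        have h2 := hbr e heE heC
        have hae : a * e ∈ E := E.mul_mem haE heE
        have hx3 : x * (a * e) * x = (x * a * x) * (x * e * x) := by
          calc x * (a * e) * x = x * a * (1 : G) * e * x := by group
            _ = x * a * (x * x) * e * x := by rw [← sq x, hx2]
            _ = _ := by group
        have hxaE : x * a * x ∈ E := by
          have := hEn.conj_mem a haE x
          rwa [hxi] at this
        have hxeE : x * e * x ∈ E := by
          have := hEn.conj_mem e heE x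
          rwa [hxi] at this
        have h3 : (a * e) * (x * (a * e) * x) = 1 := by
          rw [hx3]
          have e1 : a * e * (x * a * x * (x * e * x)) = (a * (x * a * x)) * (e * (x * e * x)) := by
            have := hEab e heE (x * a * x) hxaE
            calc a * e * (x * a * x * (x * e * x)) = a * (e * (x * a * x)) * (x * e * x) := by group
              _ = a * ((x * a * x) * e) * (x * e * x) := by rw [this]
              _ = _ := by group
          rw [e1, h1, h2, ← sq, hz2]
        have hmemC : a * e ∈ C := by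
          rw [hxC]
          have h5 := eq_inv_of_mul_eq_one_right h3
          have h6 := hE.2 _ hae
          have hi : (a * e)⁻¹ = a * e := inv_eq_of_mul_eq_one_left (by rw [← sq, h6])
          rw [hi] at h5
          calc a * e * x = (x * (a * e) * x) * x := by rw [h5]
            _ = x * (a * e) * (x * x) := by group
            _ = x * (a * e) := by rw [← sq, hx2, mul_one]
        have hee := hE.2 e heE
        have hei : e * e = 1 := by rw [← sq, hee]
        rcases hEC _ hae hmemC with h | h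
        · left
          calc a = a * (e * e) := by rw [hei, mul_one]
            _ = (a * e) * e := by group
            _ = e := by rw [h, one_mul]
        · right
          calc a = a * (e * e) := by rw [hei, mul_one]
            _ = (a * e) * e := by group
            _ = z * e := by rw [h]
            _ = e * z := (hEab z hzE e heE)
    have hcard := Set.ncard_le_ncard hEsub (Set.toFinite _)
    rw [Set.ncard_coe_finset] at hcard
    have h5 : ({1, z, e, e * z} : Finset G).card ≤ 4 := Finset.card_le_four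
    have h6 : (E : Set G).ncard = Nat.card E := (Nat.card_coe_set_eq _).symm
    rw [h6] at hcard
    have h7 : 0 < Nat.card E := Nat.card_pos
    obtain ⟨t, ht⟩ := hdvd2
    omega

theorem quot_three [Finite G] {B N : Subgroup G} (hle : B ≤ N) (hnorm : (B.subgroupOf N).Normal)
    (hcard : Nat.card N = 3 * Nat.card B) {e : G} (heN : e ∈ N) (heB : e ∉ B) :
    (∀ n ∈ N, n ∈ B ∨ n * e⁻¹ ∈ B ∨ n * e ∈ B) ∧ (∀ t ∈ N, t * e * t⁻¹ ≠ e⁻¹) ∧ e ^ 3 ∈ B := by
  haveI := hnorm
  have hQcard : Nat.card (N ⧸ B.subgroupOf N) = 3 := by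
    have h1 := Subgroup.card_eq_card_quotient_mul_card_subgroup (B.subgroupOf N)
    have h2 : Nat.card (B.subgroupOf N) = Nat.card B :=
      Nat.card_congr (Subgroup.subgroupOfEquivOfLe hle).toEquiv
    rw [h2, hcard] at h1
    have hpos : 0 < Nat.card B := Nat.card_pos
    exact (Nat.eq_of_mul_eq_mul_right hpos h1).symm
  haveI : Fact (Nat.Prime 3) := ⟨Nat.prime_three⟩
  obtain ⟨π, hπ⟩ : ∃ π : N →* N ⧸ B.subgroupOf N, π = QuotientGroup.mk' _ := ⟨_, rfl⟩
  have hmem : ∀ n : N, π n = 1 ↔ (n : G) ∈ B := by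
    intro n
    rw [hπ, QuotientGroup.mk'_apply, QuotientGroup.eq_one_iff, Subgroup.mem_subgroupOf]
  obtain ⟨e', he'⟩ : ∃ e' : N, e' = ⟨e, heN⟩ := ⟨_, rfl⟩
  have he1 : π e' ≠ 1 := by
    intro h
    apply heB
    have := (hmem e').1 h
    rwa [he'] at this
  have h3 : (π e') ^ 3 = 1 := by
    rw [← hQcard]; exact pow_card_eq_one'
  have hord : orderOf (π e') = 3 := orderOf_eq_prime h3 he1
  have hgen : ∀ q : N ⧸ B.subgroupOf N, q = 1 ∨ q = π e' ∨ q * π e' = 1 := by
    intro q
    have hz := mem_zpowers_of_prime_card hQcard he1 (g' := q)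
    obtain ⟨k, hk⟩ := Subgroup.mem_zpowers_iff.mp hz
    rw [← zpow_mod_orderOf, hord] at hk
    have h4 : k % ((3 : ℕ) : ℤ) = 0 ∨ k % ((3 : ℕ) : ℤ) = 1 ∨ k % ((3 : ℕ) : ℤ) = 2 := by omega
    rcases h4 with h | h | h
    · left; rw [← hk, h, zpow_zero]
    · right; left; rw [← hk, h, zpow_one]
    · right; right; rw [← hk, h]
      rw [← zpow_add_one]
      have : ((2 : ℤ) + 1) = ((3 : ℕ) : ℤ) := by norm_num
      rw [this, zpow_natCast, h3]
  have hπsurj : ∀ n : N, π n = 1 ∨ π n * π e' = 1 ∨ π n = π e' := by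
    intro n
    rcases hgen (π n) with h | h | h
    · exact Or.inl h
    · exact Or.inr (Or.inr h)
    · exact Or.inr (Or.inl h)
  refine ⟨?_, ?_, ?_⟩
  · intro n hn
    rcases hπsurj ⟨n, hn⟩ with h | h | h
    · left; exact (hmem _).1 h
    · right; right
      have : π (⟨n, hn⟩ * e') = 1 := by rw [map_mul]; exact h
      have h2 := (hmem _).1 this
      rwa [he'] at h2
    · right; left
      have : π (⟨n, hn⟩ * e'⁻¹) = 1 := by rw [map_mul, map_inv, h, mul_inv_cancel]
      have h2 := (hmem _).1 this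
      rwa [he'] at h2
  · intro t ht hte
    have hcomm : π ⟨t, ht⟩ * π e' = π e' * π ⟨t, ht⟩ := by
      rcases hπsurj ⟨t, ht⟩ with h | h | h
      · rw [h, one_mul, mul_one]
      · have h5 : π ⟨t, ht⟩ = (π e')⁻¹ := eq_inv_of_mul_eq_one_left h
        rw [h5, inv_mul_cancel, mul_inv_cancel]
      · rw [h]
    have h6 : (⟨t, ht⟩ : N) * e' * (⟨t, ht⟩ : N)⁻¹ = e'⁻¹ := by
      apply Subtype.ext
      rw [he']
      exact hte
    have h7 := congrArg π h6
    rw [map_mul, map_mul, map_inv, map_inv, hcomm, mul_inv_cancel_right] at h7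
    have h8 : (π e') ^ 2 = 1 := by
      rw [sq]; nth_rewrite 1 [h7]; exact inv_mul_cancel _
    apply he1
    calc π e' = (π e') ^ 3 * ((π e') ^ 2)⁻¹ := by group
      _ = 1 := by rw [h3, h8]; group
  · have : π (e' ^ 3) = 1 := by rw [map_pow, h3]
    have h2 := (hmem _).1 this
    rw [he'] at h2
    exact_mod_cast h2

theorem mem_of_two_elt [Finite G] (P : Sylow 2 G) {w : G} (hw : w ∈ normalizer ((P : Subgroup G) : Set G))
    {k : ℕ} (hk : w ^ (2 ^ k) = 1) : w ∈ P := by
  have hord : orderOf w ∣ 2 ^ k := orderOf_dvd_of_pow_eq_one hk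
  obtain ⟨j, -, hj⟩ := (Nat.dvd_prime_pow Nat.prime_two).1 hord
  have hz : IsPGroup 2 (zpowers w) := IsPGroup.of_card (n := j) (by rw [Nat.card_zpowers, hj])
  have hsup : IsPGroup 2 ((P : Subgroup G) ⊔ zpowers w : Subgroup G) :=
    IsPGroup.to_sup_of_normal_left' P.isPGroup' hz (by
      rw [zpowers_le]; exact hw)
  have := P.is_maximal' hsup le_sup_left
  have h2 : w ∈ (P : Subgroup G) ⊔ zpowers w :=
    (le_sup_right : zpowers w ≤ _) (mem_zpowers w)
  rw [this] at h2
  exact h2

theorem mem_smul_sylow (P : Sylow 2 G) (g c : G) : c ∈ (g • P) ↔ g⁻¹ * c * g ∈ P := by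
  show c ∈ ((g • P : Sylow 2 G) : Subgroup G) ↔ _
  rw [Sylow.coe_subgroup_smul, Subgroup.mem_pointwise_smul_iff_inv_smul_mem]
  simp [MulAut.smul_def]
  rfl

structure TI4 (G : Type*) [Group G] : Prop where
  hI : ∀ u : G, orderOf u = 2 → Nat.card (centralizer ({u} : Set G)) = 4 ∧
    ∀ c ∈ centralizer ({u} : Set G), c ^ 2 = 1
  hS4 : ∀ A : Sylow 2 G, Nat.card (A : Subgroup G) = 4
  hSN : ∀ A : Sylow 2 G, Nat.card (normalizer ((A : Subgroup G) : Set G)) = 12

theorem ord2 {u : G} (h2 : u ^ 2 = 1) (h1 : u ≠ 1) : orderOf u = 2 := by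
  haveI : Fact (Nat.Prime 2) := ⟨Nat.prime_two⟩
  exact orderOf_eq_prime h2 h1

namespace TI4

variable [Finite G] (h : TI4 G)
include h

theorem exp (A : Sylow 2 G) {p : G} (hp : p ∈ A) : p ^ 2 = 1 := by
  by_contra hne
  have h4 : p ^ 4 = 1 := by
    have h1 : (⟨p, hp⟩ : (A : Subgroup G)) ^ 4 = 1 := by
      rw [← h.hS4 A]; exact pow_card_eq_one'
    have := congrArg Subtype.val h1
    simpa using this
  have hu2 : (p ^ 2) ^ 2 = 1 := by rw [← pow_mul]; exact h4
  have hu := ord2 hu2 hne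
  have hpc : p ∈ centralizer ({p ^ 2} : Set G) := by
    rw [mem_centralizer_singleton_iff]
    exact (Commute.self_pow p 2).eq
  exact hne ((h.hI _ hu).2 p hpc)

theorem S1 (A : Sylow 2 G) {u : G} (hu : u ∈ A) (hu1 : u ≠ 1) :
    (A : Subgroup G) = centralizer ({u} : Set G) := by
  have hu2 := ord2 (h.exp A hu) hu1
  have hle : (A : Subgroup G) ≤ centralizer ({u} : Set G) := by
    intro c hc
    rw [mem_centralizer_singleton_iff]
    exact comm_of_exp2 (H := (A : Subgroup G)) (fun c hc => h.exp A hc) hc hu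
  exact Subgroup.eq_of_le_of_card_ge hle (by rw [h.hS4 A, (h.hI u hu2).1])

theorem S2 {A B : Sylow 2 G} (hAB : A ≠ B) {u : G} (huA : u ∈ A) (huB : u ∈ B) : u = 1 := by
  by_contra hu1
  apply hAB
  apply Sylow.ext
  rw [h.S1 A huA hu1, h.S1 B huB hu1]

theorem S3 (A : Sylow 2 G) {w : G} (hw : w ∈ normalizer ((A : Subgroup G) : Set G)) (h2 : w ^ 2 = 1) :
    w ∈ A := mem_of_two_elt A hw (k := 1) (by simpa using h2)

theorem noncomm_odd {u v : G} (hu : orderOf u = 2) (hv : orderOf v = 2) (hc : ¬ Commute u v) :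
    Odd (orderOf (u * v)) := by
  by_contra hodd
  have heven := Nat.not_odd_iff_even.mp hodd
  have hu2 : u ^ 2 = 1 := by rw [← hu]; exact pow_orderOf_eq_one _
  have hv2 : v ^ 2 = 1 := by rw [← hv]; exact pow_orderOf_eq_one _
  obtain ⟨w, hw, hwu, hwv⟩ := exists_commuting_involution hu2 hv2 heven (orderOf_pos _).ne'
  apply hc
  have huC : u ∈ centralizer ({w} : Set G) := by
    rw [mem_centralizer_singleton_iff]; exact hwu.symm.eq
  have hvC : v ∈ centralizer ({w} : Set G) := by
    rw [mem_centralizer_singleton_iff]; exact hwv.symm.eq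
  exact comm_of_exp2 (h.hI w hw).2 huC hvC

theorem swap {A B : Sylow 2 G} (hAB : A ≠ B) {a b : G} (ha : a ∈ A) (ha1 : a ≠ 1) (hb : b ∈ B) (hb1 : b ≠ 1) :
    ∃ s : G, s ^ 2 = 1 ∧ s * a * s⁻¹ = b ∧ s • A = B ∧ s • B = A := by
  have ha2 := ord2 (h.exp A ha) ha1
  have hb2 := ord2 (h.exp B hb) hb1
  have hnc : ¬ Commute a b := by
    intro hc
    have hbC : b ∈ centralizer ({a} : Set G) := by
      rw [mem_centralizer_singleton_iff]; exact hc.symm.eq
    rw [← h.S1 A ha ha1] at hbC
    exact hb1 (h.S2 hAB hbC hb)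
  obtain ⟨s, hs2, hs⟩ := exists_midpoint (h.exp A ha) (h.exp B hb) (h.noncomm_odd ha2 hb2 hnc)
  have hsi : s⁻¹ = s := inv_eq_of_mul_eq_one_left (by rw [← sq, hs2])
  have h1 : s • A = B := by
    apply Sylow.ext
    have hbm : b ∈ s • A := by
      rw [mem_smul_sylow, ← hs]
      convert ha using 1
      group
    rw [h.S1 _ hbm hb1, h.S1 B hb hb1]
  refine ⟨s, hs2, hs, h1, ?_⟩
  rw [← h1, smul_smul, ← sq, hs2, one_smul]

theorem tri (A : Sylow 2 G) {e : G} (heN : e ∈ normalizer ((A : Subgroup G) : Set G)) (heA : e ∉ A) :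
    (∀ n ∈ normalizer ((A : Subgroup G) : Set G), n ∈ A ∨ n * e⁻¹ ∈ A ∨ n * e ∈ A) ∧
      (∀ t ∈ normalizer ((A : Subgroup G) : Set G), t * e * t⁻¹ ≠ e⁻¹) ∧ e ^ 3 ∈ A := by
  have hle : (A : Subgroup G) ≤ normalizer ((A : Subgroup G) : Set G) := Subgroup.le_normalizer
  have := quot_three hle Subgroup.normal_in_normalizer
    (by rw [h.hSN A, h.hS4 A]) heN heA
  exact this

theorem inv_of_swap {A B : Sylow 2 G} (hAB : A ≠ B) {e : G}
    (heA : e • A = A) (heB : e • B = B) (heA' : e ∉ A) (he3 : e ^ 3 = 1)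
    {s : G} (hs2 : s ^ 2 = 1) (hsA : s • A = B) (hsB : s • B = A) : s * e * s⁻¹ = e⁻¹ := by
  have hsi : s⁻¹ = s := inv_eq_of_mul_eq_one_left (by rw [← sq, hs2])
  have heN : e ∈ normalizer ((A : Subgroup G) : Set G) := Sylow.smul_eq_iff_mem_normalizer.mp heA
  have hs1 : s ≠ 1 := by
    rintro rfl
    rw [one_smul] at hsA
    exact hAB hsA
  have hsord := ord2 hs2 hs1
  obtain ⟨hT, -, -⟩ := h.tri A heN heA'
  have he'A : (s * e * s⁻¹) • A = A := by
    rw [hsi, mul_smul, mul_smul, hsA, heB, hsB]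
  have he'B : (s * e * s⁻¹) • B = B := by
    rw [hsi, mul_smul, mul_smul, hsB, heA, hsA]
  have he'NA : s * e * s⁻¹ ∈ normalizer ((A : Subgroup G) : Set G) :=
    Sylow.smul_eq_iff_mem_normalizer.mp he'A
  have hkey : ∀ r : G, r ∈ A → r • B = B → r = 1 := by
    intro r hrA hrB
    exact h.S2 hAB hrA (h.S3 B (Sylow.smul_eq_iff_mem_normalizer.mp hrB) (h.exp A hrA))
  have hinvB : e⁻¹ • B = B := by
    calc e⁻¹ • B = e⁻¹ • (e • B) := by rw [heB]
      _ = B := by rw [smul_smul]; simp
  rcases hT _ he'NA with h1 | h1 | h1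
  · exfalso
    have h2 := hkey _ h1 he'B
    have h3 : e = 1 := by
      calc e = s⁻¹ * (s * e * s⁻¹) * s := by group
        _ = 1 := by rw [h2, hsi, mul_one, ← sq, hs2]
    rw [h3] at heA'
    exact heA' A.one_mem
  · exfalso
    have h2 : (s * e * s⁻¹) * e⁻¹ = 1 := hkey _ h1 (by rw [mul_smul, hinvB, he'B])
    have h3 : s * e * s⁻¹ = e := eq_of_mul_inv_eq_one h2
    have h4 : e ∈ centralizer ({s} : Set G) := by
      rw [mem_centralizer_singleton_iff]
      calc e * s = (s * e * s⁻¹) * s := by rw [h3]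
        _ = s * e := by group
    have h5 : e ^ 2 = 1 := (h.hI s hsord).2 e h4
    have h6 : e = 1 := by
      calc e = e ^ 3 * (e ^ 2)⁻¹ := by group
        _ = 1 := by rw [he3, h5]; group
    rw [h6] at heA'
    exact heA' A.one_mem
  · have h2 : (s * e * s⁻¹) * e = 1 := hkey _ h1 (by rw [mul_smul, heB, he'B])
    exact eq_inv_of_mul_eq_one_left h2

end TI4

namespace TI4

variable [Finite G] (h : TI4 G)
include h

/-- The main count: exactly five Sylow 2-subgroups, unless one is normal. -/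
theorem card_sylow (P : Sylow 2 G) (w : G) (hwN : w ∈ normalizer ((P : Subgroup G) : Set G)) (hwP : w ∉ P)
    (Q₀ : Sylow 2 G) (hQ₀ : Q₀ ≠ P) : Nat.card (Sylow 2 G) = 5 := by
  classical
  -- nonidentity elements
  have hex2 : ∀ Q : Sylow 2 G, ∃ b₁ b₂ : G, b₁ ∈ Q ∧ b₂ ∈ Q ∧ b₁ ≠ 1 ∧ b₂ ≠ 1 ∧ b₁ ≠ b₂ := by
    intro Q
    by_contra hcon
    push Not at hcon
    have h1 : ∃ b ∈ Q, b ≠ (1 : G) := by
      by_contra hc
      push Not at hc
      have hsub : ((Q : Subgroup G) : Set G) ⊆ {1} := fun a ha => hc a ha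
      have := Set.ncard_le_ncard hsub (Set.toFinite _)
      rw [Set.ncard_singleton] at this
      have h4 : ((Q : Subgroup G) : Set G).ncard = 4 := by
        rw [← h.hS4 Q]; exact (Nat.card_coe_set_eq _).symm
      omega
    obtain ⟨b, hb, hb1⟩ := h1
    have hsub : ((Q : Subgroup G) : Set G) ⊆ {1, b} := by
      intro a ha
      by_cases ha1 : a = 1
      · exact Or.inl ha1
      · exact Or.inr (Set.mem_singleton_iff.mpr ((hcon a b ha hb ha1 hb1)))
    have := Set.ncard_le_ncard hsub (Set.toFinite _)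
    have h2 : ({1, b} : Set G).ncard ≤ 2 := by
      have := Set.ncard_insert_le (1 : G) ({b} : Set G)
      rwa [Set.ncard_singleton] at this
    have h4 : ((Q : Subgroup G) : Set G).ncard = 4 := by
      rw [← h.hS4 Q]; exact (Nat.card_coe_set_eq _).symm
    omega
  have hP1 : ∀ A : Sylow 2 G, ∃ a ∈ A, a ≠ (1 : G) := by
    intro A
    obtain ⟨b, _, hb, _, hb1, _⟩ := hex2 A
    exact ⟨b, hb, hb1⟩
  obtain ⟨a, ha, ha1⟩ := hP1 P
  -- existence of the order three element attached to `Q`
  have hE : ∀ Q : {Q : Sylow 2 G // Q ≠ P}, ∃ e : G, e • P = P ∧ e • Q.1 = Q.1 ∧ e ∉ P ∧ e ^ 3 = 1 ∧ w⁻¹ * e ∈ P := by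
    rintro ⟨Q, hQ⟩
    have hPQ : P ≠ Q := hQ.symm
    obtain ⟨b₁, b₂, hb₁, hb₂, hb₁1, hb₂1, hbb⟩ := hex2 Q
    obtain ⟨s₁, hs₁2, hs₁, hs₁P, hs₁Q⟩ := h.swap hPQ ha ha1 hb₁ hb₁1
    obtain ⟨s₂, hs₂2, hs₂, hs₂P, hs₂Q⟩ := h.swap hPQ ha ha1 hb₂ hb₂1
    obtain ⟨t, ht⟩ : ∃ t, t = s₁ * s₂ := ⟨_, rfl⟩
    have htP : t • P = P := by rw [ht, mul_smul, hs₂P, hs₁Q]
    have htQ : t • Q = Q := by rw [ht, mul_smul, hs₂Q, hs₁P]
    have ht1 : t ≠ 1 := by
      intro h1
      apply hbb
      have hs₂i : s₂⁻¹ = s₂ := inv_eq_of_mul_eq_one_left (by rw [← sq, hs₂2])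
      have : s₁ = s₂ := by
        rw [ht] at h1
        have := eq_inv_of_mul_eq_one_left h1
        rw [this, hs₂i]
      rw [← hs₁, ← hs₂, this]
    have hkey : ∀ r : G, r ∈ P → r • Q = Q → r = 1 := by
      intro r hrA hrB
      exact h.S2 hPQ hrA (h.S3 Q (Sylow.smul_eq_iff_mem_normalizer.mp hrB) (h.exp P hrA))
    have htNP : t ∈ normalizer ((P : Subgroup G) : Set G) := Sylow.smul_eq_iff_mem_normalizer.mp htP
    have htnP : t ∉ P := fun hm => ht1 (hkey t hm htQ)
    obtain ⟨-, -, ht3⟩ := h.tri P htNP htnP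
    have ht3' : t ^ 3 = 1 := by
      refine hkey _ ht3 ?_
      have : t ^ 3 = t * (t * t) := by simp only [pow_succ, pow_zero, one_mul, mul_assoc]
      rw [this, mul_smul, mul_smul, htQ, htQ, htQ]
    obtain ⟨hT, -, -⟩ := h.tri P hwN hwP
    have htiP : t⁻¹ • P = P := by
      calc t⁻¹ • P = t⁻¹ • (t • P) := by rw [htP]
        _ = P := by rw [smul_smul]; simp
    have htiQ : t⁻¹ • Q = Q := by
      calc t⁻¹ • Q = t⁻¹ • (t • Q) := by rw [htQ]
        _ = Q := by rw [smul_smul]; simp
    have hnorm : ∀ r ∈ (P : Subgroup G), w⁻¹ * r * w ∈ (P : Subgroup G) := by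
      intro r hr
      have := (mem_normalizer_iff.mp hwN r).1 hr
      have h2 := (mem_normalizer_iff.mp (inv_mem hwN) r).1 hr
      simpa using h2
    rcases hT t htNP with h1 | h1 | h1
    · exact absurd h1 htnP
    · refine ⟨t, htP, htQ, htnP, ht3', ?_⟩
      have e1 : w⁻¹ * t = w⁻¹ * (t * w⁻¹) * w := by group
      rw [e1]
      exact hnorm _ h1
    · refine ⟨t⁻¹, htiP, htiQ, fun hm => htnP (by
        have := (P : Subgroup G).inv_mem hm
        rwa [inv_inv] at this), ?_, ?_⟩
      · rw [inv_pow, ht3', inv_one]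
      · have e1 : w⁻¹ * t⁻¹ = (t * w)⁻¹ := by group
        rw [e1]
        exact (P : Subgroup G).inv_mem h1
  choose e heP heQ heN he3 hew using hE
  -- the map is injective
  have hinj : Function.Injective (fun Q : {Q : Sylow 2 G // Q ≠ P} => (⟨w⁻¹ * e Q, hew Q⟩ : (P : Subgroup G))) := by
    rintro Q R hQR
    have hQR' : e Q = e R := by
      have := congrArg Subtype.val hQR
      exact mul_left_cancel this
    by_contra hne
    have hne' : Q.1 ≠ R.1 := fun hh => hne (Subtype.ext hh)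
    obtain ⟨f, hf⟩ : ∃ f, f = e Q := ⟨_, rfl⟩
    have hfP : f • P = P := by rw [hf]; exact heP Q
    have hfQ : f • Q.1 = Q.1 := by rw [hf]; exact heQ Q
    have hfR : f • R.1 = R.1 := by rw [hf, hQR']; exact heQ R
    have hfnP : f ∉ P := by rw [hf]; exact heN Q
    have hf3 : f ^ 3 = 1 := by rw [hf]; exact he3 Q
    have hfnot : ∀ A : Sylow 2 G, f ∉ A := by
      intro A hm
      have h2 := h.exp A hm
      have : f = 1 := by
        calc f = f ^ 3 * (f ^ 2)⁻¹ := by group
          _ = 1 := by rw [hf3, h2]; group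
      rw [this] at hfnP
      exact hfnP P.one_mem
    have hPQ : P ≠ Q.1 := Q.2.symm
    have hPR : P ≠ R.1 := R.2.symm
    obtain ⟨b, hb, hb1⟩ := hP1 Q.1
    obtain ⟨c, hc, hc1⟩ := hP1 R.1
    obtain ⟨u, hu2, -, huP, huQ⟩ := h.swap hPQ ha ha1 hb hb1
    obtain ⟨v, hv2, -, hvP, hvR⟩ := h.swap hPR ha ha1 hc hc1
    obtain ⟨d, hd2, -, hdQ, hdR⟩ := h.swap hne' hb hb1 hc hc1
    have i1 := h.inv_of_swap hPQ hfP hfQ hfnP hf3 hu2 huP huQ
    have i2 := h.inv_of_swap hPR hfP hfR hfnP hf3 hv2 hvP hvR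
    have i3 := h.inv_of_swap hne' hfQ hfR (hfnot _) hf3 hd2 hdQ hdR
    obtain ⟨t, ht⟩ : ∃ t, t = d * u * v := ⟨_, rfl⟩
    have htR : t • R.1 = R.1 := by
      rw [ht, mul_smul, mul_smul, hvR, huP, hdQ]
    have htN : t ∈ normalizer (((R.1 : Sylow 2 G) : Subgroup G) : Set G) :=
      Sylow.smul_eq_iff_mem_normalizer.mp htR
    have hfN : f ∈ normalizer (((R.1 : Sylow 2 G) : Subgroup G) : Set G) :=
      Sylow.smul_eq_iff_mem_normalizer.mp hfR
    obtain ⟨-, hT, -⟩ := h.tri R.1 hfN (hfnot _)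
    apply hT t htN
    have i1' : u * f⁻¹ * u⁻¹ = f := by
      have := congrArg (fun y => y⁻¹) i1
      simp only [mul_inv_rev, inv_inv] at this
      calc u * f⁻¹ * u⁻¹ = (u * f * u⁻¹)⁻¹ := by group
        _ = f := by rw [i1, inv_inv]
    calc t * f * t⁻¹ = d * (u * (v * f * v⁻¹) * u⁻¹) * d⁻¹ := by rw [ht]; group
      _ = d * (u * f⁻¹ * u⁻¹) * d⁻¹ := by rw [i2]
      _ = d * f * d⁻¹ := by rw [i1']
      _ = f⁻¹ := i3
  have hle : Nat.card {Q : Sylow 2 G // Q ≠ P} ≤ 4 := by
    rw [← h.hS4 P]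
    exact Nat.card_le_card_of_injective _ hinj
  -- lower bound
  have hge : 4 ≤ Nat.card {Q : Sylow 2 G // Q ≠ P} := by
    have hpP : ∀ p : (P : Subgroup G), (p : G) • Q₀ ≠ P := by
      intro p hp
      have hpN : (p : G) • P = P := Sylow.smul_eq_iff_mem_normalizer.mpr (Subgroup.le_normalizer p.2)
      apply hQ₀
      calc Q₀ = (p : G)⁻¹ • ((p : G) • Q₀) := by rw [smul_smul]; simp
        _ = (p : G)⁻¹ • ((p : G) • P) := by rw [hp, hpN]
        _ = P := by rw [smul_smul]; simp
    have hinj2 : Function.Injective (fun p : (P : Subgroup G) => (⟨(p : G) • Q₀, hpP p⟩ : {Q : Sylow 2 G // Q ≠ P})) := by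
      intro p p' hpp
      have h1 : (p : G) • Q₀ = (p' : G) • Q₀ := congrArg Subtype.val hpp
      have h2 : ((p' : G)⁻¹ * (p : G)) • Q₀ = Q₀ := by
        rw [mul_smul, h1, smul_smul]; simp
      have h3 : (p' : G)⁻¹ * (p : G) ∈ P := (P : Subgroup G).mul_mem ((P : Subgroup G).inv_mem p'.2) p.2
      have h4 : (p' : G)⁻¹ * (p : G) ∈ Q₀ :=
        h.S3 Q₀ (Sylow.smul_eq_iff_mem_normalizer.mp h2) (h.exp P h3)
      have h5 := h.S2 hQ₀.symm h3 h4
      apply Subtype.ext
      have h6 := inv_mul_eq_one.mp h5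
      exact h6.symm
    rw [← h.hS4 P]
    exact Nat.card_le_card_of_injective _ hinj2
  have hfour : Nat.card {Q : Sylow 2 G // Q ≠ P} = 4 := le_antisymm hle hge
  rw [← Nat.card_congr (Equiv.optionSubtypeNe P), Finite.card_option, hfour]

end TI4

theorem stepB [Finite G] (x : G) (hx : orderOf x = 2)
    (hC4 : Nat.card ↥(centralizer ({x} : Set G)) = 4) (hCe : ∀ c ∈ centralizer ({x} : Set G), c ^ 2 = 1)
    (hnc : ¬ Cfsg.HasNormalPComplement 2 G)
    (hne : ∀ E : Subgroup G, E.Normal → Cfsg.IsElementaryAbelian 2 E → Nat.card ↥E ≠ 2 ∧ Nat.card ↥E ≠ 4)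
    (P : Sylow 2 G) (hP : (P : Subgroup G) = centralizer ({x} : Set G)) :
    Nonempty (G ≃* ↥(alternatingGroup (Fin 5))) := by
  classical
  haveI : Fact (Nat.Prime 2) := ⟨Nat.prime_two⟩
  have hxC : ∀ c, c ∈ P ↔ c * x = x * c := by
    intro c
    show c ∈ (P : Subgroup G) ↔ _
    rw [hP, mem_centralizer_singleton_iff]
  have hPexp : ∀ c ∈ (P : Subgroup G), c ^ 2 = 1 := by
    intro c hc; rw [hP] at hc; exact hCe c hc
  have hxmem : x ∈ P := (hxC x).2 rfl
  have hx2 : x ^ 2 = 1 := hPexp x hxmem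
  have hx1 : x ≠ 1 := by
    rintro rfl; simp at hx
  have hP4 : Nat.card (P : Subgroup G) = 4 := by rw [hP]; exact hC4
  -- Burnside
  have hBur : ¬ normalizer ((P : Subgroup G) : Set G) ≤ centralizer ((P : Subgroup G) : Set G) := by
    intro hle
    exact hnc ⟨P, _, inferInstance, MonoidHom.ker_transferSylow_isComplement' P hle⟩
  obtain ⟨w, hwN, hwC⟩ := SetLike.not_le_iff_exists.mp hBur
  have hwP : w ∉ P := by
    intro hm
    apply hwC
    rw [mem_centralizer_iff]
    intro c hc
    exact comm_of_exp2 hPexp hc hm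
  have hN : ∀ c ∈ (P : Subgroup G), w * c * w⁻¹ ∈ (P : Subgroup G) :=
    fun c hc => (mem_normalizer_iff.mp hwN c).1 hc
  obtain ⟨y, hy⟩ : ∃ y, y = w * x * w⁻¹ := ⟨_, rfl⟩
  have hyC : y ∈ P := by rw [hy]; exact hN x hxmem
  have hyx : y ≠ x := by
    intro h
    apply hwP
    rw [hxC]
    have : w * x * w⁻¹ = x := by rw [← hy]; exact h
    calc w * x = w * x * w⁻¹ * w := by group
      _ = x * w := by rw [this]
  have hy1 : y ≠ 1 := by
    intro h
    apply hx1
    rw [hy] at h
    calc x = w⁻¹ * (w * x * w⁻¹) * w := by group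
      _ = 1 := by rw [h]; group
  have hxy1 : x * y ≠ 1 := by
    intro h
    have hxi : x⁻¹ = x := inv_eq_of_mul_eq_one_left (by rw [← sq, hx2])
    apply hyx
    have := eq_inv_of_mul_eq_one_right h
    rw [this, hxi]
  have hcomm : x * y = y * x := comm_of_exp2 hPexp hxmem hyC
  obtain ⟨z, hz⟩ : ∃ z, z = x * y := ⟨_, rfl⟩
  have hzC : z ∈ P := by rw [hz]; exact (P : Subgroup G).mul_mem hxmem hyC
  have hcover : ∀ c ∈ (P : Subgroup G), c = 1 ∨ c = x ∨ c = y ∨ c = z := by
    intro c hc
    rw [hz]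
    exact four_cover hP4 hxmem hyC hx1 hy1 hyx.symm hxy1 c hc
  have hzne : z ≠ y := by
    rw [hz]; intro h
    apply hx1
    have : x * y = 1 * y := by rw [one_mul]; exact h
    exact mul_right_cancel this
  have hzne' : z ≠ x := by
    rw [hz]; intro h
    apply hy1
    have : x * y = x * 1 := by rw [mul_one]; exact h
    exact mul_left_cancel this
  have hwy : w * y * w⁻¹ = z := by
    rcases hcover _ (hN y hyC) with h | h | h | h
    · exfalso; apply hy1
      calc y = w⁻¹ * (w * y * w⁻¹) * w := by group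
        _ = 1 := by rw [h]; group
    · exfalso
      have hw2 : w ^ 2 ∈ P := by
        rw [hxC]
        have h3 : w ^ 2 * x * (w ^ 2)⁻¹ = x := by
          have e1 : w ^ 2 * x * (w ^ 2)⁻¹ = w * (w * x * w⁻¹) * w⁻¹ := by
            simp only [pow_succ, pow_zero, one_mul]; group
          rw [e1, ← hy, h]
        calc w ^ 2 * x = w ^ 2 * x * (w ^ 2)⁻¹ * w ^ 2 := by group
          _ = x * w ^ 2 := by rw [h3]
      have hw4 : w ^ (2 ^ 2) = 1 := by
        have := hPexp _ hw2
        rw [← pow_mul] at this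
        exact this
      exact hwP (mem_of_two_elt P hwN hw4)
    · exfalso; apply hyx
      have : w * y * w⁻¹ = w * x * w⁻¹ := by rw [h, ← hy]
      exact mul_left_cancel (mul_right_cancel this)
    · exact h
  have hwz : w * z * w⁻¹ = x := by
    have h1 : w * z * w⁻¹ = (w * x * w⁻¹) * (w * y * w⁻¹) := by rw [hz]; group
    rw [h1, ← hy, hwy, hz]
    have hy2 := hPexp y hyC
    calc y * (x * y) = y * (y * x) := by rw [hcomm]
      _ = y ^ 2 * x := by rw [sq]; group
      _ = x := by rw [hy2, one_mul]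
  have hxy' : IsConj x y := isConj_iff.mpr ⟨w, hy.symm⟩
  have hxz' : IsConj x z := hxy'.trans (isConj_iff.mpr ⟨w, hwy⟩)
  -- all involutions are conjugate to `x`
  have hall : ∀ u : G, orderOf u = 2 → IsConj x u := by
    intro u hu
    have hz' : IsPGroup 2 (zpowers u) := IsPGroup.of_card (n := 1) (by rw [Nat.card_zpowers, hu, pow_one])
    obtain ⟨T, hT⟩ := hz'.exists_le_sylow
    obtain ⟨g, hg⟩ := MulAction.exists_smul_eq G P T
    have hu' : u ∈ T := hT (mem_zpowers u)
    rw [← hg, mem_smul_sylow] at hu'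
    have hu1 : g⁻¹ * u * g ≠ 1 := by
      intro h1
      have : u = g * (g⁻¹ * u * g) * g⁻¹ := by group
      rw [h1] at this
      rw [this] at hu
      simp at hu
    have hconj : IsConj (g⁻¹ * u * g) u := isConj_iff.mpr ⟨g, by group⟩
    rcases hcover _ hu' with h | h | h | h
    · exact absurd h hu1
    · rw [← h]; exact hconj
    · rw [h] at hconj; exact hxy'.trans hconj
    · rw [h] at hconj; exact hxz'.trans hconj
  have hI : ∀ u : G, orderOf u = 2 → Nat.card (centralizer ({u} : Set G)) = 4 ∧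
      ∀ c ∈ centralizer ({u} : Set G), c ^ 2 = 1 := by
    intro u hu
    obtain ⟨g, rfl⟩ := isConj_iff.mp (hall u hu)
    refine ⟨by rw [card_centralizer_conj]; exact hC4, ?_⟩
    intro c hc
    rw [mem_centralizer_singleton_iff] at hc
    have h1 : g⁻¹ * c * g ∈ centralizer ({x} : Set G) := by
      rw [mem_centralizer_singleton_iff]
      calc g⁻¹ * c * g * x = g⁻¹ * (c * (g * x * g⁻¹)) * g := by group
        _ = g⁻¹ * (g * x * g⁻¹ * c) * g := by rw [hc]
        _ = x * (g⁻¹ * c * g) := by group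
    have h2 := hCe _ h1
    have h3 : c ^ 2 = g * (g⁻¹ * c * g) ^ 2 * g⁻¹ := by
      simp only [sq]; group
    rw [h3, h2]; group
  -- the normalizer has order twelve
  have hNcard : Nat.card (normalizer ((P : Subgroup G) : Set G)) = 12 := by
    have hmemN : ∀ p : ↥(P : Subgroup G) × Fin 3, w ^ (p.2 : ℕ) * (p.1 : G) ∈ normalizer ((P : Subgroup G) : Set G) := by
      intro p
      exact mul_mem (pow_mem hwN _) (Subgroup.le_normalizer p.1.2)
    have hτ : ∀ i : ℕ, ∀ c ∈ (P : Subgroup G), (w ^ i * c) * x * (w ^ i * c)⁻¹ = w ^ i * x * (w ^ i)⁻¹ := by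
      intro i c hc
      have h1 := (hxC c).1 hc
      calc (w ^ i * c) * x * (w ^ i * c)⁻¹ = w ^ i * (c * x) * c⁻¹ * (w ^ i)⁻¹ := by group
        _ = w ^ i * (x * c) * c⁻¹ * (w ^ i)⁻¹ := by rw [h1]
        _ = _ := by group
    have h0 : w ^ 0 * x * (w ^ 0)⁻¹ = x := by group
    have h1 : w ^ 1 * x * (w ^ 1)⁻¹ = y := by rw [hy]; group
    have h2 : w ^ 2 * x * (w ^ 2)⁻¹ = z := by
      rw [← hwy, hy]; simp only [pow_succ, pow_zero, one_mul]; group
    have hbij : Function.Bijective (fun p : ↥(P : Subgroup G) × Fin 3 =>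
        (⟨w ^ (p.2 : ℕ) * (p.1 : G), hmemN p⟩ : normalizer ((P : Subgroup G) : Set G))) := by
      constructor
      · rintro ⟨c, i⟩ ⟨c', j⟩ hij
        have hij' : w ^ (i : ℕ) * (c : G) = w ^ (j : ℕ) * (c' : G) := congrArg Subtype.val hij
        have hijx : w ^ (i : ℕ) * x * (w ^ (i : ℕ))⁻¹ = w ^ (j : ℕ) * x * (w ^ (j : ℕ))⁻¹ := by
          rw [← hτ _ c c.2, ← hτ _ c' c'.2, hij']
        have hi : i = j := by
          fin_cases i <;> fin_cases j <;> first | rfl | (exfalso; change w ^ _ * x * (w ^ _)⁻¹ = w ^ _ * x * (w ^ _)⁻¹ at hijx; first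
            | (rw [h0, h1] at hijx; exact hyx hijx.symm)
            | (rw [h0, h2] at hijx; exact hzne' hijx.symm)
            | (rw [h1, h0] at hijx; exact hyx hijx)
            | (rw [h1, h2] at hijx; exact hzne hijx.symm)
            | (rw [h2, h0] at hijx; exact hzne' hijx)
            | (rw [h2, h1] at hijx; exact hzne hijx))
        subst hi
        have : (c : G) = c' := mul_left_cancel hij'
        exact Prod.ext (Subtype.ext this) rfl
      · rintro ⟨n, hn⟩
        have hnx : n * x * n⁻¹ ∈ (P : Subgroup G) := (mem_normalizer_iff.mp hn x).1 hxmem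
        have hne1 : n * x * n⁻¹ ≠ 1 := by
          intro h
          apply hx1
          calc x = n⁻¹ * (n * x * n⁻¹) * n := by group
            _ = 1 := by rw [h]; group
        have hfind : ∃ i : Fin 3, n * x * n⁻¹ = w ^ (i : ℕ) * x * (w ^ (i : ℕ))⁻¹ := by
          rcases hcover _ hnx with h | h | h | h
          · exact absurd h hne1
          · exact ⟨0, by rw [h]; exact h0.symm⟩
          · exact ⟨1, by rw [h]; exact h1.symm⟩
          · exact ⟨2, by rw [h]; exact h2.symm⟩
        obtain ⟨i, hi⟩ := hfind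
        have hcm : (w ^ (i : ℕ))⁻¹ * n ∈ (P : Subgroup G) := by
          show _ ∈ P
          rw [hxC]
          have h3 : (n * x * n⁻¹) * n = (w ^ (i : ℕ) * x * (w ^ (i : ℕ))⁻¹) * n := by rw [hi]
          calc (w ^ (i : ℕ))⁻¹ * n * x = (w ^ (i : ℕ))⁻¹ * ((n * x * n⁻¹) * n) := by group
            _ = (w ^ (i : ℕ))⁻¹ * ((w ^ (i : ℕ) * x * (w ^ (i : ℕ))⁻¹) * n) := by rw [h3]
            _ = x * ((w ^ (i : ℕ))⁻¹ * n) := by group
        refine ⟨(⟨_, hcm⟩, i), Subtype.ext ?_⟩
        show w ^ (i : ℕ) * ((w ^ (i : ℕ))⁻¹ * n) = n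
        group
    rw [← Nat.card_congr (Equiv.ofBijective _ hbij), Nat.card_prod, hP4, Nat.card_fin]
  -- cards for all Sylow subgroups
  have hS4 : ∀ A : Sylow 2 G, Nat.card (A : Subgroup G) = 4 := by
    intro A
    rw [Sylow.card_eq_multiplicity, ← Sylow.card_eq_multiplicity P, hP4]
  have hSN : ∀ A : Sylow 2 G, Nat.card (normalizer ((A : Subgroup G) : Set G)) = 12 := by
    intro A
    have h1 : Nat.card (Sylow 2 G) = (normalizer ((A : Subgroup G) : Set G)).index := Sylow.card_eq_index_normalizer A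
    have h2 : Nat.card (Sylow 2 G) = (normalizer ((P : Subgroup G) : Set G)).index := Sylow.card_eq_index_normalizer P
    have h3 := Subgroup.card_mul_index (normalizer ((A : Subgroup G) : Set G))
    have h4 := Subgroup.card_mul_index (normalizer ((P : Subgroup G) : Set G))
    have h5 : 0 < (normalizer ((P : Subgroup G) : Set G)).index := by
      rw [← h2]; exact Nat.card_pos
    have h6 : (normalizer ((A : Subgroup G) : Set G)).index = (normalizer ((P : Subgroup G) : Set G)).index := by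
      rw [← h1]; exact h2
    rw [h6, ← h4] at h3
    rw [Nat.eq_of_mul_eq_mul_right h5 h3, hNcard]
  have hTI : TI4 G := ⟨hI, hS4, hSN⟩
  -- another Sylow subgroup exists
  have hQ₀ : ∃ Q₀ : Sylow 2 G, Q₀ ≠ P := by
    by_contra hcon
    push Not at hcon
    have hnorm : (P : Subgroup G).Normal := by
      rw [← normalizer_eq_top_iff, eq_top_iff]
      intro g _
      exact Sylow.smul_eq_iff_mem_normalizer.mp (hcon _)
    have hEl : Cfsg.IsElementaryAbelian 2 (P : Subgroup G) := by
      refine ⟨⟨⟨?_⟩⟩, hPexp⟩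
      rintro ⟨a, ha⟩ ⟨b, hb⟩
      exact Subtype.ext (comm_of_exp2 hPexp ha hb)
    exact (hne _ hnorm hEl).2 hP4
  obtain ⟨Q₀, hQ₀⟩ := hQ₀
  have hcard5 := hTI.card_sylow P w hwN hwP Q₀ hQ₀
  have hG60 : Nat.card G = 60 := by
    have h1 : Nat.card (Sylow 2 G) = (normalizer ((P : Subgroup G) : Set G)).index := Sylow.card_eq_index_normalizer P
    have h2 := Subgroup.card_mul_index (normalizer ((P : Subgroup G) : Set G))
    rw [← h1, hcard5, hNcard] at h2
    omega
  -- the action on the five Sylow subgroups is faithful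
  obtain ⟨φ, hφ⟩ : ∃ φ : G →* Equiv.Perm (Sylow 2 G), φ = MulAction.toPermHom G (Sylow 2 G) := ⟨_, rfl⟩
  have hφa : ∀ (g : G) (A : Sylow 2 G), φ g A = g • A := by
    intro g A; rw [hφ]; rfl
  have hker : ∀ k : G, φ k = 1 → k = 1 := by
    intro k hk
    have hkfix : ∀ (k : G), φ k = 1 → ∀ A : Sylow 2 G, k • A = A := by
      intro k hk A
      rw [← hφa, hk]; rfl
    have hkP : k • P = P := hkfix k hk P
    have hkerP : ∀ r : G, φ r = 1 → r ∈ P → r = 1 := by
      intro r hr hrP
      have h1 := hkfix r hr Q₀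
      exact hTI.S2 hQ₀.symm hrP (hTI.S3 Q₀ (Sylow.smul_eq_iff_mem_normalizer.mp h1) (hTI.exp P hrP))
    have hkN : k ∈ normalizer ((P : Subgroup G) : Set G) := Sylow.smul_eq_iff_mem_normalizer.mp hkP
    have hc : k * x * k⁻¹ * x⁻¹ = 1 := by
      apply hkerP
      · have : φ (k * x * k⁻¹ * x⁻¹) = φ k * φ (x * k⁻¹ * x⁻¹) := by rw [← map_mul]; group
        rw [this, hk, map_mul, map_mul, map_inv, hk]
        simp
      · have h1 : k * x * k⁻¹ ∈ (P : Subgroup G) := (mem_normalizer_iff.mp hkN x).1 hxmem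
        exact (P : Subgroup G).mul_mem h1 ((P : Subgroup G).inv_mem hxmem)
    have hkC : k ∈ P := by
      rw [hxC]
      have := mul_inv_eq_one.mp hc
      calc k * x = k * x * k⁻¹ * k := by group
        _ = x * k := by rw [this]
    exact hkerP k hk hkC
  have hinj : Function.Injective φ := by
    rw [injective_iff_map_eq_one]
    exact hker
  obtain ⟨e⟩ : Nonempty (Sylow 2 G ≃ Fin 5) := ⟨Finite.equivFinOfCardEq hcard5⟩
  obtain ⟨ψ, hψ⟩ : ∃ ψ : G →* Equiv.Perm (Fin 5), ψ = (Equiv.permCongrHom e).toMonoidHom.comp φ := ⟨_, rfl⟩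
  have hψinj : Function.Injective ψ := by
    rw [hψ]
    exact (Equiv.permCongrHom e).injective.comp hinj
  have hrange : ψ.range.index = 2 := by
    have h1 := Subgroup.card_mul_index ψ.range
    have h2 : Nat.card ψ.range = 60 := by
      rw [← hG60]; exact (Nat.card_congr (MonoidHom.ofInjective hψinj).toEquiv).symm
    have h3 : Nat.card (Equiv.Perm (Fin 5)) = 120 := by
      rw [Nat.card_eq_fintype_card, Fintype.card_perm, Fintype.card_fin]; rfl
    rw [h2, h3] at h1
    omega
  have hR := Equiv.Perm.eq_alternatingGroup_of_index_eq_two hrange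
  exact ⟨(MonoidHom.ofInjective hψinj).trans (MulEquiv.subgroupCongr hR)⟩


/-- Let G be a finite group containing an involution whose centralizer is elementary abelian of order 4. If G has no normal 2-complement and no normal elementary abelian 2-subgroup of order 2 or 4, then G is isomorphic to the alternating group of degree 5 (that is, to PSL(2, 5)). -/
theorem result {G : Type*} [Group G] [Finite G] (x : G) (hx : orderOf x = 2)
    (hC4 : Nat.card ↥(Subgroup.centralizer ({x} : Set G)) = 4) (hCe : ∀ c ∈ Subgroup.centralizer ({x} : Set G), c ^ 2 = 1)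
    (hnc : ¬ Cfsg.HasNormalPComplement 2 G)
    (hne : ∀ E : Subgroup G, E.Normal → Cfsg.IsElementaryAbelian 2 E → Nat.card ↥E ≠ 2 ∧ Nat.card ↥E ≠ 4) :
    Nonempty (G ≃* ↥(alternatingGroup (Fin 5))) := by
  classical
  haveI : Fact (Nat.Prime 2) := ⟨Nat.prime_two⟩
  have hpC : IsPGroup 2 (Subgroup.centralizer ({x} : Set G)) := IsPGroup.of_card (n := 2) (by rw [hC4]; norm_num)
  obtain ⟨T, hT⟩ := hpC.exists_le_sylow
  by_cases hTC : (T : Subgroup G) = Subgroup.centralizer ({x} : Set G)
  · exact stepB x hx hC4 hCe hnc hne T hTC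
  · exfalso
    haveI : Group.IsNilpotent (T : Subgroup G) := T.isPGroup'.isNilpotent
    have hcond := Group.normalizerCondition_of_isNilpotent (G := (T : Subgroup G))
    obtain ⟨C, hCdef⟩ : ∃ C : Subgroup G, C = Subgroup.centralizer ({x} : Set G) := ⟨_, rfl⟩
    rw [← hCdef] at hT hTC
    have hlt : C.subgroupOf (T : Subgroup G) < ⊤ := by
      rw [lt_top_iff_ne_top]
      intro htop
      apply hTC
      apply le_antisymm _ hT
      intro t ht
      have : (⟨t, ht⟩ : (T : Subgroup G)) ∈ C.subgroupOf (T : Subgroup G) := by rw [htop]; trivial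
      exact this
    obtain ⟨g, hgN, hgC⟩ := SetLike.exists_of_lt (hcond _ hlt)
    have hgC' : (g : G) ∉ C := hgC
    obtain ⟨k, hk⟩ := T.isPGroup' g
    have hk' : (g : G) ^ (2 ^ k) = 1 := by
      have := congrArg Subtype.val hk
      simpa using this
    have hgN' : (g : G) ∈ Subgroup.normalizer ((Subgroup.centralizer ({x} : Set G) : Subgroup G) : Set G) := by
      rw [← hCdef, Subgroup.mem_normalizer_iff]
      intro c
      constructor
      · intro hc
        have h1 := (Subgroup.mem_normalizer_iff.mp hgN ⟨c, hT hc⟩).1 hc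
        exact h1
      · intro hc
        have h0 : c ∈ (T : Subgroup G) := by
          have : c = (g : G)⁻¹ * ((g : G) * c * (g : G)⁻¹) * (g : G) := by group
          rw [this]
          exact (T : Subgroup G).mul_mem ((T : Subgroup G).mul_mem ((T : Subgroup G).inv_mem g.2) (hT hc)) g.2
        have h1 := (Subgroup.mem_normalizer_iff.mp hgN ⟨c, h0⟩).2 hc
        exact h1
    exact stepA x hx hC4 hCe hne (g : G) hgN' (by rw [← hCdef]; exact hgC') k hk'

end Cfsg.Agent.S3277
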