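import Cfsg.Statements.S3309
import Mathlib
import Cfsg.Agent.Lib.Components.CentInt
import Cfsg.Agent.S3277
import Cfsg.Agent.Lib.TwoFusion.FusionInv

set_option autoImplicit false
open Cfsg

namespace Cfsg.Agent.S3309

open Subgroup Cfsg.Agent.Lib.Components
open scoped commutatorElement

abbrev T0 := Multiplicative (ZMod 2) × DihedralGroup 4

def u0 : T0 := (Multiplicative.ofAdd 1, 1)
def z0 : T0 := (1, DihedralGroup.r 2)
def r0 : T0 := (1, DihedralGroup.r 1)

def idx (b : Bool) : ZMod 4 := if b then 1 else 0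
def aa (b : Bool) : T0 := (1, DihedralGroup.sr (idx b))
def EP (b : Bool) (x : T0) : Prop :=
  x.2 = DihedralGroup.r 0 ∨ x.2 = DihedralGroup.r 2 ∨ x.2 = DihedralGroup.sr (idx b) ∨
    x.2 = DihedralGroup.sr (idx b + 2)

instance (b : Bool) : DecidablePred (EP b) := fun x => by
  unfold EP; exact inferInstance

def EE (b : Bool) : Subgroup T0 where
  carrier := {x | EP b x}
  mul_mem' := by
    have : ∀ b x y, EP b x → EP b y → EP b (x * y) := by decide +kernel
    exact fun {x y} hx hy => this b x y hx hy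
  one_mem' := by
    have : ∀ b, EP b (1 : T0) := by decide +kernel
    exact this b
  inv_mem' := by
    have : ∀ b x, EP b x → EP b (x⁻¹ : T0) := by decide +kernel
    exact fun {x} hx => this b x hx

theorem mem_EE {b : Bool} {x : T0} : x ∈ EE b ↔ EP b x := Iff.rfl

def ZP (x : T0) : Prop := x = 1 ∨ x = z0 ∨ x = u0 ∨ x = u0 * z0

instance : DecidablePred ZP := fun x => by
  unfold ZP; exact inferInstance

section general

variable {G : Type*} [Group G]

theorem stab_pow {g x c0 : G} (hc0 : g * c0 * g⁻¹ = c0) (hx : g * x * g⁻¹ = x * c0) (k : ℕ) :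
    g ^ k * x * (g ^ k)⁻¹ = x * c0 ^ k := by
  induction k with
  | zero => simp
  | succ k ih =>
    have e1 : g ^ (k + 1) * x * (g ^ (k + 1))⁻¹ = g * (g ^ k * x * (g ^ k)⁻¹) * g⁻¹ := by
      rw [pow_succ']; group
    rw [e1, ih]
    have e2 : g * (x * c0 ^ k) * g⁻¹ = (g * x * g⁻¹) * (g * c0 * g⁻¹) ^ k := by
      rw [conj_pow]; group
    rw [e2, hc0, hx, pow_succ']
    group

theorem stab {g x c0 : G} {n : ℕ} (hn : g ^ n = 1) (hodd : Odd n) (hc0 : g * c0 * g⁻¹ = c0)
    (hx : g * x * g⁻¹ = x * c0) (h4 : c0 ^ 4 = 1) : c0 = 1 := by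
  have h := stab_pow hc0 hx n
  rw [hn] at h
  have h1 : c0 ^ n = 1 := by simpa using h
  have hd : orderOf c0 ∣ Nat.gcd n 4 :=
    Nat.dvd_gcd (orderOf_dvd_of_pow_eq_one h1) (orderOf_dvd_of_pow_eq_one h4)
  have hco : Nat.gcd n 4 = 1 := by
    have : Nat.Coprime n (2 ^ 2) := Nat.Coprime.pow_right 2 (Nat.coprime_two_right.mpr hodd)
    simpa using this
  rw [hco, Nat.dvd_one, orderOf_eq_one_iff] at hd
  exact hd

/-- A group in which 4 does not divide the order has no two commuting distinct involutions. -/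
theorem four_dvd [Finite G] (σ τ : G) (h1 : σ * σ = 1) (h2 : τ * τ = 1) (h3 : σ * τ = τ * σ)
    (n1 : σ ≠ 1) (n2 : τ ≠ 1) (n3 : σ ≠ τ) : 4 ∣ Nat.card G := by
  have e1 : σ⁻¹ = σ := inv_eq_of_mul_eq_one_left h1
  have e2 : τ⁻¹ = τ := inv_eq_of_mul_eq_one_left h2
  have h4 : τ * σ * τ = σ := by rw [← h3, mul_assoc, h2, mul_one]
  have h5 : σ * τ * σ = τ := by rw [h3, mul_assoc, h1, mul_one]
  let V : Subgroup G :=
    { carrier := {x | x = 1 ∨ x = σ ∨ x = τ ∨ x = σ * τ}
      mul_mem' := by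
        rintro a b ha hb
        show a * b = 1 ∨ a * b = σ ∨ a * b = τ ∨ a * b = σ * τ
        have hb' : b = 1 ∨ b = σ ∨ b = τ ∨ b = σ * τ := hb
        rcases ha with rfl | rfl | rfl | rfl
        · simpa using hb'
        · rcases hb' with rfl | rfl | rfl | rfl
          · right; left; simp
          · left; exact h1
          · right; right; right; rfl
          · right; right; left; rw [← mul_assoc, h1, one_mul]
        · rcases hb' with rfl | rfl | rfl | rfl
          · right; right; left; simp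
          · right; right; right; exact h3.symm
          · left; exact h2
          · right; left; rw [← mul_assoc, h4]
        · rcases hb' with rfl | rfl | rfl | rfl
          · right; right; right; simp
          · right; right; left; exact h5
          · right; left; rw [mul_assoc, h2, mul_one]
          · left; rw [← mul_assoc, h5, h2]
      one_mem' := Or.inl rfl
      inv_mem' := by
        rintro a (rfl | rfl | rfl | rfl)
        · simp
        · simp [e1]
        · simp [e2]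
        · show (σ * τ)⁻¹ = 1 ∨ (σ * τ)⁻¹ = σ ∨ (σ * τ)⁻¹ = τ ∨ (σ * τ)⁻¹ = σ * τ
          simp only [mul_inv_rev, e1, e2]
          right; right; right; exact h3.symm }
  have hV : Nat.card V = 4 := by
    have e : Nat.card V = Set.ncard ({1, σ, τ, σ * τ} : Set G) := by
      rw [← Nat.card_coe_set_eq]; rfl
    rw [e]
    rw [Set.ncard_insert_of_notMem (by
        simp only [Set.mem_insert_iff, Set.mem_singleton_iff, not_or]
        refine ⟨n1.symm, n2.symm, ?_⟩
        intro h
        exact n3 (by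
          have : σ⁻¹ = τ := eq_inv_of_mul_eq_one_left h.symm |>.symm ▸ (by simp)
          rw [← this, e1])),
      Set.ncard_insert_of_notMem (by
        simp only [Set.mem_insert_iff, Set.mem_singleton_iff, not_or]
        refine ⟨n3, ?_⟩
        intro h
        exact n2 (by
          have : σ = σ * τ := h
          simpa using this)),
      Set.ncard_insert_of_notMem (by
        simp only [Set.mem_singleton_iff]
        intro h
        exact n1 (by
          have : τ = σ * τ := h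
          simpa using this)),
      Set.ncard_singleton]
  rw [← hV]
  exact Subgroup.card_subgroup_dvd_card V

theorem cj_mul (g x y : G) : g * (x * y) * g⁻¹ = (g * x * g⁻¹) * (g * y * g⁻¹) := by group

theorem nm {R : Subgroup G} {g : G} (hg : g ∈ normalizer (R : Set G)) {x : G} (hx : x ∈ R) :
    g * x * g⁻¹ ∈ R := (mem_normalizer_iff.mp hg x).mp hx

/-- The Sylow image of the action on an abelian normal subgroup of index two in a Sylow subgroup. -/
theorem four_free [Finite G] (S : Sylow 2 G) (E : Subgroup G) (hE : ∀ x ∈ E, ∀ y ∈ E, x * y = y * x)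
    (hSN : (S : Subgroup G) ≤ normalizer (E : Set G)) (t : G) (ht : t ∈ (S : Subgroup G))
    (hT : ∀ x ∈ (S : Subgroup G), x ∈ E ∨ ∃ y ∈ E, x = t * y)
    (a b : G) (ha : a ∈ normalizer (E : Set G)) (hb : b ∈ normalizer (E : Set G))
    (ha2 : ∀ x ∈ E, a * (a * x * a⁻¹) * a⁻¹ = x) (hb2 : ∀ x ∈ E, b * (b * x * b⁻¹) * b⁻¹ = x)
    (hab : ∀ x ∈ E, a * (b * x * b⁻¹) * a⁻¹ = b * (a * x * a⁻¹) * b⁻¹) :
    (∀ x ∈ E, a * x * a⁻¹ = x) ∨ (∀ x ∈ E, b * x * b⁻¹ = x) ∨
      (∀ x ∈ E, a * x * a⁻¹ = b * x * b⁻¹) := by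
  classical
  by_contra hcon
  simp only [not_or, not_forall] at hcon
  obtain ⟨⟨x1, hx1, h1⟩, ⟨x2, hx2, h2⟩, ⟨x3, hx3, h3⟩⟩ := hcon
  obtain ⟨N, hN⟩ : ∃ N : Subgroup G, N = normalizer (E : Set G) := ⟨_, rfl⟩
  have hext : ∀ g₁ g₂ : normalizer (E : Set G),
      (∀ x ∈ E, (g₁ : G) * x * (g₁ : G)⁻¹ = (g₂ : G) * x * (g₂ : G)⁻¹) →
      E.normalizerMonoidHom.rangeRestrict g₁ = E.normalizerMonoidHom.rangeRestrict g₂ := by
    intro g₁ g₂ h
    apply Subtype.ext
    apply MulEquiv.ext
    intro x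
    apply Subtype.ext
    exact h x x.2
  have hext' : ∀ g₁ g₂ : normalizer (E : Set G),
      E.normalizerMonoidHom.rangeRestrict g₁ = E.normalizerMonoidHom.rangeRestrict g₂ →
      (∀ x ∈ E, (g₁ : G) * x * (g₁ : G)⁻¹ = (g₂ : G) * x * (g₂ : G)⁻¹) := by
    intro g₁ g₂ h x hx
    have h' := congrArg (fun f : E.normalizerMonoidHom.range => (((f : MulAut E) ⟨x, hx⟩ : E) : G)) h
    exact h'
  have h4 : 4 ∣ Nat.card E.normalizerMonoidHom.range := by
    apply four_dvd (E.normalizerMonoidHom.rangeRestrict ⟨a, ha⟩)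
      (E.normalizerMonoidHom.rangeRestrict ⟨b, hb⟩)
    · rw [← map_mul, ← map_one E.normalizerMonoidHom.rangeRestrict]
      apply hext
      intro x hx
      have := ha2 x hx
      simp only [Subgroup.coe_mul, Subgroup.coe_one, one_mul, inv_one, mul_one]
      exact (by group : (a * a) * x * (a * a)⁻¹ = a * (a * x * a⁻¹) * a⁻¹).trans this
    · rw [← map_mul, ← map_one E.normalizerMonoidHom.rangeRestrict]
      apply hext
      intro x hx
      have := hb2 x hx
      simp only [Subgroup.coe_mul, Subgroup.coe_one, one_mul, inv_one, mul_one]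
      exact (by group : (b * b) * x * (b * b)⁻¹ = b * (b * x * b⁻¹) * b⁻¹).trans this
    · rw [← map_mul, ← map_mul]
      apply hext
      intro x hx
      have := hab x hx
      simp only [Subgroup.coe_mul]
      calc (a * b) * x * (a * b)⁻¹ = a * (b * x * b⁻¹) * a⁻¹ := by group
        _ = b * (a * x * a⁻¹) * b⁻¹ := this
        _ = (b * a) * x * (b * a)⁻¹ := by group
    · intro h
      rw [← map_one E.normalizerMonoidHom.rangeRestrict] at h
      apply h1
      have := hext' _ _ h x1 hx1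
      simpa using this
    · intro h
      rw [← map_one E.normalizerMonoidHom.rangeRestrict] at h
      apply h2
      have := hext' _ _ h x2 hx2
      simpa using this
    · intro h
      apply h3
      exact hext' _ _ h x3 hx3
  -- the image of the Sylow subgroup
  obtain ⟨P, hP⟩ : ∃ P : Subgroup (normalizer (E : Set G)), P = (S : Subgroup G).subgroupOf _ := ⟨_, rfl⟩
  have hPi : Odd P.index := by
    have hodd : Odd (S : Subgroup G).index := by
      rw [← Nat.not_even_iff_odd, even_iff_two_dvd]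
      exact S.not_dvd_index
    have hd : P.index ∣ (S : Subgroup G).index := by
      rw [hP]
      have := Subgroup.relIndex_mul_index hSN
      rw [← this]
      exact ⟨_, rfl⟩
    exact Odd.of_dvd_nat hodd hd
  obtain ⟨Q, hQ⟩ : ∃ Q, Q = P.map E.normalizerMonoidHom.rangeRestrict := ⟨_, rfl⟩
  have hQi : Odd Q.index := by
    have hd : Q.index ∣ P.index := by
      rw [hQ]
      exact Subgroup.index_map_dvd P E.normalizerMonoidHom.rangeRestrict_surjective
    exact Odd.of_dvd_nat hPi hd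
  have hcard : Nat.card Q ≤ 2 := by
    have hsub : (Q : Set E.normalizerMonoidHom.range) ⊆
        {1, E.normalizerMonoidHom.rangeRestrict ⟨t, hSN ht⟩} := by
      intro q hq
      rw [hQ] at hq
      obtain ⟨p, hp, rfl⟩ := hq
      rw [hP] at hp
      have hp' := Subgroup.mem_subgroupOf.mp (SetLike.mem_coe.mp hp)
      rcases hT _ hp' with h | ⟨y, hy, h⟩
      · left
        rw [← map_one E.normalizerMonoidHom.rangeRestrict]
        apply hext
        intro x hx
        simp only [Subgroup.coe_one, one_mul, inv_one, mul_one]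
        rw [hE _ h _ hx]
        group
      · right
        apply hext
        intro x hx
        rw [h, show t * y * x * (t * y)⁻¹ = t * (y * x) * y⁻¹ * t⁻¹ by group, hE _ hy _ hx]
        group
    have := Set.ncard_le_ncard hsub (Set.toFinite _)
    rw [← Nat.card_coe_set_eq] at this
    refine this.trans ?_
    refine (Set.ncard_insert_le _ _).trans ?_
    rw [Set.ncard_singleton]
  have hmul := Subgroup.card_mul_index Q
  rw [← hmul] at h4
  have hco : Nat.Coprime 4 Q.index := by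
    have : Nat.Coprime (2 ^ 2) Q.index := Nat.Coprime.pow_left 2 (Nat.coprime_two_left.mpr hQi)
    simpa using this
  have h5 : 4 ∣ Nat.card Q := hco.dvd_of_dvd_mul_right h4
  have h6 := Nat.le_of_dvd Nat.card_pos h5
  omega

end general

section main

variable {G : Type*} [Group G] [Finite G] (S : Sylow 2 G) (c : T0 →* G)
  (hc : Function.Injective c) (hcS : ∀ x, c x ∈ (S : Subgroup G))
  (hSc : ∀ y ∈ (S : Subgroup G), ∃ x, c x = y)

include hc in
theorem cinj {g : G} {x y : T0} (h : g * c x * g⁻¹ = g * c y * g⁻¹) : x = y :=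
  hc (by simpa using h)

include hc in
theorem fix_z {g : G} {y y' : T0} (hy : y * y ≠ 1) (h : c y' = g * c y * g⁻¹) :
    g * c z0 * g⁻¹ = c z0 := by
  have sq4 : ∀ y : T0, y * y ≠ 1 → y * y = z0 := by decide +kernel
  have hy' : y' * y' ≠ 1 := by
    intro h1
    apply hy
    apply hc
    have h2 : c (y' * y') = g * c (y * y) * g⁻¹ := by
      rw [map_mul, map_mul, h]; group
    rw [h1, map_one] at h2
    rw [map_one]
    have h3 : g⁻¹ * (g * c (y * y) * g⁻¹) * g = g⁻¹ * 1 * g := by rw [← h2]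
    simpa [mul_assoc] using h3
  rw [← sq4 y hy]
  have h2 : c (y' * y') = g * c (y * y) * g⁻¹ := by
    rw [map_mul, map_mul, h]; group
  rw [← h2, sq4 y' hy', sq4 y hy]

include hc hcS hSc in
theorem nS_fix {n : G} (hn : n ∈ normalizer ((S : Subgroup G) : Set G)) :
    n * c z0 * n⁻¹ = c z0 ∧ n * c u0 * n⁻¹ = c u0 := by
  have hex : ∀ x, ∃ y, c y = n * c x * n⁻¹ := fun x => hSc _ (nm hn (hcS x))
  obtain ⟨y', hy'⟩ := hex r0
  have hz : n * c z0 * n⁻¹ = c z0 := fix_z c hc (y := r0) (by decide +kernel) hy'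
  refine ⟨hz, ?_⟩
  obtain ⟨v, hv⟩ := hex u0
  have hn' : n⁻¹ ∈ normalizer ((S : Subgroup G) : Set G) := inv_mem hn
  have hcomm : ∀ s, v * s = s * v := by
    intro s
    obtain ⟨s', hs'⟩ := hSc _ (nm hn' (hcS s))
    have hs'' : c s = n * c s' * n⁻¹ := by rw [hs']; group
    apply hc
    rw [map_mul, map_mul, hv, hs'']
    have hcu : c u0 * c s' = c s' * c u0 := by
      rw [← map_mul, ← map_mul, (by decide +kernel : ∀ s : T0, u0 * s = s * u0) s']
    calc n * c u0 * n⁻¹ * (n * c s' * n⁻¹) = n * (c u0 * c s') * n⁻¹ := by group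
      _ = n * (c s' * c u0) * n⁻¹ := by rw [hcu]
      _ = _ := by group
  have hv1 : v ≠ 1 := by
    rintro rfl
    rw [map_one] at hv
    have h1 : c u0 = 1 := by
      have h3 : n⁻¹ * (n * c u0 * n⁻¹) * n = n⁻¹ * 1 * n := by rw [← hv]
      simpa [mul_assoc] using h3
    exact absurd (hc (h1.trans (map_one c).symm)) (by decide +kernel)
  have hvz : v ≠ z0 := by
    rintro rfl
    rw [← hz] at hv
    exact absurd (cinj c hc hv).symm (by decide +kernel)
  have hcases : ∀ v : T0, (∀ s, v * s = s * v) → v ≠ 1 → v ≠ z0 → v = u0 ∨ v = u0 * z0 := by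
    decide +kernel
  rcases hcases v hcomm hv1 hvz with rfl | rfl
  · exact hv.symm
  · exfalso
    have hvv : n * c u0 * n⁻¹ = c u0 * c z0 := by rw [← hv, map_mul]
    obtain ⟨a, m, hm, ho⟩ := Nat.exists_eq_two_pow_mul_odd (orderOf_pos n).ne'
    have hmem : n ^ m ∈ (S : Subgroup G) := by
      apply Cfsg.Agent.S3277.mem_of_two_elt S (pow_mem hn m) (k := a)
      rw [← pow_mul, mul_comm, ← ho, pow_orderOf_eq_one]
    obtain ⟨w, hw⟩ := hSc _ hmem
    have hpow := stab_pow hz hvv m
    rw [← hw] at hpow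
    have hwu : c w * c u0 * (c w)⁻¹ = c u0 := by
      have : w * u0 * w⁻¹ = u0 := (by decide +kernel : ∀ w : T0, w * u0 * w⁻¹ = u0) w
      rw [← map_mul, ← map_inv, ← map_mul, this]
    rw [hwu] at hpow
    have h1 : (c z0) ^ m = 1 := by simpa using hpow
    have hz2 : c z0 ^ 2 = 1 := by
      rw [← map_pow, (by decide +kernel : z0 ^ 2 = 1), map_one]
    obtain ⟨k, rfl⟩ := hm
    rw [pow_succ, pow_mul, hz2, one_pow, one_mul] at h1
    exact absurd (hc (h1.trans (map_one c).symm)) (by decide +kernel)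

def ZQ (x : T0) : Prop := x = z0 ∨ x = u0 ∨ x = u0 * z0

instance : DecidablePred ZQ := fun x => by
  unfold ZQ; exact inferInstance

include hc hcS hSc in
/-- Central involutions of the Sylow subgroup are not fused. -/
theorem central_conj {x y : T0} (hx : ZQ x) (hy : ZQ y) {g : G} (h : g * c x * g⁻¹ = c y) :
    x = y := by
  have hcent : ∀ x : T0, ZQ x → ∀ s, s * x = x * s := by decide +kernel
  have h1 : ∀ s ∈ (S : Subgroup G), s * c x = c x * s := by
    intro s hs
    obtain ⟨s', rfl⟩ := hSc s hs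
    rw [← map_mul, ← map_mul, hcent x hx]
  have h2 : ∀ s ∈ (S : Subgroup G), s * (g * c x * g⁻¹) = (g * c x * g⁻¹) * s := by
    intro s hs
    obtain ⟨s', rfl⟩ := hSc s hs
    rw [h, ← map_mul, ← map_mul, hcent y hy]
  obtain ⟨n, hn, hne⟩ := burnside_central S h1 h2
  rw [h] at hne
  obtain ⟨hz, hu⟩ := nS_fix S c hc hcS hSc hn
  have hfix : n * c x * n⁻¹ = c x := by
    rcases hx with rfl | rfl | rfl
    · exact hz
    · exact hu
    · rw [map_mul, cj_mul, hz, hu]
  rw [hfix] at hne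
  exact hc hne

include hc hSc in
/-- Elements of odd order cannot act nontrivially on a centric subgroup with elements of order 4. -/
theorem no_odd (R : Subgroup G) (hRS : R ≤ S) (hu : c u0 ∈ R) (y : T0) (hy : y * y ≠ 1)
    (hyR : c y ∈ R) {g : G} (hg : g ∈ normalizer (R : Set G)) {n : ℕ} (hn : g ^ n = 1)
    (hodd : Odd n) : ∀ w ∈ R, g * w * g⁻¹ = w := by
  have hex : ∀ x, c x ∈ R → ∃ x', c x' = g * c x * g⁻¹ ∧ c x' ∈ R := by
    intro x hx
    have h := nm hg hx
    obtain ⟨x', hx'⟩ := hSc _ (hRS h)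
    exact ⟨x', hx', hx' ▸ h⟩
  have hsq : ∀ {x x' : T0}, c x' = g * c x * g⁻¹ → x * x ≠ 1 → x' * x' ≠ 1 := by
    intro x x' hx' hx h1
    apply hx
    apply hc
    have h2 : c (x' * x') = g * c (x * x) * g⁻¹ := by
      rw [map_mul, map_mul, hx']; group
    rw [h1, map_one] at h2
    rw [map_one]
    have h3 : g⁻¹ * (g * c (x * x) * g⁻¹) * g = g⁻¹ * 1 * g := by rw [← h2]
    simpa [mul_assoc] using h3
  have hsq' : ∀ {x x' : T0}, c x' = g * c x * g⁻¹ → x * x = 1 → x' * x' = 1 := by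
    intro x x' hx' hx
    apply hc
    rw [map_mul, hx', map_one]
    have h2 : g * c (x * x) * g⁻¹ = 1 := by rw [hx]; simp
    rw [map_mul] at h2
    rw [← h2]; group
  obtain ⟨y', hy', hy'R⟩ := hex y hyR
  have hzf : g * c z0 * g⁻¹ = c z0 := fix_z c hc hy hy'
  obtain ⟨v, hv, hvR⟩ := hex u0 hu
  have hy'2 := hsq hy' hy
  have hvy : v * y' = y' * v := by
    apply hc
    rw [map_mul, map_mul, hv, hy']
    have h1 : c u0 * c y = c y * c u0 := by
      rw [← map_mul, ← map_mul, (by decide +kernel : ∀ s : T0, u0 * s = s * u0) y]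
    calc g * c u0 * g⁻¹ * (g * c y * g⁻¹) = g * (c u0 * c y) * g⁻¹ := by group
      _ = g * (c y * c u0) * g⁻¹ := by rw [h1]
      _ = _ := by group
  have hv1 : v * v = 1 := hsq' hv (by decide +kernel)
  have hvne1 : v ≠ 1 := by
    rintro rfl
    rw [map_one] at hv
    have h1 : c u0 = 1 := by
      have h3 : g⁻¹ * (g * c u0 * g⁻¹) * g = g⁻¹ * 1 * g := by rw [← hv]
      simpa [mul_assoc] using h3
    exact absurd (hc (h1.trans (map_one c).symm)) (by decide +kernel)
  have hvnez : v ≠ z0 := by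
    rintro rfl
    rw [← hzf] at hv
    exact absurd (cinj c hc hv).symm (by decide +kernel)
  have hdec : ∀ v y' : T0, y' * y' ≠ 1 → v * y' = y' * v → v * v = 1 → v ≠ 1 → v ≠ z0 →
      v = u0 ∨ v = u0 * z0 := by decide +kernel
  have hp4 : ∀ k : T0, (c k) ^ 4 = 1 := by
    intro k
    rw [← map_pow, (by decide +kernel : ∀ k : T0, k ^ 4 = 1) k, map_one]
  have huf : g * c u0 * g⁻¹ = c u0 := by
    rcases hdec v y' hy'2 hvy hv1 hvne1 hvnez with rfl | rfl
    · exact hv.symm
    · exfalso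
      have h1 : c z0 = 1 := stab hn hodd hzf (by rw [← hv, map_mul]) (hp4 z0)
      exact absurd (hc (h1.trans (map_one c).symm)) (by decide +kernel)
  have hZ : ∀ k, ZP k → g * c k * g⁻¹ = c k := by
    rintro k (rfl | rfl | rfl | rfl)
    · simp
    · exact hzf
    · exact huf
    · rw [map_mul, cj_mul, hzf, huf]
  have hfin : ∀ {x x' : T0}, c x' = g * c x * g⁻¹ → g * c (x⁻¹ * x') * g⁻¹ = c (x⁻¹ * x') → x' = x := by
    intro x x' hx' hk
    have h1 : c (x⁻¹ * x') = 1 :=
      stab hn hodd hk (by rw [← hx', ← map_mul, mul_inv_cancel_left]) (hp4 _)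
    have h2 : x⁻¹ * x' = 1 := hc (h1.trans (map_one c).symm)
    exact (inv_mul_eq_one.mp h2).symm
  have h4 : ∀ x, x * x ≠ 1 → c x ∈ R → g * c x * g⁻¹ = c x := by
    intro x hx hxR
    obtain ⟨x', hx', _⟩ := hex x hxR
    have hdec2 : ∀ x x' : T0, x * x ≠ 1 → x' * x' ≠ 1 → ZP (x⁻¹ * x') := by decide +kernel
    have hk := hdec2 x x' hx (hsq hx' hx)
    have := hfin hx' (hZ _ hk)
    rw [← hx', this]
  intro w hw
  obtain ⟨x, rfl⟩ := hSc w (hRS hw)
  by_cases hxx : x * x = 1
  · by_cases hxZ : ZP x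
    · exact hZ x hxZ
    · obtain ⟨x', hx', hx'R⟩ := hex x hw
      have hx'Z : ¬ ZP x' := by
        intro h
        have h1 := hZ x' h
        have h2 : x' = x := cinj c hc (h1.trans hx')
        exact hxZ (h2 ▸ h)
      have hdec3 : ∀ x x' : T0, x * x = 1 → x' * x' = 1 → ¬ ZP x → ¬ ZP x' →
          ZP (x⁻¹ * x') ∨ (x⁻¹ * x') * (x⁻¹ * x') ≠ 1 := by decide +kernel
      have hkR : c (x⁻¹ * x') ∈ R := by
        rw [map_mul, map_inv]
        exact mul_mem (inv_mem hw) hx'R
      have hkf : g * c (x⁻¹ * x') * g⁻¹ = c (x⁻¹ * x') := by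
        rcases hdec3 x x' hxx (hsq' hx' hxx) hxZ hx'Z with h | h
        · exact hZ _ h
        · exact h4 _ h hkR
      have := hfin hx' hkf
      rw [← hx', this]
  · exact h4 x hxx hw

def Wm (w x : T0) : Prop := x = 1 ∨ x = z0 ∨ x = w ∨ x = w * z0

instance (w : T0) : DecidablePred (Wm w) := fun x => by
  unfold Wm; exact inferInstance

include hc hcS hSc in
theorem lemA (b : Bool) :
    ∃ w : T0, (w = aa b ∨ w = u0 * aa b) ∧
      ∀ g ∈ normalizer (((EE b).map c : Subgroup G) : Set G),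
        (∃ y, Wm w y ∧ c y = g * c z0 * g⁻¹) ∧ (∃ y, Wm w y ∧ c y = g * c w * g⁻¹) := by
  obtain ⟨E, hE⟩ : ∃ E : Subgroup G, E = (EE b).map c := ⟨_, rfl⟩
  rw [← hE]
  have hmem : ∀ x, EP b x → c x ∈ E := fun x hx => by
    rw [hE]; exact ⟨x, hx, rfl⟩
  have hmem' : ∀ w ∈ E, ∃ x, EP b x ∧ c x = w := fun w hw => by
    rw [hE] at hw
    obtain ⟨x, hx, h⟩ := hw
    exact ⟨x, hx, h⟩
  have hfix : ∀ g ∈ normalizer (E : Set G), ∀ x, EP b x → ∃ y, EP b y ∧ c y = g * c x * g⁻¹ := by
    intro g hg x hx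
    exact hmem' _ (nm hg (hmem x hx))
  have hconj : ∀ s x, EP b x → EP b (s * x * s⁻¹) :=
    (by decide +kernel : ∀ b s x, EP b x → EP b (s * x * s⁻¹)) b
  have hcc : ∀ s x, c s * c x * (c s)⁻¹ = c (s * x * s⁻¹) := by
    intro s x
    rw [map_mul, map_mul, map_inv]
  have hSN : (S : Subgroup G) ≤ normalizer (E : Set G) := by
    intro s hs
    obtain ⟨s₀, rfl⟩ := hSc s hs
    rw [mem_normalizer_iff]
    intro h
    constructor
    · intro hh
      obtain ⟨x, hx, rfl⟩ := hmem' h hh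
      rw [hcc]
      exact hmem _ (hconj s₀ x hx)
    · intro hh
      obtain ⟨x, hx, hxe⟩ := hmem' _ hh
      have e : h = c (s₀⁻¹ * x * s₀⁻¹⁻¹) := by
        rw [← hcc, map_inv, inv_inv, hxe]; group
      rw [e]
      exact hmem _ (hconj s₀⁻¹ x hx)
  have hEab : ∀ x ∈ E, ∀ y ∈ E, x * y = y * x := by
    intro x hx y hy
    obtain ⟨x₀, hx₀, rfl⟩ := hmem' x hx
    obtain ⟨y₀, hy₀, rfl⟩ := hmem' y hy
    rw [← map_mul, ← map_mul,
      (by decide +kernel : ∀ b x y, EP b x → EP b y → x * y = y * x) b x₀ y₀ hx₀ hy₀]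
  have hT : ∀ x ∈ (S : Subgroup G), x ∈ E ∨ ∃ y ∈ E, x = c r0 * y := by
    intro x hx
    obtain ⟨x₀, rfl⟩ := hSc x hx
    rcases (by decide +kernel : ∀ b x, EP b x ∨ EP b (r0⁻¹ * x)) b x₀ with h | h
    · exact Or.inl (hmem _ h)
    · refine Or.inr ⟨_, hmem _ h, ?_⟩
      rw [← map_mul, mul_inv_cancel_left]
  obtain ⟨Orb, hOrb⟩ : ∃ Orb : T0 → Prop, ∀ y, Orb y ↔
      ∃ g ∈ normalizer (E : Set G), g * c z0 * g⁻¹ = c y := ⟨_, fun _ => Iff.rfl⟩
  have horb_r : ∀ x, Orb x → Orb (r0 * x * r0⁻¹) := by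
    intro x hx
    obtain ⟨g, hg, h⟩ := (hOrb x).mp hx
    refine (hOrb _).mpr ⟨c r0 * g, mul_mem (hSN (hcS r0)) hg, ?_⟩
    rw [← hcc, ← h]
    group
  have hz1 : c z0 ≠ 1 := fun h =>
    absurd (hc (h.trans (map_one c).symm)) (by decide +kernel)
  have hno1 : ¬ Orb 1 := by
    intro ho
    obtain ⟨g, hg, h⟩ := (hOrb _).mp ho
    apply hz1
    rw [map_one] at h
    have h3 : g⁻¹ * (g * c z0 * g⁻¹) * g = g⁻¹ * 1 * g := by rw [h]
    simpa [mul_assoc] using h3
  have hzu : ∀ {v : T0}, ZQ v → v ≠ z0 → ¬ Orb v := by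
    intro v hv hvz ho
    obtain ⟨g, hg, h⟩ := (hOrb _).mp ho
    exact hvz (central_conj S c hc hcS hSc (Or.inl rfl) hv h).symm
  have hnou : ¬ Orb u0 := hzu (Or.inr (Or.inl rfl)) (by decide +kernel)
  have hnouz : ¬ Orb (u0 * z0) := hzu (Or.inr (Or.inr rfl)) (by decide +kernel)
  have hcl : ∀ y, EP b y → y = 1 ∨ y = z0 ∨ y = u0 ∨ y = u0 * z0 ∨ y = aa b ∨ y = aa b * z0 ∨
      y = u0 * aa b ∨ y = u0 * aa b * z0 :=
    (by decide +kernel : ∀ b y, EP b y → y = 1 ∨ y = z0 ∨ y = u0 ∨ y = u0 * z0 ∨ y = aa b ∨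
      y = aa b * z0 ∨ y = u0 * aa b ∨ y = u0 * aa b * z0) b
  have hEz : EP b z0 := (by decide +kernel : ∀ b, EP b z0) b
  have hEu : EP b u0 := (by decide +kernel : ∀ b, EP b u0) b
  have hEa : EP b (aa b) := (by decide +kernel : ∀ b, EP b (aa b)) b
  have hr1 : r0 * (aa b) * r0⁻¹ = aa b * z0 :=
    (by decide +kernel : ∀ b, r0 * (aa b) * r0⁻¹ = aa b * z0) b
  have hr2 : r0 * (aa b * z0) * r0⁻¹ = aa b :=
    (by decide +kernel : ∀ b, r0 * (aa b * z0) * r0⁻¹ = aa b) b
  have hr3 : r0 * (u0 * aa b) * r0⁻¹ = u0 * aa b * z0 :=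
    (by decide +kernel : ∀ b, r0 * (u0 * aa b) * r0⁻¹ = u0 * aa b * z0) b
  have hr4 : r0 * (u0 * aa b * z0) * r0⁻¹ = u0 * aa b :=
    (by decide +kernel : ∀ b, r0 * (u0 * aa b * z0) * r0⁻¹ = u0 * aa b) b
  have caseC : ∀ w, (w = aa b ∨ w = u0 * aa b) → Orb w → ¬ Orb (u0 * w) →
      ∃ w : T0, (w = aa b ∨ w = u0 * aa b) ∧
      ∀ g ∈ normalizer (E : Set G),
        (∃ y, Wm w y ∧ c y = g * c z0 * g⁻¹) ∧ (∃ y, Wm w y ∧ c y = g * c w * g⁻¹) := by
    intro w hw ho hn
    refine ⟨w, hw, ?_⟩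
    have first : ∀ g ∈ normalizer (E : Set G), ∃ y, Wm w y ∧ c y = g * c z0 * g⁻¹ := by
      intro g hg
      obtain ⟨y, hyE, hy⟩ := hfix g hg z0 hEz
      refine ⟨y, ?_, hy⟩
      have ho' : Orb y := (hOrb _).mpr ⟨g, hg, hy.symm⟩
      rcases (by decide +kernel : ∀ b w y, (w = aa b ∨ w = u0 * aa b) → EP b y →
        y = 1 ∨ y = z0 ∨ y = u0 ∨ y = u0 * z0 ∨ y = w ∨ y = w * z0 ∨ y = u0 * w ∨ y = u0 * w * z0)
          b w y hw hyE with rfl | rfl | rfl | rfl | rfl | rfl | rfl | rfl
      · exact absurd ho' hno1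
      · exact Or.inr (Or.inl rfl)
      · exact absurd ho' hnou
      · exact absurd ho' hnouz
      · exact Or.inr (Or.inr (Or.inl rfl))
      · exact Or.inr (Or.inr (Or.inr rfl))
      · exact absurd ho' hn
      · exfalso
        apply hn
        have := horb_r _ ho'
        rwa [(by decide +kernel : ∀ b w, (w = aa b ∨ w = u0 * aa b) →
          r0 * (u0 * w * z0) * r0⁻¹ = u0 * w) b w hw] at this
    intro g hg
    refine ⟨first g hg, ?_⟩
    obtain ⟨g₀, hg₀, h₀⟩ := (hOrb _).mp ho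
    obtain ⟨y, hy, hyy⟩ := first (g * g₀) (mul_mem hg hg₀)
    refine ⟨y, hy, ?_⟩
    rw [hyy, ← h₀]
    group
  by_cases h1 : Orb (aa b)
  · by_cases h2 : Orb (u0 * aa b)
    · exfalso
      obtain ⟨g, hg, hgz⟩ := (hOrb _).mp h1
      have hall : ∀ v, ZQ v → v ≠ z0 → EP b v → g * c v * g⁻¹ = c v := by
        intro v hv hvz hvE
        obtain ⟨y, hyE, hy⟩ := hfix g hg v hvE
        have hnotorb : ¬ Orb y := by
          intro ho
          obtain ⟨g', hg', hg'z⟩ := (hOrb _).mp ho
          have h3 : (g⁻¹ * g') * c z0 * (g⁻¹ * g')⁻¹ = c v := by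
            calc (g⁻¹ * g') * c z0 * (g⁻¹ * g')⁻¹ = g⁻¹ * (g' * c z0 * g'⁻¹) * g := by group
              _ = g⁻¹ * (g * c v * g⁻¹) * g := by rw [hg'z, hy]
              _ = c v := by group
          exact hvz (central_conj S c hc hcS hSc (Or.inl rfl) hv h3).symm
        rcases hcl y hyE with rfl | rfl | rfl | rfl | rfl | rfl | rfl | rfl
        · exfalso
          rcases hv with rfl | rfl | rfl
          · exact hvz rfl
          · rw [map_one] at hy
            have h3 : g⁻¹ * (g * c u0 * g⁻¹) * g = g⁻¹ * 1 * g := by rw [← hy]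
            have h4 : c u0 = 1 := by simpa [mul_assoc] using h3
            exact absurd (hc (h4.trans (map_one c).symm)) (by decide +kernel)
          · rw [map_one] at hy
            have h3 : g⁻¹ * (g * c (u0 * z0) * g⁻¹) * g = g⁻¹ * 1 * g := by rw [← hy]
            have h4 : c (u0 * z0) = 1 := by simpa [mul_assoc] using h3
            exact absurd (hc (h4.trans (map_one c).symm)) (by decide +kernel)
        · exact absurd (central_conj S c hc hcS hSc hv (Or.inl rfl) hy.symm) hvz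
        · obtain rfl := central_conj S c hc hcS hSc hv (Or.inr (Or.inl rfl)) hy.symm
          exact hy.symm
        · obtain rfl := central_conj S c hc hcS hSc hv (Or.inr (Or.inr rfl)) hy.symm
          exact hy.symm
        · exact absurd h1 hnotorb
        · exfalso; apply hnotorb
          have := horb_r _ h1
          rwa [hr1] at this
        · exact absurd h2 hnotorb
        · exfalso; apply hnotorb
          have := horb_r _ h2
          rwa [hr3] at this
      have e1 := hall u0 (Or.inr (Or.inl rfl)) (by decide +kernel) hEu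
      have e2 := hall (u0 * z0) (Or.inr (Or.inr rfl)) (by decide +kernel)
        ((by decide +kernel : ∀ b, EP b (u0 * z0)) b)
      have e3 : c z0 = c u0 * c (u0 * z0) := by
        rw [← map_mul, (by decide +kernel : u0 * (u0 * z0) = z0)]
      have e4 : g * c z0 * g⁻¹ = c z0 := by
        rw [e3, cj_mul, e1, e2]
      rw [e4] at hgz
      exact absurd (hc hgz) ((by decide +kernel : ∀ b, z0 ≠ aa b) b)
    · exact caseC (aa b) (Or.inl rfl) h1 h2
  · by_cases h2 : Orb (u0 * aa b)
    · refine caseC (u0 * aa b) (Or.inr rfl) h2 ?_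
      rwa [(by decide +kernel : ∀ b, u0 * (u0 * aa b) = aa b) b]
    · -- the orbit of the central involution is trivial
      refine ⟨aa b, Or.inl rfl, ?_⟩
      have hzfix : ∀ g ∈ normalizer (E : Set G), g * c z0 * g⁻¹ = c z0 := by
        intro g hg
        obtain ⟨y, hyE, hy⟩ := hfix g hg z0 hEz
        have ho : Orb y := (hOrb _).mpr ⟨g, hg, hy.symm⟩
        rcases hcl y hyE with rfl | rfl | rfl | rfl | rfl | rfl | rfl | rfl
        · exact absurd ho hno1
        · exact hy.symm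
        · exact absurd ho hnou
        · exact absurd ho hnouz
        · exact absurd ho h1
        · exfalso; apply h1
          have := horb_r _ ho
          rwa [hr2] at this
        · exact absurd ho h2
        · exfalso; apply h2
          have := horb_r _ ho
          rwa [hr4] at this
      obtain ⟨Z, hZ⟩ : ∃ Z, Z = c z0 := ⟨_, rfl⟩
      obtain ⟨t, ht⟩ : ∃ t, t = c r0 := ⟨_, rfl⟩
      rw [← ht] at hT
      have htS : t ∈ (S : Subgroup G) := ht ▸ hcS r0
      have hT1 : ∀ x ∈ E, t * (t * x * t⁻¹) * t⁻¹ = x := by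
        intro x hx
        obtain ⟨x₀, hx₀, rfl⟩ := hmem' x hx
        rw [ht, hcc, hcc,
          (by decide +kernel : ∀ b x, EP b x → r0 * (r0 * x * r0⁻¹) * r0⁻¹ = x) b x₀ hx₀]
      have htr1 : ∀ x ∈ E, t * x * t⁻¹ = x ∨ t * x * t⁻¹ = x * Z := by
        intro x hx
        obtain ⟨x₀, hx₀, rfl⟩ := hmem' x hx
        rw [ht, hZ, hcc, ← map_mul]
        rcases (by decide +kernel : ∀ b x, EP b x → r0 * x * r0⁻¹ = x ∨ r0 * x * r0⁻¹ = x * z0)
          b x₀ hx₀ with h | h
        · left; rw [h]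
        · right; rw [h]
      have htZ : t * Z * t⁻¹ = Z := by
        rw [ht, hZ, hcc, (by decide +kernel : r0 * z0 * r0⁻¹ = z0)]
      have hta : t * c (aa b) * t⁻¹ ≠ c (aa b) := by
        rw [ht, hcc, hr1]
        intro h
        exact absurd (hc h) ((by decide +kernel : ∀ b, aa b * z0 ≠ aa b) b)
      have hτ : ∀ g ∈ normalizer (E : Set G), ∀ x ∈ E,
          t * x * t⁻¹ = (g * t * g⁻¹) * x * (g * t * g⁻¹)⁻¹ := by
        intro g hg
        have hg' := inv_mem hg
        have hginvE : ∀ x ∈ E, g⁻¹ * x * g ∈ E := fun x hx => by simpa using nm hg' hx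
        obtain ⟨T, hTd⟩ : ∃ T, T = g * t * g⁻¹ := ⟨_, rfl⟩
        rw [← hTd]
        have hTN : T ∈ normalizer (E : Set G) := by
          rw [hTd]
          exact mul_mem (mul_mem hg (hSN htS)) hg'
        have hTc : ∀ x, T * x * T⁻¹ = g * (t * (g⁻¹ * x * g) * t⁻¹) * g⁻¹ := by
          intro x; rw [hTd]; group
        have hT2 : ∀ x ∈ E, T * (T * x * T⁻¹) * T⁻¹ = x := by
          intro x hx
          have := hT1 _ (hginvE x hx)
          rw [hTc, hTc]
          have e : g⁻¹ * (g * (t * (g⁻¹ * x * g) * t⁻¹) * g⁻¹) * g = t * (g⁻¹ * x * g) * t⁻¹ := by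
            group
          rw [e, this]
          group
        have htr2 : ∀ x ∈ E, T * x * T⁻¹ = x ∨ T * x * T⁻¹ = x * Z := by
          intro x hx
          rw [hTc]
          rcases htr1 _ (hginvE x hx) with h | h
          · left; rw [h]; group
          · right; rw [h]
            have e := hzfix g hg
            rw [← hZ] at e
            calc g * (g⁻¹ * x * g * Z) * g⁻¹ = x * (g * Z * g⁻¹) := by group
              _ = x * Z := by rw [e]
        have hTZ : T * Z * T⁻¹ = Z := by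
          rw [hTc]
          have e := hzfix g⁻¹ hg'
          rw [← hZ, inv_inv] at e
          rw [e, htZ]
          have e' := hzfix g hg
          rw [← hZ] at e'
          exact e'
        have hab : ∀ x ∈ E, t * (T * x * T⁻¹) * t⁻¹ = T * (t * x * t⁻¹) * T⁻¹ := by
          intro x hx
          rcases htr2 x hx with h2 | h2 <;> rcases htr1 x hx with h1 | h1
          · rw [h2, h1, h2]
          · rw [h2, h1, cj_mul, h2, hTZ]
          · rw [h2, h1, h2, cj_mul, h1, htZ]
          · rw [h2, h1, cj_mul, cj_mul, h1, htZ, h2, hTZ]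
        rcases four_free S E hEab hSN t htS hT t T (hSN htS) hTN hT1 hT2 hab with h | h | h
        · exact absurd (h _ (hmem _ hEa)) hta
        · exfalso
          apply hta
          have h3 := h _ (nm hg (hmem _ hEa))
          rw [hTc] at h3
          have e : g⁻¹ * (g * c (aa b) * g⁻¹) * g = c (aa b) := by group
          rw [e] at h3
          exact mul_left_cancel (mul_right_cancel h3)
        · exact h
      intro g hg
      have hzg := hzfix g hg
      have huf : g * c u0 * g⁻¹ = c u0 := by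
        obtain ⟨y, hyE, hy⟩ := hfix g hg u0 hEu
        have hfy : r0 * y * r0⁻¹ = y := by
          apply hc
          rw [← hcc, ← ht, hτ g hg _ (hmem _ hyE), hy]
          have e : t * c u0 * t⁻¹ = c u0 := by
            rw [ht, hcc, (by decide +kernel : r0 * u0 * r0⁻¹ = u0)]
          calc (g * t * g⁻¹) * (g * c u0 * g⁻¹) * (g * t * g⁻¹)⁻¹ = g * (t * c u0 * t⁻¹) * g⁻¹ := by
                group
            _ = g * c u0 * g⁻¹ := by rw [e]
        rcases (by decide +kernel : ∀ b y, EP b y → r0 * y * r0⁻¹ = y → ZP y) b y hyE hfy with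
          rfl | rfl | rfl | rfl
        · exfalso
          rw [map_one] at hy
          have h3 : g⁻¹ * (g * c u0 * g⁻¹) * g = g⁻¹ * 1 * g := by rw [← hy]
          have h4 : c u0 = 1 := by simpa [mul_assoc] using h3
          exact absurd (hc (h4.trans (map_one c).symm)) (by decide +kernel)
        · exact absurd (central_conj S c hc hcS hSc (Or.inr (Or.inl rfl)) (Or.inl rfl) hy.symm)
            (by decide +kernel)
        · exact hy.symm
        · exact absurd (central_conj S c hc hcS hSc (Or.inr (Or.inl rfl)) (Or.inr (Or.inr rfl))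
            hy.symm) (by decide +kernel)
      have hZf : ∀ k, ZP k → g * c k * g⁻¹ = c k := by
        rintro k (rfl | rfl | rfl | rfl)
        · simp
        · exact hzg
        · exact huf
        · rw [map_mul, cj_mul, hzg, huf]
      obtain ⟨y, hyE, hy⟩ := hfix g hg (aa b) hEa
      have hyZ : ¬ ZP y := by
        intro h
        have h1' := hZf y h
        have h2' : y = aa b := cinj c hc (h1'.trans hy)
        rw [h2'] at h
        exact (by decide +kernel : ∀ b, ¬ ZP (aa b)) b h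
      have hcontra : ∀ k, ZP k → k * k = 1 → y = aa b * k → k ≠ 1 → k ≠ z0 → False := by
        intro k hk hkk hyk hk1 hkz
        have hgy : g * c y * g⁻¹ = c (aa b) := by
          rw [hyk, map_mul, cj_mul, ← hy, hZf k hk, hyk, map_mul, mul_assoc, ← map_mul, hkk,
            map_one, mul_one]
        have ha2 : ∀ x ∈ E, g * (g * x * g⁻¹) * g⁻¹ = x := by
          intro x hx
          obtain ⟨x₀, hx₀, rfl⟩ := hmem' x hx
          rcases (by decide +kernel : ∀ b x, EP b x → ZP x ∨ ZP ((aa b)⁻¹ * x)) b x₀ hx₀ with h | h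
          · rw [hZf _ h, hZf _ h]
          · have e : c x₀ = c (aa b) * c ((aa b)⁻¹ * x₀) := by
              rw [← map_mul, mul_inv_cancel_left]
            have e1 : g * (c (aa b) * c ((aa b)⁻¹ * x₀)) * g⁻¹ = c y * c ((aa b)⁻¹ * x₀) := by
              rw [cj_mul, hZf _ h, ← hy]
            rw [e, e1, cj_mul, hgy, hZf _ h]
        have hab' : ∀ x ∈ E, g * (t * x * t⁻¹) * g⁻¹ = t * (g * x * g⁻¹) * t⁻¹ := by
          intro x hx
          rw [hτ g hg _ (nm hg hx)]
          group
        rcases four_free S E hEab hSN t htS hT g t hg (hSN htS) ha2 hT1 hab' with h | h | h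
        · have e := (h _ (hmem _ hEa))
          rw [← hy] at e
          have e' := hc e
          rw [hyk] at e'
          exact hk1 (by simpa using e')
        · exact absurd (h _ (hmem _ hEa)) hta
        · have e := (h _ (hmem _ hEa))
          rw [← hy, ht, hcc, hr1] at e
          have e' := hc e
          rw [hyk] at e'
          exact hkz (mul_left_cancel e')
      refine ⟨⟨z0, Or.inr (Or.inl rfl), hzg.symm⟩, ⟨y, ?_, hy⟩⟩
      rcases hcl y hyE with rfl | rfl | rfl | rfl | rfl | rfl | rfl | rfl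
      · exact absurd (Or.inl rfl) hyZ
      · exact absurd (Or.inr (Or.inl rfl)) hyZ
      · exact absurd (Or.inr (Or.inr (Or.inl rfl))) hyZ
      · exact absurd (Or.inr (Or.inr (Or.inr rfl))) hyZ
      · exact Or.inr (Or.inr (Or.inl rfl))
      · exact Or.inr (Or.inr (Or.inr rfl))
      · exfalso
        exact hcontra u0 (Or.inr (Or.inr (Or.inl rfl))) (by decide +kernel)
          ((by decide +kernel : ∀ b, u0 * aa b = aa b * u0) b) (by decide +kernel) (by decide +kernel)
      · exfalso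
        exact hcontra (u0 * z0) (Or.inr (Or.inr (Or.inr rfl))) (by decide +kernel)
          ((by decide +kernel : ∀ b, u0 * aa b * z0 = aa b * (u0 * z0)) b) (by decide +kernel)
          (by decide +kernel)

end main

def chi0 : DihedralGroup 4 → ZMod 2
  | .r i => ((i.val : ℕ) : ZMod 2)
  | .sr i => ((i.val : ℕ) : ZMod 2) + 1

def chi1 : DihedralGroup 4 → ZMod 2
  | .r i => ((i.val : ℕ) : ZMod 2)
  | .sr i => ((i.val : ℕ) : ZMod 2)

def FF (α : Bool → ZMod 2) (x : T0) : ZMod 2 :=
  Multiplicative.toAdd x.1 + α false * chi0 x.2 + α true * chi1 x.2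

theorem FF_mul (α₀ α₁ : ZMod 2) (x y : T0) :
    FF (fun b => if b then α₁ else α₀) (x * y) =
      FF (fun b => if b then α₁ else α₀) x + FF (fun b => if b then α₁ else α₀) y := by
  revert α₀ α₁ x y
  decide +kernel

theorem FF_conj (α₀ α₁ : ZMod 2) (s x : T0) :
    FF (fun b => if b then α₁ else α₀) (s * x * s⁻¹) = FF (fun b => if b then α₁ else α₀) x := by
  revert α₀ α₁ s x
  decide +kernel

theorem FF_inv (α₀ α₁ : ZMod 2) (x : T0) :
    FF (fun b => if b then α₁ else α₀) x⁻¹ = FF (fun b => if b then α₁ else α₀) x := by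
  revert α₀ α₁ x
  decide +kernel

theorem FF_u (α₀ α₁ : ZMod 2) : FF (fun b => if b then α₁ else α₀) u0 = 1 := by
  revert α₀ α₁
  decide +kernel

theorem FF_W (α₀ α₁ : ZMod 2) (b : Bool) (w : T0)
    (h : (w = aa b ∧ (if b then α₁ else α₀) = 0) ∨ (w = u0 * aa b ∧ (if b then α₁ else α₀) = 1))
    (x : T0) (hx : EP b x) : Wm w x ↔ FF (fun b => if b then α₁ else α₀) x = 0 := by
  revert α₀ α₁ b w x
  decide +kernel

theorem Wm_mul (b : Bool) (w : T0) (h : w = aa b ∨ w = u0 * aa b) (x y : T0) (hx : Wm w x)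
    (hy : Wm w y) : Wm w (x * y) := by
  revert b w x y
  decide +kernel

theorem zmod2_eq (p q : ZMod 2) (h : p = 0 ↔ q = 0) : p = q := by
  revert p q
  decide +kernel

theorem EP_two (x y : T0) (h1 : x * x = 1) (h2 : y * y = 1) (h3 : (x * y) * (x * y) = 1) :
    EP false x ∨ EP true y := by
  revert x y
  decide +kernel

theorem final {G : Type*} [Group G] [Finite G] (S : Sylow 2 G) (c : T0 →* G)
    (hc : Function.Injective c) (hcS : ∀ x, c x ∈ (S : Subgroup G))
    (hSc : ∀ y ∈ (S : Subgroup G), ∃ x, c x = y) (htop : commutator G = ⊤) : False := by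
  obtain ⟨w₀, hw₀, hN₀⟩ := lemA S c hc hcS hSc false
  obtain ⟨w₁, hw₁, hN₁⟩ := lemA S c hc hcS hSc true
  obtain ⟨α₀, hα₀⟩ : ∃ α₀ : ZMod 2, (w₀ = aa false ∧ α₀ = 0) ∨ (w₀ = u0 * aa false ∧ α₀ = 1) := by
    rcases hw₀ with h | h
    · exact ⟨0, Or.inl ⟨h, rfl⟩⟩
    · exact ⟨1, Or.inr ⟨h, rfl⟩⟩
  obtain ⟨α₁, hα₁⟩ : ∃ α₁ : ZMod 2, (w₁ = aa true ∧ α₁ = 0) ∨ (w₁ = u0 * aa true ∧ α₁ = 1) := by
    rcases hw₁ with h | h
    · exact ⟨0, Or.inl ⟨h, rfl⟩⟩
    · exact ⟨1, Or.inr ⟨h, rfl⟩⟩
  have hinv : ∀ b : Bool, ∃ w : T0, (w = aa b ∨ w = u0 * aa b) ∧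
      (∀ g ∈ normalizer (((EE b).map c : Subgroup G) : Set G),
        (∃ y, Wm w y ∧ c y = g * c z0 * g⁻¹) ∧ (∃ y, Wm w y ∧ c y = g * c w * g⁻¹)) ∧
      ((w = aa b ∧ (if b then α₁ else α₀) = 0) ∨ (w = u0 * aa b ∧ (if b then α₁ else α₀) = 1)) := by
    intro b
    cases b
    · exact ⟨w₀, hw₀, hN₀, by simpa using hα₀⟩
    · exact ⟨w₁, hw₁, hN₁, by simpa using hα₁⟩
  obtain ⟨F, hF⟩ : ∃ F : T0 → ZMod 2, F = FF (fun b => if b then α₁ else α₀) := ⟨_, rfl⟩
  have hFmul : ∀ x y, F (x * y) = F x + F y := by rw [hF]; exact FF_mul α₀ α₁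
  have hFconj : ∀ s x, F (s * x * s⁻¹) = F x := by rw [hF]; exact FF_conj α₀ α₁
  have hFinv : ∀ x, F x⁻¹ = F x := by rw [hF]; exact FF_inv α₀ α₁
  have hFu : F u0 = 1 := by rw [hF]; exact FF_u α₀ α₁
  have hadd : ∀ p : ZMod 2, p + p = 0 := by decide +kernel
  have hF1 : F 1 = 0 := by
    have h := hFmul 1 1
    rw [mul_one] at h
    have h2 := hadd (F 1)
    rw [← h] at h2
    exact h2
  have hstable : ∀ b : Bool, ∀ g ∈ normalizer (((EE b).map c : Subgroup G) : Set G), ∀ x y,
      EP b x → c y = g * c x * g⁻¹ → F y = F x := by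
    intro b g hg x y hx hy
    obtain ⟨w, hw, hN, hα⟩ := hinv b
    have hyE : EP b y := by
      have h := nm hg (show c x ∈ (EE b).map c from ⟨x, hx, rfl⟩)
      rw [← hy] at h
      obtain ⟨y', hy', hyy⟩ := h
      rw [← hc hyy]
      exact hy'
    have hWclos : ∀ g' ∈ normalizer (((EE b).map c : Subgroup G) : Set G), ∀ x' y', Wm w x' →
        c y' = g' * c x' * g'⁻¹ → Wm w y' := by
      intro g' hg' x' y' hx' hy'
      obtain ⟨⟨y₁, hy₁, hy₁e⟩, ⟨y₂, hy₂, hy₂e⟩⟩ := hN g' hg'
      rcases hx' with rfl | rfl | rfl | rfl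
      · have : y' = 1 := hc (by rw [hy']; simp)
        exact Or.inl this
      · have : y' = y₁ := hc (hy'.trans hy₁e.symm)
        rwa [this]
      · have : y' = y₂ := hc (hy'.trans hy₂e.symm)
        rwa [this]
      · have : y' = y₂ * y₁ := hc (by
          rw [hy', map_mul, map_mul, hy₁e, hy₂e]; group)
        rw [this]
        exact Wm_mul b w hw y₂ y₁ hy₂ hy₁
    have h1 : Wm w x → Wm w y := fun h => hWclos g hg x y h hy
    have h2 : Wm w y → Wm w x := fun h => hWclos g⁻¹ (inv_mem hg) y x h (by rw [hy]; group)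
    apply zmod2_eq
    have e1 := FF_W α₀ α₁ b w hα y hyE
    have e2 := FF_W α₀ α₁ b w hα x hx
    rw [← hF] at e1 e2
    rw [← e1, ← e2]
    exact ⟨h2, h1⟩
  obtain ⟨I, hI⟩ : ∃ I : G → ZMod 2, ∀ x, I (c x) = F x := by
    classical
    refine ⟨fun x => if h : ∃ y, c y = x then F h.choose else 0, fun x => ?_⟩
    have h : ∃ y, c y = c x := ⟨x, rfl⟩
    simp only [dif_pos h]
    rw [hc h.choose_spec]
  have hcc : ∀ s x, c s * c x * (c s)⁻¹ = c (s * x * s⁻¹) := by
    intro s x
    rw [map_mul, map_mul, map_inv]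
  have hS₁ : ∀ s ∈ (S : Subgroup G), ∀ x ∈ (S : Subgroup G), I (s * x * s⁻¹) = I x := by
    intro s hs x hx
    obtain ⟨s₀, rfl⟩ := hSc s hs
    obtain ⟨x₀, rfl⟩ := hSc x hx
    rw [hcc, hI, hI, hFconj]
  have hfus : ∀ a ∈ (S : Subgroup G), ∀ g : G, g * a * g⁻¹ ∈ (S : Subgroup G) →
      I (g * a * g⁻¹) = I a := by
    intro a ha g hb
    refine Cfsg.Agent.Lib.TwoFusion.fusion_invariant S I hS₁ ?_ ha hb
    intro R hRS hcen _ ⟨g₀, hg₀, hodd, hg₀C⟩ g hg x hx
    have hucen : c u0 ∈ R := by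
      apply hcen
      refine ⟨hcS u0, ?_⟩
      show c u0 ∈ centralizer (R : Set G)
      rw [mem_centralizer_iff]
      intro r hr
      obtain ⟨r₀, rfl⟩ := hSc r (hRS hr)
      rw [← map_mul, ← map_mul, (by decide +kernel : ∀ s : T0, s * u0 = u0 * s) r₀]
    by_cases hy : ∃ y, y * y ≠ 1 ∧ c y ∈ R
    · exfalso
      obtain ⟨y, hy, hyR⟩ := hy
      have h := no_odd S c hc hSc R hRS hucen y hy hyR hg₀ (pow_orderOf_eq_one g₀)
        (Nat.coprime_two_right.mp hodd)
      apply hg₀C
      rw [mem_centralizer_iff]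
      intro r hr
      have := h r hr
      calc r * g₀ = (g₀ * r * g₀⁻¹) * g₀ := by rw [this]
        _ = g₀ * r := by group
    · have hinvR : ∀ y, c y ∈ R → y * y = 1 := by
        intro y hyR
        by_contra h
        exact hy ⟨y, h, hyR⟩
      obtain ⟨b, hb⟩ : ∃ b, ∀ y, c y ∈ R → EP b y := by
        by_cases h : ∃ x, c x ∈ R ∧ ¬ EP false x
        · obtain ⟨x₀, hx₀, hx₀E⟩ := h
          refine ⟨true, fun y hy' => ?_⟩
          exact (EP_two x₀ y (hinvR x₀ hx₀) (hinvR y hy')
              (hinvR (x₀ * y) (by rw [map_mul]; exact mul_mem hx₀ hy'))).resolve_left hx₀E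
        · refine ⟨false, fun y hy' => ?_⟩
          by_contra h'
          exact h ⟨y, hy', h'⟩
      have hReq : R = (EE b).map c := by
        ext w
        constructor
        · intro hw
          obtain ⟨y, rfl⟩ := hSc w (hRS hw)
          exact ⟨y, hb y hw, rfl⟩
        · rintro ⟨y, hy', rfl⟩
          apply hcen
          refine ⟨hcS y, ?_⟩
          show c y ∈ centralizer (R : Set G)
          rw [mem_centralizer_iff]
          intro r hr
          obtain ⟨r₀, rfl⟩ := hSc r (hRS hr)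
          rw [← map_mul, ← map_mul,
            (by decide +kernel : ∀ b x y, EP b x → EP b y → x * y = y * x) b r₀ y (hb r₀ hr) hy']
      subst hReq
      obtain ⟨x₀, hx₀, rfl⟩ := hx
      obtain ⟨y₀, hy₀⟩ := hSc _ (hRS (nm hg ⟨x₀, hx₀, rfl⟩))
      rw [← hy₀, hI, hI]
      exact hstable b g hg x₀ y₀ hx₀ hy₀
  let K : Subgroup G :=
    { carrier := {x | ∃ y, c y = x ∧ F y = 0}
      mul_mem' := by
        rintro _ _ ⟨y₁, rfl, h₁⟩ ⟨y₂, rfl, h₂⟩
        exact ⟨y₁ * y₂, map_mul _ _ _, by rw [hFmul, h₁, h₂, add_zero]⟩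
      one_mem' := ⟨1, map_one _, hF1⟩
      inv_mem' := by
        rintro _ ⟨y, rfl, h⟩
        exact ⟨y⁻¹, map_inv _ _, by rw [hFinv, h]⟩ }
  have hfocal : (S : Subgroup G).focalSubgroup ≤ K := by
    rw [Subgroup.focalSubgroup_def, Subgroup.closure_le]
    rintro g ⟨hgS, x, hxS, v, rfl⟩
    obtain ⟨g₀, hg₀⟩ := hSc _ hgS
    obtain ⟨x₀, rfl⟩ := hSc x hxS
    refine ⟨g₀, hg₀, ?_⟩
    have e : v * (c x₀)⁻¹ * v⁻¹ = c (x₀⁻¹ * g₀) := by
      rw [map_mul, hg₀, map_inv, commutatorElement_def]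
      group
    have h1 := hfus (c x₀)⁻¹ (inv_mem (hcS x₀)) v (by rw [e]; exact hcS _)
    rw [e, ← map_inv, hI, hI, hFinv, hFmul, hFinv] at h1
    have h2 := hadd (F x₀)
    have h3 : F g₀ = F x₀ + (F x₀ + F g₀) := by
      rw [← add_assoc, h2, zero_add]
    rw [h3, h1, h2]
  have hfoc := Subgroup.commutator_inf_eq_focalSubgroup S
  rw [htop, top_inf_eq] at hfoc
  have hu : c u0 ∈ K := hfocal (by rw [← hfoc]; exact hcS u0)
  obtain ⟨y, hy, hy0⟩ := hu
  rw [hc hy, hFu] at hy0
  exact absurd hy0 (by decide +kernel)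


/-- A finite group whose Sylow 2-subgroups are isomorphic to the direct product of a group of order 2 and the dihedral group of order 8 is not a non-abelian simple group. -/
theorem result {G : Type*} [Group G] [Finite G] (S : Sylow 2 G) (hS : Nonempty (↥(S : Subgroup G) ≃* Multiplicative (ZMod 2) × DihedralGroup 4))
    [IsSimpleGroup G] (hG : ¬ IsMulCommutative G) : False := by
  obtain ⟨e⟩ := hS
  obtain ⟨c, hc, hcS, hSc⟩ : ∃ c : T0 →* G, Function.Injective c ∧
      (∀ x, c x ∈ (S : Subgroup G)) ∧ ∀ y ∈ (S : Subgroup G), ∃ x, c x = y := by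
    refine ⟨(S : Subgroup G).subtype.comp e.symm.toMonoidHom, ?_, ?_, ?_⟩
    · intro x y h
      exact e.symm.injective (Subtype.ext h)
    · intro x
      exact (e.symm x).2
    · intro y hy
      exact ⟨e ⟨y, hy⟩, by simp⟩
  have htop : commutator G = ⊤ := by
    rcases (inferInstance : (commutator G).Normal).eq_bot_or_eq_top with h | h
    · exfalso
      apply hG
      refine ⟨⟨fun a b => ?_⟩⟩
      have h1 : ⁅a, b⁆ ∈ commutator G := Subgroup.commutator_mem_commutator (mem_top a) (mem_top b)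
      rw [h, Subgroup.mem_bot, commutatorElement_eq_one_iff_mul_comm] at h1
      exact h1
    · exact h
  exact final S c hc hcS hSc htop

end Cfsg.Agent.S3309
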