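import Cfsg.Statements.S3680
import Mathlib
import Cfsg.Agent.S0721
import Cfsg.Agent.Lib.Basic.MinNormal

set_option autoImplicit false
open Cfsg

namespace Cfsg.Agent.S3680

open MulAction Cfsg.Agent.Lib.Basic

section

variable {G Ω : Type*} [Group G] [MulAction G Ω] [FaithfulSMul G Ω]

/-- A nontrivial normal subgroup of a primitive faithful group is transitive. -/
lemma trans_of_normal (hprim : IsPreprimitive G Ω) (V : Subgroup G) (hV : V.Normal) (hne : V ≠ ⊥) :
    IsPretransitive V Ω := by
  haveI := hprim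
  haveI := hV
  apply IsQuasiPreprimitive.isPretransitive_of_normal (G := G) (N := V)
  intro h
  apply hne
  rw [eq_bot_iff]
  intro v hv
  rw [Subgroup.mem_bot]
  apply FaithfulSMul.eq_of_smul_eq_smul (α := Ω)
  intro ω
  have h1 : ω ∈ fixedPoints V Ω := by
    rw [h]
    exact Set.mem_univ _
  rw [one_smul]
  exact h1 ⟨v, hv⟩

lemma central_fix {V : Subgroup G} (htr : IsPretransitive V Ω) {c : G} (hc : ∀ v ∈ V, c * v = v * c) {ω : Ω}
    (h : c • ω = ω) : c = 1 := by
  apply FaithfulSMul.eq_of_smul_eq_smul (α := Ω)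
  intro ω'
  obtain ⟨v, hv⟩ := htr.exists_smul_eq ω ω'
  rw [one_smul, ← hv]
  show c • ((v : G) • ω) = (v : G) • ω
  rw [← mul_smul, hc v v.2, mul_smul, h]

lemma disjoint_of_ne {V W : Subgroup G} (hV : IsMinNormal V) (hW : IsMinNormal W) (hne : V ≠ W) : Disjoint V W := by
  haveI := hV.1
  haveI := hW.1
  rw [disjoint_iff]
  rcases hV.2.2 (V ⊓ W) inferInstance inf_le_left with h | h
  · exact h
  · exfalso
    have hle : V ≤ W := by
      rw [← h]
      exact inf_le_right
    rcases hW.2.2 V hV.1 hle with h1 | h1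
    · exact hV.2.1 h1
    · exact hne h1

/-- Elementary abelian minimal normal subgroups. -/
lemma elem_of_min [Finite G] {V : Subgroup G} (hV : IsMinNormal V) (hab : ∀ x ∈ V, ∀ y ∈ V, x * y = y * x) :
    ∃ p : ℕ, p.Prime ∧ ∀ x ∈ V, x ^ p = 1 := by
  haveI := hV.1
  haveI : IsMulCommutative V := ⟨⟨fun a b => Subtype.ext (hab a a.2 b b.2)⟩⟩
  have hnt : Nontrivial V := (Subgroup.nontrivial_iff_ne_bot V).mpr hV.2.1
  obtain ⟨p, hp, hpd⟩ := Nat.exists_prime_and_dvd (n := Nat.card V) (by
    intro h
    exact (Finite.one_lt_card (α := V)).ne' h)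
  have := Fact.mk hp
  obtain ⟨x, hx⟩ := exists_prime_orderOf_dvd_card' (G := V) p hpd
  refine ⟨p, hp, ?_⟩
  have hT := torsionSubgroupOf_normal (N := V) p
  have hle : torsionSubgroupOf V p ≤ V := fun y hy => (mem_torsionSubgroupOf.mp hy).1
  rcases hV.2.2 _ hT hle with h | h
  · exfalso
    have hxT : (x : G) ∈ torsionSubgroupOf V p := by
      rw [mem_torsionSubgroupOf]
      refine ⟨x.2, ?_⟩
      have := pow_orderOf_eq_one x
      rw [hx] at this
      simpa using congrArg Subtype.val this
    rw [h, Subgroup.mem_bot] at hxT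
    have h1 : x = 1 := Subtype.ext hxT
    rw [h1, orderOf_one] at hx
    exact hp.one_lt.ne hx
  · intro y hy
    rw [← h] at hy
    exact (mem_torsionSubgroupOf.mp hy).2

end

/-- Doubling a power. -/
def powDouble (T : Type*) [Group T] (m : ℕ) : (Fin m → T) × (Fin m → T) ≃* (Fin (m + m) → T) where
  toFun f := Fin.append f.1 f.2
  invFun g := (fun i => g (Fin.castAdd m i), fun i => g (Fin.natAdd m i))
  left_inv f := by
    ext i
    · exact Fin.append_left _ _ _
    · exact Fin.append_right _ _ _
  right_inv g := by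
    funext i
    refine Fin.addCases (fun j => ?_) (fun j => ?_) i
    · exact Fin.append_left _ _ _
    · exact Fin.append_right _ _ _
  map_mul' f g := by
    funext i
    show Fin.append (f * g).1 (f * g).2 i = Fin.append f.1 f.2 i * Fin.append g.1 g.2 i
    refine Fin.addCases (fun j => ?_) (fun j => ?_) i
    · simp only [Fin.append_left, Prod.fst_mul, Pi.mul_apply]
    · simp only [Fin.append_right, Prod.snd_mul, Pi.mul_apply]



/-- The socle of a finite primitive permutation group. Let a finite group G act faithfully and primitively on a set Ω, and let N be the subgroup generated by the minimal normal subgroups of G. Then either N is an elementary abelian p-group for some prime p and acts regularly on Ω (transitively with trivial point stabilizers), or N is isomorphic to a direct product of m ≥ 1 copies of a non-abelian simple group. -/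
theorem result {G Ω : Type*} [Group G] [Finite G] [MulAction G Ω] [FaithfulSMul G Ω] [Finite Ω]
    (hprim : MulAction.IsPreprimitive G Ω) (N : Subgroup G)
    (hN : N = sSup {V : Subgroup G | V.Normal ∧ V ≠ ⊥ ∧ ∀ M : Subgroup G, M.Normal → M ≤ V → M = ⊥ ∨ M = V}) :
    (∃ p : ℕ, p.Prime ∧ IsMulCommutative N ∧ (∀ x : N, x ^ p = 1) ∧
      MulAction.IsPretransitive N Ω ∧ ∀ ω : Ω, MulAction.stabilizer N ω = ⊥) ∨
    (∃ (T : Type) (_ : Group T) (m : ℕ), 1 ≤ m ∧ IsSimpleGroup T ∧ ¬ IsMulCommutative T ∧ Nonempty (N ≃* (Fin m → T))) := by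
  classical
  by_cases hG : Subsingleton G
  · left
    refine ⟨2, Nat.prime_two, ?_, ?_, ?_, ?_⟩
    · exact ⟨⟨fun a b => Subtype.ext (Subsingleton.elim _ _)⟩⟩
    · intro x
      exact Subtype.ext (Subsingleton.elim _ _)
    · constructor
      intro x y
      obtain ⟨g, hg⟩ := hprim.exists_smul_eq x y
      refine ⟨1, ?_⟩
      rw [one_smul, ← hg, Subsingleton.elim g 1, one_smul]
    · intro ω
      rw [Subgroup.eq_bot_iff_forall]
      intro x _
      exact Subtype.ext (Subsingleton.elim _ _)
  haveI : Nontrivial G := not_subsingleton_iff_nontrivial.mp hG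
  set 𝓜 : Set (Subgroup G) := {V : Subgroup G | V.Normal ∧ V ≠ ⊥ ∧ ∀ M : Subgroup G, M.Normal → M ≤ V → M = ⊥ ∨ M = V} with h𝓜
  have hmem : ∀ V, V ∈ 𝓜 ↔ IsMinNormal V := fun V => Iff.rfl
  obtain ⟨V₁, hV₁⟩ := exists_isMinNormal (G := G)
  have hV₁m : V₁ ∈ 𝓜 := hV₁
  haveI hV₁n : V₁.Normal := hV₁.1
  have htr₁ := trans_of_normal hprim V₁ hV₁.1 hV₁.2.1
  obtain ⟨ω₀⟩ : Nonempty Ω := by
    by_contra hc
    rw [not_nonempty_iff] at hc
    obtain ⟨a, b, hab⟩ := exists_pair_ne G
    apply hab
    apply FaithfulSMul.eq_of_smul_eq_smul (α := Ω)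
    intro ω
    exact hc.elim ω
  have hcomm : ∀ V ∈ 𝓜, V ≠ V₁ → ∀ x ∈ V₁, ∀ y ∈ V, x * y = y * x := by
    intro V hV hne x hx y hy
    exact Subgroup.commute_of_normal_of_disjoint V₁ V hV₁.1 hV.1 (disjoint_of_ne hV₁ hV hne.symm) x y hx hy
  by_cases hab : ∀ x ∈ V₁, ∀ y ∈ V₁, x * y = y * x
  · -- the abelian case
    have huniq : ∀ V ∈ 𝓜, V = V₁ := by
      intro V hV
      by_contra hne
      apply hV.2.1
      rw [eq_bot_iff]
      intro v hv
      rw [Subgroup.mem_bot]
      obtain ⟨x, hx⟩ := htr₁.exists_smul_eq ω₀ (v • ω₀)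
      have hx' : (x : G) • ω₀ = v • ω₀ := hx
      have hvx : (x : G)⁻¹ * v = 1 := by
        apply central_fix htr₁ (ω := ω₀)
        · intro z hz
          rw [mul_assoc, ← hcomm V hV hne z hz v hv, ← mul_assoc, ← mul_assoc, hab _ (V₁.inv_mem x.2) z hz]
        · rw [mul_smul, ← hx', inv_smul_smul]
      have hvx' : v = x := by
        rw [inv_mul_eq_one] at hvx
        exact hvx.symm
      have hd := disjoint_of_ne hV₁ hV (Ne.symm hne)
      exact Subgroup.disjoint_def.mp hd (hvx' ▸ x.2) hv
    have hNV : N = V₁ := by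
      rw [hN]
      apply le_antisymm
      · apply sSup_le
        intro V hV
        rw [huniq V hV]
      · exact le_sSup hV₁m
    subst hNV
    obtain ⟨p, hp, hpx⟩ := elem_of_min hV₁ hab
    left
    refine ⟨p, hp, ⟨⟨fun a b => Subtype.ext (hab a a.2 b b.2)⟩⟩, ?_, htr₁, ?_⟩
    · intro x
      exact Subtype.ext (hpx x x.2)
    · intro ω
      rw [Subgroup.eq_bot_iff_forall]
      intro x hx
      apply Subtype.ext
      exact central_fix htr₁ (fun v hv => hab _ x.2 v hv) hx
  · -- the non-abelian case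
    right
    obtain ⟨T, _, m, hT, hm, ⟨eT⟩⟩ := Cfsg.Agent.S0721.result V₁ hV₁.2.1 hV₁.2.2
    have hTnab : ¬ IsMulCommutative T := by
      intro hc
      apply hab
      intro x hx y hy
      have h1 : (⟨x, hx⟩ : V₁) * ⟨y, hy⟩ = ⟨y, hy⟩ * ⟨x, hx⟩ := by
        apply eT.injective
        rw [map_mul, map_mul]
        funext i
        exact hc.is_comm.comm _ _
      exact congrArg Subtype.val h1
    by_cases hone : ∀ V ∈ 𝓜, V = V₁
    · have hNV : N = V₁ := by
        rw [hN]
        apply le_antisymm
        · apply sSup_le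
          intro V hV
          rw [hone V hV]
        · exact le_sSup hV₁m
      subst hNV
      exact ⟨T, inferInstance, m, hm, hT, hTnab, ⟨eT⟩⟩
    · push Not at hone
      obtain ⟨V₂, hV₂, hne⟩ := hone
      have hV₂' : IsMinNormal V₂ := hV₂
      haveI hV₂n : V₂.Normal := hV₂'.1
      have htr₂ := trans_of_normal hprim V₂ hV₂'.1 hV₂'.2.1
      have hc12 := hcomm V₂ hV₂ hne
      have hdisj := disjoint_of_ne hV₁ hV₂' (Ne.symm hne)
      -- centralizers
      have hC1 : ∀ c : G, (∀ v ∈ V₁, c * v = v * c) → c ∈ V₂ := by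
        intro c hc
        obtain ⟨y, hy⟩ := htr₂.exists_smul_eq ω₀ (c • ω₀)
        have hy' : (y : G) • ω₀ = c • ω₀ := hy
        have h1 : (y : G)⁻¹ * c = 1 := by
          apply central_fix htr₁ (ω := ω₀)
          · intro z hz
            rw [mul_assoc, hc z hz, ← mul_assoc, ← mul_assoc]
            congr 1
            have h2 := hc12 z hz _ (V₂.inv_mem y.2)
            exact h2.symm
          · rw [mul_smul, ← hy', inv_smul_smul]
        rw [inv_mul_eq_one] at h1
        rw [← h1]
        exact y.2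
      have huniq : ∀ V ∈ 𝓜, V = V₁ ∨ V = V₂ := by
        intro V hV
        by_cases hVV : V = V₁
        · exact Or.inl hVV
        · right
          have hle : V ≤ V₂ := by
            intro v hv
            apply hC1
            intro z hz
            exact (hcomm V hV hVV z hz v hv).symm
          rcases hV₂'.2.2 V hV.1 hle with h | h
          · exact absurd h hV.2.1
          · exact h
      have hNV : N = V₁ ⊔ V₂ := by
        rw [hN]
        apply le_antisymm
        · apply sSup_le
          intro V hV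
          rcases huniq V hV with h | h
          · rw [h]
            exact le_sup_left
          · rw [h]
            exact le_sup_right
        · exact sup_le (le_sSup hV₁m) (le_sSup hV₂)
      -- the isomorphism V₁ ≃* V₂
      have huniq2 : ∀ y y' : V₂, y • ω₀ = y' • ω₀ → y = y' := by
        intro y y' h
        have h1 : (y : G) • ω₀ = (y' : G) • ω₀ := h
        have h2 : (y : G)⁻¹ * y' = 1 := by
          apply central_fix htr₁ (ω := ω₀)
          · intro z hz
            have h3 := hc12 z hz _ (V₂.inv_mem y.2)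
            have h4 := hc12 z hz _ y'.2
            rw [mul_assoc, ← h4, ← mul_assoc, ← h3, mul_assoc]
          · rw [mul_smul, ← h1, inv_smul_smul]
        rw [inv_mul_eq_one] at h2
        exact Subtype.ext h2
      choose f hf using (fun x : V₁ => htr₂.exists_smul_eq ω₀ (x • ω₀))
      have hf' : ∀ x : V₁, ((f x : V₂) : G) • ω₀ = (x : G) • ω₀ := hf
      have hψmul : ∀ a b : V₁, f (a * b)⁻¹ = f a⁻¹ * f b⁻¹ := by
        intro a b
        apply huniq2
        show ((f (a * b)⁻¹ : V₂) : G) • ω₀ = ((f a⁻¹ * f b⁻¹ : V₂) : G) • ω₀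
        rw [hf', Subgroup.coe_mul, mul_smul, hf']
        have h1 := hc12 _ (b⁻¹).2 _ (f a⁻¹).2
        have h2 : ((f a⁻¹ : V₂) : G) • (((b⁻¹ : V₁) : G) • ω₀) = ((b⁻¹ : V₁) : G) • (((f a⁻¹ : V₂) : G) • ω₀) := by
          rw [← mul_smul, ← mul_smul, h1]
        rw [h2, hf', ← mul_smul]
        congr 1
        simp [mul_inv_rev]
      let ψ : V₁ →* V₂ := MonoidHom.mk' (fun x => f x⁻¹) hψmul
      have hψinj : Function.Injective ψ := by
        rw [injective_iff_map_eq_one]
        intro x hx
        have h1 : f x⁻¹ = 1 := hx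
        have h2 := hf' x⁻¹
        rw [h1] at h2
        have h3 : ((x⁻¹ : V₁) : G) • ω₀ = ω₀ := by
          rw [← h2]
          simp
        have h4 : ((x⁻¹ : V₁) : G) = 1 := by
          apply central_fix htr₂ (ω := ω₀)
          · intro v hv
            exact hc12 _ (x⁻¹).2 v hv
          · exact h3
        have h5 : x⁻¹ = 1 := Subtype.ext h4
        simpa using h5
      have hψsurj : Function.Surjective ψ := by
        intro y
        obtain ⟨x, hx⟩ := htr₁.exists_smul_eq ω₀ (y • ω₀)
        refine ⟨x⁻¹, ?_⟩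
        apply huniq2
        show ((f (x⁻¹)⁻¹ : V₂) : G) • ω₀ = (y : G) • ω₀
        rw [hf', inv_inv]
        exact hx
      let e12 : V₁ ≃* V₂ := MulEquiv.ofBijective ψ ⟨hψinj, hψsurj⟩
      -- the product
      let Φ : V₁ × V₂ →* G := MonoidHom.noncommCoprod V₁.subtype V₂.subtype (fun a b => hc12 a a.2 b b.2)
      have hΦinj : Function.Injective Φ := by
        rw [injective_iff_map_eq_one]
        rintro ⟨a, b⟩ hab'
        have h1 : (a : G) * b = 1 := hab'
        have h2 : (a : G) = (b : G)⁻¹ := eq_inv_of_mul_eq_one_left h1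
        have h3 : (a : G) = 1 := Subgroup.disjoint_def.mp hdisj a.2 (h2 ▸ V₂.inv_mem b.2)
        have h4 : (b : G) = 1 := by
          rw [h3, one_mul] at h1
          exact h1
        exact Prod.ext (Subtype.ext h3) (Subtype.ext h4)
      have hΦrange : Φ.range = N := by
        rw [hNV]
        apply le_antisymm
        · rintro _ ⟨⟨a, b⟩, rfl⟩
          exact Subgroup.mul_mem_sup a.2 b.2
        · rw [sup_le_iff]
          constructor
          · intro a ha
            exact ⟨(⟨a, ha⟩, 1), mul_one a⟩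
          · intro b hb
            exact ⟨(1, ⟨b, hb⟩), one_mul b⟩
      let e0 : (V₁ × V₂) ≃* Φ.range := MonoidHom.ofInjective hΦinj
      let e1 : N ≃* Φ.range := MulEquiv.subgroupCongr hΦrange.symm
      let e2 : N ≃* V₁ × V₂ := e1.trans e0.symm
      let e3 : V₁ × V₂ ≃* (Fin m → T) × (Fin m → T) := MulEquiv.prodCongr eT (e12.symm.trans eT)
      exact ⟨T, inferInstance, m + m, by omega, hT, hTnab, ⟨(e2.trans e3).trans (powDouble T m)⟩⟩

end Cfsg.Agent.S3680
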