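import Cfsg.Statements.S3378
import Mathlib
import Cfsg.Agent.S3377
import Cfsg.Agent.S3680
import Cfsg.Agent.S0493
import Cfsg.Agent.S0494
import Cfsg.Agent.S0721
import Cfsg.Agent.Lib.Char.Burnside
import Cfsg.Agent.Lib.SmallSimple.Sylow

set_option autoImplicit false
open Cfsg

namespace Cfsg.Agent.S3378

open Cfsg.Agent.Lib.Recog Cfsg.Agent.Lib.Basic
open scoped MatrixGroups

section bound

variable {Q : Type*} [Group Q]

/-- Order at most 120. -/
theorem card_le_120 (x y z : Q) (hx : x ^ 3 = 1) (hy : y ^ 5 = 1) (hz : z ^ 2 = 1) (hcx : x * z = z * x)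
    (hcy : y * z = z * y) (hxy : (x * y) ^ 2 = z) (hgen : Subgroup.closure ({x, y, z} : Set Q) = ⊤) :
    Finite Q ∧ Nat.card Q ≤ 120 := by
  have hcent : ∀ g, g * z = z * g := by
    have h : Subgroup.closure ({x, y, z} : Set Q) ≤ Subgroup.centralizer {z} := by
      rw [Subgroup.closure_le]
      rintro g (rfl | rfl | rfl)
      · exact Subgroup.mem_centralizer_singleton_iff.mpr hcx
      · exact Subgroup.mem_centralizer_singleton_iff.mpr hcy
      · exact Subgroup.mem_centralizer_singleton_iff.mpr rfl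
    intro g
    have h1 : g ∈ Subgroup.closure ({x, y, z} : Set Q) := by
      rw [hgen]
      trivial
    exact Subgroup.mem_centralizer_singleton_iff.mp (h h1)
  let Z := Subgroup.zpowers z
  haveI hZ : Z.Normal := by
    constructor
    intro n hn g
    obtain ⟨k, rfl⟩ := hn
    refine ⟨k, ?_⟩
    have h1 : Commute g (z ^ k) := (show Commute g z from hcent g).zpow_right k
    show z ^ k = g * z ^ k * g⁻¹
    rw [h1.eq, mul_inv_cancel_right]
  let π := QuotientGroup.mk' Z
  have hzπ : π z = 1 := (QuotientGroup.eq_one_iff z).mpr (Subgroup.mem_zpowers z)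
  have hgen' : Subgroup.closure ({π x, π y} : Set (Q ⧸ Z)) = ⊤ := by
    set K := Subgroup.closure ({π x, π y} : Set (Q ⧸ Z)) with hK
    have h1 : Subgroup.closure ({x, y, z} : Set Q) ≤ K.comap π := by
      rw [Subgroup.closure_le]
      rintro g (rfl | rfl | rfl)
      · exact Subgroup.subset_closure (Or.inl rfl)
      · exact Subgroup.subset_closure (Or.inr rfl)
      · show π g ∈ K
        rw [hzπ]
        exact K.one_mem
    rw [eq_top_iff]
    intro q _
    obtain ⟨g, rfl⟩ := QuotientGroup.mk'_surjective Z q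
    exact h1 (by rw [hgen]; trivial)
  obtain ⟨hfin, hcard⟩ := a5_card_le (π x) (π y) (by rw [← map_pow, hx, map_one]) (by rw [← map_pow, hy, map_one])
    (by rw [← map_mul, ← map_pow, hxy, hzπ]) hgen'
  have hZfin : Finite Z := by
    have : IsOfFinOrder z := isOfFinOrder_iff_pow_eq_one.mpr ⟨2, by norm_num, hz⟩
    exact this.finite_zpowers
  have hZcard : Nat.card Z ≤ 2 := by
    rw [Nat.card_zpowers]
    exact Nat.le_of_dvd (by norm_num) (orderOf_dvd_of_pow_eq_one hz)
  let e := Subgroup.groupEquivQuotientProdSubgroup (s := Z)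
  refine ⟨Finite.of_equiv _ e.symm, ?_⟩
  rw [Nat.card_congr e, Nat.card_prod]
  calc Nat.card (Q ⧸ Z) * Nat.card Z ≤ 60 * 2 := Nat.mul_le_mul hcard hZcard
    _ = 120 := by norm_num

end bound

section sl25

/-- generators of `SL₂(5)` -/
def gA : SL(2, ZMod 5) := ⟨!![0, 4; 1, 4], by rw [Matrix.det_fin_two_of]; decide⟩
def gB : SL(2, ZMod 5) := ⟨!![1, 1; 0, 1], by rw [Matrix.det_fin_two_of]; decide⟩
def gZ : SL(2, ZMod 5) := ⟨!![4, 0; 0, 4], by rw [Matrix.det_fin_two_of]; decide⟩

lemma gA3 : gA ^ 3 = 1 := by decide +kernel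
lemma gB5 : gB ^ 5 = 1 := by decide +kernel
lemma gZ2 : gZ ^ 2 = 1 := by decide +kernel
lemma gAZ : gA * gZ = gZ * gA := by decide +kernel
lemma gBZ : gB * gZ = gZ * gB := by decide +kernel
lemma gABZ : (gA * gB) ^ 2 = gZ := by decide +kernel
lemma gA1 : gA ≠ 1 := by decide +kernel
lemma gB1 : gB ≠ 1 := by decide +kernel
lemma gZ1 : gZ ≠ 1 := by decide +kernel

lemma card_sl25 : Nat.card (SL(2, ZMod 5)) = 120 := by
  rw [Nat.card_eq_fintype_card]
  decide +kernel

lemma sl_decomp : ∀ a b c d : ZMod 5, a * d - b * c = 1 → ∃ s p q r : ZMod 5,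
    !![a, b; c, d] = !![1, 0; s, 1] * !![1, p; 0, 1] * !![1, 0; q, 1] * !![1, r; 0, 1] := by
  decide +kernel

/-- Transvection subgroup membership: a subgroup of index at most two contains every element of order 5. -/
lemma mem_of_pow5 (K : Subgroup (SL(2, ZMod 5))) (hi : K.index = 2) (g : SL(2, ZMod 5)) (hg : g ^ 5 = 1) : g ∈ K := by
  have h1 := Subgroup.sq_mem_of_index_two hi (g ^ 3)
  have h2 : (g ^ 3) ^ 2 = g := by
    rw [← pow_mul, show 3 * 2 = 5 + 1 by norm_num, pow_succ, hg, one_mul]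
  rwa [h2] at h1

def gU (r : ZMod 5) : SL(2, ZMod 5) := ⟨!![1, r; 0, 1], by simp [Matrix.det_fin_two_of]⟩
def gL (r : ZMod 5) : SL(2, ZMod 5) := ⟨!![1, 0; r, 1], by simp [Matrix.det_fin_two_of]⟩
lemma gU5 : ∀ r, gU r ^ 5 = 1 := by decide +kernel
lemma gL5 : ∀ r, gL r ^ 5 = 1 := by decide +kernel

lemma gen_top_sl (K : Subgroup (SL(2, ZMod 5))) (ha : gA ∈ K) (hb : gB ∈ K) (hz : gZ ∈ K) : K = ⊤ := by
  haveI : Fact (Nat.Prime 5) := ⟨by norm_num⟩
  have h3 : 3 ∣ Nat.card K := by
    have h9 : orderOf gA = 3 := orderOf_eq_prime gA3 gA1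
    have h10 := Subgroup.orderOf_dvd_natCard K ha
    rwa [h9] at h10
  have h5 : 5 ∣ Nat.card K := by
    have h9 : orderOf gB = 5 := orderOf_eq_prime gB5 gB1
    have h10 := Subgroup.orderOf_dvd_natCard K hb
    rwa [h9] at h10
  have h4 : 4 ∣ Nat.card K := by
    have h9 : orderOf (gA * gB) = 2 ^ (1 + 1) := by
      apply orderOf_eq_prime_pow
      · rw [show 2 ^ 1 = 2 by norm_num, gABZ]
        exact gZ1
      · rw [show 2 ^ (1 + 1) = 2 * 2 by norm_num, pow_mul, gABZ, gZ2]
    have h10 := Subgroup.orderOf_dvd_natCard K (K.mul_mem ha hb)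
    rw [h9] at h10
    exact h10
  have h60 : 60 ∣ Nat.card K := by
    have h12 : 12 ∣ Nat.card K := Nat.Coprime.mul_dvd_of_dvd_of_dvd (by norm_num : Nat.Coprime 3 4) h3 h4
    exact Nat.Coprime.mul_dvd_of_dvd_of_dvd (by norm_num : Nat.Coprime 12 5) h12 h5
  have hd : Nat.card K * K.index = 120 := by
    rw [Subgroup.card_mul_index, card_sl25]
  obtain ⟨m, hm⟩ := h60
  rw [hm, mul_assoc] at hd
  have hm2 : m * K.index = 2 := by omega
  have hi : K.index = 1 ∨ K.index = 2 := by
    have : K.index ∣ 2 := Dvd.intro_left _ hm2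
    exact (Nat.dvd_prime Nat.prime_two).mp this
  rcases hi with hi | hi
  · exact Subgroup.index_eq_one.mp hi
  · have hU : ∀ r : ZMod 5, ∃ g ∈ K, (g : Matrix (Fin 2) (Fin 2) (ZMod 5)) = !![1, r; 0, 1] := by
      intro r
      exact ⟨gU r, mem_of_pow5 K hi _ (gU5 r), rfl⟩
    have hL : ∀ r : ZMod 5, ∃ g ∈ K, (g : Matrix (Fin 2) (Fin 2) (ZMod 5)) = !![1, 0; r, 1] := by
      intro r
      exact ⟨gL r, mem_of_pow5 K hi _ (gL5 r), rfl⟩
    rw [eq_top_iff]
    intro g _
    have hdet : (g : Matrix (Fin 2) (Fin 2) (ZMod 5)).det = 1 := g.2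
    rw [Matrix.det_fin_two] at hdet
    obtain ⟨s, p, q, r, h⟩ := sl_decomp _ _ _ _ hdet
    rw [← Matrix.eta_fin_two (g : Matrix (Fin 2) (Fin 2) (ZMod 5))] at h
    obtain ⟨g1, hg1, e1⟩ := hL s
    obtain ⟨g2, hg2, e2⟩ := hU p
    obtain ⟨g3, hg3, e3⟩ := hL q
    obtain ⟨g4, hg4, e4⟩ := hU r
    have hg : g = g1 * g2 * g3 * g4 := by
      apply Subtype.ext
      show (g : Matrix (Fin 2) (Fin 2) (ZMod 5)) = ((g1 * g2 * g3 * g4 : SL(2, ZMod 5)) : Matrix (Fin 2) (Fin 2) (ZMod 5))
      rw [h]
      simp only [Matrix.SpecialLinearGroup.coe_mul, e1, e2, e3, e4]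
    rw [hg]
    exact K.mul_mem (K.mul_mem (K.mul_mem hg1 hg2) hg3) hg4

end sl25

/-- The relators. -/
abbrev relsT : Set (FreeGroup (Fin 3)) :=
  {FreeGroup.of (0 : Fin 3) ^ 3, FreeGroup.of (1 : Fin 3) ^ 5, FreeGroup.of (2 : Fin 3) ^ 2,
        (FreeGroup.of (2 : Fin 3))⁻¹ * FreeGroup.of 0 * FreeGroup.of 2 * (FreeGroup.of (0 : Fin 3))⁻¹,
        (FreeGroup.of (2 : Fin 3))⁻¹ * FreeGroup.of 1 * FreeGroup.of 2 * (FreeGroup.of (1 : Fin 3))⁻¹,
        (FreeGroup.of (0 : Fin 3) * FreeGroup.of 1) ^ 2 * (FreeGroup.of (2 : Fin 3))⁻¹}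

section pres

/-- The presented group has at most 120 elements. -/
theorem pres_card_le : Finite (PresentedGroup relsT) ∧ Nat.card (PresentedGroup relsT) ≤ 120 := by
  let x : PresentedGroup relsT := PresentedGroup.of 0
  let y : PresentedGroup relsT := PresentedGroup.of 1
  let z : PresentedGroup relsT := PresentedGroup.of 2
  have hx : x ^ 3 = 1 := PresentedGroup.one_of_mem (rels := relsT) (x := FreeGroup.of (0 : Fin 3) ^ 3) (by simp [relsT])
  have hy : y ^ 5 = 1 := PresentedGroup.one_of_mem (rels := relsT) (x := FreeGroup.of (1 : Fin 3) ^ 5) (by simp [relsT])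
  have hz : z ^ 2 = 1 := PresentedGroup.one_of_mem (rels := relsT) (x := FreeGroup.of (2 : Fin 3) ^ 2) (by simp [relsT])
  have h1 : z⁻¹ * x * z * x⁻¹ = 1 := PresentedGroup.one_of_mem (rels := relsT)
    (x := (FreeGroup.of (2 : Fin 3))⁻¹ * FreeGroup.of 0 * FreeGroup.of 2 * (FreeGroup.of (0 : Fin 3))⁻¹) (by simp [relsT])
  have h2 : z⁻¹ * y * z * y⁻¹ = 1 := PresentedGroup.one_of_mem (rels := relsT)
    (x := (FreeGroup.of (2 : Fin 3))⁻¹ * FreeGroup.of 1 * FreeGroup.of 2 * (FreeGroup.of (1 : Fin 3))⁻¹) (by simp [relsT])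
  have h3 : (x * y) ^ 2 * z⁻¹ = 1 := PresentedGroup.one_of_mem (rels := relsT)
    (x := (FreeGroup.of (0 : Fin 3) * FreeGroup.of 1) ^ 2 * (FreeGroup.of (2 : Fin 3))⁻¹) (by simp [relsT])
  have hgen : Subgroup.closure ({x, y, z} : Set (PresentedGroup relsT)) = ⊤ := by
    rw [← PresentedGroup.closure_range_of relsT]
    congr 1
    ext g
    constructor
    · rintro (rfl | rfl | rfl)
      · exact ⟨0, rfl⟩
      · exact ⟨1, rfl⟩
      · exact ⟨2, rfl⟩
    · rintro ⟨i, rfl⟩
      fin_cases i
      · exact Or.inl rfl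
      · exact Or.inr (Or.inl rfl)
      · exact Or.inr (Or.inr rfl)
  refine card_le_120 x y z hx hy hz ?_ ?_ ?_ hgen
  · have h4 : z⁻¹ * x * z = x := by
      rw [mul_inv_eq_one] at h1
      exact h1
    calc x * z = z * (z⁻¹ * x * z) := by group
      _ = z * x := by rw [h4]
  · have h4 : z⁻¹ * y * z = y := by
      rw [mul_inv_eq_one] at h2
      exact h2
    calc y * z = z * (z⁻¹ * y * z) := by group
      _ = z * y := by rw [h4]
  · rw [mul_inv_eq_one] at h3
    exact h3

/-- A map to a group satisfying the relations. -/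
theorem pres_map {G : Type*} [Group G] (x y z : G) (hx : x ^ 3 = 1) (hy : y ^ 5 = 1) (hz : z ^ 2 = 1) (hcx : x * z = z * x)
    (hcy : y * z = z * y) (hxy : (x * y) ^ 2 = z) :
    ∃ φ : PresentedGroup relsT →* G, φ (PresentedGroup.of 0) = x ∧ φ (PresentedGroup.of 1) = y ∧ φ (PresentedGroup.of 2) = z := by
  have hval : ∀ r ∈ relsT, FreeGroup.lift (![x, y, z]) r = 1 := by
    intro r hr
    rcases hr with rfl | rfl | rfl | rfl | rfl | rfl
    · simp [hx]
    · simp [hy]
    · simp [hz]
    · simp only [map_mul, map_inv, FreeGroup.lift_apply_of]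
      show z⁻¹ * x * z * x⁻¹ = 1
      rw [mul_assoc z⁻¹, hcx]
      group
    · simp only [map_mul, map_inv, FreeGroup.lift_apply_of]
      show z⁻¹ * y * z * y⁻¹ = 1
      rw [mul_assoc z⁻¹, hcy]
      group
    · simp only [map_mul, map_inv, map_pow, FreeGroup.lift_apply_of]
      show (x * y) ^ 2 * z⁻¹ = 1
      rw [hxy, mul_inv_cancel]
  exact ⟨PresentedGroup.toGroup hval, PresentedGroup.toGroup.of hval, PresentedGroup.toGroup.of hval, PresentedGroup.toGroup.of hval⟩

theorem pres_iso : Nonempty (PresentedGroup relsT ≃* SL(2, ZMod 5)) := by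
  obtain ⟨φ, h1, h2, h3⟩ := pres_map gA gB gZ gA3 gB5 gZ2 gAZ gBZ gABZ
  have hsurj : Function.Surjective φ := by
    rw [← MonoidHom.range_eq_top]
    exact gen_top_sl _ ⟨_, h1⟩ ⟨_, h2⟩ ⟨_, h3⟩
  obtain ⟨hfin, hcard⟩ := pres_card_le
  have hbij := hsurj.bijective_of_nat_card_le (by rw [card_sl25]; exact hcard)
  exact ⟨MulEquiv.ofBijective φ hbij⟩

end pres

section part1

universe u

theorem solv_small : ∀ (n : ℕ), n < 60 → ∀ (G : Type u) [Group G] [Finite G], Nat.card G = n → Group.IsSolvable G := by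
  intro n
  induction n using Nat.strong_induction_on with
  | _ n ih =>
    intro hn G _ _ hc
    by_cases hs : Subsingleton G
    · infer_instance
    haveI : Nontrivial G := not_subsingleton_iff_nontrivial.mp hs
    by_cases hsimple : ∀ N : Subgroup G, N.Normal → N = ⊥ ∨ N = ⊤
    · haveI : IsSimpleGroup G := ⟨fun N hN => hsimple N hN⟩
      by_cases hcyc : IsCyclic G
      · letI := IsCyclic.commGroup (α := G)
        infer_instance
      · have := Cfsg.Agent.S0493.result hcyc (by omega)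
        omega
    · push Not at hsimple
      obtain ⟨N, hN, h1, h2⟩ := hsimple
      have hNcard : Nat.card N < n := by
        have h3 := Subgroup.card_mul_index N
        have h4 : N.index ≠ 0 := Subgroup.index_ne_zero_of_finite
        have h5 : N.index ≠ 1 := fun h => h2 (Subgroup.index_eq_one.mp h)
        have h6 : 0 < Nat.card N := Nat.card_pos
        rw [hc] at h3
        nlinarith [show 2 ≤ N.index by omega]
      have hQcard : Nat.card (G ⧸ N) < n := by
        have h3 := Subgroup.card_mul_index N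
        have h4 : 1 < Nat.card N := by
          haveI : Nontrivial N := (Subgroup.nontrivial_iff_ne_bot N).mpr h1
          exact Finite.one_lt_card
        have h5 : 0 < N.index := Nat.pos_of_ne_zero Subgroup.index_ne_zero_of_finite
        rw [hc] at h3
        show N.index < n
        nlinarith
      haveI := ih _ hNcard (by omega) N rfl
      haveI := ih _ hQcard (by omega) (G ⧸ N) rfl
      exact Group.isSolvable_of_ker_le_range N.subtype (QuotientGroup.mk' N) (by
        intro x hx
        exact ⟨⟨x, (QuotientGroup.eq_one_iff x).mp hx⟩, rfl⟩)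

theorem order60_iso (G : Type u) [Group G] [Finite G] (hc : Nat.card G = 60) (hns : ¬ Group.IsSolvable G) :
    Nonempty (G ≃* alternatingGroup (Fin 5)) := by
  haveI : Nontrivial G := by
    apply Finite.one_lt_card_iff_nontrivial.mp
    omega
  haveI : IsSimpleGroup G := by
    refine ⟨fun N hN => ?_⟩
    by_contra hcon
    push Not at hcon
    obtain ⟨h1, h2⟩ := hcon
    have hNcard : Nat.card N < 60 := by
      have h3 := Subgroup.card_mul_index N
      have h4 : N.index ≠ 0 := Subgroup.index_ne_zero_of_finite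
      have h5 : N.index ≠ 1 := fun h => h2 (Subgroup.index_eq_one.mp h)
      have h6 : 0 < Nat.card N := Nat.card_pos
      rw [hc] at h3
      nlinarith [show 2 ≤ N.index by omega]
    have hQcard : Nat.card (G ⧸ N) < 60 := by
      have h3 := Subgroup.card_mul_index N
      have h4 : 1 < Nat.card N := by
        haveI : Nontrivial N := (Subgroup.nontrivial_iff_ne_bot N).mpr h1
        exact Finite.one_lt_card
      have h5 : 0 < N.index := Nat.pos_of_ne_zero Subgroup.index_ne_zero_of_finite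
      rw [hc] at h3
      show N.index < 60
      nlinarith
    haveI := solv_small _ hNcard N rfl
    haveI := solv_small _ hQcard (G ⧸ N) rfl
    exact hns (Group.isSolvable_of_ker_le_range N.subtype (QuotientGroup.mk' N) (by
        intro x hx
        exact ⟨⟨x, (QuotientGroup.eq_one_iff x).mp hx⟩, rfl⟩))
  exact Cfsg.Agent.S0494.result hc

/-- No simple group has order 120. -/
theorem no_simple_120 (T : Type u) [Group T] [Finite T] [IsSimpleGroup T] (hc : Nat.card T = 120) : False := by
  haveI : Fact (Nat.Prime 5) := ⟨by norm_num⟩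
  have hnc : ¬ IsMulCommutative T :=
    Cfsg.Agent.Lib.SmallSimple.not_comm_of_not_prime (by rw [hc]; norm_num)
  have hnp : ¬ IsPGroup 5 T := Cfsg.Agent.Lib.SmallSimple.not_isPGroup_of_dvd (p := 5) (q := 2) (by norm_num) (by norm_num)
    (by norm_num) (by rw [hc]; norm_num)
  obtain ⟨h1, h2, h3, -⟩ := Cfsg.Agent.Lib.SmallSimple.sylow_package (G := T) (p := 5) (a := 1) (m := 24)
    (by rw [hc]; norm_num) (by norm_num) (by norm_num) hnp hnc
  have h6 : Nat.card (Sylow 5 T) = 6 := by
    have hle := Nat.le_of_dvd (by norm_num) h2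
    interval_cases (Nat.card (Sylow 5 T)) <;> omega
  obtain ⟨P⟩ : Nonempty (Sylow 5 T) := inferInstance
  have hidx : (Subgroup.normalizer (P : Set T)).index = 6 := by
    rw [← Sylow.card_eq_index_normalizer P]
    exact h6
  have hne : Subgroup.normalizer (P : Set T) ≠ ⊤ := by
    intro h
    rw [h, Subgroup.index_top] at hidx
    omega
  obtain ⟨f, hf⟩ := Cfsg.Agent.Lib.SmallSimple.exists_embed_alt hnc _ hne
  generalize (Subgroup.normalizer (P : Set T)).index = k at hidx f
  subst hidx
  haveI : IsSimpleGroup (alternatingGroup (Fin 6)) := alternatingGroup.isSimpleGroup (by simp)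
  have hcA : Nat.card (alternatingGroup (Fin 6)) = 360 := by
    have h2' := two_mul_nat_card_alternatingGroup (α := Fin 6)
    have h3' : Nat.card (Equiv.Perm (Fin 6)) = 720 := by
      rw [Nat.card_eq_fintype_card, Fintype.card_perm, Fintype.card_fin]
      decide
    omega
  have hncA : ¬ IsMulCommutative (alternatingGroup (Fin 6)) :=
    Cfsg.Agent.Lib.SmallSimple.not_comm_of_not_prime (by rw [hcA]; norm_num)
  have hKc : Nat.card f.range = 120 := by
    rw [← hc]
    exact Nat.card_congr (MonoidHom.ofInjective hf).toEquiv.symm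
  have hKi : f.range.index = 3 := by
    have := Subgroup.card_mul_index f.range
    rw [hKc, hcA] at this
    omega
  have hKne : f.range ≠ ⊤ := by
    intro h
    rw [h, Subgroup.index_top] at hKi
    omega
  have h9 := Cfsg.Agent.Lib.SmallSimple.two_mul_card_dvd_factorial hncA f.range hKne
  rw [hKi, hcA] at h9
  revert h9
  decide

/-- Involutions in the quaternion group. -/
lemma q_table : ∀ q r : QuaternionGroup 2, q ^ 2 = 1 → q ≠ 1 → r ^ 2 = 1 → r ≠ 1 → q = r := by decide

lemma a5_table : ∀ a : alternatingGroup (Fin 5), a ^ 4 = 1 → a ^ 2 = 1 := by decide +kernel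

variable (G : Type u) [Group G] [Finite G]

theorem small_card_le (hun : ∀ P : Sylow 2 G, ∀ u ∈ (P : Subgroup G), ∀ v ∈ (P : Subgroup G), u ^ 2 = 1 → u ≠ 1 → v ^ 2 = 1 → v ≠ 1 → u = v)
    (W : Subgroup G) (P : Sylow 2 G) (hWP : W ≤ P) (h2 : ∀ w ∈ W, w ^ 2 = 1) : Nat.card W ≤ 2 := by
  classical
  by_cases hb : W = ⊥
  · rw [hb]
    simp
  obtain ⟨x, hx, hx1⟩ := W.bot_or_exists_ne_one.resolve_left hb
  have hsub : (W : Set G) ⊆ {1, x} := by
    intro y hy
    by_cases hy1 : y = 1
    · exact Or.inl hy1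
    · exact Or.inr (hun P y (hWP hy) x (hWP hx) (h2 y hy) hy1 (h2 x hx) hx1)
  have h3 := Set.ncard_le_ncard hsub (Set.toFinite _)
  rw [Set.ncard_pair (Ne.symm hx1)] at h3
  show Nat.card ((W : Set G)) ≤ 2
  rw [Nat.card_coe_set_eq]
  exact h3

end part1



/-- Every non-solvable group of order 120 whose Sylow 2-subgroups are quaternion of order 8 is isomorphic to SL(2,5), and SL(2,5) has the presentation ⟨x, y, z | x³ = y⁵ = z² = 1, z⁻¹xz = x, z⁻¹yz = y, (xy)² = z⟩. -/
theorem result :
    (∀ (G : Type*) [Group G] [Finite G], Nat.card G = 120 → ¬ Group.IsSolvable G →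
      (∀ P : Sylow 2 G, Nonempty ((P : Subgroup G) ≃* QuaternionGroup 2)) →
      Nonempty (G ≃* Matrix.SpecialLinearGroup (Fin 2) (ZMod 5))) ∧
    Nonempty (PresentedGroup ({FreeGroup.of (0 : Fin 3) ^ 3, FreeGroup.of (1 : Fin 3) ^ 5, FreeGroup.of (2 : Fin 3) ^ 2,
        (FreeGroup.of (2 : Fin 3))⁻¹ * FreeGroup.of 0 * FreeGroup.of 2 * (FreeGroup.of (0 : Fin 3))⁻¹,
        (FreeGroup.of (2 : Fin 3))⁻¹ * FreeGroup.of 1 * FreeGroup.of 2 * (FreeGroup.of (1 : Fin 3))⁻¹,
        (FreeGroup.of (0 : Fin 3) * FreeGroup.of 1) ^ 2 * (FreeGroup.of (2 : Fin 3))⁻¹} : Set (FreeGroup (Fin 3)))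
      ≃* Matrix.SpecialLinearGroup (Fin 2) (ZMod 5)) := by
  refine ⟨?_, pres_iso⟩
  intro G _ _ hc hns hQ
  classical
  haveI : Nontrivial G := by
    apply Finite.one_lt_card_iff_nontrivial.mp
    omega
  have hun : ∀ P : Sylow 2 G, ∀ u ∈ (P : Subgroup G), ∀ v ∈ (P : Subgroup G), u ^ 2 = 1 → u ≠ 1 → v ^ 2 = 1 → v ≠ 1 → u = v := by
    intro P u hu v hv hu2 hu1 hv2 hv1
    obtain ⟨e⟩ := hQ P
    have h1 := q_table (e ⟨u, hu⟩) (e ⟨v, hv⟩) (by
        rw [← map_pow, map_eq_one_iff e e.injective]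
        exact Subtype.ext hu2) (by
        rw [Ne, map_eq_one_iff e e.injective]
        intro h
        exact hu1 (congrArg Subtype.val h)) (by
        rw [← map_pow, map_eq_one_iff e e.injective]
        exact Subtype.ext hv2) (by
        rw [Ne, map_eq_one_iff e e.injective]
        intro h
        exact hv1 (congrArg Subtype.val h))
    exact congrArg Subtype.val (e.injective h1)
  obtain ⟨N, hN⟩ := exists_isMinNormal (G := G)
  haveI hNn : N.Normal := hN.1
  obtain ⟨T, _, m, hT, hm, ⟨eT⟩⟩ := Cfsg.Agent.S0721.result N hN.2.1 hN.2.2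
  have hNdvd : Nat.card N ∣ 120 := by
    rw [← hc]
    exact Subgroup.card_subgroup_dvd_card N
  have hNpos : 1 < Nat.card N := by
    haveI : Nontrivial N := (Subgroup.nontrivial_iff_ne_bot N).mpr hN.2.1
    exact Finite.one_lt_card
  have hsolvext : Group.IsSolvable N → Group.IsSolvable (G ⧸ N) → False := by
    intro h1 h2
    exact hns (Group.isSolvable_of_ker_le_range N.subtype (QuotientGroup.mk' N) (by
        intro x hx
        exact ⟨⟨x, (QuotientGroup.eq_one_iff x).mp hx⟩, rfl⟩))
  have hQcard : Nat.card N * Nat.card (G ⧸ N) = 120 := by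
    rw [← hc]
    exact Subgroup.card_mul_index N
  have hN2 : Nat.card N = 2 := by
    by_cases hTc : IsMulCommutative T
    · have hNab : ∀ x ∈ N, ∀ y ∈ N, x * y = y * x := by
        intro x hx y hy
        have h1 : (⟨x, hx⟩ : N) * ⟨y, hy⟩ = ⟨y, hy⟩ * ⟨x, hx⟩ := by
          apply eT.injective
          rw [map_mul, map_mul]
          funext i
          exact hTc.is_comm.comm _ _
        exact congrArg Subtype.val h1
      obtain ⟨p, hp, hpx⟩ := Cfsg.Agent.S3680.elem_of_min hN hNab
      haveI := Fact.mk hp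
      have hPG : IsPGroup p N := fun x => ⟨1, by rw [pow_one]; exact Subtype.ext (hpx x x.2)⟩
      obtain ⟨k, hk⟩ := IsPGroup.iff_card.mp hPG
      have hk0 : k ≠ 0 := by
        rintro rfl
        rw [pow_zero] at hk
        omega
      have hp120 : p ∣ 2 ^ 3 * (3 * 5) := by
        have h1 : p ∣ Nat.card N := by
          rw [hk]
          exact dvd_pow_self p hk0
        exact h1.trans hNdvd
      have hp' : p = 2 ∨ p = 3 ∨ p = 5 := by
        rcases (Nat.Prime.dvd_mul hp).mp hp120 with h | h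
        · exact Or.inl ((Nat.prime_dvd_prime_iff_eq hp Nat.prime_two).mp (hp.dvd_of_dvd_pow h))
        · rcases (Nat.Prime.dvd_mul hp).mp h with h | h
          · exact Or.inr (Or.inl ((Nat.prime_dvd_prime_iff_eq hp (by norm_num)).mp h))
          · exact Or.inr (Or.inr ((Nat.prime_dvd_prime_iff_eq hp (by norm_num)).mp h))
      rcases hp' with rfl | rfl | rfl
      · obtain ⟨P⟩ : Nonempty (Sylow 2 G) := inferInstance
        have hle := hPG.le_sylow_of_normal P
        have := small_card_le G hun N P hle (fun w hw => hpx w hw)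
        omega
      · exfalso
        have hk1 : k = 1 := by
          by_contra hne
          have h1 : 3 ^ 2 ∣ 3 ^ k := pow_dvd_pow 3 (by omega)
          have h2 : 3 ^ 2 ∣ 120 := h1.trans (hk ▸ hNdvd)
          norm_num at h2
        subst hk1
        have h1 : Nat.card N = 3 := by simpa using hk
        have h2 : Nat.card (G ⧸ N) = 40 := by
          rw [h1] at hQcard
          omega
        exact hsolvext (Cfsg.Agent.Lib.Char.isSolvable_of_card_eq_aux Nat.prime_two (q := 3) (by norm_num) _ N rfl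
            ⟨0, 1, by rw [h1]; norm_num⟩)
          (Cfsg.Agent.Lib.Char.isSolvable_of_card_eq_aux Nat.prime_two (q := 5) (by norm_num) _ (G ⧸ N) rfl
            ⟨3, 1, by rw [h2]; norm_num⟩)
      · exfalso
        have hk1 : k = 1 := by
          by_contra hne
          have h1 : 5 ^ 2 ∣ 5 ^ k := pow_dvd_pow 5 (by omega)
          have h2 : 5 ^ 2 ∣ 120 := h1.trans (hk ▸ hNdvd)
          norm_num at h2
        subst hk1
        have h1 : Nat.card N = 5 := by simpa using hk
        have h2 : Nat.card (G ⧸ N) = 24 := by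
          rw [h1] at hQcard
          omega
        exact hsolvext (Cfsg.Agent.Lib.Char.isSolvable_of_card_eq_aux Nat.prime_two (q := 5) (by norm_num) _ N rfl
            ⟨0, 1, by rw [h1]; norm_num⟩)
          (Cfsg.Agent.Lib.Char.isSolvable_of_card_eq_aux Nat.prime_two (q := 3) (by norm_num) _ (G ⧸ N) rfl
            ⟨3, 1, by rw [h2]; norm_num⟩)
    · exfalso
      haveI hTf : Finite T := by
        refine Finite.of_injective (fun t : T => eT.symm (fun _ => t)) ?_
        intro a b hab
        have h1 : (fun _ : Fin m => a) = fun _ => b := eT.symm.injective hab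
        exact congrFun h1 ⟨0, hm⟩
      have hTN : Nat.card N = Nat.card T ^ m := by
        rw [Nat.card_congr eT.toEquiv, Nat.card_fun, Nat.card_fin]
      have hTdvd : Nat.card T ∣ 120 := by
        have h1 : Nat.card T ∣ Nat.card N := by
          rw [hTN]
          exact dvd_pow_self _ (by omega)
        exact h1.trans hNdvd
      have hncyc : ¬ IsCyclic T := by
        intro hcyc
        apply hTc
        letI := IsCyclic.commGroup (α := T)
        exact ⟨⟨fun a b => mul_comm a b⟩⟩
      by_cases hle : Nat.card T ≤ 100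
      · have h60 := Cfsg.Agent.S0493.result hncyc hle
        have hm1 : m = 1 := by
          by_contra hne
          have h1 : 60 ^ 2 ∣ 60 ^ m := pow_dvd_pow 60 (by omega)
          rw [← h60, ← hTN, h60] at h1
          have h2 : 60 ^ 2 ∣ 120 := h1.trans hNdvd
          norm_num at h2
        subst hm1
        obtain ⟨eA⟩ := Cfsg.Agent.S0494.result h60
        let ε : N ≃* alternatingGroup (Fin 5) := (eT.trans (MulEquiv.funUnique (Fin 1) T)).trans eA
        let ι : alternatingGroup (Fin 5) →* G := N.subtype.comp ε.symm.toMonoidHom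
        have hι : Function.Injective ι := N.subtype_injective.comp ε.symm.injective
        obtain ⟨S⟩ : Nonempty (Sylow 2 (alternatingGroup (Fin 5))) := inferInstance
        have hA60 : Nat.card (alternatingGroup (Fin 5)) = 60 := by
          rw [Nat.card_eq_fintype_card]
          decide +kernel
        have hS4 : Nat.card S = 2 ^ 2 := Cfsg.Agent.Lib.SmallSimple.sylow_card_of_eq (m := 15) S (by rw [hA60]; norm_num) (by norm_num)
        let W : Subgroup G := (S : Subgroup (alternatingGroup (Fin 5))).map ι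
        have hW4 : Nat.card W = 2 ^ 2 := by
          rw [← hS4]
          exact (Nat.card_congr ((S : Subgroup (alternatingGroup (Fin 5))).equivMapOfInjective ι hι).toEquiv).symm
        have hW2 : ∀ w ∈ W, w ^ 2 = 1 := by
          rintro _ ⟨a, ha, rfl⟩
          have h4 : (⟨a, ha⟩ : (S : Subgroup (alternatingGroup (Fin 5)))) ^ Nat.card S = 1 := pow_card_eq_one'
          rw [hS4] at h4
          have h5 : a ^ (2 ^ 2) = 1 := congrArg Subtype.val h4
          have h6 := a5_table a h5
          rw [← map_pow, h6, map_one]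
        have hWP : IsPGroup 2 W := fun x => ⟨1, by
          rw [pow_one]
          exact Subtype.ext (hW2 x x.2)⟩
        obtain ⟨P, hP⟩ := hWP.exists_le_sylow
        have := small_card_le G hun W P hP hW2
        rw [hW4] at this
        norm_num at this
      · have h120 : Nat.card T = 120 := by
          have h1 := Nat.le_of_dvd (by norm_num) hTdvd
          obtain ⟨c, hc'⟩ := hTdvd
          have hc1 : c = 1 := by
            have hcpos : 0 < c := by
              rcases Nat.eq_zero_or_pos c with h | h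
              · rw [h] at hc'
                omega
              · exact h
            nlinarith
          rw [hc1] at hc'
          omega
        exact no_simple_120 T h120
  obtain ⟨z, hzN, hz1⟩ := N.bot_or_exists_ne_one.resolve_left hN.2.1
  have hNexp : ∀ w ∈ N, w ^ 2 = 1 := by
    intro w hw
    have h1 : (⟨w, hw⟩ : N) ^ Nat.card N = 1 := pow_card_eq_one'
    rw [hN2] at h1
    exact congrArg Subtype.val h1
  have hNP : IsPGroup 2 N := fun x => ⟨1, by rw [pow_one]; exact Subtype.ext (hNexp x x.2)⟩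
  have hN12 : ∀ w ∈ N, w = 1 ∨ w = z := by
    intro w hw
    by_cases hw1 : w = 1
    · exact Or.inl hw1
    · right
      obtain ⟨P⟩ : Nonempty (Sylow 2 G) := inferInstance
      have hle := hNP.le_sylow_of_normal P
      exact hun P w (hle hw) z (hle hzN) (hNexp w hw) hw1 (hNexp z hzN) hz1
  have hcent : ∀ g, g * z = z * g := by
    intro g
    have h1 : g * z * g⁻¹ ∈ N := hNn.conj_mem z hzN g
    rcases hN12 _ h1 with h | h
    · exfalso
      apply hz1
      have h2 : z = g⁻¹ * (g * z * g⁻¹) * g := by group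
      rw [h2, h]
      group
    · calc g * z = g * z * g⁻¹ * g := by group
        _ = z * g := by rw [h]
  have hQ60 : Nat.card (G ⧸ N) = 60 := by
    rw [hN2] at hQcard
    omega
  have hQns : ¬ Group.IsSolvable (G ⧸ N) := fun h =>
    hsolvext (Cfsg.Agent.Lib.Char.isSolvable_of_card_eq_aux Nat.prime_two (q := 3) (by norm_num) _ N rfl
      ⟨1, 0, by rw [hN2]; norm_num⟩) h
  obtain ⟨e⟩ := order60_iso (G ⧸ N) hQ60 hQns
  let π : G →* alternatingGroup (Fin 5) := e.toMonoidHom.comp (QuotientGroup.mk' N)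
  have hπs : Function.Surjective π := e.surjective.comp (QuotientGroup.mk'_surjective N)
  have hπk : ∀ g, π g = 1 ↔ g ∈ N := by
    intro g
    show e (g : G ⧸ N) = 1 ↔ _
    rw [map_eq_one_iff e e.injective]
    exact QuotientGroup.eq_one_iff g
  have ga4 : Cfsg.Agent.S3377.ga ^ 4 = Cfsg.Agent.S3377.ga := by
    rw [pow_succ, Cfsg.Agent.S3377.ga3, one_mul]
  have gb6 : Cfsg.Agent.S3377.gb ^ 6 = Cfsg.Agent.S3377.gb := by
    rw [pow_succ, Cfsg.Agent.S3377.gb5, one_mul]
  obtain ⟨x', hx'⟩ := hπs Cfsg.Agent.S3377.ga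
  obtain ⟨y', hy'⟩ := hπs Cfsg.Agent.S3377.gb
  obtain ⟨x, hxdef⟩ : ∃ x, x = x' ^ 4 := ⟨_, rfl⟩
  obtain ⟨y, hydef⟩ : ∃ y, y = y' ^ 6 := ⟨_, rfl⟩
  have hπx : π x = Cfsg.Agent.S3377.ga := by rw [hxdef, map_pow, hx', ga4]
  have hπy : π y = Cfsg.Agent.S3377.gb := by rw [hydef, map_pow, hy', gb6]
  have hx3 : x ^ 3 = 1 := by
    have h1 : x' ^ 3 ∈ N := (hπk _).mp (by rw [map_pow, hx', Cfsg.Agent.S3377.ga3])
    have h2 := hNexp _ h1
    calc x ^ 3 = ((x' ^ 3) ^ 2) ^ 2 := by rw [hxdef]; simp only [← pow_mul]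
      _ = 1 := by rw [h2, one_pow]
  have hy5 : y ^ 5 = 1 := by
    have h1 : y' ^ 5 ∈ N := (hπk _).mp (by rw [map_pow, hy', Cfsg.Agent.S3377.gb5])
    have h2 := hNexp _ h1
    calc y ^ 5 = ((y' ^ 5) ^ 2) ^ 3 := by rw [hydef]; simp only [← pow_mul]
      _ = 1 := by rw [h2, one_pow]
  have hw : π (x * y) = Cfsg.Agent.S3377.ga * Cfsg.Agent.S3377.gb := by rw [map_mul, hπx, hπy]
  have hw2N : (x * y) ^ 2 ∈ N := (hπk _).mp (by rw [map_pow, hw, Cfsg.Agent.S3377.gab2])
  have hw2 : (x * y) ^ 2 = z := by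
    rcases hN12 _ hw2N with h | h
    · exfalso
      have hw1 : x * y ≠ 1 := by
        intro h1
        apply Cfsg.Agent.S3377.gab1
        rw [← hw, h1, map_one]
      have hord : orderOf (x * y) = 2 := orderOf_eq_prime h hw1
      have hWP : IsPGroup 2 (Subgroup.zpowers (x * y)) := by
        apply IsPGroup.of_card (n := 1)
        rw [Nat.card_zpowers, hord, pow_one]
      obtain ⟨P, hP⟩ := hWP.exists_le_sylow
      have hle := hNP.le_sylow_of_normal P
      have h5 := hun P (x * y) (hP (Subgroup.mem_zpowers _)) z (hle hzN) h hw1 (hNexp z hzN) hz1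
      apply Cfsg.Agent.S3377.gab1
      rw [← hw, h5]
      exact (hπk z).mpr hzN
    · exact h
  obtain ⟨φ, h1, h2, h3⟩ := pres_map x y z hx3 hy5 (hNexp z hzN) (hcent x) (hcent y) hw2
  have hsurj : Function.Surjective φ := by
    rw [← MonoidHom.range_eq_top, eq_top_iff]
    intro g _
    have htop : φ.range.map π = ⊤ := Cfsg.Agent.S3377.gen_top _ ⟨x, ⟨_, h1⟩, hπx⟩ ⟨y, ⟨_, h2⟩, hπy⟩
    have hg : π g ∈ φ.range.map π := by
      rw [htop]
      trivial
    obtain ⟨r, hr, hrg⟩ := hg
    have h4 : r⁻¹ * g ∈ N := (hπk _).mp (by rw [map_mul, map_inv, hrg, inv_mul_cancel])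
    have h5 : r⁻¹ * g ∈ φ.range := by
      rcases hN12 _ h4 with h | h
      · rw [h]
        exact one_mem _
      · rw [h]
        exact ⟨_, h3⟩
    have h6 : g = r * (r⁻¹ * g) := by group
    rw [h6]
    exact φ.range.mul_mem hr h5
  obtain ⟨hfin, hcard⟩ := pres_card_le
  have hbij := hsurj.bijective_of_nat_card_le (by rw [hc]; exact hcard)
  obtain ⟨e2⟩ := pres_iso
  exact ⟨(MulEquiv.ofBijective φ hbij).symm.trans e2⟩

end Cfsg.Agent.S3378
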