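import Cfsg.Statements.S3494
import Mathlib

set_option autoImplicit false
open Cfsg

namespace Cfsg.Agent.S3494

section Helpers
open MulAction
open scoped Pointwise

variable {G : Type*} [Group G] [Finite G] {Ω : Type*} [Fintype Ω] [MulAction G Ω]

theorem card_stab_eq_aux [IsPretransitive G Ω] (a b : Ω) :
    Nat.card (stabilizer G a) = Nat.card (stabilizer G b) := by
  obtain ⟨g, rfl⟩ := exists_smul_eq G a b
  rw [stabilizer_smul_eq_stabilizer_map_conj]
  exact Nat.card_congr (Subgroup.equivMapOfInjective _ _ (MulAut.conj g).injective).toEquiv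

theorem card_inf_smul_aux (g : G) (a b : Ω) :
    Nat.card ((stabilizer G (g • a) ⊓ stabilizer G (g • b) : Subgroup G)) =
      Nat.card ((stabilizer G a ⊓ stabilizer G b : Subgroup G)) := by
  rw [stabilizer_smul_eq_stabilizer_map_conj, stabilizer_smul_eq_stabilizer_map_conj,
    ← Subgroup.map_inf _ _ _ (MulAut.conj g).injective]
  exact (Nat.card_congr (Subgroup.equivMapOfInjective _ _ (MulAut.conj g).injective).toEquiv).symm

theorem d_mul_aux (a b : Ω) :
    Nat.card (orbit (stabilizer G a) b) *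
      Nat.card ((stabilizer G a ⊓ stabilizer G b : Subgroup G)) = Nat.card (stabilizer G a) := by
  classical
  haveI : Fintype (stabilizer G a) := Fintype.ofFinite _
  haveI : Fintype (orbit (stabilizer G a) b) := Fintype.ofFinite _
  haveI : Fintype (stabilizer (stabilizer G a) b) := Fintype.ofFinite _
  have h := card_orbit_mul_card_stabilizer_eq_card_group (stabilizer G a) b
  have e : stabilizer (stabilizer G a) b ≃ ((stabilizer G a ⊓ stabilizer G b : Subgroup G)) :=
    { toFun := fun x => ⟨x.1.1, x.1.2, by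
        have := x.2
        exact this⟩
      invFun := fun x => ⟨⟨x.1, x.2.1⟩, by
        exact x.2.2⟩
      left_inv := fun x => by ext; rfl
      right_inv := fun x => by ext; rfl }
  rw [Nat.card_congr e.symm]
  rw [Nat.card_eq_fintype_card, Nat.card_eq_fintype_card, Nat.card_eq_fintype_card]
  exact h

theorem d_symm_aux [IsPretransitive G Ω] (a b : Ω) :
    Nat.card (orbit (stabilizer G a) b) = Nat.card (orbit (stabilizer G b) a) := by
  have h1 := d_mul_aux (G := G) a b
  have h2 := d_mul_aux (G := G) b a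
  rw [card_stab_eq_aux (G := G) b a, inf_comm] at h2
  have hpos : 0 < Nat.card ((stabilizer G a ⊓ stabilizer G b : Subgroup G)) := Nat.card_pos
  exact Nat.eq_of_mul_eq_mul_right hpos (h1.trans h2.symm)

theorem d_smul_aux [IsPretransitive G Ω] (g : G) (a b : Ω) :
    Nat.card (orbit (stabilizer G (g • a)) (g • b)) = Nat.card (orbit (stabilizer G a) b) := by
  have h1 := d_mul_aux (G := G) (g • a) (g • b)
  have h2 := d_mul_aux (G := G) a b
  rw [card_inf_smul_aux, card_stab_eq_aux (G := G) (g • a) a] at h1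
  have hpos : 0 < Nat.card ((stabilizer G a ⊓ stabilizer G b : Subgroup G)) := Nat.card_pos
  exact Nat.eq_of_mul_eq_mul_right hpos (h1.trans h2.symm)

/-- Key lemma: a nonempty `G_α`-invariant set avoiding `α` has setwise stabiliser `G_α`. -/
theorem key_aux [Nontrivial Ω] [IsPreprimitive G Ω] (α : Ω) (Z : Set Ω) (hZ : Z.Nonempty) (hα : α ∉ Z)
    (hinv : ∀ h ∈ stabilizer G α, ∀ z ∈ Z, h • z ∈ Z) (g : G) (hg : ∀ z ∈ Z, g • z ∈ Z) :
    g ∈ stabilizer G α := by
  classical
  have hfin : ∀ x : G, (∀ z ∈ Z, x • z ∈ Z) → x • Z = Z := by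
    intro x hx
    have hsub : x • Z ⊆ Z := by
      rintro _ ⟨z, hz, rfl⟩
      exact hx z hz
    refine Set.eq_of_subset_of_ncard_le hsub ?_ (Set.toFinite Z)
    rw [Set.ncard_smul_set]
  have hcoat := IsPreprimitive.isCoatom_stabilizer_of_isPreprimitive (G := G) (X := Ω) α
  let L : Subgroup G := stabilizer G Z
  have hle : stabilizer G α ≤ L := fun h hh => by
    show h • Z = Z
    exact hfin h (hinv h hh)
  have hgL : g ∈ L := hfin g hg
  rcases hle.lt_or_eq with hlt | heq
  · have htop := hcoat.2 L hlt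
    exfalso
    obtain ⟨z, hz⟩ := hZ
    obtain ⟨x, hx⟩ := exists_smul_eq G z α
    have hxL : x ∈ L := by rw [htop]; trivial
    have : x • Z = Z := hxL
    apply hα
    rw [← this, ← hx]
    exact Set.smul_mem_smul_set hz
  · rw [heq]; exact hgL

/-- If `G_β ≤ G_α` with `β ≠ α` then the stabiliser is trivial. -/
theorem stab_le_false_aux [FaithfulSMul G Ω] [Nontrivial Ω] [IsPreprimitive G Ω] (α β : Ω) (hβ : β ≠ α)
    (hH : stabilizer G α ≠ ⊥) (hle : stabilizer G β ≤ stabilizer G α) : False := by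
  classical
  have hcoat := IsPreprimitive.isCoatom_stabilizer_of_isPreprimitive (G := G) (X := Ω) α
  have heq : stabilizer G β = stabilizer G α :=
    Subgroup.eq_of_le_of_card_ge hle (le_of_eq (card_stab_eq_aux (G := G) α β))
  obtain ⟨x, hx⟩ := exists_smul_eq G α β
  have hxn : x ∈ Subgroup.normalizer (stabilizer G α : Set G) := by
    rw [Subgroup.mem_normalizer_iff_map_conj_eq]
    have hconj : stabilizer G (x • α) = (stabilizer G α).map (MulAut.conj x).toMonoidHom :=
      stabilizer_smul_eq_stabilizer_map_conj x α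
    rw [hx, heq] at hconj
    exact hconj.symm
  have hxnot : x ∉ stabilizer G α := by
    intro hmem
    apply hβ
    rw [← hx]
    exact hmem
  have hlt : stabilizer G α < Subgroup.normalizer (stabilizer G α : Set G) := by
    refine lt_of_le_of_ne Subgroup.le_normalizer ?_
    intro h
    apply hxnot
    rw [h]
    exact hxn
  have htop := hcoat.2 _ hlt
  have hnormal : (stabilizer G α).Normal := Subgroup.normalizer_eq_top_iff.mp htop
  apply hH
  rw [eq_bot_iff]
  intro h hh
  rw [Subgroup.mem_bot]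
  apply FaithfulSMul.eq_of_smul_eq_smul (α := Ω)
  intro y
  obtain ⟨z, rfl⟩ := exists_smul_eq G α y
  have h1 : z⁻¹ * h * z ∈ stabilizer G α := by
    have := hnormal.conj_mem h hh z⁻¹
    simpa using this
  have h2 : (z⁻¹ * h * z) • α = α := h1
  have h3 : h • z • α = z • α := by
    calc h • z • α = z • (z⁻¹ * h * z) • α := by
          simp [mul_smul]
      _ = z • α := by rw [h2]
  rw [h3, one_smul]

theorem smul_mem_orbit_aux {H : Type*} [Group H] [MulAction H Ω] {b z : Ω} (h : H)
    (hz : z ∈ orbit H b) : h • z ∈ orbit H b := by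
  obtain ⟨y, rfl⟩ := hz
  exact ⟨h * y, mul_smul h y b⟩

theorem main_aux {G : Type*} [Group G] [Finite G] {Ω : Type*} [Fintype Ω] [MulAction G Ω] [FaithfulSMul G Ω] (hprim : MulAction.IsPreprimitive G Ω) (hH : ∀ α : Ω, MulAction.stabilizer G α ≠ ⊥) (hep : ∀ (α : Ω) (ω : Ω), MulAction.IsPreprimitive (MulAction.stabilizer G α) (MulAction.orbit (MulAction.stabilizer G α) ω))
    (α ω : Ω) (hω : ω ≠ α) (h : MulAction.stabilizer G α) (hfix : ∀ x ∈ MulAction.orbit (MulAction.stabilizer G α) ω, h • x = x) : h = 1 := by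
  classical
  haveI : IsPretransitive G Ω := hprim.toIsPretransitive
  haveI : Nontrivial Ω := ⟨⟨ω, α, hω⟩⟩
  by_contra hne1
  -- the kernel
  let K : Subgroup (stabilizer G α) :=
    { carrier := {k | ∀ x ∈ orbit (stabilizer G α) ω, k • x = x}
      one_mem' := fun x _ => one_smul _ x
      mul_mem' := fun {a b} ha hb x hx => by
        rw [mul_smul, hb x hx, ha x hx]
      inv_mem' := fun {a} ha x hx => by
        have := ha x hx
        rw [inv_smul_eq_iff, this] }
  have hKmem : ∀ k, k ∈ K ↔ ∀ x ∈ orbit (stabilizer G α) ω, k • x = x := fun k => Iff.rfl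
  haveI hKnormal : K.Normal := by
    constructor
    intro k hk h x hx
    have h1 : h⁻¹ • x ∈ orbit (stabilizer G α) ω := by
      rw [mem_orbit_iff] at hx ⊢
      obtain ⟨y, rfl⟩ := hx
      exact ⟨h⁻¹ * y, by rw [mul_smul]⟩
    have h2 := hk _ h1
    calc (h * k * h⁻¹) • x = h • k • h⁻¹ • x := by simp [mul_smul]
      _ = h • h⁻¹ • x := by rw [h2]
      _ = x := smul_inv_smul h x
  -- dichotomy
  have hdich : ∀ β : Ω, (∀ k ∈ K, k • β = β) ∨
      (∀ y ∈ orbit (stabilizer G α) β, ∃ k ∈ K, k • β = y) := by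
    intro β
    haveI := hep α β
    by_cases hfix : fixedPoints K (orbit (stabilizer G α) β) = Set.univ
    · left
      intro k hk
      have h1 : (⟨β, mem_orbit_self β⟩ : orbit (stabilizer G α) β) ∈
          fixedPoints K (orbit (stabilizer G α) β) := by rw [hfix]; trivial
      have h2 := h1 ⟨k, hk⟩
      have h3 := congrArg Subtype.val h2
      exact h3
    · right
      haveI := IsQuasiPreprimitive.isPretransitive_of_normal (G := stabilizer G α)
        (X := orbit (stabilizer G α) β) (N := K) hfix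
      intro y hy
      obtain ⟨k, hk⟩ := exists_smul_eq K (⟨β, mem_orbit_self β⟩ : orbit (stabilizer G α) β) ⟨y, hy⟩
      refine ⟨k.1, k.2, ?_⟩
      have h3 := congrArg Subtype.val hk
      exact h3
  -- the two sets of points
  have hωK : ∀ k ∈ K, k • ω = ω := fun k hk => hk ω (mem_orbit_self ω)
  let r : Ω → ℕ := fun β => Nat.card (orbit (stabilizer G α) β)
  have hEne : ({β : Ω | β ≠ α ∧ ∀ k ∈ K, k • β = β}).Nonempty := ⟨ω, hω, hωK⟩
  obtain ⟨ω₁, ⟨hω₁α, hω₁K⟩, hω₁max⟩ := Set.exists_max_image _ r (Set.toFinite _) hEne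
  have hhK : h ∈ K := hfix
  have hFne : ({β : Ω | ∃ k ∈ K, k • β ≠ β}).Nonempty := by
    by_contra hcon
    rw [Set.not_nonempty_iff_eq_empty] at hcon
    apply hne1
    have : h.1 = 1 := by
      apply FaithfulSMul.eq_of_smul_eq_smul (α := Ω)
      intro y
      by_contra hy
      have : y ∈ ({β : Ω | ∃ k ∈ K, k • β ≠ β}) := ⟨h, hhK, by simpa [Subgroup.smul_def] using hy⟩
      rw [hcon] at this
      exact this
    exact Subtype.ext this
  obtain ⟨θ, ⟨k₀, hk₀, hk₀θ⟩, hθmax⟩ := Set.exists_max_image _ r (Set.toFinite _) hFne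
  have hθtrans : ∀ y ∈ orbit (stabilizer G α) θ, ∃ k ∈ K, k • θ = y := by
    rcases hdich θ with hc | hc
    · exact absurd (hc k₀ hk₀) hk₀θ
    · exact hc
  have hθα : θ ≠ α := by
    rintro rfl
    exact hk₀θ k₀.2
  have hθω₁ : θ ≠ ω₁ := by
    rintro rfl
    exact hk₀θ (hω₁K k₀ hk₀)
  -- R ⊆ W and Z ⊆ T
  have hRW : orbit (stabilizer G α) ω₁ ⊆ orbit (stabilizer G θ) ω₁ := by
    intro w hw
    obtain ⟨h', rfl⟩ := hw
    have hmem : h'⁻¹ • θ ∈ orbit (stabilizer G α) θ := mem_orbit _ _
    obtain ⟨k, hk, hkθ⟩ := hθtrans _ hmem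
    have hg : (h'.1 * k.1) ∈ stabilizer G θ := by
      show (h'.1 * k.1) • θ = θ
      rw [mul_smul]
      have : k.1 • θ = h'⁻¹ • θ := hkθ
      rw [this]
      exact smul_inv_smul h' θ
    refine ⟨⟨_, hg⟩, ?_⟩
    show (h'.1 * k.1) • ω₁ = h' • ω₁
    rw [mul_smul]
    have : k.1 • ω₁ = ω₁ := hω₁K k hk
    rw [this]
    rfl
  have hZT : orbit (stabilizer G α) θ ⊆ orbit (stabilizer G ω₁) θ := by
    intro z hz
    obtain ⟨k, hk, hkθ⟩ := hθtrans z hz
    have hg : k.1 ∈ stabilizer G ω₁ := hω₁K k hk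
    exact ⟨⟨_, hg⟩, hkθ⟩
  -- the transport
  obtain ⟨g, hg⟩ := exists_smul_eq G ω₁ α
  set y := g • θ with hy
  have hyα : y ≠ α := by
    intro hh
    rw [← hg, hy] at hh
    exact hθω₁ (smul_left_cancel g hh)
  have hdy : r y = Nat.card (orbit (stabilizer G ω₁) θ) := by
    show Nat.card (orbit (stabilizer G α) (g • θ)) = _
    rw [← hg]
    exact d_smul_aux g ω₁ θ
  have hdWT : Nat.card (orbit (stabilizer G θ) ω₁) = Nat.card (orbit (stabilizer G ω₁) θ) :=
    d_symm_aux θ ω₁
  by_cases hyK : ∀ k ∈ K, k • y = y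
  · -- K fixes y
    have hle : r y ≤ r ω₁ := hω₁max y ⟨hyα, hyK⟩
    have hRWeq : orbit (stabilizer G α) ω₁ = orbit (stabilizer G θ) ω₁ := by
      refine Set.eq_of_subset_of_ncard_le hRW ?_ (Set.toFinite _)
      rw [← Nat.card_coe_set_eq, ← Nat.card_coe_set_eq, hdWT, ← hdy]
      exact hle
    have hle2 : stabilizer G θ ≤ stabilizer G α := by
      intro x hx
      apply key_aux α (orbit (stabilizer G α) ω₁) ⟨ω₁, mem_orbit_self ω₁⟩
      · rintro ⟨h', hh'⟩
        apply hω₁α
        have : h'.1 • ω₁ = α := hh'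
        have h3 : h'.1 • α = α := h'.2
        exact smul_left_cancel h'.1 (this.trans h3.symm)
      · intro h' hh' z hz
        have : ((⟨h', hh'⟩ : stabilizer G α) • z) ∈ orbit (stabilizer G α) ω₁ :=
          smul_mem_orbit_aux _ hz
        exact this
      · intro z hz
        rw [hRWeq] at hz ⊢
        have : ((⟨x, hx⟩ : stabilizer G θ) • z) ∈ orbit (stabilizer G θ) ω₁ :=
          smul_mem_orbit_aux _ hz
        exact this
    exact stab_le_false_aux α θ hθα (hH α) hle2
  · -- K moves y
    push Not at hyK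
    obtain ⟨k₁, hk₁, hk₁y⟩ := hyK
    have hle : r y ≤ r θ := hθmax y ⟨k₁, hk₁, hk₁y⟩
    have hZTeq : orbit (stabilizer G α) θ = orbit (stabilizer G ω₁) θ := by
      refine Set.eq_of_subset_of_ncard_le hZT ?_ (Set.toFinite _)
      rw [← Nat.card_coe_set_eq, ← Nat.card_coe_set_eq, ← hdy]
      exact hle
    have hle2 : stabilizer G ω₁ ≤ stabilizer G α := by
      intro x hx
      apply key_aux α (orbit (stabilizer G α) θ) ⟨θ, mem_orbit_self θ⟩
      · rintro ⟨h', hh'⟩
        apply hθα
        have : h'.1 • θ = α := hh'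
        have h3 : h'.1 • α = α := h'.2
        exact smul_left_cancel h'.1 (this.trans h3.symm)
      · intro h' hh' z hz
        have : ((⟨h', hh'⟩ : stabilizer G α) • z) ∈ orbit (stabilizer G α) θ :=
          smul_mem_orbit_aux _ hz
        exact this
      · intro z hz
        rw [hZTeq] at hz ⊢
        have : ((⟨x, hx⟩ : stabilizer G ω₁) • z) ∈ orbit (stabilizer G ω₁) θ :=
          smul_mem_orbit_aux _ hz
        exact this
    exact stab_le_false_aux α ω₁ hω₁α (hH α) hle2

end Helpers


/-- Manning's Theorem on extremely primitive groups. Let a finite group G act faithfully and primitively on a finite set Ω with non-trivial point stabilizers, and suppose every point stabilizer G_α acts primitively on each of its orbits. Then G_α acts faithfully on each of its orbits other than {α}: an element of G_α fixing every point of one such orbit is the identity. -/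
theorem result {G : Type*} [Group G] [Finite G] {Ω : Type*} [Fintype Ω] [MulAction G Ω] [FaithfulSMul G Ω] (hprim : MulAction.IsPreprimitive G Ω) (hH : ∀ α : Ω, MulAction.stabilizer G α ≠ ⊥) (hep : ∀ (α : Ω) (ω : Ω), MulAction.IsPreprimitive (MulAction.stabilizer G α) (MulAction.orbit (MulAction.stabilizer G α) ω))
    (α ω : Ω) (hω : ω ≠ α) (h : MulAction.stabilizer G α) (hfix : ∀ x ∈ MulAction.orbit (MulAction.stabilizer G α) ω, h • x = x) : h = 1 := by
  exact main_aux hprim hH hep α ω hω h hfix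

end Cfsg.Agent.S3494
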