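import Cfsg.Statements.S3501
import Cfsg.Agent.S0721
import Cfsg.Agent.Lib.Perm.Sharp2
import Cfsg.Agent.Lib.Basic.MinNormal

set_option autoImplicit false
open Cfsg

namespace Cfsg.Agent.S3501

open MulAction

section product

variable {T : Type*} [Group T] [Finite T]

/-- Elementwise Jordan: a proper subgroup misses a whole conjugacy class. -/
lemma exists_not_conj_mem (D : Subgroup T) (hD : D ≠ ⊤) :
    ∃ t : T, ∀ w : T, w * t * w⁻¹ ∉ D := by
  haveI : Nontrivial (T ⧸ D) := by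
    by_contra hnt
    rw [not_nontrivial_iff_subsingleton] at hnt
    apply hD
    rw [← Subgroup.index_eq_one, Subgroup.index, Nat.card_eq_one_iff_unique]
    exact ⟨hnt, ⟨((1 : T) : T ⧸ D)⟩⟩
  obtain ⟨t, ht⟩ := Cfsg.Agent.Lib.Recog.exists_derangement (G := T) (Ω := T ⧸ D)
  refine ⟨t, fun w hw => ?_⟩
  apply ht ((w⁻¹ : T) : T ⧸ D)
  rw [MulAction.Quotient.smul_coe, QuotientGroup.eq, smul_eq_mul]
  have : (t * w⁻¹)⁻¹ * w⁻¹ = (w * t * w⁻¹)⁻¹ := by group
  rw [this]
  exact D.inv_mem hw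

/-- A simple nonabelian group has elements of different orders. -/
lemma exists_order_ne [IsSimpleGroup T] (hnc : ¬ IsMulCommutative T) (o : ℕ) :
    ∃ s : T, s ≠ 1 ∧ orderOf s ≠ o := by
  by_contra hc
  push Not at hc
  obtain ⟨x, hx⟩ : ∃ x : T, x ≠ 1 := exists_ne 1
  have hxo := hc x hx
  have ho1 : o ≠ 1 := by
    rw [← hxo]
    intro h
    exact hx (orderOf_eq_one_iff.mp h)
  have hopos : 0 < o := by rw [← hxo]; exact orderOf_pos x
  obtain ⟨p, hp, hpo⟩ := Nat.exists_prime_and_dvd ho1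
  -- `o = p`
  have hop : o = p := by
    have hy : orderOf (x ^ (orderOf x / p)) = p :=
      orderOf_pow_orderOf_div (orderOf_pos x).ne' (hxo ▸ hpo)
    have hy1 : x ^ (orderOf x / p) ≠ 1 := by
      intro h
      rw [h, orderOf_one] at hy
      exact hp.one_lt.ne hy
    rw [← hc _ hy1, hy]
  subst hop
  haveI := Fact.mk hp
  have hpg : IsPGroup o T := by
    intro g
    refine ⟨1, ?_⟩
    by_cases hg : g = 1
    · rw [hg]; simp
    · rw [pow_one, ← hc g hg]
      exact pow_orderOf_eq_one g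
  have hcen : Nontrivial (Subgroup.center T) := hpg.center_nontrivial
  obtain ⟨z, hz⟩ := exists_ne (1 : Subgroup.center T)
  rcases IsSimpleGroup.eq_bot_or_eq_top_of_normal (Subgroup.center T) inferInstance with h | h
  · exfalso
    have hz1 : (z : T) ∈ (⊥ : Subgroup T) := h ▸ z.2
    rw [Subgroup.mem_bot] at hz1
    exact hz (Subtype.ext hz1)
  · apply hnc
    refine ⟨⟨fun a b => ?_⟩⟩
    have ha : a ∈ Subgroup.center T := h ▸ Subgroup.mem_top a
    exact (Subgroup.mem_center_iff.mp ha b).symm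

/-- Goursat-type lemma. -/
lemma exists_second_coord [IsSimpleGroup T] (hnc : ¬ IsMulCommutative T)
    (A : Subgroup (T × T)) (hA : ¬ ∀ v : T, ((1 : T), v) ∈ A) (t : T) :
    ∃ s : T, s ≠ 1 ∧ ∀ w : T × T, w * (t, s) * w⁻¹ ∉ A := by
  classical
  by_contra hc
  push Not at hc
  -- the second projection is onto
  have hsurj : A.map (MonoidHom.snd T T) = ⊤ := by
    by_contra hne
    obtain ⟨s, hs⟩ := exists_not_conj_mem _ hne
    have hs1 : s ≠ 1 := by
      rintro rfl
      apply hs 1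
      simp
    obtain ⟨w, hw⟩ := hc s hs1
    apply hs w.2
    exact ⟨_, hw, by simp⟩
  -- the kernel `D₂`
  let D₂ : Subgroup T := A.comap (MonoidHom.inr T T)
  have hD₂n : D₂.Normal := by
    constructor
    intro v hv z
    obtain ⟨⟨u, z'⟩, hu, hz'⟩ : z ∈ A.map (MonoidHom.snd T T) := by rw [hsurj]; trivial
    have hz'' : z' = z := hz'
    subst hz''
    have h1 : (u, z') * (1, v) * (u, z')⁻¹ ∈ A := A.mul_mem (A.mul_mem hu hv) (A.inv_mem hu)
    have h2 : (u, z') * ((1 : T), v) * (u, z')⁻¹ = ((1 : T), z' * v * z'⁻¹) := by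
      simp
    rw [h2] at h1
    exact h1
  have hD₂ : D₂ = ⊥ := by
    rcases IsSimpleGroup.eq_bot_or_eq_top_of_normal D₂ hD₂n with h | h
    · exact h
    · exfalso
      apply hA
      intro v
      have : v ∈ D₂ := h ▸ Subgroup.mem_top v
      exact this
  have hinr : ∀ v : T, ((1 : T), v) ∈ A → v = 1 := by
    intro v hv
    have : v ∈ D₂ := hv
    rw [hD₂, Subgroup.mem_bot] at this
    exact this
  -- cardinalities
  have hfstinj : Function.Injective (fun a : A => (a : T × T).1) := by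
    intro a b hab
    have h1 : (a : T × T).1 = (b : T × T).1 := hab
    have h2 : ((a * b⁻¹ : A) : T × T) = (1, (a : T × T).2 * (b : T × T).2⁻¹) := by
      simp [Prod.ext_iff, h1]
    have h3 : ((1 : T), (a : T × T).2 * (b : T × T).2⁻¹) ∈ A := h2 ▸ (a * b⁻¹ : A).2
    have h4 := hinr _ h3
    have h5 : (a : T × T).2 = (b : T × T).2 := mul_inv_eq_one.mp h4
    exact Subtype.ext (Prod.ext h1 h5)
  have hsndsurj : Function.Surjective (fun a : A => (a : T × T).2) := by
    intro z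
    obtain ⟨p, hp, hpz⟩ : z ∈ A.map (MonoidHom.snd T T) := by rw [hsurj]; trivial
    exact ⟨⟨p, hp⟩, hpz⟩
  have hcard : Nat.card A ≤ Nat.card T := Nat.card_le_card_of_injective _ hfstinj
  have hsndbij : Function.Injective (fun a : A => (a : T × T).2) :=
    ((Function.Surjective.bijective_of_nat_card_le hsndsurj hcard)).1
  have hinl : ∀ u : T, (u, (1 : T)) ∈ A → u = 1 := by
    intro u hu
    have h1 : (⟨(u, 1), hu⟩ : A) = 1 := by
      apply hsndbij
      rfl
    exact congrArg (fun a : A => (a : T × T).1) h1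
  -- orders agree along `A`
  have hord : ∀ p ∈ A, orderOf (p : T × T).1 = orderOf (p : T × T).2 := by
    rintro ⟨u, v⟩ hp
    apply Nat.dvd_antisymm
    · apply orderOf_dvd_of_pow_eq_one
      have h1 : (u, v) ^ orderOf v ∈ A := A.pow_mem hp _
      rw [Prod.pow_mk, pow_orderOf_eq_one] at h1
      exact hinl _ h1
    · apply orderOf_dvd_of_pow_eq_one
      have h1 : (u, v) ^ orderOf u ∈ A := A.pow_mem hp _
      rw [Prod.pow_mk, pow_orderOf_eq_one] at h1
      exact hinr _ h1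
  obtain ⟨s, hs1, hs⟩ := exists_order_ne hnc (orderOf t)
  obtain ⟨w, hw⟩ := hc s hs1
  have h1 := hord _ hw
  apply hs
  have h2 : w * (t, s) * w⁻¹ = (w.1 * t * w.1⁻¹, w.2 * s * w.2⁻¹) := by simp [Prod.ext_iff]
  rw [h2] at h1
  have h3 : ∀ (a b : T), orderOf (a * b * a⁻¹) = orderOf b := fun a b =>
    (MulAut.conj a).orderOf_eq b
  simp only [h3] at h1
  exact h1.symm

end product

section coords

variable {T : Type*} [Group T] {m : ℕ} (i₀ i₁ : Fin m)

/-- Two coordinates of a power. -/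
def sig (hi : i₀ ≠ i₁) : T × T →* (Fin m → T) where
  toFun p := fun j => if j = i₀ then p.1 else if j = i₁ then p.2 else 1
  map_one' := by
    funext j
    simp
  map_mul' p q := by
    funext j
    by_cases h0 : j = i₀
    · simp [h0]
    · by_cases h1 : j = i₁
      · simp [h0, h1, hi.symm]
      · simp [h0, h1]

lemma sig_fst (hi : i₀ ≠ i₁) (p : T × T) : sig i₀ i₁ hi p i₀ = p.1 := by
  simp [sig]

lemma sig_snd (hi : i₀ ≠ i₁) (p : T × T) : sig i₀ i₁ hi p i₁ = p.2 := by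
  simp [sig, hi.symm]

lemma sig_other (hi : i₀ ≠ i₁) (p : T × T) {j : Fin m} (h0 : j ≠ i₀) (h1 : j ≠ i₁) :
    sig i₀ i₁ hi p j = 1 := by
  simp [sig, h0, h1]

lemma sig_injective (hi : i₀ ≠ i₁) : Function.Injective (sig (T := T) i₀ i₁ hi) := by
  intro p q h
  apply Prod.ext
  · rw [← sig_fst i₀ i₁ hi p, h, sig_fst]
  · rw [← sig_snd i₀ i₁ hi p, h, sig_snd]

lemma sig_conj (hi : i₀ ≠ i₁) (f : Fin m → T) (p : T × T) :
    f * sig i₀ i₁ hi p * f⁻¹ = sig i₀ i₁ hi ((f i₀, f i₁) * p * (f i₀, f i₁)⁻¹) := by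
  funext j
  by_cases h0 : j = i₀
  · subst h0
    simp [sig]
  · by_cases h1 : j = i₁
    · subst h1
      simp [sig, hi.symm]
    · simp [sig, h0, h1]

end coords

section nonabelian

variable {G Ω : Type*} [Group G] [Finite G] [MulAction G Ω] [FaithfulSMul G Ω] [Nontrivial Ω]

/-- Two derangements that are not conjugate: the minimal normal subgroup is a proper power. -/
theorem not_conj_of_power (N : Subgroup G) [hNn : N.Normal] [hNt : IsPretransitive N Ω]
    {T : Type} [Group T] [IsSimpleGroup T] (hnc : ¬ IsMulCommutative T) {m : ℕ}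
    (e : N ≃* (Fin m → T)) {i₀ i₁ : Fin m} (hi : i₀ ≠ i₁) (hcnj : ∀ g g' : G,
      (∀ ω : Ω, g • ω ≠ ω) → (∀ ω : Ω, g' • ω ≠ ω) → IsConj g g') : False := by
  classical
  haveI : Finite (Fin m → T) := Finite.of_equiv _ e.toEquiv
  haveI : Finite T := by
    haveI : Nonempty (Fin m) := ⟨i₀⟩
    exact Finite.of_injective (fun t : T => sig i₀ i₁ hi (t, 1)) (fun a b h => by
      have := sig_injective i₀ i₁ hi h
      exact congrArg Prod.fst this)
  obtain ⟨a⟩ : Nonempty Ω := inferInstance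
  -- the embedding
  let ι : T × T →* G := N.subtype.comp (e.symm.toMonoidHom.comp (sig i₀ i₁ hi))
  have hιinj : Function.Injective ι := by
    intro p q h
    exact sig_injective i₀ i₁ hi (e.symm.injective (Subtype.ext h))
  have hιN : ∀ p, ι p ∈ N := fun p => (e.symm (sig i₀ i₁ hi p)).2
  have hιconj : ∀ (n : N) (p : T × T), (n : G) * ι p * (n : G)⁻¹ =
      ι ((e n i₀, e n i₁) * p * (e n i₀, e n i₁)⁻¹) := by
    intro n p
    have h1 : n * e.symm (sig i₀ i₁ hi p) * n⁻¹ =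
        e.symm (sig i₀ i₁ hi ((e n i₀, e n i₁) * p * (e n i₀, e n i₁)⁻¹)) := by
      apply e.injective
      rw [MulEquiv.apply_symm_apply, map_mul, map_mul, map_inv, MulEquiv.apply_symm_apply, sig_conj]
    exact congrArg Subtype.val h1
  have hι_sub : ∀ w : T × T, ∃ n : N, e n i₀ = w.1 ∧ e n i₁ = w.2 := by
    intro w
    refine ⟨e.symm (sig i₀ i₁ hi w), ?_, ?_⟩
    · rw [MulEquiv.apply_symm_apply, sig_fst]
    · rw [MulEquiv.apply_symm_apply, sig_snd]
  let A : Subgroup (T × T) := (stabilizer G a).comap ι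
  have hmemA : ∀ p, p ∈ A ↔ ι p • a = a := fun p => Iff.rfl
  -- fixed points
  have hfix : ∀ p : T × T, (∃ ω : Ω, ι p • ω = ω) → ∃ w : T × T, w * p * w⁻¹ ∈ A := by
    rintro p ⟨ω, hω⟩
    obtain ⟨n, hn⟩ := exists_smul_eq N a ω
    have hn' : (n : G) • a = ω := hn
    refine ⟨(e n⁻¹ i₀, e n⁻¹ i₁), ?_⟩
    rw [hmemA, ← hιconj, mul_smul, mul_smul]
    have : ((n⁻¹ : N) : G)⁻¹ • a = ω := by
      rw [Subgroup.coe_inv, inv_inv, hn']
    rw [this, hω, Subgroup.coe_inv, ← hn', inv_smul_smul]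
  -- nothing acts trivially
  have htriv : ∀ p : T × T, (∀ w : T × T, w * p * w⁻¹ ∈ A) → p = 1 := by
    intro p hp
    apply hιinj
    rw [map_one]
    apply FaithfulSMul.eq_of_smul_eq_smul (α := Ω)
    intro ω
    rw [one_smul]
    obtain ⟨n, hn⟩ := exists_smul_eq N a ω
    have hn' : (n : G) • a = ω := hn
    have h1 := hp (e n⁻¹ i₀, e n⁻¹ i₁)
    rw [hmemA, ← hιconj] at h1
    rw [← hn']
    have h2 : ((n : G)⁻¹ * ι p * (n : G)) • a = a := by
      simpa using h1
    calc ι p • ((n : G) • a) = (n : G) • (((n : G)⁻¹ * ι p * (n : G)) • a) := by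
          simp [mul_smul]
      _ = (n : G) • a := by rw [h2]
  obtain ⟨z, hz⟩ : ∃ z : T, z ≠ 1 := exists_ne 1
  have hA2 : ¬ ∀ v : T, ((1 : T), v) ∈ A := by
    intro hall
    have h1 : ((1 : T), z) = 1 := by
      apply htriv
      intro w
      have : w * ((1 : T), z) * w⁻¹ = ((1 : T), w.2 * z * w.2⁻¹) := by simp [Prod.ext_iff]
      rw [this]
      exact hall _
    exact hz (congrArg Prod.snd h1)
  let D₁ : Subgroup T := A.comap (MonoidHom.inl T T)
  have hD₁ : D₁ ≠ ⊤ := by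
    intro htop
    have h1 : (z, (1 : T)) = 1 := by
      apply htriv
      intro w
      have : w * (z, (1 : T)) * w⁻¹ = (w.1 * z * w.1⁻¹, (1 : T)) := by simp [Prod.ext_iff]
      rw [this]
      have : w.1 * z * w.1⁻¹ ∈ D₁ := htop ▸ Subgroup.mem_top _
      exact this
    exact hz (congrArg Prod.fst h1)
  obtain ⟨t, ht⟩ := exists_not_conj_mem D₁ hD₁
  have hder1 : ∀ ω : Ω, ι (t, 1) • ω ≠ ω := by
    intro ω hω
    obtain ⟨w, hw⟩ := hfix _ ⟨ω, hω⟩
    apply ht w.1
    have : w * (t, (1 : T)) * w⁻¹ = (w.1 * t * w.1⁻¹, (1 : T)) := by simp [Prod.ext_iff]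
    rw [this] at hw
    exact hw
  obtain ⟨s, hs1, hs⟩ := exists_second_coord hnc A hA2 t
  have hder2 : ∀ ω : Ω, ι (t, s) • ω ≠ ω := by
    intro ω hω
    obtain ⟨w, hw⟩ := hfix _ ⟨ω, hω⟩
    exact hs w hw
  -- they are conjugate
  obtain ⟨g, hg⟩ := isConj_iff.mp (hcnj _ _ hder1 hder2)
  let C₁ : Subgroup G := N ⊓ Subgroup.centralizer {ι (t, 1)}
  let C₂ : Subgroup G := N ⊓ Subgroup.centralizer {ι (t, s)}
  have hmemC : ∀ x y : G, y ∈ N ⊓ Subgroup.centralizer {x} ↔ y ∈ N ∧ y * x = x * y := by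
    intro x y
    rw [Subgroup.mem_inf, Subgroup.mem_centralizer_singleton_iff]
  have hC₂ : C₂ = C₁.map (MulAut.conj g).toMonoidHom := by
    ext y
    constructor
    · intro hy
      obtain ⟨hyN, hyc⟩ := (hmemC _ _).mp hy
      refine ⟨g⁻¹ * y * g, (hmemC _ _).mpr ⟨?_, ?_⟩, ?_⟩
      · have := hNn.conj_mem y hyN g⁻¹
        simpa using this
      · rw [← hg] at hyc
        have h1 : y * (g * ι (t, 1) * g⁻¹) * g = g * ι (t, 1) * g⁻¹ * y * g := by rw [hyc]
        calc g⁻¹ * y * g * ι (t, 1) = g⁻¹ * (y * (g * ι (t, 1) * g⁻¹) * g) := by group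
          _ = g⁻¹ * (g * ι (t, 1) * g⁻¹ * y * g) := by rw [h1]
          _ = ι (t, 1) * (g⁻¹ * y * g) := by group
      · simp [MulAut.conj_apply]
        group
    · rintro ⟨y', hy', rfl⟩
      obtain ⟨hyN, hyc⟩ := (hmemC _ _).mp hy'
      refine (hmemC _ _).mpr ⟨?_, ?_⟩
      · exact hNn.conj_mem y' hyN g
      · simp only [MulEquiv.coe_toMonoidHom, MulAut.conj_apply]
        rw [← hg]
        calc g * y' * g⁻¹ * (g * ι (t, 1) * g⁻¹) = g * (y' * ι (t, 1)) * g⁻¹ := by group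
          _ = g * (ι (t, 1) * y') * g⁻¹ := by rw [hyc]
          _ = g * ι (t, 1) * g⁻¹ * (g * y' * g⁻¹) := by group
  have hcards : Nat.card C₂ = Nat.card C₁ := by
    rw [hC₂]
    exact Subgroup.card_map_of_injective (MulAut.conj g).injective
  have hle : C₂ ≤ C₁ := by
    intro y hy
    obtain ⟨hyN, hyc⟩ := (hmemC _ _).mp hy
    refine (hmemC _ _).mpr ⟨hyN, ?_⟩
    have h1 : (⟨y, hyN⟩ : N) * e.symm (sig i₀ i₁ hi (t, s)) =
        e.symm (sig i₀ i₁ hi (t, s)) * ⟨y, hyN⟩ := Subtype.ext hyc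
    have h2 := congrArg e h1
    rw [map_mul, map_mul, MulEquiv.apply_symm_apply] at h2
    have h3 := congrFun h2 i₀
    simp only [Pi.mul_apply, sig_fst] at h3
    have h4 : e ⟨y, hyN⟩ * sig i₀ i₁ hi (t, 1) = sig i₀ i₁ hi (t, 1) * e ⟨y, hyN⟩ := by
      funext j
      by_cases h0 : j = i₀
      · subst h0
        simp only [Pi.mul_apply, sig_fst]
        exact h3
      · by_cases h1 : j = i₁
        · subst h1
          simp [sig_snd]
        · simp [sig_other i₀ i₁ hi _ h0 h1]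
    have h5 : (⟨y, hyN⟩ : N) * e.symm (sig i₀ i₁ hi (t, 1)) =
        e.symm (sig i₀ i₁ hi (t, 1)) * ⟨y, hyN⟩ := by
      apply e.injective
      rw [map_mul, map_mul, MulEquiv.apply_symm_apply]
      exact h4
    exact congrArg Subtype.val h5
  have heq : C₂ = C₁ := Subgroup.eq_of_le_of_card_ge hle (by rw [hcards])
  -- a separating element
  have hcen : ∃ z₀ : T, z₀ * s ≠ s * z₀ := by
    by_contra hc
    push Not at hc
    have hsc : s ∈ Subgroup.center T := Subgroup.mem_center_iff.mpr hc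
    rcases IsSimpleGroup.eq_bot_or_eq_top_of_normal (Subgroup.center T) inferInstance with h | h
    · rw [h, Subgroup.mem_bot] at hsc
      exact hs1 hsc
    · apply hnc
      refine ⟨⟨fun a b => ?_⟩⟩
      have ha : a ∈ Subgroup.center T := h ▸ Subgroup.mem_top a
      exact (Subgroup.mem_center_iff.mp ha b).symm
  obtain ⟨z₀, hz₀⟩ := hcen
  have hy1 : ι (1, z₀) ∈ C₁ := by
    refine (hmemC _ _).mpr ⟨hιN _, ?_⟩
    rw [← map_mul, ← map_mul]
    congr 1
    simp
  rw [← heq] at hy1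
  obtain ⟨-, hy2⟩ := (hmemC _ _).mp hy1
  rw [← map_mul, ← map_mul] at hy2
  have hy3 := hιinj hy2
  apply hz₀
  simpa using congrArg Prod.snd hy3

end nonabelian

section abelian

variable {G Ω : Type*} [Group G] [Finite G] [MulAction G Ω] [FaithfulSMul G Ω] [Nontrivial Ω]

theorem sharply_of_abelian (N : Subgroup G) [hNn : N.Normal] [hNt : IsPretransitive N Ω]
    (hab : ∀ x ∈ N, ∀ y ∈ N, x * y = y * x) (hcnj : ∀ g g' : G,
      (∀ ω : Ω, g • ω ≠ ω) → (∀ ω : Ω, g' • ω ≠ ω) → IsConj g g') :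
    (∀ a b c d : Ω, a ≠ b → c ≠ d → ∃ g : G, g • a = c ∧ g • b = d) ∧
      ∀ g : G, g ≠ 1 → ∀ a b : Ω, a ≠ b → g • a = a → g • b ≠ b := by
  have hreg : ∀ u ∈ N, ∀ a : Ω, u • a = a → u = 1 := by
    intro u hu a hua
    apply FaithfulSMul.eq_of_smul_eq_smul (α := Ω)
    intro ω
    rw [one_smul]
    obtain ⟨n, hn⟩ := exists_smul_eq N a ω
    have hn' : (n : G) • a = ω := hn
    rw [← hn', ← mul_smul, hab u hu n n.2, mul_smul, hua]
  have hder : ∀ u ∈ N, u ≠ 1 → ∀ ω : Ω, u • ω ≠ ω := fun u hu hne ω h => hne (hreg u hu ω h)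
  have htrN : ∀ a b : Ω, ∃ n ∈ N, n • a = b := by
    intro a b
    obtain ⟨n, hn⟩ := exists_smul_eq N a b
    exact ⟨n, n.2, hn⟩
  have hne1 : ∀ (n : G) (a b : Ω), n • a = b → a ≠ b → n ≠ 1 := by
    rintro n a b h hab rfl
    rw [one_smul] at h
    exact hab h
  obtain ⟨a₀, b₀, h₀⟩ := exists_pair_ne Ω
  obtain ⟨x₀, hx₀N, hx₀⟩ := htrN a₀ b₀
  have hx₀1 := hne1 x₀ a₀ b₀ hx₀ h₀
  have hinN : ∀ g : G, (∀ ω : Ω, g • ω ≠ ω) → g ∈ N := by
    intro g hg
    obtain ⟨c, hc⟩ := isConj_iff.mp (hcnj x₀ g (hder x₀ hx₀N hx₀1) hg)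
    rw [← hc]
    exact hNn.conj_mem x₀ hx₀N c
  constructor
  · intro a b c d hab' hcd
    obtain ⟨n₁, hn₁N, hn₁⟩ := htrN a b
    obtain ⟨n₂, hn₂N, hn₂⟩ := htrN c d
    obtain ⟨g, hg⟩ := isConj_iff.mp (hcnj n₁ n₂ (hder n₁ hn₁N (hne1 _ _ _ hn₁ hab'))
      (hder n₂ hn₂N (hne1 _ _ _ hn₂ hcd)))
    obtain ⟨m, hmN, hm⟩ := htrN (g • a) c
    refine ⟨m * g, by rw [mul_smul, hm], ?_⟩
    have h1 : g • b = n₂ • (g • a) := by
      rw [← hg, ← hn₁]
      simp [mul_smul]
    rw [mul_smul, h1, ← mul_smul, hab m hmN n₂ hn₂N, mul_smul, hm, hn₂]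
  · intro h hne a b hab' hha hhb
    obtain ⟨u, huN, hu⟩ := htrN a b
    have hu1 := hne1 u a b hu hab'
    let φ : N → N := fun v => ⟨(v : G)⁻¹ * (h * v * h⁻¹), N.mul_mem (N.inv_mem v.2) (hNn.conj_mem v v.2 h)⟩
    have hφu : φ ⟨u, huN⟩ = 1 := by
      apply Subtype.ext
      show u⁻¹ * (h * u * h⁻¹) = 1
      apply hreg _ (N.mul_mem (N.inv_mem huN) (hNn.conj_mem u huN h)) a
      have h2 : h⁻¹ • a = a := by
        rw [inv_smul_eq_iff, hha]
      rw [mul_smul, mul_smul, mul_smul, h2, hu, hhb, ← hu, inv_smul_smul]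
    have hφ1 : φ 1 = 1 := by
      apply Subtype.ext
      show ((1 : N) : G)⁻¹ * (h * ((1 : N) : G) * h⁻¹) = 1
      simp
    have hnotinj : ¬ Function.Injective φ := by
      intro hinj
      have h3 : (⟨u, huN⟩ : N) = 1 := hinj (by rw [hφu, hφ1])
      exact hu1 (congrArg Subtype.val h3)
    have hnotsurj : ¬ Function.Surjective φ := fun hs =>
      hnotinj (Finite.injective_iff_surjective.mpr hs)
    rw [Function.Surjective] at hnotsurj
    push Not at hnotsurj
    obtain ⟨w, hw⟩ := hnotsurj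
    -- the element `w⁻¹ h` is a derangement
    have hd : ∀ ω : Ω, ((w : G)⁻¹ * h) • ω ≠ ω := by
      intro ω hω
      obtain ⟨v, hvN, hv⟩ := htrN a ω
      apply hw ⟨v, hvN⟩
      apply Subtype.ext
      show v⁻¹ * (h * v * h⁻¹) = w
      have h4 : v⁻¹ * ((w : G)⁻¹ * (h * v * h⁻¹)) = 1 := by
        apply hreg _ (N.mul_mem (N.inv_mem hvN) (N.mul_mem (N.inv_mem w.2) (hNn.conj_mem v hvN h))) a
        have h2 : h⁻¹ • a = a := by
          rw [inv_smul_eq_iff, hha]
        have h5 : ((w : G)⁻¹ * h) • (v • a) = v • a := by rw [hv]; exact hω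
        rw [show v⁻¹ * ((w : G)⁻¹ * (h * v * h⁻¹)) = v⁻¹ * ((w : G)⁻¹ * h) * v * h⁻¹ by group,
          mul_smul, mul_smul, mul_smul, h2, h5, inv_smul_smul]
      have hcw : v⁻¹ * (w : G)⁻¹ = (w : G)⁻¹ * v⁻¹ := hab _ (N.inv_mem hvN) _ (N.inv_mem w.2)
      calc v⁻¹ * (h * v * h⁻¹) = (w : G) * ((w : G)⁻¹ * v⁻¹) * (h * v * h⁻¹) := by group
        _ = (w : G) * (v⁻¹ * (w : G)⁻¹) * (h * v * h⁻¹) := by rw [hcw]
        _ = (w : G) * (v⁻¹ * ((w : G)⁻¹ * (h * v * h⁻¹))) := by group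
        _ = (w : G) := by rw [h4, mul_one]
    have h6 := hinN _ hd
    have h7 : h ∈ N := by
      have : h = (w : G) * ((w : G)⁻¹ * h) := by group
      rw [this]
      exact N.mul_mem w.2 h6
    exact hne (hreg h h7 a hha)

end abelian

theorem single_class_of_sharp {G Ω : Type*} [Group G] [Finite G] [MulAction G Ω] [Fintype Ω]
    [Nontrivial Ω] (h2 : ∀ a b c d : Ω, a ≠ b → c ≠ d → ∃ g : G, g • a = c ∧ g • b = d)
    (hs : ∀ (g : G) (a b : Ω), a ≠ b → g • a = a → g • b = b → g = 1) (g g' : G)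
    (hg : ∀ ω : Ω, g • ω ≠ ω) (hg' : ∀ ω : Ω, g' • ω ≠ ω) : IsConj g g' := by
  classical
  letI : Fintype G := Fintype.ofFinite G
  obtain ⟨a₀⟩ : Nonempty Ω := inferInstance
  have hb : a₀ ≠ g • a₀ := (hg a₀).symm
  have hch : ∀ e : {e : Ω // e ≠ a₀}, ∃ h : G, h • a₀ = a₀ ∧ h • (g • a₀) = e :=
    fun e => h2 a₀ (g • a₀) a₀ e hb e.2.symm
  choose f hf1 hf2 using hch
  have hy : ∀ e : {e : Ω // e ≠ a₀}, (f e * g * (f e)⁻¹) • a₀ = e := by
    intro e
    have h1 : (f e)⁻¹ • a₀ = a₀ := by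
      rw [inv_smul_eq_iff, hf1]
    rw [mul_smul, mul_smul, h1, hf2]
  let y : {e : Ω // e ≠ a₀} → {x : G // ∀ ω : Ω, x • ω ≠ ω} := fun e =>
    ⟨f e * g * (f e)⁻¹, fun ω hω => hg ((f e)⁻¹ • ω) (by
      rw [← mul_smul] 
      have : g * (f e)⁻¹ = (f e)⁻¹ * (f e * g * (f e)⁻¹) := by group
      rw [this, mul_smul, hω])⟩
  have hyinj : Function.Injective y := by
    intro e e' h
    apply Subtype.ext
    have h1 : (f e * g * (f e)⁻¹) = (f e' * g * (f e')⁻¹) := congrArg Subtype.val h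
    rw [← hy e, ← hy e', h1]
  have hc1 : Nat.card {x : G // ∀ ω : Ω, x • ω ≠ ω} = Fintype.card Ω - 1 := by
    rw [Nat.card_eq_fintype_card, Fintype.card_subtype]
    exact Cfsg.Agent.Lib.Perm.sharp2_card_fpf h2 hs
  have hc2 : Nat.card {e : Ω // e ≠ a₀} = Fintype.card Ω - 1 := by
    rw [Nat.card_eq_fintype_card, Fintype.card_subtype_compl, Fintype.card_subtype_eq]
  have hybij : Function.Bijective y :=
    hyinj.bijective_of_nat_card_le (by rw [hc1, hc2])
  obtain ⟨e, he⟩ := hybij.2 ⟨g', hg'⟩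
  have h3 : f e * g * (f e)⁻¹ = g' := congrArg Subtype.val he
  exact isConj_iff.mpr ⟨f e, h3⟩



/-- Let a finite group G act faithfully and primitively on a finite set Ω with at least two points, and suppose G is not almost simple (it has no non-abelian simple normal subgroup with trivial centralizer). Then the derangements of G form a single conjugacy class if and only if G is sharply 2-transitive (2-transitive, and no non-identity element fixes two points). -/
theorem result {G : Type*} [Group G] [Finite G] {Ω : Type*} [Fintype Ω] [MulAction G Ω] [FaithfulSMul G Ω] (hΩ : 2 ≤ Fintype.card Ω) (hprim : MulAction.IsPreprimitive G Ω) (hnas : ¬ ∃ T : Subgroup G, T.Normal ∧ IsSimpleGroup T ∧ ¬ IsMulCommutative T ∧ Subgroup.centralizer (T : Set G) = ⊥) :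
    Nat.card {c : ConjClasses G // ∃ g : G, ConjClasses.mk g = c ∧ ∀ ω : Ω, g • ω ≠ ω} = 1 ↔ (MulAction.IsMultiplyPretransitive G Ω 2 ∧ ∀ g : G, g ≠ 1 → ∀ a b : Ω, a ≠ b → g • a = a → g • b ≠ b) := by
  classical
  haveI hnt : Nontrivial Ω := Fintype.one_lt_card_iff_nontrivial.mp (by omega)
  have hmemc : ∀ g : G, ∀ hg : ∀ ω : Ω, g • ω ≠ ω, ∃ c : {c : ConjClasses G // ∃ g : G, ConjClasses.mk g = c ∧ ∀ ω : Ω, g • ω ≠ ω}, c.1 = ConjClasses.mk g := 
    fun g hg => ⟨⟨ConjClasses.mk g, g, rfl, hg⟩, rfl⟩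
  constructor
  · intro h
    have hcnj : ∀ g g' : G, (∀ ω : Ω, g • ω ≠ ω) → (∀ ω : Ω, g' • ω ≠ ω) → IsConj g g' := by
      intro g g' hg hg'
      haveI := (Nat.card_eq_one_iff_unique.mp h).1
      have h1 : (⟨ConjClasses.mk g, g, rfl, hg⟩ : {c : ConjClasses G // ∃ g : G, ConjClasses.mk g = c ∧ ∀ ω : Ω, g • ω ≠ ω}) =
        ⟨ConjClasses.mk g', g', rfl, hg'⟩ := Subsingleton.elim _ _
      exact ConjClasses.mk_eq_mk_iff_isConj.mp (congrArg Subtype.val h1)
    haveI := hprim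
    haveI hntG : Nontrivial G := by
      obtain ⟨a, b, hab⟩ := exists_pair_ne Ω
      obtain ⟨g, hg⟩ := exists_smul_eq G a b
      by_contra hnt
      rw [not_nontrivial_iff_subsingleton] at hnt
      apply hab
      rw [← hg, Subsingleton.elim g 1, one_smul]
    obtain ⟨N, hNn, hNne, hNmin⟩ := Lib.Basic.exists_isMinNormal (G := G)
    haveI := hNn
    have htrn : ∀ V : Subgroup G, V.Normal → V ≠ ⊥ → IsPretransitive V Ω := by
      intro V hV hne
      haveI := hV
      apply IsQuasiPreprimitive.isPretransitive_of_normal (G := G) (N := V)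
      intro h
      apply hne
      rw [eq_bot_iff]
      intro v hv
      rw [Subgroup.mem_bot]
      apply FaithfulSMul.eq_of_smul_eq_smul (α := Ω)
      intro ω
      have h1 : ω ∈ fixedPoints V Ω := by
        rw [h]
        exact Set.mem_univ _
      rw [one_smul]
      exact h1 ⟨v, hv⟩
    haveI hNt : IsPretransitive N Ω := htrn N hNn hNne
    obtain ⟨x₀, hx₀⟩ := Cfsg.Agent.Lib.Recog.exists_derangement (G := N) (Ω := Ω)
    have hinN : ∀ g : G, (∀ ω : Ω, g • ω ≠ ω) → g ∈ N := by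
      intro g hg
      obtain ⟨c, hc⟩ := isConj_iff.mp (hcnj (x₀ : G) g (fun ω => hx₀ ω) hg)
      rw [← hc]
      exact hNn.conj_mem _ x₀.2 c
    by_cases hab : ∀ x ∈ N, ∀ y ∈ N, x * y = y * x
    · obtain ⟨h2', hs⟩ := sharply_of_abelian N hab hcnj
      exact ⟨(MulAction.is_two_pretransitive_iff (G := G) (α := Ω)).mpr
        (fun {a b c d} h h' => h2' a b c d h h'), hs⟩
    · exfalso
      obtain ⟨T, _, m, hT, hm, ⟨e⟩⟩ := Cfsg.Agent.S0721.result N hNne hNmin
      have hnc : ¬ IsMulCommutative T := by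
        intro hc
        apply hab
        intro x hx y hy
        have h1 : e ⟨x, hx⟩ * e ⟨y, hy⟩ = e ⟨y, hy⟩ * e ⟨x, hx⟩ := by
          funext j
          exact hc.is_comm.comm _ _
        rw [← map_mul, ← map_mul] at h1
        exact congrArg Subtype.val (e.injective h1)
      by_cases hm1 : m = 1
      · subst hm1
        have e' : N ≃* T := e.trans (MulEquiv.funUnique (Fin 1) T)
        haveI hsimple : IsSimpleGroup N := e'.isSimpleGroup
        have hnoncomm : ¬ IsMulCommutative N := by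
          intro hc
          apply hab
          intro x hx y hy
          exact congrArg Subtype.val (hc.is_comm.comm ⟨x, hx⟩ ⟨y, hy⟩)
        have hC : Subgroup.centralizer (N : Set G) ≠ ⊥ := fun hbot =>
          hnas ⟨N, hNn, hsimple, hnoncomm, hbot⟩
        haveI : IsPretransitive (Subgroup.centralizer (N : Set G)) Ω :=
          htrn _ inferInstance hC
        obtain ⟨y, hy⟩ := Cfsg.Agent.Lib.Recog.exists_derangement
          (G := Subgroup.centralizer (N : Set G)) (Ω := Ω)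
        have hyN : (y : G) ∈ N := hinN y (fun ω => hy ω)
        have hcen : (⟨y, hyN⟩ : N) ∈ Subgroup.center N := by
          rw [Subgroup.mem_center_iff]
          intro z
          apply Subtype.ext
          exact Subgroup.mem_centralizer_iff.mp y.2 z z.2
        rcases IsSimpleGroup.eq_bot_or_eq_top_of_normal (Subgroup.center N) inferInstance with h | h
        · rw [h, Subgroup.mem_bot] at hcen
          have h1 : (y : G) = 1 := congrArg Subtype.val hcen
          obtain ⟨ω⟩ : Nonempty Ω := inferInstance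
          apply hy ω
          show (y : G) • ω = ω
          rw [h1, one_smul]
        · apply hnoncomm
          refine ⟨⟨fun a b => ?_⟩⟩
          have ha : a ∈ Subgroup.center N := h ▸ Subgroup.mem_top a
          exact (Subgroup.mem_center_iff.mp ha b).symm
      · have hm2 : 2 ≤ m := by omega
        exact not_conj_of_power N hnc e (i₀ := ⟨0, by omega⟩) (i₁ := ⟨1, by omega⟩) (by simp) hcnj
  · rintro ⟨h2, hs⟩
    have h2' : ∀ a b c d : Ω, a ≠ b → c ≠ d → ∃ g : G, g • a = c ∧ g • b = d := fun a b c d hab hcd =>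
      (MulAction.is_two_pretransitive_iff (G := G) (α := Ω)).mp h2 hab hcd
    have hs' : ∀ (g : G) (a b : Ω), a ≠ b → g • a = a → g • b = b → g = 1 := by
      intro g a b hab h1 h3
      by_contra hne
      exact hs g hne a b hab h1 h3
    have htr := Cfsg.Agent.Lib.Perm.sharp2_transitive (G := G) h2'
    obtain ⟨g₀, hg₀⟩ := Cfsg.Agent.Lib.Recog.exists_derangement (G := G) (Ω := Ω)
    rw [Nat.card_eq_one_iff_unique]
    refine ⟨⟨?_⟩, ⟨⟨ConjClasses.mk g₀, g₀, rfl, hg₀⟩⟩⟩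
    rintro ⟨c, g, rfl, hg⟩ ⟨c', g', rfl, hg'⟩
    apply Subtype.ext
    exact ConjClasses.mk_eq_mk_iff_isConj.mpr (single_class_of_sharp h2' hs' g g' hg hg')

end Cfsg.Agent.S3501
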