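import Cfsg.Statements.S3532
import Mathlib
import Cfsg.Agent.Lib.Components.Spec
import Cfsg.Agent.S2475

set_option autoImplicit false
open Cfsg

namespace Cfsg.Agent.S3532

section Helpers

open Cfsg.Agent.Lib.Components.Spec

theorem mem_of_range_eq {A : Type*} [Group A] (S : Set ℕ) (hS : Set.range (orderOf : A → ℕ) = S)
    (s : ℕ) (hs : s ∈ S) : ∃ a : A, orderOf a = s := by
  rw [← hS] at hs
  exact hs

/-- The Frobenius-type group `E ⋊ C`, with `C ≤ Eˣ` cyclic of order `m`. -/
theorem exists_frob (E : Type) [Field E] [Finite E] (p m : ℕ) [hp : Fact p.Prime] [CharP E p]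
    (hm : m ∣ Nat.card E - 1) (hm0 : m ≠ 0) :
    ∃ (G : Type) (_ : Group G) (_ : Finite G), Group.IsSolvable G ∧
      Set.range (orderOf : G → ℕ) = {s : ℕ | s ∣ p ∨ s ∣ m} := by
  classical
  haveI : Fintype E := Fintype.ofFinite E
  haveI : IsCyclic Eˣ := inferInstance
  obtain ⟨g0, hg0⟩ := IsCyclic.exists_ofOrder_eq_natCard (α := Eˣ)
  have hcard : Nat.card Eˣ = Nat.card E - 1 := by
    rw [Nat.card_units]
  have hm' : m ∣ orderOf g0 := by rwa [hg0, hcard]
  have hpos : orderOf g0 ≠ 0 := by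
    rw [hg0]; exact Nat.card_pos.ne'
  have h0 : orderOf g0 / m ≠ 0 := by
    intro h
    have := Nat.div_mul_cancel hm'
    rw [h] at this
    omega
  set g := g0 ^ (orderOf g0 / m) with hg
  have hgo : orderOf g = m := by
    rw [hg, orderOf_pow_of_dvd h0 (Nat.div_dvd_of_dvd hm'), Nat.div_div_self hm' hpos]
  let C : Subgroup Eˣ := Subgroup.zpowers g
  haveI : IsMulCommutative C := inferInstance
  let φ : C →* MulAut (Multiplicative E) :=
    { toFun := fun u =>
        { toFun := fun v => Multiplicative.ofAdd ((u.1 : E) * v.toAdd)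
          invFun := fun v => Multiplicative.ofAdd (((u⁻¹).1 : E) * v.toAdd)
          left_inv := fun v => by
            simp
          right_inv := fun v => by
            simp
          map_mul' := fun v w => by
            simp [mul_add] }
      map_one' := by
        ext v
        simp
      map_mul' := fun x y => by
        ext v
        simp [mul_assoc] }
  have hφ : ∀ (u : C) (v : Multiplicative E), φ u v = Multiplicative.ofAdd ((u.1 : E) * v.toAdd) := fun _ _ => rfl
  have hprod : ∀ (k : C) (n : ℕ) (v : Multiplicative E), ∏ i ∈ Finset.range n, φ (k ^ i) v =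
      Multiplicative.ofAdd ((∑ i ∈ Finset.range n, (k.1 : E) ^ i) * v.toAdd) := by
    intro k n v
    induction n with
    | zero => simp
    | succ n ih =>
      rw [Finset.prod_range_succ, ih, Finset.sum_range_succ, add_mul, ofAdd_add, hφ]
      simp
  have hN : ∀ k : C, k ≠ 1 → ∀ v : Multiplicative E,
      ∏ i ∈ Finset.range (orderOf k), φ (k ^ i) v = 1 := by
    intro k hk v
    rw [hprod]
    have hk' : (k.1 : E) ≠ 1 := by
      intro h
      apply hk
      apply Subtype.ext
      apply Units.ext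
      exact h
    have h1 : (k.1 : E) ^ orderOf k = 1 := by
      have h0 : ((k ^ orderOf k : C) : Eˣ) = 1 := by rw [pow_orderOf_eq_one]; rfl
      have h2 : (((k.1 : Eˣ) ^ orderOf k : Eˣ) : E) = 1 := by
        rw [← Subgroup.coe_pow, h0]; rfl
      rw [Units.val_pow_eq_pow_val] at h2
      exact h2
    have h3 : (∑ i ∈ Finset.range (orderOf k), (k.1 : E) ^ i) = 0 := by
      have h4 := geom_sum_mul (k.1 : E) (orderOf k)
      rw [h1, sub_self] at h4
      exact (mul_eq_zero.1 h4).resolve_right (sub_ne_zero.2 hk')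
    rw [h3]
    simp
  haveI : Finite C := inferInstance
  haveI : Finite (Multiplicative E ⋊[φ] C) :=
    Finite.of_equiv _ (SemidirectProduct.equivProd (φ := φ)).symm
  haveI : Group.IsSolvable C := inferInstance
  refine ⟨Multiplicative E ⋊[φ] C, inferInstance, inferInstance, solvable_sdp φ, ?_⟩
  rw [range_orderOf_sdp φ hN]
  have hCcard : Nat.card C = m := by
    rw [Nat.card_zpowers, hgo]
  have hv : ∀ v : Multiplicative E, v ^ p = 1 := by
    intro v
    apply Multiplicative.toAdd.injective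
    rw [toAdd_pow, toAdd_one, nsmul_eq_mul, CharP.cast_eq_zero, zero_mul]
  ext s
  simp only [Set.mem_union, Set.mem_range, Set.mem_ofPred_eq]
  constructor
  · rintro (⟨v, rfl⟩ | ⟨k, rfl⟩)
    · left
      exact orderOf_dvd_of_pow_eq_one (hv v)
    · right
      rw [← hCcard]
      exact orderOf_dvd_natCard k
  · rintro (h | h)
    · rcases (Nat.dvd_prime hp.out).1 h with rfl | rfl
      · left
        exact ⟨1, orderOf_one⟩
      · left
        refine ⟨Multiplicative.ofAdd 1, ?_⟩
        have h1 := orderOf_dvd_of_pow_eq_one (hv (Multiplicative.ofAdd 1))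
        rcases (Nat.dvd_prime hp.out).1 h1 with h2 | h2
        · rw [orderOf_eq_one_iff] at h2
          exact absurd (Multiplicative.ofAdd.injective h2) one_ne_zero
        · exact h2
    · right
      have hs0 : m / s ≠ 0 := by
        intro h'
        have := Nat.div_mul_cancel h
        rw [h'] at this
        omega
      have hgC : g ∈ C := Subgroup.mem_zpowers g
      refine ⟨(⟨g, hgC⟩ : C) ^ (m / s), ?_⟩
      have ho : orderOf (⟨g, hgC⟩ : C) = m := by
        rw [← Subgroup.orderOf_coe]; exact hgo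
      rw [orderOf_pow_of_dvd hs0 (by rw [ho]; exact Nat.div_dvd_of_dvd h), ho, Nat.div_div_self h hm0]

end Helpers


/-- Let q ≥ 4 be a prime power and L = PSL(2,q). There is a finite solvable group with the same set of element orders as L × L (so L × L is not determined by its spectrum). -/
theorem result {F : Type*} [Field F] [Fintype F] (hF : 4 ≤ Fintype.card F) :
    ∃ (H : Type) (_ : Group H) (_ : Finite H), Group.IsSolvable H ∧
      Set.range (orderOf : H → ℕ) = Set.range (orderOf : Matrix.ProjectiveSpecialLinearGroup (Fin 2) F × Matrix.ProjectiveSpecialLinearGroup (Fin 2) F → ℕ) := by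
  classical
  obtain ⟨p, hpc⟩ := CharP.exists F
  haveI hp : Fact p.Prime := ⟨CharP.char_is_prime F p⟩
  obtain ⟨f, hf, hcard⟩ := FiniteField.card F p
  set q := Fintype.card F with hq
  set d := Nat.gcd 2 (q - 1) with hd
  have hf0 : (f : ℕ) ≠ 0 := f.ne_zero
  have hq1 : Nat.card (GaloisField p f) = q := by
    rw [GaloisField.card p f hf0, hcard]
  have hq2 : Nat.card (GaloisField p (2 * f)) = q ^ 2 := by
    rw [GaloisField.card p (2 * f) (by positivity), hcard, ← pow_mul, mul_comm]
  have hd0 : 0 < d := Nat.gcd_pos_of_pos_left _ (by norm_num)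
  have hd1 : d ∣ q - 1 := Nat.gcd_dvd_right _ _
  have hd2 : d ∣ q + 1 := by
    have h1 : d ∣ 2 := Nat.gcd_dvd_left _ _
    have h2 : q + 1 = (q - 1) + 2 := by omega
    rw [h2]
    exact dvd_add hd1 h1
  have hm1 : (q - 1) / d ≠ 0 := by
    intro h
    have := Nat.div_mul_cancel hd1
    rw [h] at this
    omega
  have hm2 : (q + 1) / d ≠ 0 := by
    intro h
    have := Nat.div_mul_cancel hd2
    rw [h] at this
    omega
  obtain ⟨G₁, i1, i1', hs1, hr1⟩ := exists_frob (GaloisField p f) p ((q - 1) / d) (by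
    rw [hq1]; exact Nat.div_dvd_of_dvd hd1) hm1
  obtain ⟨G₂, i2, i2', hs2, hr2⟩ := exists_frob (GaloisField p (2 * f)) p ((q + 1) / d) (by
    rw [hq2]
    have h3 : q + 1 ∣ q ^ 2 - 1 := by
      have : q ^ 2 - 1 = (q + 1) * (q - 1) := by
        obtain ⟨r, hr⟩ : ∃ r, q = r + 1 := ⟨q - 1, by omega⟩
        rw [hr]
        simp only [Nat.add_sub_cancel]
        have : (r + 1) ^ 2 = (r + 1 + 1) * r + 1 := by ring
        rw [this, Nat.add_sub_cancel]
      rw [this]
      exact dvd_mul_right _ _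
    exact (Nat.div_dvd_of_dvd hd2).trans h3) hm2
  refine ⟨G₁ × G₂, inferInstance, inferInstance, inferInstance, ?_⟩
  have hpsl := Cfsg.Agent.S2475.result (F := F) p hF
  rw [← hq, ← hd] at hpsl
  set b := (q - 1) / d with hb
  set c := (q + 1) / d with hc
  ext n
  constructor
  · rintro ⟨⟨x, y⟩, rfl⟩
    rw [Prod.orderOf_mk]
    have hx : orderOf x ∈ {s : ℕ | s ∣ p ∨ s ∣ b} := hr1 ▸ Set.mem_range_self x
    have hy : orderOf y ∈ {s : ℕ | s ∣ p ∨ s ∣ c} := hr2 ▸ Set.mem_range_self y
    obtain ⟨x', hx'⟩ : ∃ x' : Matrix.ProjectiveSpecialLinearGroup (Fin 2) F, orderOf x' = orderOf x := by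
      apply mem_of_range_eq _ hpsl
      rcases hx with h | h
      · exact Or.inl h
      · exact Or.inr (Or.inl h)
    obtain ⟨y', hy'⟩ : ∃ y' : Matrix.ProjectiveSpecialLinearGroup (Fin 2) F, orderOf y' = orderOf y := by
      apply mem_of_range_eq _ hpsl
      rcases hy with h | h
      · exact Or.inl h
      · exact Or.inr (Or.inr h)
    exact ⟨(x', y'), by rw [Prod.orderOf_mk, hx', hy']⟩
  · rintro ⟨⟨x, y⟩, rfl⟩
    rw [Prod.orderOf_mk]
    have hx : orderOf x ∈ {m : ℕ | m ∣ p ∨ m ∣ b ∨ m ∣ c} := hpsl ▸ Set.mem_range_self x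
    have hy : orderOf y ∈ {m : ℕ | m ∣ p ∨ m ∣ b ∨ m ∣ c} := hpsl ▸ Set.mem_range_self y
    -- elements of the prescribed orders
    have e1 : ∀ s, (s ∣ p ∨ s ∣ b) → ∃ a : G₁, orderOf a = s := fun s hs => mem_of_range_eq _ hr1 s hs
    have e2 : ∀ s, (s ∣ p ∨ s ∣ c) → ∃ a : G₂, orderOf a = s := fun s hs => mem_of_range_eq _ hr2 s hs
    have direct : ∀ s t, (s ∣ p ∨ s ∣ b) → (t ∣ p ∨ t ∣ c) →
        Nat.lcm s t ∈ Set.range (orderOf : G₁ × G₂ → ℕ) := by
      intro s t hs ht
      obtain ⟨a1, ha1⟩ := e1 s hs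
      obtain ⟨a2, ha2⟩ := e2 t ht
      exact ⟨(a1, a2), by rw [Prod.orderOf_mk, ha1, ha2]⟩
    rcases hx with h1 | h1 | h1 <;> rcases hy with h2 | h2 | h2
    · exact direct _ _ (Or.inl h1) (Or.inl h2)
    · rw [Nat.lcm_comm]; exact direct _ _ (Or.inr h2) (Or.inl h1)
    · exact direct _ _ (Or.inl h1) (Or.inr h2)
    · exact direct _ _ (Or.inr h1) (Or.inl h2)
    · have h3 : Nat.lcm (orderOf x) (orderOf y) ∣ b := Nat.lcm_dvd h1 h2
      have := direct _ 1 (Or.inr h3) (Or.inl (one_dvd _))
      rwa [Nat.lcm_one_right] at this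
    · exact direct _ _ (Or.inr h1) (Or.inr h2)
    · rw [Nat.lcm_comm]; exact direct _ _ (Or.inl h2) (Or.inr h1)
    · rw [Nat.lcm_comm]; exact direct _ _ (Or.inr h2) (Or.inr h1)
    · have h3 : Nat.lcm (orderOf x) (orderOf y) ∣ c := Nat.lcm_dvd h1 h2
      have := direct 1 _ (Or.inl (one_dvd _)) (Or.inr h3)
      rwa [Nat.lcm_one_left] at this

end Cfsg.Agent.S3532
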