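import Cfsg.Statements.S3554


set_option autoImplicit false
open Cfsg

namespace Cfsg.Agent.S3554




/-- Let G act faithfully and transitively on a finite set and suppose G has a non-trivial cyclic normal subgroup. Then some element of G of prime order fixes no point. -/
theorem result {G Ω : Type*} [Group G] [Finite G] [MulAction G Ω] [FaithfulSMul G Ω] [Finite Ω]
    (htrans : MulAction.IsPretransitive G Ω) (C : Subgroup G) (hC : C.Normal) (hC1 : C ≠ ⊥) (hcyc : IsCyclic ↥C) :
    ∃ g : G, (orderOf g).Prime ∧ ∀ ω : Ω, g • ω ≠ ω := by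
  classical
  letI : Fintype C := Fintype.ofFinite C
  obtain ⟨x₀, hx₀⟩ : ∃ x : C, x ≠ 1 := by
    by_contra hc
    push Not at hc
    apply hC1
    rw [Subgroup.eq_bot_iff_forall]
    intro y hy
    simpa using congrArg Subtype.val (hc ⟨y, hy⟩)
  have hCnt : Nontrivial C := ⟨⟨x₀, 1, hx₀⟩⟩
  obtain ⟨p, hp, hpd⟩ := Nat.exists_prime_and_dvd (n := Nat.card C) (by
    intro h; exact (Finite.one_lt_card (α := C)).ne' h)
  have := Fact.mk hp
  obtain ⟨x, hx⟩ := exists_prime_orderOf_dvd_card' (G := C) p hpd
  have hxG : orderOf (x : G) = p := by rw [Subgroup.orderOf_coe]; exact hx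
  refine ⟨(x : G), by rw [hxG]; exact hp, ?_⟩
  -- every `y ∈ C` with `y ^ p = 1` is a power of `x`
  have key : ∀ y : C, y ^ p = 1 → y ∈ Subgroup.zpowers x := by
    intro y hy
    have h1 := IsCyclic.card_pow_eq_one_le (α := C) (n := p) hp.pos
    have h2 : ((Subgroup.zpowers x : Set C).toFinset) ⊆ Finset.univ.filter (fun a : C => a ^ p = 1) := by
      intro z hz
      simp only [Set.mem_toFinset, SetLike.mem_coe, Subgroup.mem_zpowers_iff] at hz
      obtain ⟨k, rfl⟩ := hz
      simp only [Finset.mem_filter, Finset.mem_univ, true_and]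
      rw [← zpow_natCast, ← zpow_mul, mul_comm, zpow_mul, zpow_natCast, ← hx, pow_orderOf_eq_one, one_zpow]
    have h3 : ((Subgroup.zpowers x : Set C).toFinset).card = p := by
      rw [Set.toFinset_card, ← hx, ← Nat.card_eq_fintype_card]; exact Nat.card_zpowers x
    have h4 := Finset.eq_of_subset_of_card_le h2 (by rw [h3]; exact h1)
    have : y ∈ Finset.univ.filter (fun a : C => a ^ p = 1) := by simp [hy]
    rw [← h4] at this
    simpa using this
  intro ω hω
  have hall : ∀ ω' : Ω, (x : G) • ω' = ω' := by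
    intro ω'
    obtain ⟨g, rfl⟩ := htrans.exists_smul_eq ω ω'
    -- g⁻¹ x g is a power of x
    have hy : (⟨g⁻¹ * (x : G) * g, by
        have := hC.conj_mem (x : G) x.2 g⁻¹
        simpa using this⟩ : C) ^ p = 1 := by
      apply Subtype.ext
      simp only [SubmonoidClass.coe_pow, OneMemClass.coe_one]
      have : (g⁻¹ * (x : G) * g) ^ p = g⁻¹ * (x : G) ^ p * g := by
        have h := conj_pow (a := g⁻¹) (b := (x : G)) (i := p)
        simpa using h
      rw [this, ← hxG, pow_orderOf_eq_one]; simp
    have hm := key _ hy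
    rw [Subgroup.mem_zpowers_iff] at hm
    obtain ⟨k, hk⟩ := hm
    have hk' : (x : G) ^ k = g⁻¹ * (x : G) * g := by
      have := congrArg Subtype.val hk
      simpa using this
    have hfix : ∀ k : ℤ, ((x : G) ^ k) • ω = ω := by
      intro k
      have : (x : G) ∈ MulAction.stabilizer G ω := hω
      have := (MulAction.stabilizer G ω).zpow_mem this k
      exact this
    have h5 := hfix k
    rw [hk'] at h5
    have h6 : (x : G) • g • ω = g • ((g⁻¹ * (x : G) * g) • ω) := by
      simp [smul_smul, mul_assoc]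
    rw [h6, h5]
  have hx1 : (x : G) = 1 := by
    apply FaithfulSMul.eq_of_smul_eq_smul (α := Ω)
    intro ω'
    rw [hall ω', one_smul]
  have : orderOf (x : G) = 1 := by rw [hx1]; simp
  rw [hxG] at this
  exact hp.one_lt.ne' this

end Cfsg.Agent.S3554
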