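import Cfsg.Statements.S3555
import Cfsg.Agent.Lib.Recog.PermBasic
import Cfsg.Agent.Lib.Basic.Conj

set_option autoImplicit false
open Cfsg

namespace Cfsg.Agent.S3555

open MulAction Cfsg.Agent.Lib.Recog
open scoped Pointwise

/-- Number of fixed points. -/
noncomputable def Fx {G Ω : Type*} [Group G] [MulAction G Ω] [Fintype Ω] [DecidableEq Ω] (g : G) : ℕ :=
  (Finset.univ.filter fun ω : Ω => g • ω = ω).card

lemma Fx_eq_sum {G Ω : Type*} [Group G] [MulAction G Ω] [Fintype Ω] [DecidableEq Ω] (g : G) :
    Fx (Ω := Ω) g = ∑ ω : Ω, if g • ω = ω then 1 else 0 := by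
  unfold Fx; rw [Finset.card_filter]

lemma Fx_conj {G Ω : Type*} [Group G] [MulAction G Ω] [Fintype Ω] [DecidableEq Ω] (g h : G) :
    Fx (Ω := Ω) (h * g * h⁻¹) = Fx (Ω := Ω) g := by
  rw [Fx_eq_sum, Fx_eq_sum]
  refine Fintype.sum_equiv (MulAction.toPerm h⁻¹) _ _ (fun ω => ?_)
  have : (h * g * h⁻¹) • ω = ω ↔ g • (h⁻¹ • ω) = h⁻¹ • ω := by
    constructor
    · intro hh
      calc g • (h⁻¹ • ω) = h⁻¹ • ((h * g * h⁻¹) • ω) := by simp [mul_smul]
        _ = h⁻¹ • ω := by rw [hh]
    · intro hh
      calc (h * g * h⁻¹) • ω = h • (g • (h⁻¹ • ω)) := by simp [mul_smul]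
        _ = ω := by rw [hh]; simp
  simp only [MulAction.toPerm_apply, this]

theorem key_count {G Ω : Type*} [Group G] [Fintype G] [MulAction G Ω] [Fintype Ω] [DecidableEq Ω]
    [DecidableEq G]
    (htrans : IsPretransitive G Ω) (hinv : ∀ g : G, (∀ ω : Ω, g • ω ≠ ω) → g ^ 2 = 1) (a : Ω) (g₀ : G)
    (hg₀ : ∃ ω : Ω, g₀ • ω = ω) :
    Fx (Ω := Ω) g₀ = 1 ∨ Fx (Ω := Ω) g₀ = Fintype.card Ω := by
  classical
  haveI : Nonempty Ω := ⟨a⟩
  set n := Fintype.card Ω with hn
  -- Burnside
  have hburn : ∑ g : G, Fx (Ω := Ω) g = Fintype.card G := by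
    have := sum_card_fixedBy_of_transitive (G := G) (Ω := Ω)
    rw [← this]
    refine Finset.sum_congr rfl (fun g _ => ?_)
    rw [Nat.card_eq_fintype_card, Fintype.card_subtype]
    rfl
  -- the sums `T`
  let T : Ω → ℕ := fun ω => ∑ g : G, if g • ω = ω then Fx (Ω := Ω) g else 0
  have hT : ∀ ω, T ω = T a := by
    intro ω
    obtain ⟨h, hh⟩ := htrans.exists_smul_eq a ω
    show (∑ g : G, if g • ω = ω then Fx (Ω := Ω) g else 0) = ∑ g : G, if g • a = a then Fx (Ω := Ω) g else 0
    symm
    refine Fintype.sum_equiv (MulAut.conj h).toEquiv _ _ (fun g => ?_)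
    have h1 : (MulAut.conj h).toEquiv g = h * g * h⁻¹ := rfl
    rw [h1, Fx_conj]
    have : (h * g * h⁻¹) • ω = ω ↔ g • a = a := by
      rw [← hh]
      constructor
      · intro hh2
        have : h • (g • a) = h • a := by
          rw [← hh2]; simp [mul_smul]
        exact smul_left_cancel h this
      · intro hh2
        simp [mul_smul, hh2]
    simp only [this]
  have hsq : ∑ g : G, Fx (Ω := Ω) g * Fx (Ω := Ω) g = n * T a := by
    have h1 : ∀ g : G, Fx (Ω := Ω) g * Fx (Ω := Ω) g = ∑ ω : Ω, if g • ω = ω then Fx (Ω := Ω) g else 0 := by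
      intro g
      calc Fx (Ω := Ω) g * Fx (Ω := Ω) g = (∑ ω : Ω, if g • ω = ω then 1 else 0) * Fx (Ω := Ω) g := by
            rw [← Fx_eq_sum]
        _ = _ := by
            rw [Finset.sum_mul]
            refine Finset.sum_congr rfl (fun ω _ => ?_)
            split_ifs <;> simp
    simp_rw [h1]
    rw [Finset.sum_comm]
    have h2 : ∀ ω : Ω, (∑ g : G, if g • ω = ω then Fx (Ω := Ω) g else 0) = T a := hT
    simp_rw [h2]
    simp [hn]
  let N : Ω → ℕ := fun b => (Finset.univ.filter fun g : G => g • a = a ∧ g • b = b).card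
  have hTa : T a = ∑ b : Ω, N b := by
    show (∑ g : G, if g • a = a then Fx (Ω := Ω) g else 0) = _
    have h1 : ∀ g : G, (if g • a = a then Fx (Ω := Ω) g else 0) =
        ∑ b : Ω, if (g • a = a ∧ g • b = b) then 1 else 0 := by
      intro g
      by_cases hh : g • a = a
      · simp [hh, Fx_eq_sum]
      · simp [hh]
    simp_rw [h1]
    rw [Finset.sum_comm]
    refine Finset.sum_congr rfl (fun b _ => ?_)
    simp only [N, Finset.card_filter]
  have hG : Fintype.card G = n * N a := by
    -- orbit stabilizer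
    have h1 : ∀ b : Ω, (Finset.univ.filter fun g : G => g • a = b).card = N a := by
      intro b
      obtain ⟨h, hh⟩ := htrans.exists_smul_eq a b
      simp only [N, and_self]
      refine Finset.card_bij' (fun g _ => h⁻¹ * g) (fun g _ => h * g) ?_ ?_ ?_ ?_
      · intro g hg
        simp only [Finset.mem_filter, Finset.mem_univ, true_and] at hg ⊢
        rw [mul_smul, hg, ← hh, inv_smul_smul]
      · intro g hg
        simp only [Finset.mem_filter, Finset.mem_univ, true_and] at hg ⊢
        rw [mul_smul, hg, hh]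
      · intro g _; simp
      · intro g _; simp
    have h2 : Fintype.card G = ∑ b : Ω, (Finset.univ.filter fun g : G => g • a = b).card := by
      rw [← Finset.card_univ]
      exact Finset.card_eq_sum_card_fiberwise (fun g _ => Finset.mem_coe.mpr (Finset.mem_univ (g • a)))
    rw [h2]
    simp_rw [h1]
    simp [hn]
  -- derangements
  let Der : Finset G := Finset.univ.filter fun g : G => ∀ ω : Ω, g • ω ≠ ω
  have hDer : Der.card ≤ ∑ b ∈ Finset.univ.erase a, N b := by
    have h1 : Der.card = ∑ b ∈ Finset.univ.erase a, (Der.filter fun g => g • a = b).card := by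
      apply Finset.card_eq_sum_card_fiberwise
      intro g hg
      simp only [Der, Finset.coe_filter, Finset.mem_univ, true_and, Set.mem_setOf_eq] at hg
      simp only [Finset.coe_erase, Finset.coe_univ, Set.mem_diff, Set.mem_univ, Set.mem_singleton_iff, true_and]
      exact hg a
    rw [h1]
    refine Finset.sum_le_sum (fun b hb => ?_)
    rcases (Der.filter fun g => g • a = b).eq_empty_or_nonempty with he | ⟨x₀, hx₀⟩
    · rw [he]; simp
    · simp only [Der, Finset.mem_filter, Finset.mem_univ, true_and] at hx₀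
      have hx₀2 : x₀ ^ 2 = 1 := hinv x₀ hx₀.1
      refine Finset.card_le_card_of_injOn (fun g => x₀⁻¹ * g) ?_ ?_
      · intro g hg
        simp only [Der, Finset.coe_filter, Finset.mem_filter, Finset.mem_univ, true_and, Set.mem_setOf_eq] at hg ⊢
        have hg2 : g ^ 2 = 1 := hinv g hg.1
        have hgb : g • b = a := by
          rw [← hg.2, ← mul_smul, ← pow_two, hg2, one_smul]
        have hx₀i : x₀⁻¹ = x₀ := by
          rw [inv_eq_iff_mul_eq_one, ← pow_two, hx₀2]
        constructor
        · rw [mul_smul, hg.2, ← hx₀.2, inv_smul_smul]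
        · rw [mul_smul, hgb, hx₀i, hx₀.2]
      · intro g _ g' _ h
        exact mul_left_cancel h
  -- the sum in ℤ
  have hsum : ∑ g : G, (((Fx (Ω := Ω) g : ℤ) - 1) * ((Fx (Ω := Ω) g : ℤ) - n)) =
      n * ∑ b ∈ Finset.univ.erase a, (N b : ℤ) := by
    have h1 : ∑ g : G, (((Fx (Ω := Ω) g : ℤ) - 1) * ((Fx (Ω := Ω) g : ℤ) - n)) =
        ∑ g : G, ((Fx (Ω := Ω) g : ℤ) * (Fx (Ω := Ω) g : ℤ)) - (n + 1) * ∑ g : G, (Fx (Ω := Ω) g : ℤ)
          + n * Fintype.card G := by
      rw [Finset.mul_sum, ← Finset.sum_sub_distrib]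
      have : (n : ℤ) * Fintype.card G = ∑ g : G, (n : ℤ) := by simp [mul_comm]
      rw [this, ← Finset.sum_add_distrib]
      refine Finset.sum_congr rfl (fun g _ => ?_)
      ring
    have h2 : ∑ g : G, ((Fx (Ω := Ω) g : ℤ) * (Fx (Ω := Ω) g : ℤ)) = n * T a := by
      exact_mod_cast hsq
    have h3 : ∑ g : G, (Fx (Ω := Ω) g : ℤ) = Fintype.card G := by
      exact_mod_cast hburn
    have h4 : (T a : ℤ) = N a + ∑ b ∈ Finset.univ.erase a, (N b : ℤ) := by
      rw [hTa, ← Finset.add_sum_erase _ _ (Finset.mem_univ a)]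
      push_cast
      rfl
    have h5 : (Fintype.card G : ℤ) = n * N a := by
      exact_mod_cast hG
    rw [h1, h2, h3, h4, h5]
    ring
  by_contra hne
  push Not at hne
  have hle : Fx (Ω := Ω) g₀ ≤ n := by
    unfold Fx
    exact Finset.card_le_univ _
  have hpos : 1 ≤ Fx (Ω := Ω) g₀ := by
    obtain ⟨ω, hω⟩ := hg₀
    exact Finset.card_pos.mpr ⟨ω, by simp [hω]⟩
  have hlt : ∑ g : G, (((Fx (Ω := Ω) g : ℤ) - 1) * ((Fx (Ω := Ω) g : ℤ) - n)) <
      ∑ g : G, (if g ∈ Der then (n : ℤ) else 0) := by
    apply Finset.sum_lt_sum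
    · intro g _
      by_cases hg : g ∈ Der
      · have : Fx (Ω := Ω) g = 0 := by
          simp only [Der, Finset.mem_filter, Finset.mem_univ, true_and] at hg
          unfold Fx
          rw [Finset.card_eq_zero]
          ext ω
          simp [hg ω]
        simp [this, hg]
      · have h1 : 1 ≤ Fx (Ω := Ω) g := by
          simp only [Der, Finset.mem_filter, Finset.mem_univ, true_and] at hg
          push Not at hg
          obtain ⟨ω, hω⟩ := hg
          exact Finset.card_pos.mpr ⟨ω, by simp [hω]⟩
        have h2 : Fx (Ω := Ω) g ≤ n := by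
          unfold Fx
          exact Finset.card_le_univ _
        simp only [hg, if_false]
        have h1' : (1 : ℤ) ≤ Fx (Ω := Ω) g := by exact_mod_cast h1
        have h2' : (Fx (Ω := Ω) g : ℤ) ≤ n := by exact_mod_cast h2
        nlinarith
    · refine ⟨g₀, Finset.mem_univ _, ?_⟩
      have hg : g₀ ∉ Der := by
        simp only [Der, Finset.mem_filter, Finset.mem_univ, true_and]
        push Not
        exact hg₀
      simp only [hg, if_false]
      have h1' : (1 : ℤ) < Fx (Ω := Ω) g₀ := by
        have : 1 < Fx (Ω := Ω) g₀ := by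
          rcases hpos.lt_or_eq with h | h
          · exact h
          · exact absurd h.symm hne.1
        exact_mod_cast this
      have h2' : (Fx (Ω := Ω) g₀ : ℤ) < n := by
        have : Fx (Ω := Ω) g₀ < n := lt_of_le_of_ne hle hne.2
        exact_mod_cast this
      nlinarith
  rw [hsum] at hlt
  have h3 : ∑ g : G, (if g ∈ Der then (n : ℤ) else 0) = n * Der.card := by
    rw [Finset.sum_ite_mem]
    simp [mul_comm]
  rw [h3] at hlt
  have h4 : (Der.card : ℤ) ≤ ∑ b ∈ Finset.univ.erase a, (N b : ℤ) := by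
    exact_mod_cast hDer
  have h5 : (0 : ℤ) ≤ n := by positivity
  nlinarith


/-- Let G act faithfully and transitively on a finite set and suppose every element of G fixing no point is an involution. Then either G is an elementary abelian 2-group, or G is a Frobenius group whose Frobenius kernel is an elementary abelian 2-group: G has a Frobenius complement H, and the elements lying in no conjugate of H, together with the identity, pairwise commute and square to the identity. -/
theorem result {G Ω : Type*} [Group G] [Finite G] [MulAction G Ω] [FaithfulSMul G Ω] [Finite Ω]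
    (htrans : MulAction.IsPretransitive G Ω) (hinv : ∀ g : G, (∀ ω : Ω, g • ω ≠ ω) → orderOf g = 2) :
    (IsMulCommutative G ∧ ∀ g : G, g ^ 2 = 1) ∨
    (∃ H : Subgroup G, Cfsg.IsFrobeniusComplement H ∧
      (∀ x ∈ Cfsg.frobeniusKernel H, x ^ 2 = 1) ∧
      ∀ x ∈ Cfsg.frobeniusKernel H, ∀ y ∈ Cfsg.frobeniusKernel H, x * y = y * x) := by
  classical
  letI := Fintype.ofFinite G
  letI := Fintype.ofFinite Ω
  have hΩ : Nonempty Ω := by
    by_contra h
    rw [not_nonempty_iff] at h
    have := hinv 1 (fun ω => (h.false ω).elim)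
    simp at this
  obtain ⟨a⟩ := hΩ
  have hinv2 : ∀ g : G, (∀ ω : Ω, g • ω ≠ ω) → g ^ 2 = 1 := fun g hg => by
    have := hinv g hg
    rw [← this]
    exact pow_orderOf_eq_one g
  have hstar : ∀ (g : G) (c d : Ω), c ≠ d → g • c = c → g • d = d → g = 1 := by
    intro g c d hcd hc hd
    have h1 := key_count htrans hinv2 a g ⟨c, hc⟩
    rcases h1 with h1 | h1
    · exfalso
      have : 1 < Fx (Ω := Ω) g := Finset.one_lt_card.mpr ⟨c, by simp [hc], d, by simp [hd], hcd⟩
      omega
    · apply FaithfulSMul.eq_of_smul_eq_smul (α := Ω)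
      intro ω
      rw [one_smul]
      have h0 : (Finset.univ.filter fun ω : Ω => g • ω = ω) = Finset.univ := Finset.eq_univ_of_card _ h1
      have h2 : ω ∈ (Finset.univ.filter fun ω : Ω => g • ω = ω) := by
        rw [h0]
        exact Finset.mem_univ _
      simpa using h2
  have hinvself : ∀ x : G, (∀ ω : Ω, x • ω ≠ ω) → x⁻¹ = x := by
    intro x hx
    rw [inv_eq_iff_mul_eq_one, ← pow_two, hinv2 x hx]
  have hunique : ∀ x y : G, (∀ ω : Ω, x • ω ≠ ω) → (∀ ω : Ω, y • ω ≠ ω) → ∀ c : Ω, x • c = y • c → x = y := by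
    intro x y hx hy c hc
    have h1 : x⁻¹ * y = 1 := by
      apply hstar (x⁻¹ * y) c (x • c) (hx c).symm
      · rw [mul_smul, ← hc, inv_smul_smul]
      · rw [mul_smul, hc, ← mul_smul y y, ← pow_two, hinv2 y hy, one_smul, ← hc, hinvself x hx]
    exact inv_mul_eq_one.mp h1
  have hder_comm : ∀ x y : G, (∀ ω : Ω, x • ω ≠ ω) → (∀ ω : Ω, y • ω ≠ ω) →
      x * y = y * x ∧ (x = y ∨ ∀ ω : Ω, (x * y) • ω ≠ ω) := by
    intro x y hx hy
    by_cases hxy : x = y
    · subst hxy
      exact ⟨rfl, Or.inl rfl⟩
    · have h1 : ∀ ω : Ω, (x * y) • ω ≠ ω := by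
        intro ω hω
        apply hxy
        apply hunique x y hx hy ω
        have : x • (y • ω) = ω := by rw [← mul_smul, hω]
        calc x • ω = x • (x • (y • ω)) := by rw [this]
          _ = y • ω := by rw [← mul_smul, ← pow_two, hinv2 x hx, one_smul]
      refine ⟨?_, Or.inr h1⟩
      have h2 := hinv2 _ h1
      have h3 : (x * y)⁻¹ = x * y := by
        rw [inv_eq_iff_mul_eq_one, ← pow_two, h2]
      rw [mul_inv_rev, hinvself x hx, hinvself y hy] at h3
      exact h3.symm
  by_cases hH : MulAction.stabilizer G a = ⊥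
  · left
    have hall : ∀ g : G, g = 1 ∨ ∀ ω : Ω, g • ω ≠ ω := by
      intro g
      by_cases hg : ∀ ω : Ω, g • ω ≠ ω
      · exact Or.inr hg
      · left
        push Not at hg
        obtain ⟨c, hc⟩ := hg
        obtain ⟨h, hh⟩ := htrans.exists_smul_eq a c
        have h1 : h⁻¹ * g * h ∈ MulAction.stabilizer G a := by
          rw [MulAction.mem_stabilizer_iff, mul_smul, mul_smul, hh, hc, ← hh, inv_smul_smul]
        rw [hH, Subgroup.mem_bot] at h1
        have h2 : g = h * (h⁻¹ * g * h) * h⁻¹ := by group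
        rw [h2, h1]
        group
    constructor
    · refine ⟨⟨fun x y => ?_⟩⟩
      rcases hall x with h | h
      · simp [h]
      · rcases hall y with h' | h'
        · simp [h']
        · exact (hder_comm x y h h').1
    · intro g
      rcases hall g with h | h
      · simp [h]
      · exact hinv2 g h
  · right
    refine ⟨MulAction.stabilizer G a, ⟨hH, ?_, ?_⟩, ?_, ?_⟩
    · intro htop
      apply hH
      rw [Subgroup.eq_bot_iff_forall]
      intro g _
      apply FaithfulSMul.eq_of_smul_eq_smul (α := Ω)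
      intro ω
      rw [one_smul]
      obtain ⟨h, hh⟩ := htrans.exists_smul_eq a ω
      have h1 : ∀ x : G, x • a = a := by
        intro x
        have : x ∈ MulAction.stabilizer G a := by rw [htop]; exact Subgroup.mem_top x
        exact this
      have h2 := h1 h
      rw [h2] at hh
      rw [← hh]
      exact h1 g
    · intro g hg
      rw [Subgroup.eq_bot_iff_forall]
      rintro x ⟨hx1, hx2⟩
      have hx2' : x ∈ MulAut.conj g • MulAction.stabilizer G a := hx2
      rw [Cfsg.Agent.Lib.Basic.mem_conj_smul, MulAction.mem_stabilizer_iff] at hx2'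
      have hx1' : x • a = a := hx1
      have hga : g • a ≠ a := hg
      refine hstar x a (g • a) hga.symm hx1' ?_
      have : x • g • a = g • ((g⁻¹ * x * g) • a) := by simp [mul_smul]
      rw [this, hx2']
    · intro x hx
      rcases hx with h | h
      · simp [h]
      · apply hinv2
        intro ω hω
        obtain ⟨g, hg⟩ := htrans.exists_smul_eq a ω
        apply h g
        rw [Cfsg.Agent.Lib.Basic.mem_conj_smul, MulAction.mem_stabilizer_iff, mul_smul, mul_smul, hg, hω,
          ← hg, inv_smul_smul]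
    · intro x hx y hy
      have hcv : ∀ z ∈ Cfsg.frobeniusKernel (MulAction.stabilizer G a), z = 1 ∨ ∀ ω : Ω, z • ω ≠ ω := by
        intro z hz
        rcases hz with h | h
        · exact Or.inl h
        · right
          intro ω hω
          obtain ⟨g, hg⟩ := htrans.exists_smul_eq a ω
          apply h g
          rw [Cfsg.Agent.Lib.Basic.mem_conj_smul, MulAction.mem_stabilizer_iff, mul_smul, mul_smul, hg, hω,
            ← hg, inv_smul_smul]
      rcases hcv x hx with h | h
      · simp [h]
      · rcases hcv y hy with h' | h'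
        · simp [h']
        · exact (hder_comm x y h h').1

end Cfsg.Agent.S3555
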