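import Cfsg.Statements.S3634
import Cfsg.Agent.Lib.Recog.FrobTrace

set_option autoImplicit false
open Cfsg

namespace Cfsg.Agent.S3634

open Cfsg.Agent.Lib.Recog

theorem frattini_order {X : Type*} [Group X] [Finite X] (L : Subgroup X) [L.Normal] (l : ℕ) [Fact l.Prime]
    (S : Sylow l L) (t : ℕ) (ht : t.Prime) (hd : t ∣ L.index) :
    ∃ y : X, orderOf y = t ∧ y ∈ Subgroup.normalizer ((((S : Subgroup L).map L.subtype : Subgroup X)) : Set X) := by
  haveI : Fact t.Prime := ⟨ht⟩
  have h1 := Sylow.normalizer_sup_eq_top S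
  set Y : Subgroup X := Subgroup.normalizer (((S : Subgroup L).map L.subtype : Subgroup X) : Set X) with hY
  have h2 : L.index = L.relIndex Y := by
    have : L.relIndex (L ⊔ Y) = L.relIndex Y := Subgroup.relIndex_sup_left Y L
    rw [← this, sup_comm, h1, Subgroup.relIndex_top_right]
  have h3 : t ∣ Nat.card Y := by
    rw [h2] at hd
    exact hd.trans (Subgroup.relIndex_dvd_card L Y)
  obtain ⟨y, hy⟩ := exists_prime_orderOf_dvd_card' t h3
  refine ⟨y, ?_, y.2⟩
  rw [← hy]
  exact Subgroup.orderOf_coe y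

theorem exists_order_of_commute {G : Type*} [Group G] (a b : G) (s t : ℕ) (hab : a * b = b * a)
    (ha : orderOf a = s) (hb : orderOf b = t) (hst : Nat.Coprime s t) : orderOf (a * b) = s * t := by
  rw [← ha, ← hb]
  apply Commute.orderOf_mul_eq_mul_orderOf_of_coprime hab
  rw [ha, hb]; exact hst

theorem exists_prime_order_of_pgroup {G : Type*} [Group G] [Finite G] (Q : Subgroup G) (q : ℕ) (hq : q.Prime)
    (hQ : IsPGroup q Q) (a : G) (ha : a ∈ Q) (ha1 : a ≠ 1) :
    ∃ j : ℕ, orderOf (a ^ j) = q := by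
  haveI : Fact q.Prime := ⟨hq⟩
  obtain ⟨e, he⟩ := hQ ⟨a, ha⟩
  have h1 : a ^ q ^ e = 1 := congrArg Subtype.val he
  obtain ⟨j, -, hj⟩ := (Nat.dvd_prime_pow hq).mp (orderOf_dvd_of_pow_eq_one h1)
  have hj0 : j ≠ 0 := by
    intro h
    rw [h, pow_zero] at hj
    exact ha1 (orderOf_eq_one_iff.mp hj)
  obtain ⟨i, rfl⟩ : ∃ i, j = i + 1 := ⟨j - 1, by omega⟩
  refine ⟨q ^ i, ?_⟩
  rw [orderOf_pow' _ (pow_ne_zero _ hq.ne_zero), hj, Nat.gcd_eq_right (pow_dvd_pow q (by omega))]
  rw [pow_succ]
  exact Nat.mul_div_cancel_left _ (pow_pos hq.pos _)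


/-- Let G be a finite group with normal subgroups K ≤ M, and let p, q, r be distinct primes with p dividing the order of K, q dividing the order of M/K and r dividing the order of G/M. Then p, q, r are not pairwise non-adjacent in the prime graph of G: G has an element of order pq, pr or qr. -/
theorem result {G : Type*} [Group G] [Finite G] (K M : Subgroup G) [K.Normal] [M.Normal] (hKM : K ≤ M)
    (p q r : ℕ) (hp : p.Prime) (hq : q.Prime) (hr : r.Prime) (hpq : p ≠ q) (hpr : p ≠ r) (hqr : q ≠ r)
    (hpK : p ∣ Nat.card ↥K) (hqM : q ∣ Nat.card ↥M / Nat.card ↥K) (hrG : r ∣ Nat.card G / Nat.card ↥M) :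
    (∃ x : G, orderOf x = p * q) ∨ (∃ x : G, orderOf x = p * r) ∨ (∃ x : G, orderOf x = q * r) := by
  classical
  by_contra hcon
  push Not at hcon
  obtain ⟨h1, h2, h3⟩ := hcon
  haveI : Fact p.Prime := ⟨hp⟩
  haveI : Fact q.Prime := ⟨hq⟩
  haveI : Fact r.Prime := ⟨hr⟩
  -- Frattini for K
  let P : Sylow p K := default
  let P' : Subgroup G := (P : Subgroup K).map K.subtype
  let N : Subgroup G := Subgroup.normalizer (P' : Set G)
  have hNK : N ⊔ K = ⊤ := Sylow.normalizer_sup_eq_top P
  -- the indices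
  have hPp : IsPGroup p P' := (P.2).map K.subtype
  have hP'1 : Nontrivial P' := by
    have hc : Nat.card P = p ^ _ := Sylow.card_eq_multiplicity P
    have hne : (Nat.card K).factorization p ≠ 0 := (hp.factorization_pos_of_dvd Nat.card_pos.ne' hpK).ne'
    have hP1 : 1 < Nat.card P := by
      rw [hc]
      exact Nat.one_lt_pow hne hp.one_lt
    have : Nat.card P' = Nat.card P := (Nat.card_congr (Subgroup.equivMapOfInjective _ K.subtype K.subtype_injective).toEquiv).symm
    exact (Finite.one_lt_card_iff_nontrivial).mp (by rw [this]; exact hP1)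
  -- the group A
  let A : Subgroup G :=
    { carrier := {x | x ∈ P' ∧ (∀ z ∈ P', x * z = z * x) ∧ x ^ p = 1}
      one_mem' := ⟨P'.one_mem, by simp, one_pow _⟩
      mul_mem' := by
        rintro x y ⟨hx1, hx2, hx3⟩ ⟨hy1, hy2, hy3⟩
        refine ⟨P'.mul_mem hx1 hy1, ?_, ?_⟩
        · intro z hz
          rw [mul_assoc, hy2 z hz, ← mul_assoc, hx2 z hz, mul_assoc]
        · have hc : Commute x y := hx2 y hy1
          rw [hc.mul_pow, hx3, hy3, one_mul]
      inv_mem' := by
        rintro x ⟨hx1, hx2, hx3⟩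
        refine ⟨P'.inv_mem hx1, ?_, ?_⟩
        · intro z hz
          have := hx2 z hz
          calc x⁻¹ * z = x⁻¹ * z * (x * x⁻¹) := by group
            _ = x⁻¹ * (z * x) * x⁻¹ := by group
            _ = z * x⁻¹ := by rw [← this]; group
        · rw [inv_pow, hx3, inv_one] }
  have hAcomm : IsMulCommutative A := by
    constructor
    constructor
    rintro ⟨x, hx⟩ ⟨y, hy⟩
    exact Subtype.ext (hx.2.1 y hy.1)
  have hA1 : A ≠ ⊥ := by
    intro hbot
    have hcn : Nontrivial (Subgroup.center P') := hPp.center_nontrivial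
    obtain ⟨e, he⟩ := IsPGroup.iff_card.mp (hPp.to_subgroup (Subgroup.center P'))
    have he0 : e ≠ 0 := by
      intro h
      rw [h, pow_zero] at he
      have := Finite.one_lt_card_iff_nontrivial.mpr hcn
      omega
    have hd : p ∣ Nat.card (Subgroup.center P') := by
      rw [he]; exact dvd_pow_self p he0
    obtain ⟨z, hz⟩ := exists_prime_orderOf_dvd_card' p hd
    have hzG : orderOf (((z : P') : G)) = p := by
      rw [← hz, ← Subgroup.orderOf_coe z, ← Subgroup.orderOf_coe (z : P')]
    have hzA : ((z : P') : G) ∈ A := by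
      refine ⟨(z : P').2, ?_, ?_⟩
      · intro w hw
        have := Subgroup.mem_center_iff.mp z.2 ⟨w, hw⟩
        exact (congrArg Subtype.val this).symm
      · rw [← hzG]; exact pow_orderOf_eq_one _
    rw [hbot, Subgroup.mem_bot] at hzA
    rw [hzA, orderOf_one] at hzG
    exact hp.one_lt.ne hzG
  have hNA : N ≤ Subgroup.normalizer (A : Set G) := by
    have hconj : ∀ g ∈ N, ∀ x ∈ A, g * x * g⁻¹ ∈ A := by
      rintro g hg x ⟨hx1, hx2, hx3⟩
      have hgP := Subgroup.mem_normalizer_iff.mp hg
      refine ⟨(hgP x).mp hx1, ?_, ?_⟩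
      · intro z hz
        have hz' : g⁻¹ * z * g ∈ P' := by
          have := (Subgroup.mem_normalizer_iff.mp (N.inv_mem hg)) z
          simpa using this.mp hz
        have := hx2 _ hz'
        calc g * x * g⁻¹ * z = g * (x * (g⁻¹ * z * g)) * g⁻¹ := by group
          _ = g * ((g⁻¹ * z * g) * x) * g⁻¹ := by rw [this]
          _ = z * (g * x * g⁻¹) := by group
      · rw [conj_pow, hx3]; group
    intro g hg
    rw [Subgroup.mem_normalizer_iff]
    intro x
    constructor
    · exact hconj g hg x
    · intro h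
      have := hconj g⁻¹ (N.inv_mem hg) _ h
      have e : g⁻¹ * (g * x * g⁻¹) * g⁻¹⁻¹ = x := by group
      rwa [e] at this
  -- q divides the order of N ⊓ M
  let M' : Subgroup N := M.subgroupOf N
  haveI hM'n : M'.Normal := inferInstance
  have hM'card : Nat.card M' = Nat.card (M ⊓ N : Subgroup G) := by
    have : (M'.map N.subtype) = M ⊓ N := Subgroup.subgroupOf_map_subtype M N
    rw [← this]
    exact Nat.card_congr (Subgroup.equivMapOfInjective M' N.subtype N.subtype_injective).toEquiv
  have hqM' : q ∣ Nat.card M' := by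
    have hdiv : Nat.card M / Nat.card K = K.relIndex M := by
      have h4 := Subgroup.card_mul_index (K.subgroupOf M)
      have h5 : Nat.card (K.subgroupOf M) = Nat.card K :=
        Nat.card_congr (Subgroup.subgroupOfEquivOfLe hKM).toEquiv
      rw [h5] at h4
      exact Nat.div_eq_of_eq_mul_right Nat.card_pos h4.symm
    have hded : K ⊔ (M ⊓ N) = M := by
      apply le_antisymm
      · exact sup_le hKM inf_le_left
      · intro x hx
        have hxtop : x ∈ N ⊔ K := by rw [hNK]; trivial
        rw [Subgroup.mem_sup_of_normal_right] at hxtop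
        obtain ⟨n, hn, k, hk, rfl⟩ := hxtop
        have hnM : n ∈ M := by
          have := M.mul_mem hx (M.inv_mem (hKM hk))
          simpa using this
        exact Subgroup.mul_mem _ (Subgroup.mem_sup_right ⟨hnM, hn⟩) (Subgroup.mem_sup_left hk)
    have h6 : K.relIndex M = K.relIndex (M ⊓ N) := by
      rw [← Subgroup.relIndex_sup_left (M ⊓ N) K, hded]
    rw [hdiv, h6] at hqM
    rw [hM'card]
    exact hqM.trans (Subgroup.relIndex_dvd_card K (M ⊓ N))
  have hrM' : r ∣ M'.index := by
    have h7 : M'.index = M.relIndex N := rfl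
    have h8 : M ⊔ N = ⊤ := by
      rw [eq_top_iff, ← hNK, sup_comm]
      exact sup_le_sup_right hKM N
    have h9 : M.relIndex N = M.index := by
      rw [← Subgroup.relIndex_sup_left N M, h8, Subgroup.relIndex_top_right]
    rw [h7, h9]
    have h10 := Subgroup.card_mul_index M
    have h11 : Nat.card G / Nat.card M = M.index := Nat.div_eq_of_eq_mul_right Nat.card_pos h10.symm
    rwa [h11] at hrG
  let S : Sylow q M' := default
  obtain ⟨y₁, hy₁o, hy₁n⟩ := frattini_order M' q S r hr hrM'
  let S' : Subgroup N := (S : Subgroup M').map M'.subtype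
  let Q₀ : Subgroup G := S'.map N.subtype
  let y : G := y₁
  have hyo : orderOf y = r := by
    rw [← hy₁o]; exact Subgroup.orderOf_coe y₁
  have hyr : y ^ r = 1 := by rw [← hyo]; exact pow_orderOf_eq_one y
  have hyN : y ∈ N := y₁.2
  have hyQ : y ∈ Subgroup.normalizer (Q₀ : Set G) :=
    Subgroup.le_normalizer_map N.subtype (Subgroup.mem_map_of_mem _ hy₁n)
  have hQN : Q₀ ≤ N := Subgroup.map_subtype_le _
  have hQq : IsPGroup q Q₀ := ((S.2).map M'.subtype).map N.subtype
  have hQcard : Nat.card Q₀ = Nat.card S := by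
    have h1 : Nat.card Q₀ = Nat.card S' :=
      (Nat.card_congr (Subgroup.equivMapOfInjective S' N.subtype N.subtype_injective).toEquiv).symm
    have h2 : Nat.card S' = Nat.card S :=
      (Nat.card_congr (Subgroup.equivMapOfInjective (S : Subgroup M') M'.subtype M'.subtype_injective).toEquiv).symm
    rw [h1, h2]
  have hqQ : q ∣ Nat.card Q₀ := by
    rw [hQcard, Sylow.card_eq_multiplicity S]
    exact dvd_pow_self q (hq.factorization_pos_of_dvd Nat.card_pos.ne' hqM').ne'
  have hcop : Nat.Coprime (Nat.card Q₀) p := by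
    obtain ⟨e, he⟩ := IsPGroup.iff_card.mp hQq
    rw [he]
    exact Nat.Coprime.pow_left e ((Nat.coprime_primes hq hp).mpr hpq.symm)
  obtain ⟨x, hxA, hx1, hxy⟩ := exists_fixed_of_frobenius A Q₀ hAcomm p hp (fun x hx => hx.2.2) hA1 y r hr.pos hyr
    (hNA hyN) (hQN.trans hNA) hyQ
    (by
      intro x hx hcomm
      by_contra hne
      have hxo : orderOf x = p := orderOf_eq_prime hx.2.2 hne
      obtain ⟨a, ha⟩ := exists_prime_orderOf_dvd_card' q hqQ
      have hao : orderOf (a : G) = q := by rw [← ha]; exact Subgroup.orderOf_coe a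
      exact h1 _ (exists_order_of_commute x (a : G) p q (hcomm a a.2).symm hxo hao
        ((Nat.coprime_primes hp hq).mpr hpq)))
    hcop
    (by
      intro i hi0 hir a ha hcomm
      by_contra ha1
      obtain ⟨j, hj⟩ := exists_prime_order_of_pgroup Q₀ q hq hQq a ha ha1
      have hyi : orderOf (y ^ i) = r := by
        rw [orderOf_pow' _ hi0.ne', hyo]
        have : Nat.gcd r i = 1 := Nat.coprime_of_lt_prime hi0.ne' hir hr
        rw [this, Nat.div_one]
      have hc : (a ^ j) * (y ^ i) = (y ^ i) * (a ^ j) := by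
        have hc1 : Commute (y ^ i) a := hcomm
        exact (hc1.pow_right j).symm
      exact h3 _ (exists_order_of_commute (a ^ j) (y ^ i) q r hc hj hyi ((Nat.coprime_primes hq hr).mpr hqr)))
  have hxo : orderOf x = p := orderOf_eq_prime hxA.2.2 hx1
  exact h2 _ (exists_order_of_commute x y p r hxy.symm hxo hyo ((Nat.coprime_primes hp hr).mpr hpr))

end Cfsg.Agent.S3634
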