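import Cfsg.Statements.S3633
import Cfsg.Agent.S3634
import Cfsg.Agent.Lib.Basic.MinNormal

set_option autoImplicit false
open Cfsg

namespace Cfsg.Agent.S3633

open Cfsg.Agent.Lib.Basic
open scoped commutatorElement

theorem minNormal_elementary_of_solvable {G : Type*} [Group G] [Finite G] {N : Subgroup G}
    (hmin : IsMinNormal N) (hs : Group.IsSolvable N) :
    IsMulCommutative N ∧ ∃ p : ℕ, p.Prime ∧ ∀ x ∈ N, x ^ p = 1 := by
  obtain ⟨hN, hne, hM⟩ := hmin
  have hnt : Nontrivial N := (Subgroup.nontrivial_iff_ne_bot N).mpr hne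
  -- abelian
  have hcomm : IsMulCommutative N := by
    have hlt := Group.IsSolvable.commutator_lt_top_of_nontrivial N
    have hDn : ((commutator N).map N.subtype).Normal := inferInstance
    rcases hM _ hDn (Subgroup.map_subtype_le _) with h | h
    · have h2 : commutator N = ⊥ := by
        rw [Subgroup.map_eq_bot_iff_of_injective _ Subtype.coe_injective] at h
        exact h
      refine ⟨⟨fun x y => ?_⟩⟩
      have h3 : ⁅x, y⁆ = 1 := by
        have : ⁅x, y⁆ ∈ commutator N := Subgroup.commutator_mem_commutator (Subgroup.mem_top x) (Subgroup.mem_top y)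
        rw [h2] at this
        exact this
      exact commutatorElement_eq_one_iff_commute.mp h3
    · exfalso
      have h2 : commutator N = ⊤ := by
        have h3 : (commutator N).map N.subtype = (⊤ : Subgroup N).map N.subtype := by
          rw [h]
          ext x
          simp
        exact Subgroup.map_injective Subtype.coe_injective h3
      exact hlt.ne h2
  refine ⟨hcomm, ?_⟩
  have hcard : Nat.card N ≠ 1 := Finite.one_lt_card_iff_nontrivial.mpr hnt |>.ne'
  obtain ⟨p, hp, hdvd⟩ := Nat.exists_prime_and_dvd hcard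
  refine ⟨p, hp, ?_⟩
  have : Fact p.Prime := ⟨hp⟩
  obtain ⟨x, hx⟩ := exists_prime_orderOf_dvd_card' (G := N) p hdvd
  have hE : torsionSubgroupOf N p ≠ ⊥ := by
    intro hbot
    have hxmem : (x : G) ∈ torsionSubgroupOf N p := by
      refine ⟨x.2, ?_⟩
      have := pow_orderOf_eq_one x
      rw [hx] at this
      exact congrArg Subtype.val this
    rw [hbot, Subgroup.mem_bot] at hxmem
    have h1 : x = 1 := Subtype.ext hxmem
    rw [h1, orderOf_one] at hx
    exact hp.one_lt.ne hx
  have hEn : (torsionSubgroupOf N p).Normal := torsionSubgroupOf_normal p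
  rcases hM _ hEn (fun y hy => hy.1) with h | h
  · exact absurd h hE
  · intro y hy
    rw [← h] at hy
    exact hy.2

/-- A solvable normal subgroup `K ≠ 1` has a normal subgroup `L < K` of `G` with `K / L` a nontrivial `ℓ`-group. -/
theorem exists_prime_quotient {G : Type*} [Group G] [Finite G] (K : Subgroup G) [hKn : K.Normal]
    (hKs : Group.IsSolvable K) (hne : K ≠ ⊥) :
    ∃ (L : Subgroup G) (l : ℕ), l.Prime ∧ L.Normal ∧ L ≤ K ∧ L ≠ K ∧
      Nat.card K = Nat.card L * (Nat.card K / Nat.card L) ∧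
      l ∣ Nat.card K / Nat.card L ∧ ∀ a : ℕ, a.Prime → a ∣ Nat.card K / Nat.card L → a = l := by
  classical
  have hS : ({L : Subgroup G | L.Normal ∧ L ≤ K ∧ L ≠ K}).Nonempty :=
    ⟨⊥, inferInstance, bot_le, hne.symm⟩
  obtain ⟨L, ⟨hLn, hLK, hLne⟩, hmax⟩ := (Set.toFinite _).exists_maximal hS
  haveI := hLn
  let f := QuotientGroup.mk' L
  let Kb : Subgroup (G ⧸ L) := K.map f
  have hKbn : Kb.Normal := Subgroup.Normal.map hKn f (QuotientGroup.mk'_surjective L)
  have hcomap : Kb.comap f = K := by
    rw [Subgroup.comap_map_eq, QuotientGroup.ker_mk', sup_eq_left.mpr hLK]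
  have hKbne : Kb ≠ ⊥ := by
    intro h
    have : K ≤ L := by
      have h1 : K ≤ f.ker := by
        rw [← Subgroup.map_eq_bot_iff]
        exact h
      rwa [QuotientGroup.ker_mk'] at h1
    exact hLne (le_antisymm hLK this)
  have hmin : IsMinNormal Kb := by
    refine ⟨hKbn, hKbne, fun T hTn hTK => ?_⟩
    by_cases hT : T.comap f = K
    · right
      apply le_antisymm hTK
      have h0 : K ≤ T.comap f := hT.ge
      exact Subgroup.map_le_iff_le_comap.mpr h0
    · left
      have hLT : L ≤ T.comap f := by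
        intro x hx
        rw [Subgroup.mem_comap]
        have : f x = 1 := (QuotientGroup.eq_one_iff x).mpr hx
        rw [this]
        exact T.one_mem
      have hTKle : T.comap f ≤ K := by
        rw [← hcomap]
        exact Subgroup.comap_mono hTK
      have h3 : T.comap f ≤ L := hmax ⟨hTn.comap f, hTKle, hT⟩ hLT
      rw [Subgroup.eq_bot_iff_forall]
      intro x hx
      obtain ⟨y, rfl⟩ := QuotientGroup.mk'_surjective L x
      exact (QuotientGroup.eq_one_iff y).mpr (h3 hx)
  have hKbs : Group.IsSolvable Kb := by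
    let g : K →* Kb := f.subgroupMap K
    exact Group.isSolvable_of_surjective (f := g) (f.subgroupMap_surjective K)
  obtain ⟨_, p, hp, hpe⟩ := minNormal_elementary_of_solvable hmin hKbs
  have hcardKb : Nat.card Kb = Nat.card K / Nat.card L := by
    have h1 : L.relIndex K = Nat.card Kb := by
      have := Subgroup.relIndex_ker (K := K) f
      rwa [QuotientGroup.ker_mk'] at this
    have h2 := Subgroup.card_mul_index (L.subgroupOf K)
    have h3 : Nat.card (L.subgroupOf K) = Nat.card L :=
      Nat.card_congr (Subgroup.subgroupOfEquivOfLe hLK).toEquiv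
    rw [h3] at h2
    rw [← h1]
    exact (Nat.div_eq_of_eq_mul_right Nat.card_pos h2.symm).symm
  have hmul : Nat.card K = Nat.card L * (Nat.card K / Nat.card L) := by
    rw [Nat.mul_div_cancel' (Subgroup.card_dvd_of_le hLK)]
  have hpgroup : ∀ a : ℕ, a.Prime → a ∣ Nat.card Kb → a = p := by
    intro a ha had
    haveI : Fact a.Prime := ⟨ha⟩
    obtain ⟨x, hx⟩ := exists_prime_orderOf_dvd_card' a had
    have hx1 : orderOf (x : G ⧸ L) = a := by rw [← hx]; exact Subgroup.orderOf_coe x
    have hx2 : (x : G ⧸ L) ^ p = 1 := hpe _ x.2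
    have := orderOf_dvd_of_pow_eq_one hx2
    rw [hx1] at this
    exact (Nat.prime_dvd_prime_iff_eq ha hp).mp this
  have hKbnt : Nat.card Kb ≠ 1 := by
    have : Nontrivial Kb := (Subgroup.nontrivial_iff_ne_bot Kb).mpr hKbne
    exact Finite.one_lt_card_iff_nontrivial.mpr this |>.ne'
  obtain ⟨q, hq, hqd⟩ := Nat.exists_prime_and_dvd hKbnt
  have hqp := hpgroup q hq hqd
  rw [hqp] at hqd
  refine ⟨L, p, hp, hLn, hLK, hLne, hmul, ?_, ?_⟩
  · rw [← hcardKb]; exact hqd
  · rw [← hcardKb]; exact hpgroup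

theorem key_three {G : Type*} [Group G] [Finite G] (ρ : Finset ℕ) (hpr : ∀ r ∈ ρ, r.Prime)
    (hno : ∀ r ∈ ρ, ∀ s ∈ ρ, r ≠ s → ¬ ∃ x : G, orderOf x = r * s) (n : ℕ) :
    ∀ (K : Subgroup G) [K.Normal], Group.IsSolvable K → Nat.card K = n → ∀ r ∈ ρ, ∀ s ∈ ρ, ∀ t ∈ ρ,
      r ≠ s → r ≠ t → s ≠ t → r ∣ Nat.card K → s ∣ Nat.card K → t ∣ Nat.card G → False := by
  induction n using Nat.strong_induction_on with
  | _ n IH =>
  intro K _ hKs hKn r hr s hs t ht hrs hrt hst hrK hsK htG
  have hne : K ≠ ⊥ := by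
    intro h
    rw [h, Subgroup.card_bot] at hrK
    exact (hpr r hr).one_lt.ne' (Nat.dvd_one.mp hrK)
  obtain ⟨L, l, hl, hLn, hLK, hLne, hmul, hld, hlp⟩ := exists_prime_quotient K hKs hne
  haveI := hLn
  have hLs : Group.IsSolvable L := by
    exact Group.isSolvable_of_isSolvable_injective (f := Subgroup.inclusion hLK) (Subgroup.inclusion_injective hLK)
  have hLlt : Nat.card L < n := by
    rw [← hKn]
    refine lt_of_le_of_ne (Nat.le_of_dvd Nat.card_pos (Subgroup.card_dvd_of_le hLK)) ?_
    intro h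
    exact hLne (Subgroup.eq_of_le_of_card_ge hLK h.ge)
  have IH' := IH _ hLlt L hLs rfl
  have hsplit : ∀ a : ℕ, a.Prime → a ∣ Nat.card K → a ∣ Nat.card L ∨ a = l := by
    intro a ha hd
    rw [hmul] at hd
    rcases (Nat.Prime.dvd_mul ha).mp hd with h | h
    · exact Or.inl h
    · exact Or.inr (hlp a ha h)
  have hfinal : ∀ x ∈ ρ, ∀ y ∈ ρ, ∀ z ∈ ρ, x ≠ y → x ≠ z → y ≠ z → x ∣ Nat.card L → y ∣ Nat.card K / Nat.card L →
      z ∣ Nat.card G / Nat.card K → False := by
    intro x hx y hy z hz hxy hxz hyz hxL hyK hzG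
    rcases Cfsg.Agent.S3634.result L K hLK x y z (hpr x hx) (hpr y hy) (hpr z hz) hxy hxz hyz hxL hyK hzG with h | h | h
    · exact hno x hx y hy hxy h
    · exact hno x hx z hz hxz h
    · exact hno y hy z hz hyz h
  -- the case analysis
  rcases hsplit r (hpr r hr) hrK with hrL | hrl
  · rcases hsplit s (hpr s hs) hsK with hsL | hsl
    · exact IH' r hr s hs t ht hrs hrt hst hrL hsL htG
    · -- s = l, r | L
      subst hsl
      by_cases htK : t ∣ Nat.card K
      · rcases hsplit t (hpr t ht) htK with htL | htl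
        · exact IH' r hr t ht s hs hrt hrs hst.symm hrL htL (hsK.trans (Subgroup.card_subgroup_dvd_card K))
        · exact absurd htl.symm hst
      · have h1 : t ∣ Nat.card G / Nat.card K := by
          have h2 : Nat.card G = Nat.card K * (Nat.card G / Nat.card K) := by
            rw [Nat.mul_div_cancel' (Subgroup.card_subgroup_dvd_card K)]
          rw [h2] at htG
          exact ((Nat.Prime.dvd_mul (hpr t ht)).mp htG).resolve_left htK
        exact hfinal r hr s hs t ht hrs hrt hst hrL hld h1
  · subst hrl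
    rcases hsplit s (hpr s hs) hsK with hsL | hsl
    · by_cases htK : t ∣ Nat.card K
      · rcases hsplit t (hpr t ht) htK with htL | htl
        · exact IH' s hs t ht r hr hst hrs.symm hrt.symm hsL htL (hrK.trans (Subgroup.card_subgroup_dvd_card K))
        · exact absurd htl.symm hrt
      · have h1 : t ∣ Nat.card G / Nat.card K := by
          have h2 : Nat.card G = Nat.card K * (Nat.card G / Nat.card K) := by
            rw [Nat.mul_div_cancel' (Subgroup.card_subgroup_dvd_card K)]
          rw [h2] at htG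
          exact ((Nat.Prime.dvd_mul (hpr t ht)).mp htG).resolve_left htK
        exact hfinal s hs r hr t ht hrs.symm hst hrt hsL hld h1
    · exact absurd hsl.symm hrs


/-- Let G be a finite group and ρ a set of at least three prime divisors of the order of G that are pairwise non-adjacent in the prime graph (no element of order rs for distinct r, s ∈ ρ). Then at most one prime of ρ divides the order of any given solvable normal subgroup of G; in particular G is not solvable. -/
theorem result {G : Type*} [Group G] [Finite G] (ρ : Finset ℕ) (hρ : 3 ≤ ρ.card) (hc : ((∀ r ∈ ρ, r.Prime ∧ r ∣ Nat.card G) ∧ (∀ r ∈ ρ, ∀ s ∈ ρ, r ≠ s → ¬ ∃ x : G, orderOf x = r * s)))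
    (K : Subgroup G) [K.Normal] (hK : Group.IsSolvable ↥K) :
    (∀ r ∈ ρ, ∀ s ∈ ρ, r ∣ Nat.card ↥K → s ∣ Nat.card ↥K → r = s) ∧ ¬ Group.IsSolvable G := by
  classical
  obtain ⟨hprdiv, hno⟩ := hc
  have hpr : ∀ r ∈ ρ, r.Prime := fun r hr => (hprdiv r hr).1
  have hfirst : ∀ (K : Subgroup G) [K.Normal], Group.IsSolvable K →
      ∀ r ∈ ρ, ∀ s ∈ ρ, r ∣ Nat.card K → s ∣ Nat.card K → r = s := by
    intro K _ hKs r hr s hs hrK hsK
    by_contra hrs
    have hcard : 0 < ((ρ.erase r).erase s).card := by
      have h1 := Finset.card_erase_of_mem hr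
      have h2 : s ∈ ρ.erase r := Finset.mem_erase.mpr ⟨Ne.symm hrs, hs⟩
      have h3 := Finset.card_erase_of_mem h2
      omega
    obtain ⟨t, ht⟩ := Finset.card_pos.mp hcard
    have ht1 := Finset.mem_erase.mp ht
    have ht2 := Finset.mem_erase.mp ht1.2
    exact key_three ρ hpr hno _ K hKs rfl r hr s hs t ht2.2 hrs (Ne.symm ht2.1) (Ne.symm ht1.1) hrK hsK (hprdiv t ht2.2).2
  refine ⟨hfirst K hK, ?_⟩
  intro hG
  have hT : Group.IsSolvable (⊤ : Subgroup G) := by
    exact Group.isSolvable_of_isSolvable_injective (f := (⊤ : Subgroup G).subtype) (Subgroup.subtype_injective _)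
  obtain ⟨a, ha, b, hb, c, hc', hab, hac, hbc⟩ := Finset.two_lt_card.mp (by omega : 2 < ρ.card)
  have := hfirst ⊤ hT a ha b hb (by rw [Subgroup.card_top]; exact (hprdiv a ha).2) (by rw [Subgroup.card_top]; exact (hprdiv b hb).2)
  exact hab this

end Cfsg.Agent.S3633
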