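import Cfsg.Statements.S3669
import Cfsg.Agent.S3378
import Cfsg.Agent.Lib.Char.Ito
import Cfsg.Agent.Lib.Char.PermChar
import Cfsg.Agent.Lib.Char.CliffordBij
import Cfsg.Agent.Lib.Basic.MinNormal

set_option autoImplicit false
open Cfsg

namespace Cfsg.Agent.S3669

open Cfsg.Agent.Lib.Char MulAction

universe u

/-- Solvable groups of order dividing 60 and divisible by 5 have a normal subgroup of order 5. -/
theorem sylow5_normal : ∀ (n : ℕ) (H : Type u) [Group H] [Finite H] [Group.IsSolvable H],
    Nat.card H = n → n ∣ 60 → 5 ∣ n → ∃ P : Subgroup H, P.Normal ∧ Nat.card P = 5 := by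
  intro n
  induction n using Nat.strong_induction_on with
  | _ n ih =>
  intro H _ _ _ hc h60 h5
  haveI : Fact (Nat.Prime 5) := ⟨by norm_num⟩
  have hnpos : 0 < n := Nat.pos_of_dvd_of_pos h60 (by norm_num)
  have hn5 : 5 ≤ n := Nat.le_of_dvd hnpos h5
  haveI hnt : Nontrivial H := by
    apply Finite.one_lt_card_iff_nontrivial.mp
    omega
  obtain ⟨p, N, hp, hNn, hNne, hNc, hNp⟩ := Lib.Basic.exists_normal_abelian_pSubgroup (G := H)
  haveI := hNn
  haveI := Fact.mk hp
  have hNd : Nat.card N ∣ 60 := (Subgroup.card_subgroup_dvd_card N).trans (hc ▸ h60)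
  obtain ⟨k, hk⟩ := IsPGroup.iff_card.mp hNp
  have hk0 : k ≠ 0 := by
    rintro rfl
    rw [pow_zero] at hk
    exact hNne ((Subgroup.card_eq_one).mp hk)
  have hpd : p ∣ 60 := (dvd_pow_self p hk0).trans (hk ▸ hNd)
  have hp235 : p = 2 ∨ p = 3 ∨ p = 5 := by
    have h1 : p ∣ 2 ^ 2 * (3 * 5) := by simpa using hpd
    rcases hp.dvd_mul.mp h1 with h2 | h2
    · left
      exact (Nat.prime_dvd_prime_iff_eq hp Nat.prime_two).mp (hp.dvd_of_dvd_pow h2)
    · rcases hp.dvd_mul.mp h2 with h3 | h3
      · right; left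
        exact (Nat.prime_dvd_prime_iff_eq hp Nat.prime_three).mp h3
      · right; right
        exact (Nat.prime_dvd_prime_iff_eq hp (by norm_num)).mp h3
  have hkd : p ^ k ∣ 60 := hk ▸ hNd
  by_cases hp5 : p = 5
  · subst hp5
    refine ⟨N, hNn, ?_⟩
    rw [hk]
    have hk1 : k = 1 := by
      by_contra hne
      have hk2 : 2 ≤ k := by omega
      have : (5 : ℕ) ^ 2 ∣ 60 := (pow_dvd_pow 5 hk2).trans hkd
      norm_num at this
    rw [hk1, pow_one]
  -- the case `p ≠ 5`: `N` has order 2, 3 or 4
  have hNle : Nat.card N = 2 ∨ Nat.card N = 3 ∨ Nat.card N = 4 := by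
    rw [hk]
    rcases hp235 with rfl | rfl | rfl
    · have hk2 : k ≤ 2 := by
        by_contra hne
        have h3 : 3 ≤ k := by omega
        have : (2 : ℕ) ^ 3 ∣ 60 := (pow_dvd_pow 2 h3).trans hkd
        norm_num at this
      interval_cases k
      · exact absurd rfl hk0
      · left; norm_num
      · right; right; norm_num
    · have hk2 : k ≤ 1 := by
        by_contra hne
        have h3 : 2 ≤ k := by omega
        have : (3 : ℕ) ^ 2 ∣ 60 := (pow_dvd_pow 3 h3).trans hkd
        norm_num at this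
      interval_cases k
      · exact absurd rfl hk0
      · right; left; norm_num
    · exact absurd rfl hp5
  have h5N : ¬ 5 ∣ Nat.card N := by
    rcases hNle with h | h | h <;> rw [h] <;> norm_num
  have hcop5 : Nat.Coprime 5 (Nat.card N) := (Nat.Prime.coprime_iff_not_dvd (by norm_num)).mpr h5N
  have hfac : ¬ 5 ∣ (Nat.card N).factorial := by
    rcases hNle with h | h | h <;> rw [h] <;> decide
  have hcardq : Nat.card H = Nat.card (H ⧸ N) * Nat.card N :=
    Subgroup.card_eq_card_quotient_mul_card_subgroup N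
  have hN2 : 2 ≤ Nat.card N := by
    rcases hNle with h | h | h <;> omega
  have hq5 : 5 ∣ Nat.card (H ⧸ N) := by
    rw [hc] at hcardq
    rw [hcardq] at h5
    exact ((Nat.Prime.dvd_mul (by norm_num)).mp h5).resolve_right h5N
  have hqlt : Nat.card (H ⧸ N) < n := by
    have hqpos : 0 < Nat.card (H ⧸ N) := Nat.card_pos
    rw [hc] at hcardq
    rw [hcardq]
    nlinarith
  have hq60 : Nat.card (H ⧸ N) ∣ 60 := by
    refine Dvd.dvd.trans ?_ h60
    rw [← hc, hcardq]
    exact Dvd.intro _ rfl
  obtain ⟨Pb, hPbn, hPbc⟩ := ih _ hqlt (H ⧸ N) rfl hq60 hq5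
  -- a lift of order 5
  have h5Pb : 5 ∣ Nat.card Pb := by rw [hPbc]
  obtain ⟨zb, hzb⟩ := exists_prime_orderOf_dvd_card' (G := Pb) 5 h5Pb
  obtain ⟨z, hz⟩ := QuotientGroup.mk'_surjective N (zb : H ⧸ N)
  have hzord : 5 ∣ orderOf z := by
    have h1 : orderOf (QuotientGroup.mk' N z) ∣ orderOf z := orderOf_map_dvd _ _
    rw [hz, Subgroup.orderOf_coe, hzb] at h1
    exact h1
  set m := orderOf z / 5 with hm
  set x := z ^ m with hx
  have hxord : orderOf x = 5 := orderOf_pow_orderOf_div (orderOf_pos z).ne' hzord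
  have hxPb : QuotientGroup.mk' N x ∈ Pb := by
    rw [hx, map_pow, hz]
    exact Pb.pow_mem zb.2 m
  have hno5 : ∀ y ∈ N, y ^ 5 = 1 → y = 1 := by
    intro y hy hy5
    have h1 : orderOf (⟨y, hy⟩ : N) ∣ Nat.card N := orderOf_dvd_natCard _
    have h2 : orderOf (⟨y, hy⟩ : N) ∣ 5 := orderOf_dvd_of_pow_eq_one (Subtype.ext hy5)
    have h3 : orderOf (⟨y, hy⟩ : N) ∣ Nat.gcd 5 (Nat.card N) := Nat.dvd_gcd h2 h1
    rw [hcop5, Nat.dvd_one, orderOf_eq_one_iff] at h3
    exact congrArg Subtype.val h3
  have hxN : x ∉ N := by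
    intro h
    have := hno5 x h (by rw [← hxord]; exact pow_orderOf_eq_one x)
    rw [this, orderOf_one] at hxord
    omega
  have hxb1 : QuotientGroup.mk' N x ≠ 1 := by
    intro h
    exact hxN ((QuotientGroup.eq_one_iff x).mp h)
  -- `x` centralizes `N`
  have hcomm : ∀ y ∈ N, x * y = y * x := by
    have hφ : MulAut.conjNormal x = (1 : MulAut N) := by
      have h1 : orderOf (MulAut.conjNormal x : MulAut N) ∣ 5 := by
        apply orderOf_dvd_of_pow_eq_one
        rw [← map_pow, ← hxord, pow_orderOf_eq_one, map_one]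
      have h2 : orderOf (MulAut.conjNormal x : MulAut N) ∣ (Nat.card N).factorial := by
        have h3 : Nat.card (MulAut N) ∣ Nat.card (Equiv.Perm N) :=
          Subgroup.card_dvd_of_injective (MulAut.toPerm N) (by
            intro a b hab
            ext y
            exact congrArg (fun f : Equiv.Perm N => ((f y : N) : H)) hab)
        rw [Nat.card_perm] at h3
        exact (orderOf_dvd_natCard _).trans h3
      have h3 : orderOf (MulAut.conjNormal x : MulAut N) = 1 := by
        rcases (Nat.dvd_prime (by norm_num)).mp h1 with h | h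
        · exact h
        · rw [h] at h2
          exact absurd h2 hfac
      exact orderOf_eq_one_iff.mp h3
    intro y hy
    have h1 := congrArg (fun f : MulAut N => ((f ⟨y, hy⟩ : N) : H)) hφ
    simp only [MulAut.conjNormal_apply, MulAut.one_apply] at h1
    exact mul_inv_eq_iff_eq_mul.mp h1
  refine ⟨Subgroup.zpowers x, ?_, by rw [Nat.card_zpowers, hxord]⟩
  -- normality
  have hkey : ∀ g : H, g * x * g⁻¹ ∈ Subgroup.zpowers x := by
    intro g
    have hw : QuotientGroup.mk' N (g * x * g⁻¹) ∈ Pb := by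
      rw [map_mul, map_mul, map_inv]
      exact hPbn.conj_mem _ hxPb _
    have hne : (⟨QuotientGroup.mk' N x, hxPb⟩ : Pb) ≠ 1 := by
      intro h
      exact hxb1 (congrArg Subtype.val h)
    have hmem : (⟨QuotientGroup.mk' N (g * x * g⁻¹), hw⟩ : Pb) ∈
        Subgroup.zpowers (⟨QuotientGroup.mk' N x, hxPb⟩ : Pb) :=
      mem_zpowers_of_prime_card (p := 5) hPbc hne
    obtain ⟨j, hj⟩ := Subgroup.mem_zpowers_iff.mp hmem
    have hj' : (QuotientGroup.mk' N x) ^ j = QuotientGroup.mk' N (g * x * g⁻¹) :=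
      congrArg Subtype.val hj
    have hn : (x ^ j)⁻¹ * (g * x * g⁻¹) ∈ N := by
      rw [← QuotientGroup.eq_one_iff]
      have : (((x ^ j)⁻¹ * (g * x * g⁻¹) : H) : H ⧸ N) =
          QuotientGroup.mk' N ((x ^ j)⁻¹ * (g * x * g⁻¹)) := rfl
      rw [this, map_mul, map_inv, map_zpow, hj', inv_mul_cancel]
    have hx5 : x ^ 5 = 1 := by rw [← hxord]; exact pow_orderOf_eq_one x
    have hw5 : (g * x * g⁻¹) ^ 5 = 1 := by rw [conj_pow, hx5, mul_one, mul_inv_cancel]
    set n' := (x ^ j)⁻¹ * (g * x * g⁻¹) with hn'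
    have hwn : g * x * g⁻¹ = x ^ j * n' := by rw [hn']; group
    have hcom : Commute (x ^ j) n' := Commute.zpow_left (hcomm n' hn) j
    have h5n : n' ^ 5 = 1 := by
      rw [hwn, hcom.mul_pow, ← zpow_natCast, ← zpow_mul, mul_comm, zpow_mul, zpow_natCast, hx5,
        one_zpow, one_mul] at hw5
      exact hw5
    rw [hwn, hno5 n' hn h5n, mul_one]
    exact Subgroup.zpow_mem_zpowers x j
  constructor
  intro a ha g
  obtain ⟨i, rfl⟩ := Subgroup.mem_zpowers_iff.mp ha
  rw [← conj_zpow]
  exact Subgroup.zpow_mem _ (hkey g) i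

/-- A transitive action of rank two gives an irreducible character of degree `|X| - 1`. -/
theorem exists_irr_of_rank_two {G : Type*} [Group G] [Fintype G] {X : Type*} [MulAction G X]
    [Finite X] [htr : IsPretransitive G X] (h : Nat.card (orbitRel.Quotient G (X × X)) = 2) :
    ∃ χ : G → ℂ, Cfsg.IsIrrCharacter G χ ∧ charDegree χ + 1 = Nat.card X := by
  classical
  have hπ := isCharacter_permChar (G := G) (X := X)
  set π : G → ℂ := fun g : G => (Nat.card (fixedBy X g) : ℂ) with hπdef
  obtain ⟨⟨q⟩, -⟩ := Nat.card_pos_iff.mp (by omega : 0 < Nat.card (orbitRel.Quotient G (X × X)))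
  obtain ⟨⟨a, b⟩, -⟩ := Quotient.exists_rep q
  have h1 : classInner π (fun _ => 1) = 1 := by
    rw [hπdef, classInner_permChar_one]
    have hs : Subsingleton (orbitRel.Quotient G X) :=
      (pretransitive_iff_subsingleton_quotient G X).mp htr
    haveI : Nonempty (orbitRel.Quotient G X) := ⟨Quotient.mk'' a⟩
    have : Nat.card (orbitRel.Quotient G X) = 1 := Nat.card_unique
    rw [this]
    norm_num
  have h2 : classInner π π = 2 := by
    rw [hπdef, classInner_permChar_self, h]
    norm_num
  obtain ⟨Δ, hΔ, hsum⟩ := exists_complement hπ (isIrrCharacter_one (G := G)) (a := 1)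
    (by rw [h1]; norm_num)
  have hsum' : π = (fun _ => 1) + Δ := by
    rw [hsum, one_smul]
  have hΔ' : Δ = π - (fun _ => 1) := by
    rw [hsum']
    abel
  have h3 : classInner (fun _ : G => (1 : ℂ)) π = 1 := by
    rw [classInner_conj_symm, h1, map_one]
  have h4 : classInner (fun _ : G => (1 : ℂ)) (fun _ : G => (1 : ℂ)) = 1 :=
    classInner_irr_self isIrrCharacter_one
  have hnorm : classInner Δ Δ = 1 := by
    rw [hΔ', classInner_sub_left, classInner_sub_right, classInner_sub_right, h1, h2, h3, h4]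
    norm_num
  refine ⟨Δ, isIrrCharacter_of_classInner_self hΔ hnorm, ?_⟩
  have h5 : π 1 = 1 + Δ 1 := by
    rw [hsum']
    rfl
  have h6 : π 1 = (Nat.card X : ℂ) := by
    simp only [hπdef]
    rw [fixedBy_one_eq_univ]
    congr 1
    exact Nat.card_congr (Equiv.Set.univ X)
  have h7 : Δ 1 = (charDegree Δ : ℂ) := apply_one_eq_charDegree hΔ
  rw [h6, h7] at h5
  have h8 : (Nat.card X : ℂ) = ((charDegree Δ + 1 : ℕ) : ℂ) := by
    rw [h5]
    push_cast
    ring
  exact (Nat.cast_injective h8).symm

/-- With `p + 1` Sylow subgroups of order `p` the action on Sylows has rank two. -/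
theorem rank_two_sylow {G : Type*} [Group G] [Finite G] {p : ℕ} [hp : Fact p.Prime]
    (hcard : Nat.card (Sylow p G) = p + 1) (hord : ∀ P : Sylow p G, Nat.card P = p) :
    Nat.card (orbitRel.Quotient G (Sylow p G × Sylow p G)) = 2 := by
  classical
  obtain ⟨P₀⟩ : Nonempty (Sylow p G) := inferInstance
  have hp2 := hp.out.two_le
  have hcX : 1 < Nat.card (Sylow p G) := by omega
  haveI : Nontrivial (Sylow p G) := Finite.one_lt_card_iff_nontrivial.mp hcX
  obtain ⟨Q₀, hQ₀⟩ := exists_ne P₀
  -- `P₀` is transitive on the rest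
  have htr : ∀ Q Q' : Sylow p G, Q ≠ P₀ → Q' ≠ P₀ → ∃ u ∈ (P₀ : Subgroup G), u • Q = Q' := by
    intro Q Q' hQ hQ'
    have hfix : ∀ u ∈ (P₀ : Subgroup G), u • P₀ = P₀ := fun u hu =>
      Sylow.smul_eq_iff_mem_normalizer.mpr (Subgroup.le_normalizer hu)
    set S : Set (Sylow p G) := orbit (P₀ : Subgroup G) Q with hS
    have hidx : (stabilizer (P₀ : Subgroup G) Q).index = S.ncard := index_stabilizer _ Q
    have hd : (stabilizer (P₀ : Subgroup G) Q).index ∣ p := by
      have h1 := Subgroup.index_dvd_card (stabilizer (P₀ : Subgroup G) Q)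
      rwa [hord P₀] at h1
    have hne1 : (stabilizer (P₀ : Subgroup G) Q).index ≠ 1 := by
      intro h1
      rw [Subgroup.index_eq_one] at h1
      have h2 : (P₀ : Subgroup G) ≤ Subgroup.normalizer (Q : Set G) := by
        intro u hu
        have h3 : (⟨u, hu⟩ : (P₀ : Subgroup G)) ∈ stabilizer (P₀ : Subgroup G) Q := by
          rw [h1]; trivial
        exact Sylow.smul_eq_iff_mem_normalizer.mp h3
      have h3 := IsPGroup.inf_normalizer_sylow P₀.isPGroup' Q
      rw [inf_eq_left.mpr h2] at h3
      have h4 : (P₀ : Subgroup G) ≤ Q := inf_eq_left.mp h3.symm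
      have h5 : (P₀ : Subgroup G) = Q :=
        Subgroup.eq_of_le_of_card_ge h4 (by rw [hord Q, hord P₀])
      exact hQ (Sylow.ext h5.symm)
    have hScard : S.ncard = p := by
      rw [← hidx]
      exact ((Nat.dvd_prime hp.out).mp hd).resolve_left hne1
    have hST : S ⊆ {R | R ≠ P₀} := by
      rintro _ ⟨u, rfl⟩ h
      have h1 : (u : G) • Q = P₀ := h
      apply hQ
      have h2 := hfix u u.2
      exact MulAction.injective _ (h1.trans h2.symm)
    have hTcard : ({R | R ≠ P₀} : Set (Sylow p G)).ncard = p := by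
      have h1 : ({R | R ≠ P₀} : Set (Sylow p G)) = {P₀}ᶜ := by
        ext R
        simp
      rw [h1, Set.ncard_compl, Set.ncard_singleton, hcard]
      omega
    have hST' : S = {R | R ≠ P₀} :=
      Set.eq_of_subset_of_ncard_le hST (by rw [hScard, hTcard])
    have hmem : Q' ∈ S := by rw [hST']; exact hQ'
    obtain ⟨u, hu⟩ := hmem
    exact ⟨u, u.2, hu⟩
  have hrel : ∀ x y : Sylow p G × Sylow p G, (∃ g : G, g • x = y) →
      (Quotient.mk'' x : orbitRel.Quotient G (Sylow p G × Sylow p G)) = Quotient.mk'' y := by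
    rintro x y ⟨g, hg⟩
    exact Quotient.sound' (orbitRel_apply.mpr ⟨g⁻¹, by rw [← hg]; exact inv_smul_smul g x⟩)
  rw [Nat.card_eq_two_iff]
  refine ⟨Quotient.mk'' (P₀, P₀), Quotient.mk'' (P₀, Q₀), ?_, ?_⟩
  · intro heq
    rw [Quotient.eq'', orbitRel_apply] at heq
    obtain ⟨g, hg⟩ := heq
    have h1 : g • P₀ = P₀ := congrArg Prod.fst hg
    have h2 : g • Q₀ = P₀ := congrArg Prod.snd hg
    rw [← h1] at h2
    exact hQ₀ (MulAction.injective g h2)
  · ext q
    simp only [Set.mem_insert_iff, Set.mem_singleton_iff, Set.mem_univ, iff_true]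
    obtain ⟨⟨a, b⟩, rfl⟩ := Quotient.mk''_surjective q
    obtain ⟨g, hg⟩ := exists_smul_eq G a P₀
    by_cases hab : a = b
    · left
      subst hab
      exact hrel _ _ ⟨g, by rw [Prod.smul_mk, hg]⟩
    · right
      have hb : g • b ≠ P₀ := by
        intro h
        rw [← hg] at h
        exact hab (MulAction.injective g h).symm
      obtain ⟨u, hu, huQ⟩ := htr (g • b) Q₀ hb hQ₀
      have hfix : u • P₀ = P₀ := Sylow.smul_eq_iff_mem_normalizer.mpr (Subgroup.le_normalizer hu)
      exact hrel _ _ ⟨u * g, by rw [Prod.smul_mk, mul_smul, mul_smul, hg, hfix, huQ]⟩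

/-- `A₅` has an irreducible character of degree 5. -/
theorem exists_irr_degree_five : ∃ χ : alternatingGroup (Fin 5) → ℂ,
    Cfsg.IsIrrCharacter (alternatingGroup (Fin 5)) χ ∧ charDegree χ = 5 := by
  classical
  haveI hp5 : Fact (Nat.Prime 5) := ⟨by norm_num⟩
  have hcA : Nat.card (alternatingGroup (Fin 5)) = 60 := by
    rw [Nat.card_eq_fintype_card]
    decide +kernel
  have hsimple : IsSimpleGroup (alternatingGroup (Fin 5)) :=
    alternatingGroup.isSimpleGroup (by simp)
  have hfact : (60 : ℕ).factorization 5 = 1 := by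
    rw [show (60 : ℕ) = 5 * 12 by norm_num, Nat.factorization_mul (by norm_num) (by norm_num),
      Finsupp.add_apply, hp5.out.factorization_self,
      Nat.factorization_eq_zero_of_not_dvd (by norm_num)]
  have hord : ∀ P : Sylow 5 (alternatingGroup (Fin 5)), Nat.card P = 5 := by
    intro P
    rw [Sylow.card_eq_multiplicity, hcA, hfact, pow_one]
  obtain ⟨P⟩ : Nonempty (Sylow 5 (alternatingGroup (Fin 5))) := inferInstance
  have hidx : (P : Subgroup (alternatingGroup (Fin 5))).index = 12 := by
    have := Subgroup.card_mul_index (P : Subgroup (alternatingGroup (Fin 5)))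
    rw [hord P, hcA] at this
    omega
  have hd := Sylow.card_dvd_index P
  rw [hidx] at hd
  have hmod := card_sylow_modEq_one 5 (alternatingGroup (Fin 5))
  have hle : Nat.card (Sylow 5 (alternatingGroup (Fin 5))) ≤ 12 := Nat.le_of_dvd (by norm_num) hd
  have hsix : Nat.card (Sylow 5 (alternatingGroup (Fin 5))) = 6 := by
    generalize hk : Nat.card (Sylow 5 (alternatingGroup (Fin 5))) = k at hd hmod hle
    interval_cases k
    · simp [Nat.ModEq] at hmod
    · exfalso
      haveI : Subsingleton (Sylow 5 (alternatingGroup (Fin 5))) :=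
        (Nat.card_eq_one_iff_unique.mp hk).1
      have hn : (P : Subgroup (alternatingGroup (Fin 5))).Normal := Sylow.normal_of_subsingleton P
      rcases hsimple.eq_bot_or_eq_top_of_normal _ hn with h | h
      · have := hord P
        rw [h, Subgroup.card_bot] at this
        omega
      · have := hord P
        rw [h, Subgroup.card_top, hcA] at this
        omega
    all_goals first
      | rfl
      | (exfalso; revert hmod; decide)
      | (exfalso; revert hd; decide)
  obtain ⟨χ, hχ, hdeg⟩ := exists_irr_of_rank_two (G := alternatingGroup (Fin 5))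
    (X := Sylow 5 (alternatingGroup (Fin 5))) (rank_two_sylow hsix hord)
  refine ⟨χ, hχ, ?_⟩
  rw [hsix] at hdeg
  omega



/-- The character degree graph of a finite group has as vertices the primes dividing some irreducible complex character degree, two distinct primes being joined when their product divides some irreducible character degree; two groups have the same character degree graph when they have the same vertices and the same joined pairs. A finite group of order 60 with the same character degree graph as the alternating group A₅ (whose character degrees are 1, 3, 4, 5, so the graph has vertices 2, 3, 5 and no edges) is isomorphic to A₅. -/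
theorem result {G : Type*} [Group G] [Finite G] (hcard : Nat.card G = 60)
    (hΓ : Cfsg.degreePrimes G = Cfsg.degreePrimes (alternatingGroup (Fin 5)) ∧ Cfsg.degreeGraph G = Cfsg.degreeGraph (alternatingGroup (Fin 5))) : Nonempty (G ≃* alternatingGroup (Fin 5)) := by
  classical
  haveI : Fintype G := Fintype.ofFinite G
  -- the prime 5 is a vertex
  have h5 : 5 ∈ Cfsg.degreePrimes G := by
    rw [hΓ.1]
    obtain ⟨χ, hχ, hdeg⟩ := exists_irr_degree_five
    exact ⟨by norm_num, 5, ⟨⟨χ, hχ⟩, hdeg⟩, dvd_rfl⟩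
  obtain ⟨-, d, ⟨χ, hχd⟩, h5d⟩ := h5
  have hns : ¬ Group.IsSolvable G := by
    intro hsolv
    obtain ⟨P, hPn, hPc⟩ := sylow5_normal _ G rfl (by rw [hcard]) (by rw [hcard]; norm_num)
    haveI : Fact (Nat.Prime 5) := ⟨by norm_num⟩
    have hpc : IsCyclic P := isCyclic_of_prime_card (p := 5) hPc
    have hab : ∀ a ∈ P, ∀ b ∈ P, a * b = b * a := by
      intro a ha b hb
      have h := (IsCyclic.commGroup (α := P)).mul_comm ⟨a, ha⟩ ⟨b, hb⟩
      exact congrArg Subtype.val h
    have hd := charDegree_dvd_index_of_abelian_normal χ.2 P hab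
    have hidx : P.index = 12 := by
      have := Subgroup.card_mul_index P
      rw [hPc, hcard] at this
      omega
    rw [hidx, hχd] at hd
    have : 5 ∣ 12 := h5d.trans hd
    norm_num at this
  exact Cfsg.Agent.S3378.order60_iso G hcard hns

end Cfsg.Agent.S3669
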