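import Cfsg.Statements.S3807
-- import your own Cfsg.Agent.* helpers here
import Mathlib
import Cfsg.Agent.Lib.Transfer.Frattini
import Cfsg.Agent.Lib.Coprime.Sylow

set_option autoImplicit false
open Cfsg

namespace Cfsg.Agent.S3807

open scoped commutatorElement
open Cfsg.Agent.Lib.Coprime Cfsg.Agent.Lib.Transfer

/-- Number of subgroups of order `p` in a group of order `p²` and exponent `p`. -/
theorem card_subgroups_aux {V : Type*} [Group V] [Finite V] {p : ℕ} [hp : Fact p.Prime]
    (hV : Nat.card V = p ^ 2) (hexp : ∀ v : V, v ^ p = 1) :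
    Nat.card {W : Subgroup V // Nat.card W = p} = p + 1 := by
  classical
  haveI : Fintype V := Fintype.ofFinite V
  haveI : Fintype (Subgroup V) := Fintype.ofFinite _
  have hpp := hp.out
  let s : Finset V := Finset.univ.filter (· ≠ 1)
  let t : Finset (Subgroup V) := Finset.univ.filter (fun W => Nat.card W = p)
  have hs : s.card = p ^ 2 - 1 := by
    show (Finset.univ.filter (· ≠ (1 : V))).card = _
    rw [Finset.filter_ne', Finset.card_erase_of_mem (Finset.mem_univ _), Finset.card_univ,
      ← Nat.card_eq_fintype_card, hV]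
  have hord : ∀ v : V, v ≠ 1 → orderOf v = p := fun v hv => orderOf_eq_prime (hexp v) hv
  have hcz : ∀ v : V, v ≠ 1 → Nat.card (Subgroup.zpowers v) = p := fun v hv => by
    rw [Nat.card_zpowers, hord v hv]
  have hmaps : ∀ v ∈ s, Subgroup.zpowers v ∈ t := by
    intro v hv
    simp only [t, Finset.mem_filter, Finset.mem_univ, true_and]
    exact hcz v (Finset.mem_filter.mp hv).2
  have hfiber : ∀ W ∈ t, (s.filter (fun v => Subgroup.zpowers v = W)).card = p - 1 := by
    intro W hW
    have hW' : Nat.card W = p := (Finset.mem_filter.mp hW).2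
    have e : s.filter (fun v => Subgroup.zpowers v = W) = (W : Set V).toFinset.erase 1 := by
      ext v
      simp only [s, Finset.mem_filter, Finset.mem_univ, true_and, Finset.mem_erase,
        Set.mem_toFinset, SetLike.mem_coe]
      constructor
      · rintro ⟨hv, rfl⟩
        exact ⟨hv, Subgroup.mem_zpowers v⟩
      · rintro ⟨hv, hvW⟩
        refine ⟨hv, ?_⟩
        apply Subgroup.eq_of_le_of_card_ge (Subgroup.zpowers_le.mpr hvW)
        rw [hW', hcz v hv]
    rw [e, Finset.card_erase_of_mem (by simp [W.one_mem]), Set.toFinset_card,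
      ← Nat.card_eq_fintype_card]
    show Nat.card W - 1 = _
    rw [hW']
  have hcount := Finset.card_eq_sum_card_fiberwise hmaps
  rw [Finset.sum_congr rfl hfiber, Finset.sum_const, smul_eq_mul, hs] at hcount
  have hcard : Nat.card {W : Subgroup V // Nat.card W = p} = t.card := by
    rw [Nat.card_eq_fintype_card, Fintype.card_subtype]
  rw [hcard]
  have h1 : 0 < p - 1 := by have := hpp.two_le; omega
  have h2 : p ^ 2 - 1 = (p + 1) * (p - 1) := by
    obtain ⟨q, rfl⟩ : ∃ q, p = q + 1 := ⟨p - 1, by have := hpp.pos; omega⟩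
    simp
    ring_nf
    omega
  rw [h2] at hcount
  exact (Nat.eq_of_mul_eq_mul_right h1 hcount).symm

/-- Let S be a non-abelian finite p-group with an abelian subgroup A of index p. Then [S : Z(S)] = p·#[S,S], and either [S,S] has order p, S/Z(S) is elementary abelian of order p², and S has exactly p + 1 abelian subgroups of index p; or [S,S] has order at least p² and A is the only abelian subgroup of index p in S. -/
theorem result {S : Type*} [Group S] [Finite S] (p : ℕ) [Fact p.Prime] (hS : IsPGroup p S) (hna : ¬ IsMulCommutative S)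
    (A : Subgroup S) (hA : IsMulCommutative ↥A) (hAi : A.index = p) :
    (Subgroup.center S).index = p * Nat.card (commutator S) ∧
      ((Nat.card (commutator S) = p ∧ Cfsg.IsElementaryAbelian p (⊤ : Subgroup (S ⧸ Subgroup.center S)) ∧
          Nat.card (S ⧸ Subgroup.center S) = p ^ 2 ∧
          Nat.card {B : Subgroup S // IsMulCommutative ↥B ∧ B.index = p} = p + 1) ∨
        (p ^ 2 ≤ Nat.card (commutator S) ∧ ∀ B : Subgroup S, IsMulCommutative ↥B → B.index = p → B = A)) := by
  classical
  have hp : p.Prime := Fact.out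
  have hna' : ¬ ∀ a b : S, a * b = b * a := fun h => hna ⟨⟨h⟩⟩
  have hcoatOf : ∀ B : Subgroup S, B.index = p → IsCoatom B := fun B hB =>
    isCoatom_of_index_prime (by rw [hB]; exact hp)
  have hnormOf : ∀ B : Subgroup S, B.index = p → B.Normal := fun B hB =>
    (normal_and_index_of_isCoatom hS (hcoatOf B hB)).1
  -- abelian subgroups of index `p` contain the centre
  have hZle : ∀ B : Subgroup S, IsMulCommutative B → B.index = p → Subgroup.center S ≤ B := by
    intro B hB hBi
    by_contra hcon
    have hsup : B ⊔ Subgroup.center S = ⊤ := (hcoatOf B hBi).2 _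
      (lt_of_le_of_ne le_sup_left (fun e => hcon (e ▸ le_sup_right)))
    apply hna'
    intro a b
    have ha : a ∈ B ⊔ Subgroup.center S := hsup ▸ Subgroup.mem_top a
    have hb : b ∈ B ⊔ Subgroup.center S := hsup ▸ Subgroup.mem_top b
    obtain ⟨a₁, ha₁, z₁, hz₁, rfl⟩ := Subgroup.mem_sup_of_normal_right.mp ha
    obtain ⟨b₁, hb₁, z₂, hz₂, rfl⟩ := Subgroup.mem_sup_of_normal_right.mp hb
    have hab : a₁ * b₁ = b₁ * a₁ := congrArg Subtype.val (hB.is_comm.comm ⟨a₁, ha₁⟩ ⟨b₁, hb₁⟩)
    have h1 := Subgroup.mem_center_iff.mp hz₁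
    have h2 := Subgroup.mem_center_iff.mp hz₂
    calc a₁ * z₁ * (b₁ * z₂) = a₁ * (z₁ * b₁) * z₂ := by group
      _ = a₁ * (b₁ * z₁) * z₂ := by rw [h1 b₁]
      _ = (a₁ * b₁) * (z₁ * z₂) := by group
      _ = (b₁ * a₁) * (z₂ * z₁) := by rw [hab, h2 z₁]
      _ = b₁ * (a₁ * z₂) * z₁ := by group
      _ = b₁ * (z₂ * a₁) * z₁ := by rw [h2 a₁]
      _ = b₁ * z₂ * (a₁ * z₁) := by group
  have hAcoat := hcoatOf A hAi
  haveI hAn : A.Normal := hnormOf A hAi
  have hZA := hZle A hA hAi
  have hcommA : ∀ a ∈ A, ∀ b ∈ A, a * b = b * a := fun a ha b hb => by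
    have hc := hA.is_comm.comm ⟨a, ha⟩ ⟨b, hb⟩
    exact congrArg Subtype.val hc
  -- pick `x ∉ A`
  obtain ⟨x, hx⟩ : ∃ x, x ∉ A := by
    by_contra hcon
    push Not at hcon
    exact hAcoat.1 (eq_top_iff.mpr fun y _ => hcon y)
  have hclos : Subgroup.closure ((A : Set S) ∪ {x}) = ⊤ := by
    apply hAcoat.2
    refine lt_of_le_of_ne (fun a ha => Subgroup.subset_closure (Or.inl ha)) ?_
    intro e
    exact hx (e ▸ Subgroup.subset_closure (Or.inr rfl))
  -- the commutator map
  have hmem : ∀ a ∈ A, ⁅a, x⁆ ∈ A := fun a ha => by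
    have e : ⁅a, x⁆ = a * (x * a⁻¹ * x⁻¹) := by rw [commutatorElement_def]; group
    rw [e]
    exact A.mul_mem ha (hAn.conj_mem _ (A.inv_mem ha) x)
  let f : A →* A :=
    { toFun := fun a => ⟨⁅(a : S), x⁆, hmem a a.2⟩
      map_one' := by ext; simp
      map_mul' := by
        rintro ⟨a, ha⟩ ⟨b, hb⟩
        apply Subtype.ext
        show ⁅a * b, x⁆ = ⁅a, x⁆ * ⁅b, x⁆
        have e : ⁅a * b, x⁆ = a * ⁅b, x⁆ * a⁻¹ * ⁅a, x⁆ := by
          simp only [commutatorElement_def]; group
        rw [e, hcommA a ha _ (hmem b hb), mul_inv_cancel_right]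
        exact hcommA ⁅b, x⁆ (hmem b hb) ⁅a, x⁆ (hmem a ha) }
  have hfa : ∀ a : A, ((f a : A) : S) = ⁅(a : S), x⁆ := fun _ => rfl
  -- the kernel is the centre
  have hker : Nat.card f.ker = Nat.card (Subgroup.center S) := by
    apply Nat.card_congr
    refine ⟨fun a => ⟨a.1.1, ?_⟩, fun z => ⟨⟨z.1, hZA z.2⟩, ?_⟩, fun _ => rfl, fun _ => rfl⟩
    · -- element of the kernel is central
      have h1 : ⁅(a.1 : S), x⁆ = 1 := congrArg Subtype.val (MonoidHom.mem_ker.mp a.2)
      have hax : (a.1 : S) * x = x * a.1 := commutatorElement_eq_one_iff_mul_comm.mp h1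
      have hle : (⊤ : Subgroup S) ≤ Subgroup.centralizer ({(a.1 : S)} : Set S) := by
        rw [← hclos, Subgroup.closure_le]
        rintro y (hy | rfl)
        · rw [SetLike.mem_coe, Subgroup.mem_centralizer_iff]
          rintro _ rfl
          exact hcommA _ a.1.2 y hy
        · rw [SetLike.mem_coe, Subgroup.mem_centralizer_iff]
          rintro _ rfl
          exact hax
      rw [Subgroup.mem_center_iff]
      intro g
      exact ((Subgroup.mem_centralizer_iff.mp (hle (Subgroup.mem_top g))) _ rfl).symm
    · rw [MonoidHom.mem_ker]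
      apply Subtype.ext
      show ⁅(z.1 : S), x⁆ = 1
      rw [commutatorElement_eq_one_iff_mul_comm]
      exact (Subgroup.mem_center_iff.mp z.2 x).symm
  -- the image is the commutator subgroup
  let R : Subgroup S := f.range.map A.subtype
  have hRle : R ≤ commutator S := by
    rintro _ ⟨_, ⟨a, rfl⟩, rfl⟩
    rw [commutator_def]
    exact Subgroup.commutator_mem_commutator (Subgroup.mem_top _) (Subgroup.mem_top _)
  have hRA : R ≤ A := Subgroup.map_subtype_le _
  have hRn : R.Normal := by
    have hle : (⊤ : Subgroup S) ≤ Subgroup.normalizer (R : Set S) := by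
      rw [← hclos, Subgroup.closure_le]
      rintro y (hy | rfl)
      · apply mem_normalizer_of_conj_le
        intro r hr
        rw [hcommA y hy r (hRA hr)]
        simpa using hr
      · apply mem_normalizer_of_conj_le
        rintro _ ⟨_, ⟨a, rfl⟩, rfl⟩
        refine ⟨_, ⟨⟨y * a * y⁻¹, hAn.conj_mem _ a.2 y⟩, rfl⟩, ?_⟩
        show ⁅y * a * y⁻¹, y⁆ = y * ⁅(a : S), y⁆ * y⁻¹
        simp only [commutatorElement_def]; group
    exact Subgroup.normalizer_eq_top_iff.mp (top_le_iff.mp hle)
  have hleR : commutator S ≤ R := by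
    let g := QuotientGroup.mk' R
    have hcomm : ∀ u ∈ g '' ((A : Set S) ∪ {x}), ∀ v ∈ g '' ((A : Set S) ∪ {x}), u * v = v * u := by
      have key : ∀ a ∈ A, g a * g x = g x * g a := by
        intro a ha
        have h1 : g ⁅a, x⁆ = 1 := by
          rw [← MonoidHom.mem_ker, QuotientGroup.ker_mk']
          exact ⟨_, ⟨⟨a, ha⟩, rfl⟩, rfl⟩
        rw [map_commutatorElement, commutatorElement_eq_one_iff_mul_comm] at h1
        exact h1
      rintro _ ⟨u, hu, rfl⟩ _ ⟨v, hv, rfl⟩
      rcases hu with hu | rfl <;> rcases hv with hv | rfl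
      · rw [← map_mul, ← map_mul, hcommA u hu v hv]
      · exact key u hu
      · exact (key v hv).symm
      · rfl
    have hab := Subgroup.isMulCommutative_closure hcomm
    have htop : Subgroup.closure (g '' ((A : Set S) ∪ {x})) = ⊤ := by
      rw [← MonoidHom.map_closure, hclos, ← MonoidHom.range_eq_map, MonoidHom.range_eq_top]
      exact QuotientGroup.mk'_surjective R
    rw [commutator_def, Subgroup.commutator_le]
    intro u _ v _
    have hu : g u ∈ Subgroup.closure (g '' ((A : Set S) ∪ {x})) := htop ▸ Subgroup.mem_top _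
    have hv : g v ∈ Subgroup.closure (g '' ((A : Set S) ∪ {x})) := htop ▸ Subgroup.mem_top _
    have h1 : g u * g v = g v * g u := by
      have hc := hab.is_comm.comm ⟨g u, hu⟩ ⟨g v, hv⟩
      exact congrArg Subtype.val hc
    have h2 : g ⁅u, v⁆ = 1 := by
      rw [map_commutatorElement, commutatorElement_eq_one_iff_mul_comm]
      exact h1
    rw [← MonoidHom.mem_ker, QuotientGroup.ker_mk'] at h2
    exact h2
  have hReq : R = commutator S := le_antisymm hRle hleR
  have hcR : Nat.card R = Nat.card f.range :=
    (Nat.card_congr (f.range.equivMapOfInjective A.subtype A.subtype_injective).toEquiv).symm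
  have hcA : Nat.card A = Nat.card (Subgroup.center S) * Nat.card (commutator S) := by
    rw [← hReq, hcR, ← hker, ← Subgroup.index_ker, Subgroup.card_mul_index]
  have hZrel : (Subgroup.center S).relIndex A = Nat.card (commutator S) := by
    have h1 := card_mul_relIndex hZA
    rw [hcA] at h1
    exact Nat.eq_of_mul_eq_mul_left Nat.card_pos h1
  have hZidx : (Subgroup.center S).index = p * Nat.card (commutator S) := by
    rw [← Subgroup.relIndex_mul_index hZA, hZrel, hAi, mul_comm]
  refine ⟨hZidx, ?_⟩
  -- dichotomy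
  obtain ⟨k, hk⟩ := (hS.to_subgroup (commutator S)).exists_card_eq
  have hk1 : k ≠ 0 := by
    rintro rfl
    apply hna'
    have h1 : commutator S = ⊥ := Subgroup.eq_bot_of_card_eq _ (by simpa using hk)
    intro a b
    have h2 : ⁅a, b⁆ ∈ commutator S := by
      rw [commutator_def]
      exact Subgroup.commutator_mem_commutator (Subgroup.mem_top _) (Subgroup.mem_top _)
    rw [h1, Subgroup.mem_bot, commutatorElement_eq_one_iff_mul_comm] at h2
    exact h2
  by_cases hk2 : k = 1
  · left
    subst hk2
    rw [pow_one] at hk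
    have hVcard : Nat.card (S ⧸ Subgroup.center S) = p ^ 2 := by
      rw [← Subgroup.index_eq_card, hZidx, hk, pow_two]
    have hncyc : ¬ IsCyclic (S ⧸ Subgroup.center S) := by
      intro hc
      apply hna'
      exact fun a b => commutative_of_cyclic_center_quotient (QuotientGroup.mk' (Subgroup.center S))
        (by rw [QuotientGroup.ker_mk']) a b
    have hVexp : ∀ v : S ⧸ Subgroup.center S, v ^ p = 1 := by
      intro v
      have h1 : orderOf v ∣ p ^ 2 := by
        rw [← hVcard]
        exact orderOf_dvd_natCard v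
      obtain ⟨i, hi, hi'⟩ := (Nat.dvd_prime_pow hp).mp h1
      have h2 : i ≠ 2 := by
        rintro rfl
        apply hncyc
        exact isCyclic_of_orderOf_eq_card v (by rw [hi', hVcard])
      have h3 : orderOf v ∣ p := by
        rw [hi']
        have : i ≤ 1 := by omega
        simpa using pow_dvd_pow p this
      exact orderOf_dvd_iff_pow_eq_one.mp h3
    refine ⟨hk, ⟨?_, fun a _ => hVexp a⟩, hVcard, ?_⟩
    · haveI := IsPGroup.isMulCommutative_of_card_eq_prime_sq hVcard
      exact inferInstance
    · -- counting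
      rw [← card_subgroups_aux hVcard hVexp]
      let π := QuotientGroup.mk' (Subgroup.center S)
      have hπ : Function.Surjective π := QuotientGroup.mk'_surjective _
      have hπk : π.ker = Subgroup.center S := QuotientGroup.ker_mk' _
      apply Nat.card_congr
      have hto : ∀ B : {B : Subgroup S // IsMulCommutative ↥B ∧ B.index = p},
          Nat.card ((B : Subgroup S).map π) = p := by
        rintro ⟨B, hB, hBi⟩
        have h1 : ((B.map π).comap π) = B := by
          rw [Subgroup.comap_map_eq, hπk]
          exact sup_eq_left.mpr (hZle B hB hBi)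
        have h2 : (B.map π).index = p := by
          rw [← Subgroup.index_comap_of_surjective _ hπ, h1, hBi]
        have h3 := Subgroup.card_mul_index (B.map π)
        rw [h2, hVcard] at h3
        apply Nat.eq_of_mul_eq_mul_right hp.pos
        rw [h3]
        ring
      have hinv : ∀ W : {W : Subgroup (S ⧸ Subgroup.center S) // Nat.card W = p},
          IsMulCommutative ↥((W : Subgroup _).comap π) ∧ ((W : Subgroup _).comap π).index = p := by
        rintro ⟨W, hW⟩
        constructor
        · -- `W` cyclic
          have hWcyc : IsCyclic W := by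
            haveI : Fact (Nat.card W).Prime := by rw [hW]; exact ⟨hp⟩
            exact isCyclic_of_prime_card rfl
          obtain ⟨⟨w, hw⟩, hgen⟩ := hWcyc.exists_generator
          obtain ⟨y, rfl⟩ := hπ w
          have hform : ∀ u : S, π u ∈ W → ∃ (i : ℤ) (z : S), z ∈ Subgroup.center S ∧ u = y ^ i * z := by
            intro u hu
            obtain ⟨i, hi⟩ := Subgroup.mem_zpowers_iff.mp (hgen ⟨π u, hu⟩)
            have h1 : π y ^ i = π u := congrArg Subtype.val hi
            refine ⟨i, (y ^ i)⁻¹ * u, ?_, by group⟩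
            rw [← hπk, MonoidHom.mem_ker, map_mul, map_inv, map_zpow, h1, inv_mul_cancel]
          constructor
          constructor
          rintro ⟨u, hu⟩ ⟨v, hv⟩
          obtain ⟨i, z, hz, rfl⟩ := hform u hu
          obtain ⟨j, z', hz', rfl⟩ := hform v hv
          apply Subtype.ext
          show y ^ i * z * (y ^ j * z') = y ^ j * z' * (y ^ i * z)
          have h1 := Subgroup.mem_center_iff.mp hz
          have h2 := Subgroup.mem_center_iff.mp hz'
          calc y ^ i * z * (y ^ j * z') = y ^ i * (z * y ^ j) * z' := by group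
            _ = y ^ i * (y ^ j * z) * z' := by rw [h1]
            _ = y ^ i * y ^ j * (z * z') := by group
            _ = y ^ j * y ^ i * (z' * z) := by rw [h2 z, ← zpow_add, ← zpow_add, add_comm]
            _ = y ^ j * (y ^ i * z') * z := by group
            _ = y ^ j * (z' * y ^ i) * z := by rw [h2]
            _ = y ^ j * z' * (y ^ i * z) := by group
        · rw [Subgroup.index_comap_of_surjective _ hπ]
          have h3 := Subgroup.card_mul_index W
          rw [hW, hVcard] at h3
          have : p * W.index = p * p := by rw [h3]; ring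
          exact Nat.eq_of_mul_eq_mul_left hp.pos this
      refine ⟨fun B => ⟨(B : Subgroup S).map π, hto B⟩, fun W => ⟨(W : Subgroup _).comap π, hinv W⟩, ?_, ?_⟩
      · rintro ⟨B, hB, hBi⟩
        apply Subtype.ext
        show (B.map π).comap π = B
        rw [Subgroup.comap_map_eq, hπk]
        exact sup_eq_left.mpr (hZle B hB hBi)
      · rintro ⟨W, hW⟩
        apply Subtype.ext
        exact Subgroup.map_comap_eq_self_of_surjective hπ W
  · right
    have hk2' : 2 ≤ k := by omega
    refine ⟨by rw [hk]; exact Nat.pow_le_pow_right hp.pos hk2', ?_⟩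
    intro B hB hBi
    by_contra hne
    have hBcoat := hcoatOf B hBi
    haveI hBn : B.Normal := hnormOf B hBi
    have hsup : A ⊔ B = ⊤ := by
      apply hAcoat.2
      refine lt_of_le_of_ne le_sup_left ?_
      intro e
      have hBA : B ≤ A := e ▸ le_sup_right
      exact hAcoat.1 (hBcoat.2 A (lt_of_le_of_ne hBA hne))
    have hinfZ : A ⊓ B ≤ Subgroup.center S := by
      intro y hy
      obtain ⟨hyA, hyB⟩ := Subgroup.mem_inf.mp hy
      have hle : A ⊔ B ≤ Subgroup.centralizer ({y} : Set S) := by
        refine sup_le ?_ ?_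
        · intro a ha
          rw [Subgroup.mem_centralizer_iff]
          intro z hz
          have hz' : z = y := hz
          rw [hz']
          exact hcommA _ hyA a ha
        · intro b hb
          rw [Subgroup.mem_centralizer_iff]
          intro z hz
          have hz' : z = y := hz
          rw [hz']
          have hc := hB.is_comm.comm ⟨y, hyB⟩ ⟨b, hb⟩
          exact congrArg Subtype.val hc
      rw [hsup] at hle
      rw [Subgroup.mem_center_iff]
      intro g
      exact ((Subgroup.mem_centralizer_iff.mp (hle (Subgroup.mem_top g))) y rfl).symm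
    have hrel : B.relIndex A = p := by
      have h1 : B.relIndex (A ⊔ B) = B.relIndex A := Subgroup.relIndex_sup_right _ _
      rw [hsup, Subgroup.relIndex_top_right, hBi] at h1
      exact h1.symm
    have hidx : (A ⊓ B).index = p * p := by
      rw [← Subgroup.relIndex_mul_index (inf_le_left : A ⊓ B ≤ A), Subgroup.inf_relIndex_left, hrel, hAi]
    have hdvd : (Subgroup.center S).index ∣ p * p := hidx ▸ Subgroup.index_dvd_of_le hinfZ
    rw [hZidx, hk] at hdvd
    have h3 : p ^ k ∣ p := Nat.dvd_of_mul_dvd_mul_left hp.pos hdvd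
    have h4 : p ^ 2 ∣ p ^ 1 := by
      rw [pow_one]
      exact (pow_dvd_pow p hk2').trans h3
    have h5 := (Nat.pow_dvd_pow_iff_le_right hp.one_lt).mp h4
    omega

end Cfsg.Agent.S3807
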