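import Cfsg.Statements.S3808
-- import your own Cfsg.Agent.* helpers here
import Mathlib
import Cfsg.Agent.Lib.Coprime.Extraspecial

set_option autoImplicit false
open Cfsg

namespace Cfsg.Agent.S3808

open Cfsg.Agent.Lib.Coprime
open scoped commutatorElement

/-- Let S be a finite p-group with an extraspecial subgroup Q of index p. Then either Z(S) = Z(Q), or S = Q·Z(S) and Z(S) has order p². -/
theorem result {S : Type*} [Group S] [Finite S] (p : ℕ) [Fact p.Prime] (hS : IsPGroup p S) (Q : Subgroup S) (hQ : Cfsg.IsExtraspecial p ↥Q) (hQi : Q.index = p) :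
    Subgroup.center S = (Subgroup.center ↥Q).map Q.subtype ∨
      (Q ⊔ Subgroup.center S = ⊤ ∧ Nat.card (Subgroup.center S) = p ^ 2) := by
  have hp : p.Prime := Fact.out
  have hcoat : IsCoatom Q := Cfsg.Agent.Lib.Transfer.isCoatom_of_index_prime (by rw [hQi]; exact hp)
  obtain ⟨hQn, -⟩ := Cfsg.Agent.Lib.Transfer.normal_and_index_of_isCoatom hS hcoat
  haveI := hQn
  let Z : Subgroup S := (Subgroup.center Q).map Q.subtype
  have hZcard : Nat.card Z = p := by
    rw [← hQ.2]
    exact (Nat.card_congr ((Subgroup.center Q).equivMapOfInjective Q.subtype Q.subtype_injective).toEquiv).symm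
  haveI hZn : Z.Normal := normal_map_subtype_of_characteristic Q (Subgroup.center Q)
  have hZ1 : Z ≠ ⊥ := by
    intro h
    rw [h] at hZcard
    simp at hZcard
    exact hp.one_lt.ne hZcard
  obtain ⟨z, hzZ, hz1, hzc, -⟩ := Cfsg.Agent.Lib.Transfer.exists_central_of_normal hS hZ1
  have hZC : Z ≤ Subgroup.center S := by
    intro y hy
    haveI : Fact (Nat.card Z).Prime := by rw [hZcard]; exact ⟨hp⟩
    haveI : Fintype Z := Fintype.ofFinite Z
    have hmem : (⟨y, hy⟩ : Z) ∈ Subgroup.zpowers (⟨z, hzZ⟩ : Z) :=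
      mem_zpowers_of_prime_card (p := Nat.card Z) (by rw [Nat.card_eq_fintype_card])
        (fun h => hz1 (congrArg Subtype.val h))
    obtain ⟨k, hk⟩ := hmem
    have hyz : y = z ^ k := by
      have := congrArg Subtype.val hk
      simpa using this.symm
    rw [Subgroup.mem_center_iff, hyz]
    intro g
    exact (Commute.zpow_right (show Commute g z from hzc g) k).eq
  have hCQ : ∀ s ∈ Subgroup.center S, s ∈ Q → s ∈ Z := by
    intro s hs hsQ
    refine ⟨⟨s, hsQ⟩, Subgroup.mem_center_iff.mpr ?_, rfl⟩
    intro y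
    exact Subtype.ext (Subgroup.mem_center_iff.mp hs y)
  by_cases hle : Subgroup.center S ≤ Q
  · left
    exact le_antisymm (fun s hs => hCQ s hs (hle hs)) hZC
  · right
    have hsup : Q ⊔ Subgroup.center S = ⊤ := by
      apply hcoat.2
      exact lt_of_le_of_ne le_sup_left (fun e => hle (e ▸ le_sup_right))
    refine ⟨hsup, ?_⟩
    have hinf : Q ⊓ Subgroup.center S = Z :=
      le_antisymm (fun s hs => hCQ s hs.2 hs.1) (le_inf (Subgroup.map_subtype_le _) hZC)
    have h1 : Q.relIndex (Subgroup.center S ⊔ Q) = Q.relIndex (Subgroup.center S) :=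
      Subgroup.relIndex_sup_right _ _
    rw [sup_comm, hsup, Subgroup.relIndex_top_right, hQi, ← Subgroup.inf_relIndex_right, hinf] at h1
    have h2 : Nat.card Z * Z.relIndex (Subgroup.center S) = Nat.card (Subgroup.center S) := by
      rw [← Subgroup.relIndex_bot_left Z, ← Subgroup.relIndex_bot_left (Subgroup.center S)]
      exact Subgroup.relIndex_mul_relIndex ⊥ _ _ bot_le hZC
    rw [← h2, hZcard, ← h1, pow_two]

end Cfsg.Agent.S3808
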