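import Cfsg.Statements.S3809
-- import your own Cfsg.Agent.* helpers here
import Mathlib
import Cfsg.Agent.Lib.Coprime.Extraspecial

set_option autoImplicit false
open Cfsg

namespace Cfsg.Agent.S3809

open Cfsg.Agent.Lib.Coprime
open scoped commutatorElement

/-- Let S be a finite p-group with an extraspecial subgroup of index p. Then S has order p^(2+2n) for some n ≥ 1, derived length at most 3, and exponent dividing p³. -/
theorem result {S : Type*} [Group S] [Finite S] (p : ℕ) [Fact p.Prime] (hS : IsPGroup p S) (Q : Subgroup S) (hQ : Cfsg.IsExtraspecial p ↥Q) (hQi : Q.index = p) :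
    (∃ n : ℕ, 1 ≤ n ∧ Nat.card S = p ^ (2 + 2 * n)) ∧ derivedSeries S 3 = ⊥ ∧ ∀ x : S, x ^ (p ^ 3) = 1 := by
  have hp : p.Prime := Fact.out
  have hcoat : IsCoatom Q := Cfsg.Agent.Lib.Transfer.isCoatom_of_index_prime (by rw [hQi]; exact hp)
  obtain ⟨n, hn1, hn⟩ := ext_card hQ
  refine ⟨⟨n, hn1, ?_⟩, ?_, ?_⟩
  · rw [← Subgroup.card_mul_index Q, hn, hQi]
    ring
  · have h1 : derivedSeries S 1 ≤ Q := by
      rw [derivedSeries_succ, derivedSeries_zero, Subgroup.commutator_le]
      intro x _ y _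
      exact Cfsg.Agent.Lib.Transfer.commutator_mem_of_isCoatom hS hcoat x y
    let Z : Subgroup S := (Subgroup.center Q).map Q.subtype
    have h2 : derivedSeries S 2 ≤ Z := by
      rw [derivedSeries_succ, Subgroup.commutator_le]
      intro x hx y hy
      have := ext_commutator_mem hQ ⟨x, h1 hx⟩ ⟨y, h1 hy⟩
      exact ⟨_, this, rfl⟩
    rw [derivedSeries_succ, eq_bot_iff, Subgroup.commutator_le]
    intro x hx y hy
    obtain ⟨a, ha, rfl⟩ := h2 hx
    obtain ⟨b, hb, rfl⟩ := h2 hy
    rw [Subgroup.mem_bot, commutatorElement_eq_one_iff_mul_comm]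
    exact congrArg Subtype.val (Subgroup.mem_center_iff.mp ha b).symm
  · intro x
    have h1 : x ^ p ∈ Q := Cfsg.Agent.Lib.Transfer.pow_mem_of_isCoatom hS hcoat x
    have h2 := ext_pow_sq hQ ⟨x ^ p, h1⟩
    have h3 : (x ^ p) ^ (p ^ 2) = 1 := congrArg Subtype.val h2
    rw [← pow_mul] at h3
    rw [show p ^ 3 = p * p ^ 2 by ring]
    exact h3

end Cfsg.Agent.S3809
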