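import Cfsg.Statements.S3810
-- import your own Cfsg.Agent.* helpers here
import Mathlib
import Cfsg.Agent.Lib.Coprime.Extraspecial

set_option autoImplicit false
open Cfsg

namespace Cfsg.Agent.S3810

open Cfsg.Agent.Lib.Coprime
open scoped commutatorElement

/-- Let S be a finite p-group with an extraspecial subgroup of index p. Then S has an abelian subgroup of index p if and only if S has order p⁴. -/
theorem result {S : Type*} [Group S] [Finite S] (p : ℕ) [Fact p.Prime] (hS : IsPGroup p S) (Q : Subgroup S) (hQ : Cfsg.IsExtraspecial p ↥Q) (hQi : Q.index = p) :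
    (∃ A : Subgroup S, IsMulCommutative ↥A ∧ A.index = p) ↔ Nat.card S = p ^ 4 := by
  have hp : p.Prime := Fact.out
  have hcoat : IsCoatom Q := Cfsg.Agent.Lib.Transfer.isCoatom_of_index_prime (by rw [hQi]; exact hp)
  obtain ⟨n, hn1, hn⟩ := ext_card hQ
  have hcS : Nat.card S = p ^ (2 + 2 * n) := by
    rw [← Subgroup.card_mul_index Q, hn, hQi]
    ring
  constructor
  · rintro ⟨A, hA, hAi⟩
    have hAcoat : IsCoatom A := Cfsg.Agent.Lib.Transfer.isCoatom_of_index_prime (by rw [hAi]; exact hp)
    obtain ⟨hAn, -⟩ := Cfsg.Agent.Lib.Transfer.normal_and_index_of_isCoatom hS hAcoat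
    haveI := hAn
    have hne : ¬ Q ≤ A := by
      intro hle
      apply ext_not_comm hQ
      rintro ⟨x, hx⟩ ⟨y, hy⟩
      apply Subtype.ext
      show x * y = y * x
      have hc := hA.is_comm.comm ⟨x, hle hx⟩ ⟨y, hle hy⟩
      exact congrArg Subtype.val hc
    have hsup : Q ⊔ A = ⊤ := by
      apply hAcoat.2
      rw [sup_comm]
      exact lt_of_le_of_ne le_sup_left (fun e => hne (e ▸ le_sup_right))
    have h1 : A.relIndex (Q ⊔ A) = A.relIndex Q := Subgroup.relIndex_sup_right _ _
    rw [hsup, Subgroup.relIndex_top_right, hAi] at h1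
    -- `A ∩ Q` as a subgroup of `Q`
    have hab : IsMulCommutative (A.subgroupOf Q) := by
      constructor
      constructor
      rintro ⟨⟨x, hxQ⟩, hx⟩ ⟨⟨y, hyQ⟩, hy⟩
      have hx' : x ∈ A := hx
      have hy' : y ∈ A := hy
      apply Subtype.ext
      apply Subtype.ext
      show x * y = y * x
      have hc := hA.is_comm.comm ⟨x, hx'⟩ ⟨y, hy'⟩
      exact congrArg Subtype.val hc
    have h2 := ext_abelian_card_le hQ hn (A.subgroupOf Q) hab
    have h3 := Subgroup.card_mul_index (A.subgroupOf Q)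
    have h4 : (A.subgroupOf Q).index = p := h1.symm
    rw [h4, hn] at h3
    have h5 : Nat.card (A.subgroupOf Q) = p ^ (2 * n) := by
      apply Nat.eq_of_mul_eq_mul_right hp.pos
      rw [h3]
      ring
    rw [h5] at h2
    have h6 : 2 * n ≤ 1 + n := (Nat.pow_le_pow_iff_right hp.one_lt).mp h2
    have h7 : n = 1 := by omega
    rw [hcS, h7]
  · intro hc
    have hlt : p ^ 3 < Nat.card S := by
      rw [hc]
      exact Nat.pow_lt_pow_right hp.one_lt (by norm_num)
    obtain ⟨N, hN, hNab, hNc⟩ := exists_large_abelian hS hlt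
    refine ⟨N, hNab, ?_⟩
    obtain ⟨k, hk⟩ := (hS.to_subgroup N).exists_card_eq
    have h3k : 3 ≤ k := by
      rw [hk] at hNc
      exact (Nat.pow_le_pow_iff_right hp.one_lt).mp hNc
    have hkdvd : p ^ k ∣ p ^ 4 := by
      rw [← hk, ← hc]
      exact Subgroup.card_subgroup_dvd_card N
    have hk4 : k ≤ 4 := (Nat.pow_dvd_pow_iff_le_right hp.one_lt).mp hkdvd
    have hmul := Subgroup.card_mul_index N
    rw [hk, hc] at hmul
    rcases (by omega : k = 3 ∨ k = 4) with rfl | rfl
    · have : p ^ 3 * N.index = p ^ 3 * p := by rw [hmul]; ring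
      exact Nat.eq_of_mul_eq_mul_left (pow_pos hp.pos 3) this
    · exfalso
      have htop : N = ⊤ := by
        apply Subgroup.eq_top_of_card_eq
        rw [hk, hc]
      apply ext_not_comm hQ
      rintro ⟨x, hx⟩ ⟨y, hy⟩
      apply Subtype.ext
      have hx' : x ∈ N := htop ▸ Subgroup.mem_top x
      have hy' : y ∈ N := htop ▸ Subgroup.mem_top y
      show x * y = y * x
      have hc := hNab.is_comm.comm ⟨x, hx'⟩ ⟨y, hy'⟩
      exact congrArg Subtype.val hc

end Cfsg.Agent.S3810
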