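import Cfsg.Statements.S3816
-- import your own Cfsg.Agent.* helpers here
import Mathlib
import Cfsg.Agent.Lib.Coprime.TG7

set_option autoImplicit false
open Cfsg

namespace Cfsg.Agent.S3816

/-- Let p be an odd prime, H a finite solvable group of order prime to p, and x an automorphism of H of order p (so P = ⟨x⟩ has prime order p > 2 and acts coprimely on H). For h ∈ H let [h, P] be the subgroup generated by the commutators h⁻¹·xⁱ(h), and let [H, P] be the subgroup generated by all of these. Then the fixed points of x in [H, P] are generated by the fixed points of x in the subgroups [h, P], h ∈ H. -/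
theorem result {H : Type*} [Group H] [Finite H]
    [Group.IsSolvable H] {p : ℕ} [Fact p.Prime] (hp : p ≠ 2) (hcop : (Nat.card H).Coprime p)
    (x : MulAut H) (hx : orderOf x = p) :
    Subgroup.closure {c : H | ∃ h : H, ∃ i : ℕ, c = h⁻¹ * (x ^ i) h} ⊓ (x : H →* H).eqLocus (MonoidHom.id H) =
      ⨆ h : H, Subgroup.closure {c : H | ∃ i : ℕ, c = h⁻¹ * (x ^ i) h} ⊓ (x : H →* H).eqLocus (MonoidHom.id H) := by
  classical
  have hfin : Finite (H ⋊[(Subgroup.zpowers x).subtype] (Subgroup.zpowers x)) :=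
    Finite.of_equiv _ SemidirectProduct.equivProd.symm
  let Q := Subgroup.zpowers x
  let Γ := H ⋊[Q.subtype] Q
  let ι : H →* Γ := SemidirectProduct.inl
  let ρ : Q →* Γ := SemidirectProduct.inr
  have hι : Function.Injective ι := SemidirectProduct.inl_injective
  have hρ : Function.Injective ρ := SemidirectProduct.inr_injective
  let H' : Subgroup Γ := ι.range
  let P : Subgroup Γ := ρ.range
  have hconj : ∀ (y : Q) (h : H), ρ y * ι h * (ρ y)⁻¹ = ι ((y : MulAut H) h) := by
    intro y h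
    have h1 := SemidirectProduct.inl_aut (φ := Q.subtype) y h
    rw [← map_inv]
    exact h1.symm
  have hcardP : Nat.card P = p := by
    have h1 : Nat.card P = Nat.card Q := Nat.card_congr (MonoidHom.ofInjective hρ).toEquiv.symm
    rw [h1, Nat.card_zpowers, hx]
  have hcardH : Nat.card H' = Nat.card H := Nat.card_congr (MonoidHom.ofInjective hι).toEquiv.symm
  have hsol : Group.IsSolvable H' :=
    solvable_of_surjective (f := (MonoidHom.ofInjective hι).toMonoidHom) (MonoidHom.ofInjective hι).surjective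
  have hPH : P ≤ Subgroup.normalizer (H' : Set Γ) := by
    apply Cfsg.Agent.Lib.Coprime.TG.le_normalizer_of_conj_mem
    rintro _ ⟨y, rfl⟩ _ ⟨h, rfl⟩
    exact ⟨_, (hconj y h).symm⟩
  have hmain := Cfsg.Agent.Lib.Coprime.TG.main p (Fact.out) hp _ Γ P H' rfl hcardP hsol (by rw [hcardH]; exact hcop) hPH
  have hpow : ∀ y : Q, ∃ i : ℕ, (y : MulAut H) = x ^ i := by
    intro y
    have h1 : (y : MulAut H) ∈ Submonoid.powers x := mem_powers_iff_mem_zpowers.2 y.2
    obtain ⟨i, hi⟩ := h1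
    exact ⟨i, hi.symm⟩
  have hmemQ : ∀ i : ℕ, x ^ i ∈ Q := fun i => Subgroup.pow_mem _ (Subgroup.mem_zpowers x) i
  have hxQ : x ∈ Q := Subgroup.mem_zpowers x
  apply le_antisymm
  · intro c hc
    obtain ⟨hc1, hc2⟩ := Subgroup.mem_inf.1 hc
    have hc3 : x c = c := hc2
    have hfixpow : ∀ i : ℕ, (x ^ i) c = c := by
      intro i
      induction i with
      | zero => rfl
      | succ i ih =>
        rw [pow_succ, MulAut.mul_apply, hc3, ih]
    have h1 : ι c ∈ ⁅H', P⁆ := by
      have h2 : Subgroup.closure {c : H | ∃ h : H, ∃ i : ℕ, c = h⁻¹ * (x ^ i) h} ≤ (⁅H', P⁆ : Subgroup Γ).comap ι := by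
        rw [Subgroup.closure_le]
        rintro _ ⟨h, i, rfl⟩
        rw [SetLike.mem_coe, Subgroup.mem_comap]
        have h3 := Cfsg.Agent.Lib.Coprime.TG.LL_le_comm (P := P) (S := H') (g := ι h) ⟨h, rfl⟩
        apply h3
        have h4 := Cfsg.Agent.Lib.Coprime.TG.mem_LL (P := P) (g := ι h) (a := ρ ⟨x ^ i, hmemQ i⟩) ⟨_, rfl⟩
        rw [hconj] at h4
        rw [map_mul, map_inv]
        exact h4
      exact h2 hc1
    have h2 : ι c ∈ Subgroup.centralizer (P : Set Γ) := by
      rw [Subgroup.mem_centralizer_iff]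
      rintro _ ⟨y, rfl⟩
      obtain ⟨i, hi⟩ := hpow y
      have h3 := hconj y c
      rw [hi, hfixpow] at h3
      exact mul_inv_eq_iff_eq_mul.1 h3
    have h3 := hmain (Subgroup.mem_inf.2 ⟨h1, h2⟩)
    have h4 : Cfsg.Agent.Lib.Coprime.TG.YY P H' ≤
        (⨆ h : H, Subgroup.closure {c : H | ∃ i : ℕ, c = h⁻¹ * (x ^ i) h} ⊓ (x : H →* H).eqLocus (MonoidHom.id H)).map ι := by
      refine iSup_le ?_
      rintro ⟨_, h, rfl⟩ w hw
      obtain ⟨hw1, hw2⟩ := Subgroup.mem_inf.1 hw
      have h5 : Cfsg.Agent.Lib.Coprime.TG.LL P (ι h) ≤ (Subgroup.closure {c : H | ∃ i : ℕ, c = h⁻¹ * (x ^ i) h}).map ι := by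
        rw [Cfsg.Agent.Lib.Coprime.TG.LL, Subgroup.closure_le]
        rintro _ ⟨_, ⟨y, rfl⟩, rfl⟩
        obtain ⟨i, hi⟩ := hpow y
        refine ⟨h⁻¹ * (x ^ i) h, Subgroup.subset_closure ⟨i, rfl⟩, ?_⟩
        rw [hconj, hi, map_mul, map_inv]
      obtain ⟨u, hu, rfl⟩ := h5 hw1
      refine ⟨u, ?_, rfl⟩
      refine (le_iSup (fun h : H => Subgroup.closure {c : H | ∃ i : ℕ, c = h⁻¹ * (x ^ i) h} ⊓ (x : H →* H).eqLocus (MonoidHom.id H)) h) ?_
      refine Subgroup.mem_inf.2 ⟨hu, ?_⟩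
      have h6 := Subgroup.mem_centralizer_iff.1 hw2 (ρ ⟨x, hxQ⟩) ⟨_, rfl⟩
      have h7 := hconj ⟨x, hxQ⟩ u
      rw [h6, mul_inv_cancel_right] at h7
      exact (hι h7).symm
    obtain ⟨u, hu, hue⟩ := h4 h3
    rw [← hι hue]
    exact hu
  · refine iSup_le fun h => inf_le_inf_right _ (Subgroup.closure_mono ?_)
    rintro _ ⟨i, rfl⟩
    exact ⟨h, i, rfl⟩

end Cfsg.Agent.S3816
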