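import Cfsg.Statements.S3824
-- import your own Cfsg.Agent.* helpers here
import Mathlib
import Cfsg.Agent.Lib.Char.Burnside
import Cfsg.Agent.Lib.Coprime.Conj

set_option autoImplicit false
open Cfsg

namespace Cfsg.Agent.S3824

open Subgroup in
theorem main.{u} : ∀ (n : ℕ) (G : Type u) [Group G] [Finite G], Nat.card G = n →
    ∀ A : Subgroup G, IsMulCommutative A → (∃ k : ℕ, A.index = 2 ^ k) → Group.IsSolvable G := by
  intro n
  induction n using Nat.strong_induction_on with
  | _ n IH =>
  intro G _ _ hn A hA hidx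
  obtain ⟨k, hk⟩ := hidx
  haveI : Fact (Nat.Prime 2) := ⟨Nat.prime_two⟩
  by_cases hnt : Nontrivial G
  swap
  · rw [not_nontrivial_iff_subsingleton] at hnt
    infer_instance
  by_cases hs : ∀ N : Subgroup G, N.Normal → N = ⊥ ∨ N = ⊤
  · haveI hsimple : IsSimpleGroup G := ⟨fun N hN => hs N hN⟩
    by_cases hbot : A = ⊥
    · rw [hbot, Subgroup.index_bot] at hk
      have hP : IsPGroup 2 G := IsPGroup.of_card hk
      haveI := hP.isNilpotent
      infer_instance
    · obtain ⟨⟨g, hg⟩, hg0⟩ := (Subgroup.ne_bot_iff_exists_ne_one).mp hbot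
      have hg1 : g ≠ 1 := fun h => hg0 (Subtype.ext h)
      have hle : A ≤ centralizer ({g} : Set G) := by
        intro a ha
        rw [mem_centralizer_singleton_iff]
        exact congrArg Subtype.val (hA.is_comm.comm ⟨a, ha⟩ ⟨g, hg⟩)
      have hd : (centralizer ({g} : Set G)).index ∣ 2 ^ k := by
        rw [← hk]
        exact Subgroup.index_dvd_of_le hle
      obtain ⟨j, -, hj⟩ := (Nat.dvd_prime_pow Nat.prime_two).mp hd
      have hprime := Cfsg.Agent.Lib.Char.prime_card_of_class_prime_pow 2 j Nat.prime_two g hg1 hj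
      haveI : Fact (Nat.card G).Prime := ⟨hprime⟩
      haveI : IsCyclic G := isCyclic_of_prime_card rfl
      letI := IsCyclic.commGroup (α := G)
      infer_instance
  · push Not at hs
    obtain ⟨M, hMn, hMb, hMt⟩ := hs
    haveI := hMn
    have hcardM : Nat.card M < n := by
      rw [← hn]
      have h1 := M.card_mul_index
      have h2 : M.index ≠ 1 := fun h => hMt (Subgroup.index_eq_one.mp h)
      have h3 : M.index ≠ 0 := Subgroup.index_ne_zero_of_finite
      have h4 : 0 < Nat.card M := Nat.card_pos
      rw [← h1]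
      have h5 : 2 ≤ M.index := by omega
      nlinarith
    have hcardQ : Nat.card (G ⧸ M) < n := by
      rw [← hn]
      have h1 := M.card_mul_index
      rw [Subgroup.index_eq_card] at h1
      have h2 : 1 < Nat.card M := (Subgroup.one_lt_card_iff_ne_bot M).mpr hMb
      have h4 : 0 < Nat.card (G ⧸ M) := Nat.card_pos
      rw [← h1]
      nlinarith
    have hsM : Group.IsSolvable M := by
      refine IH _ hcardM M rfl (A.subgroupOf M) ⟨⟨fun a b => Subtype.ext ?_⟩⟩ ?_
      · apply Subtype.ext
        have h2 : ((a : ↥M) : G) * ((b : ↥M) : G) = ((b : ↥M) : G) * ((a : ↥M) : G) :=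
          congrArg Subtype.val (hA.is_comm.comm (⟨a.1.1, a.2⟩ : A) ⟨b.1.1, b.2⟩)
        exact h2
      · have hd : (A.subgroupOf M).index ∣ 2 ^ k := by
          rw [← hk]
          show A.relIndex M ∣ A.index
          rw [Cfsg.Agent.Lib.Coprime.relIndex_eq_relIndex_sup_of_normal]
          exact Subgroup.relIndex_dvd_index_of_le le_sup_left
        obtain ⟨j, -, hj⟩ := (Nat.dvd_prime_pow Nat.prime_two).mp hd
        exact ⟨j, hj⟩
    have hsQ : Group.IsSolvable (G ⧸ M) := by
      refine IH _ hcardQ (G ⧸ M) rfl (A.map (QuotientGroup.mk' M)) ⟨⟨fun a b => Subtype.ext ?_⟩⟩ ?_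
      · obtain ⟨_, x, hx, rfl⟩ := a
        obtain ⟨_, y, hy, rfl⟩ := b
        have := congrArg Subtype.val (hA.is_comm.comm ⟨x, hx⟩ ⟨y, hy⟩)
        have h2 : x * y = y * x := this
        show QuotientGroup.mk' M x * QuotientGroup.mk' M y = QuotientGroup.mk' M y * QuotientGroup.mk' M x
        rw [← map_mul, ← map_mul, h2]
      · have hd : (A.map (QuotientGroup.mk' M)).index ∣ 2 ^ k := by
          rw [← hk]
          exact Subgroup.index_map_dvd _ (QuotientGroup.mk'_surjective M)
        obtain ⟨j, -, hj⟩ := (Nat.dvd_prime_pow Nat.prime_two).mp hd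
        exact ⟨j, hj⟩
    exact Group.isSolvable_of_ker_le_range M.subtype (QuotientGroup.mk' M) (by
      rw [QuotientGroup.ker_mk', Subgroup.range_subtype])

/-- Every finite group having an abelian subgroup whose index is a power of 2 is solvable. -/
theorem result {G : Type*} [Group G] [Finite G]
    (A : Subgroup G) (hA : IsMulCommutative A) (hidx : ∃ k : ℕ, A.index = 2 ^ k) : Group.IsSolvable G := by
  exact main _ G rfl A hA hidx

end Cfsg.Agent.S3824
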