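import Cfsg.Statements.S3835
-- import your own Cfsg.Agent.* helpers here
import Mathlib
import Cfsg.Agent.Lib.LocalEven.QdNat

set_option autoImplicit false
open Cfsg

namespace Cfsg.Agent.S3835

open Cfsg.Agent.Lib.LocalEven Cfsg.Agent.Lib.Known Cfsg.Agent.Lib.KnownSimple

section perm

theorem perm_pSub_comm {X : Type} [Fintype X] {p : ℕ} [hpf : Fact p.Prime] (hn : Fintype.card X < p ^ 2)
    (P : Subgroup (Equiv.Perm X)) (hP : IsPGroup p P) : ∀ x ∈ P, ∀ y ∈ P, x * y = y * x := by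
  classical
  have hp : p.Prime := hpf.out
  intro x hx y hy
  apply Equiv.ext
  intro ω
  -- orbit of ω
  let O := MulAction.orbit P ω
  have hO : Nat.card O ≤ Fintype.card X := by
    rw [← Nat.card_eq_fintype_card]
    exact Nat.card_le_card_of_injective _ Subtype.val_injective
  obtain ⟨k, hk⟩ := hP.card_orbit ω
  have hk1 : k ≤ 1 := by
    by_contra hk2
    have hk3 : 2 ≤ k := by omega
    have : p ^ 2 ≤ p ^ k := Nat.pow_le_pow_right hp.pos hk3
    have h4 : Nat.card O = p ^ k := hk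
    omega
  let ρ : P →* Equiv.Perm O := MulAction.toPermHom P O
  have hR : IsPGroup p ρ.range := hP.of_surjective ρ.rangeRestrict ρ.rangeRestrict_surjective
  obtain ⟨j, hj⟩ := IsPGroup.iff_card.mp hR
  have hdvd : Nat.card ρ.range ∣ (Nat.card O).factorial := by
    have h1 := Subgroup.card_subgroup_dvd_card ρ.range
    rwa [Nat.card_perm] at h1
  have hj1 : j ≤ 1 := by
    by_contra hj2
    have hj3 : p ^ 2 ∣ Nat.card ρ.range := by
      rw [hj]
      exact pow_dvd_pow p (by omega)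
    have h5 := hj3.trans hdvd
    have hfac : (Nat.card O).factorial ∣ p.factorial := by
      apply Nat.factorial_dvd_factorial
      have h4 : Nat.card O = p ^ k := hk
      rw [h4]
      interval_cases k <;> simp [hp.one_le]
    have h6 := h5.trans hfac
    rw [pow_two] at h6
    have h7 : p.factorial = p * (p - 1).factorial := by
      exact (Nat.mul_factorial_pred hp.ne_zero).symm
    rw [h7] at h6
    have h8 : p ∣ (p - 1).factorial := Nat.dvd_of_mul_dvd_mul_left hp.pos h6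
    rw [hp.dvd_factorial] at h8
    have := hp.pos
    omega
  have hcomm : ∀ a ∈ ρ.range, ∀ b ∈ ρ.range, a * b = b * a := by
    haveI : IsCyclic ρ.range := by
      rcases Nat.le_one_iff_eq_zero_or_eq_one.mp hj1 with h0 | h0
      · rw [h0, pow_zero] at hj
        haveI : Subsingleton ρ.range := (Nat.card_eq_one_iff_unique.mp hj).1
        exact isCyclic_of_subsingleton
      · rw [h0, pow_one] at hj
        exact isCyclic_of_prime_card hj
    letI := IsCyclic.commGroup (α := ρ.range)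
    intro a ha b hb
    exact congrArg Subtype.val (mul_comm (⟨a, ha⟩ : ρ.range) ⟨b, hb⟩)
  have h1 := hcomm (ρ ⟨x, hx⟩) ⟨_, rfl⟩ (ρ ⟨y, hy⟩) ⟨_, rfl⟩
  have hω : ω ∈ O := MulAction.mem_orbit_self ω
  have h2 := congrArg (fun f : Equiv.Perm O => ((f ⟨ω, hω⟩ : O) : X)) h1
  exact h2

end perm

section qdact

variable {p : ℕ} [hpf : Fact p.Prime]

theorem units_eq_one_of_half (hp : p ≠ 2) {A : Type*} [Monoid A] (χ : A →* ℤˣ) (T : ZMod p → A)
    (hT : ∀ a b, T (a + b) = T a * T b) (b : ZMod p) : χ (T b) = 1 := by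
  have h2 : (2 : ZMod p) ≠ 0 := by
    intro h
    have : ((2 : ℕ) : ZMod p) = 0 := by exact_mod_cast h
    rw [ZMod.natCast_eq_zero_iff] at this
    exact hp ((Nat.prime_dvd_prime_iff_eq hpf.out Nat.prime_two).mp this)
  have hb : b = b / 2 + b / 2 := by
    field_simp
    ring
  rw [hb, hT, map_mul]
  exact Int.units_mul_self _

/-- Every homomorphism from `Qd(p)` to `±1` is trivial. -/
theorem qd_hom_trivial (hp : p ≠ 2) (χ : Cfsg.qd p →* ℤˣ) (M : Cfsg.qd p) : χ M = 1 := by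
  have h2 : (2 : ZMod p) ≠ 0 := by
    intro h
    have : ((2 : ℕ) : ZMod p) = 0 := by exact_mod_cast h
    rw [ZMod.natCast_eq_zero_iff] at this
    exact hp ((Nat.prime_dvd_prime_iff_eq hpf.out Nat.prime_two).mp this)
  -- translations
  have hT : ∀ u : Fin 2 → ZMod p, χ (qdEl 1 u) = 1 := by
    intro u
    have hu : u = (2 : ZMod p)⁻¹ • u + (2 : ZMod p)⁻¹ • u := by
      rw [← add_smul, ← two_mul, mul_inv_cancel₀ h2, one_smul]
    have h1 : qdEl (1 : SL2 (ZMod p)) u = qdEl 1 ((2 : ZMod p)⁻¹ • u) * qdEl 1 ((2 : ZMod p)⁻¹ • u) := by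
      rw [qdEl_mul, mul_one]
      simp only [Matrix.SpecialLinearGroup.coe_one, Matrix.one_mulVec]
      rw [← hu]
    rw [h1, map_mul]
    exact Int.units_mul_self _
  let E : ZMod p → SL2 (ZMod p) := fun b => sl2Mk 1 b 0 1 (by ring)
  let F : ZMod p → SL2 (ZMod p) := fun c => sl2Mk 1 0 c 1 (by ring)
  have hEadd : ∀ a b, E (a + b) = E a * E b := by
    intro a b
    apply sl2_ext <;> simp [E, sl2_mul_apply, add_comm]
  have hFadd : ∀ a b, F (a + b) = F a * F b := by
    intro a b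
    apply sl2_ext <;> simp [F, sl2_mul_apply, add_comm]
  let B : SL2 (ZMod p) →* Cfsg.qd p :=
    { toFun := fun A => qdEl A 0
      map_one' := qdEl_one
      map_mul' := by
        intro a c
        rw [qdEl_mul]
        simp }
  let ψ : SL2 (ZMod p) →* ℤˣ := χ.comp B
  have hE : ∀ b, ψ (E b) = 1 := units_eq_one_of_half hp ψ E hEadd
  have hF : ∀ b, ψ (F b) = 1 := units_eq_one_of_half hp ψ F hFadd
  have hgen : ∀ A : SL2 (ZMod p), (A : Matrix (Fin 2) (Fin 2) (ZMod p)) 1 0 ≠ 0 → ψ A = 1 := by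
    intro A hc
    have hdet := sl2_det A
    obtain ⟨a, ha⟩ : ∃ a, a = (A : Matrix (Fin 2) (Fin 2) (ZMod p)) 0 0 := ⟨_, rfl⟩
    obtain ⟨b, hb⟩ : ∃ a, a = (A : Matrix (Fin 2) (Fin 2) (ZMod p)) 0 1 := ⟨_, rfl⟩
    obtain ⟨c, hcc⟩ : ∃ a, a = (A : Matrix (Fin 2) (Fin 2) (ZMod p)) 1 0 := ⟨_, rfl⟩
    obtain ⟨d, hd⟩ : ∃ a, a = (A : Matrix (Fin 2) (Fin 2) (ZMod p)) 1 1 := ⟨_, rfl⟩
    rw [← ha, ← hb, ← hcc, ← hd] at hdet
    rw [← hcc] at hc
    have hfac : A = E ((a - 1) / c) * F c * E ((d - 1) / c) := by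
      apply sl2_ext <;> simp [E, F, sl2_mul_apply, ← ha, ← hb, ← hcc, ← hd] <;> field_simp <;> ring_nf
      have : b * c = a * d - 1 := by linear_combination -hdet
      linear_combination this
    rw [hfac, map_mul, map_mul, hE, hE, hF]
    simp
  have hall : ∀ A : SL2 (ZMod p), ψ A = 1 := by
    intro A
    by_cases hc : (A : Matrix (Fin 2) (Fin 2) (ZMod p)) 1 0 = 0
    · have hdet := sl2_det A
      rw [hc, mul_zero, sub_zero] at hdet
      have ha0 : (A : Matrix (Fin 2) (Fin 2) (ZMod p)) 0 0 ≠ 0 := fun h => by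
        rw [h, zero_mul] at hdet
        exact zero_ne_one hdet
      have h1 : ((F 1 * A : SL2 (ZMod p)) : Matrix (Fin 2) (Fin 2) (ZMod p)) 1 0 ≠ 0 := by
        rw [sl2_mul_apply]
        simp [F, hc, ha0]
      have h2 := hgen _ h1
      rw [map_mul, hF, one_mul] at h2
      exact h2
    · exact hgen A hc
  obtain ⟨A, u, rfl⟩ := qdEl_surj M
  have h1 : qdEl A u = qdEl 1 u * B A := by
    show qdEl A u = qdEl 1 u * qdEl A 0
    rw [qdEl_mul]
    simp
  rw [h1, map_mul, hT]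
  exact (one_mul _).trans (hall A)

/-- The action of `Qd(p)` on vectors. -/
def qdAct (M : Cfsg.qd p) (v : Fin 2 → ZMod p) : Fin 2 → ZMod p :=
  fun i => ((M : Matrix.SpecialLinearGroup (Fin 3) (ZMod p)) : Matrix (Fin 3) (Fin 3) (ZMod p)) (Fin.castLE (by omega) i) 0 * v 0 +
    ((M : Matrix.SpecialLinearGroup (Fin 3) (ZMod p)) : Matrix (Fin 3) (Fin 3) (ZMod p)) (Fin.castLE (by omega) i) 1 * v 1 +
    ((M : Matrix.SpecialLinearGroup (Fin 3) (ZMod p)) : Matrix (Fin 3) (Fin 3) (ZMod p)) (Fin.castLE (by omega) i) 2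

theorem qdAct_one (v : Fin 2 → ZMod p) : qdAct (1 : Cfsg.qd p) v = v := by
  funext i
  fin_cases i <;> simp [qdAct]

theorem qdAct_mul (M N : Cfsg.qd p) (v : Fin 2 → ZMod p) : qdAct (M * N) v = qdAct M (qdAct N v) := by
  obtain ⟨h0, h1, h2⟩ := qd_lastRow _ N.2
  obtain ⟨m, hm⟩ : ∃ m : Matrix (Fin 3) (Fin 3) (ZMod p), m = ((M : Matrix.SpecialLinearGroup (Fin 3) (ZMod p)) : Matrix (Fin 3) (Fin 3) (ZMod p)) := ⟨_, rfl⟩
  obtain ⟨n, hn⟩ : ∃ m : Matrix (Fin 3) (Fin 3) (ZMod p), m = ((N : Matrix.SpecialLinearGroup (Fin 3) (ZMod p)) : Matrix (Fin 3) (Fin 3) (ZMod p)) := ⟨_, rfl⟩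
  have hmn : (((M * N : Cfsg.qd p) : Matrix.SpecialLinearGroup (Fin 3) (ZMod p)) : Matrix (Fin 3) (Fin 3) (ZMod p)) = m * n := by
    rw [hm, hn]
    rfl
  rw [← hn] at h0 h1 h2
  funext i
  simp only [qdAct, hmn, ← hm, ← hn, Matrix.mul_apply, Fin.sum_univ_three, h0, h1, h2]
  fin_cases i <;> simp <;> ring

/-- The permutation representation. -/
def qdPerm : Cfsg.qd p →* Equiv.Perm (Fin 2 → ZMod p) where
  toFun M :=
    { toFun := qdAct M
      invFun := qdAct M⁻¹
      left_inv := fun v => by rw [← qdAct_mul, inv_mul_cancel, qdAct_one]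
      right_inv := fun v => by rw [← qdAct_mul, mul_inv_cancel, qdAct_one] }
  map_one' := by
    ext v
    rw [Equiv.coe_fn_mk, qdAct_one]
    rfl
  map_mul' := by
    intro M N
    ext v
    simp only [Equiv.coe_fn_mk, qdAct_mul, Equiv.Perm.coe_mul, Function.comp_apply]

theorem qdPerm_apply (M : Cfsg.qd p) (v : Fin 2 → ZMod p) : qdPerm M v = qdAct M v := rfl

theorem qdPerm_injective : Function.Injective (qdPerm (p := p)) := by
  rw [injective_iff_map_eq_one]
  intro M hM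
  have hfix : ∀ v, qdAct M v = v := fun v => by
    rw [← qdPerm_apply, hM]
    rfl
  obtain ⟨h0, h1, h2⟩ := qd_lastRow _ M.2
  have e0 := congrFun (hfix 0) 0
  have e1 := congrFun (hfix 0) 1
  have a0 := congrFun (hfix ![1, 0]) 0
  have a1 := congrFun (hfix ![1, 0]) 1
  have b0 := congrFun (hfix ![0, 1]) 0
  have b1 := congrFun (hfix ![0, 1]) 1
  simp [qdAct] at e0 e1 a0 a1 b0 b1
  simp only [e0, e1, add_zero] at a0 a1 b0 b1
  apply Subtype.ext
  apply Subtype.ext
  ext i j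
  fin_cases i <;> fin_cases j <;> simp [*]

end qdact

/-- Let p be an odd prime and n a natural number. The alternating group of degree n has a subgroup isomorphic to Qd(p) (the natural semidirect product of an elementary abelian group of order p² by SL₂(p)) if and only if n ≥ p²; and if n < p² then Qd(p) is not even involved in it. -/
theorem result {p : ℕ} [Fact p.Prime] (hp : p ≠ 2) (n : ℕ) : ((∃ H : Subgroup (alternatingGroup (Fin n)), Nonempty (↥H ≃* ↥(Cfsg.qd p))) ↔ p ^ 2 ≤ n) ∧ (n < p ^ 2 → ¬ Cfsg.Involves ↥(Cfsg.qd p) ↥(alternatingGroup (Fin n))) := by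
  classical
  have hp' : p.Prime := Fact.out
  have hcomm : n < p ^ 2 → ∀ W : Subgroup ↥(alternatingGroup (Fin n)), IsPGroup p W →
      ∀ x ∈ W, ∀ y ∈ W, x * y = y * x := by
    intro hn
    exact pSubgroups_comm_subgroup _ (perm_pSub_comm (by simpa using hn))
  refine ⟨⟨?_, ?_⟩, ?_⟩
  · rintro ⟨H, ⟨e⟩⟩
    by_contra hn
    have hn' : n < p ^ 2 := by omega
    have h1 := pSubgroups_comm_subgroup H (hcomm hn')
    have h2 := pSubgroups_comm_of_surjective e.toMonoidHom e.surjective h1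
    exact qd_not_pSubgroups_comm hp h2
  · intro hn
    have hcard : Fintype.card (Fin 2 → ZMod p) ≤ Fintype.card (Fin n) := by
      simp [ZMod.card]
      exact hn
    obtain ⟨ι⟩ := Function.Embedding.nonempty_of_card_le hcard
    let Ψ : Cfsg.qd p →* Equiv.Perm (Fin n) := (Equiv.Perm.viaEmbeddingHom ι).comp qdPerm
    have hΨi : Function.Injective Ψ :=
      (Equiv.Perm.viaEmbeddingHom_injective ι).comp qdPerm_injective
    have hsign : ∀ M, Ψ M ∈ alternatingGroup (Fin n) := by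
      intro M
      rw [Equiv.Perm.mem_alternatingGroup]
      exact qd_hom_trivial hp (Equiv.Perm.sign.comp Ψ) M
    let Ψ' : Cfsg.qd p →* ↥(alternatingGroup (Fin n)) := Ψ.codRestrict _ hsign
    have hΨ'i : Function.Injective Ψ' := by
      intro a b hab
      exact hΨi (congrArg Subtype.val hab)
    exact ⟨Ψ'.range, ⟨(MonoidHom.ofInjective hΨ'i).symm⟩⟩
  · rintro hn ⟨K, R, hN, ⟨e⟩⟩
    exact qd_not_pSubgroups_comm hp (pSubgroups_comm_of_section K R hN e (hcomm hn))

end Cfsg.Agent.S3835
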