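import Cfsg.Statements.S3868
-- import your own Cfsg.Agent.* helpers here
import Mathlib
import Cfsg.Agent.Lib.Coprime.MinClosed
import Cfsg.Agent.Lib.Coprime.SZ

set_option autoImplicit false
open Cfsg

namespace Cfsg.Agent.S3868

open scoped Pointwise

/-- In a `p`-closed subgroup `K` containing a Sylow subgroup `P`, all `p`-subgroups lie in `P`. -/
theorem le_sylow_of_closed {G : Type*} [Group G] [Finite G] {p : ℕ} [Fact p.Prime] {K : Subgroup G}
    (hK : Cfsg.IsPClosed p K) (P : Sylow p G) (hPK : (P : Subgroup G) ≤ K) {R : Subgroup G}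
    (hR : IsPGroup p R) (hRK : R ≤ K) : R ≤ P := by
  have h1 : IsPGroup p ((P : Subgroup G).comap K.subtype) := P.isPGroup'.comap_subtype
  have h2 : IsPGroup p (R.comap K.subtype) := hR.comap_subtype
  obtain ⟨S₁, hS₁⟩ := h1.exists_le_sylow
  obtain ⟨S₂, hS₂⟩ := h2.exists_le_sylow
  have h3 : S₂ = S₁ := by
    haveI := Sylow.unique_of_normal S₁ (hK S₁)
    exact Subsingleton.elim _ _
  have h4 : IsPGroup p ((S₁ : Subgroup K).map K.subtype) := S₁.isPGroup'.map _
  have h5 : (P : Subgroup G) ≤ (S₁ : Subgroup K).map K.subtype := by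
    intro a ha
    exact ⟨⟨a, hPK ha⟩, hS₁ ha, rfl⟩
  have h6 := P.is_maximal' h4 h5
  intro r hr
  have h7 : (r : G) ∈ (S₁ : Subgroup K).map K.subtype :=
    ⟨⟨r, hRK hr⟩, by rw [← h3]; exact hS₂ hr, rfl⟩
  rw [h6] at h7
  exact h7

/-- A `p`-element of a `p`-closed `K` centralizes each `p'`-subgroup of `K` that it normalizes. -/
theorem comm_of_closed {G : Type*} [Group G] [Finite G] {p : ℕ} [Fact p.Prime] {K : Subgroup G}
    (hK : Cfsg.IsPClosed p K) {R : Subgroup G} (hRK : R ≤ K) (hR : (Nat.card R).Coprime p) {y : G}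
    (hyK : y ∈ K) (hy : IsPGroup p (Subgroup.zpowers y)) (hyR : y ∈ Subgroup.normalizer (R : Set G)) :
    y ∈ Subgroup.centralizer (R : Set G) := by
  have h2 : IsPGroup p ((Subgroup.zpowers y).comap K.subtype) := hy.comap_subtype
  obtain ⟨S, hS⟩ := h2.exists_le_sylow
  have hSn := hK S
  have hTn : K ≤ Subgroup.normalizer (((S : Subgroup K).map K.subtype : Subgroup G) : Set G) := by
    intro k hk
    rw [Subgroup.mem_normalizer_iff]
    intro h
    constructor
    · rintro ⟨s, hs, rfl⟩
      exact ⟨⟨k, hk⟩ * s * ⟨k, hk⟩⁻¹, hSn.conj_mem s hs _, rfl⟩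
    · rintro ⟨s, hs, hsh⟩
      refine ⟨⟨k, hk⟩⁻¹ * s * ⟨k, hk⟩, ?_, ?_⟩
      · have := hSn.conj_mem s hs (⟨k, hk⟩⁻¹)
        rw [inv_inv] at this
        exact this
      · simp only [Subgroup.subtype_apply] at hsh
        simp [hsh, mul_assoc]
  have hdisj : Disjoint ((S : Subgroup K).map K.subtype) R := by
    apply Subgroup.disjoint_of_coprime_natCard
    have h3 : IsPGroup p ((S : Subgroup K).map K.subtype) := S.isPGroup'.map _
    obtain ⟨k, hk⟩ := IsPGroup.iff_card.mp h3
    rw [hk]
    exact Nat.Coprime.pow_left k hR.symm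
  refine Cfsg.Agent.Lib.Coprime.MinClosed.comm_of_normal_disjoint hTn hRK hdisj ?_ hyR
  exact ⟨⟨y, hyK⟩, hS (Subgroup.mem_zpowers y), rfl⟩

/-- Structure of the non-simple minimal non-p-closed groups. Call a finite group p-closed when its Sylow p-subgroups are normal, and minimal non-p-closed when it is not p-closed but every proper subgroup and every proper quotient is. If such a group G is not simple, then there is a prime q ≠ p such that G has order p · q^e, where e is the multiplicative order of q modulo p, and G has a normal subgroup A of order q^e that is elementary abelian and is a minimal normal subgroup of G (so G is the semidirect product of A by a group of order p acting irreducibly). -/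
theorem result {G : Type*} [Group G] [Finite G] {p : ℕ} [Fact p.Prime]
    (hnc : ¬ Cfsg.IsPClosed p G) (hsub : ∀ H : Subgroup G, H ≠ ⊤ → Cfsg.IsPClosed p ↥H)
    (hquo : ∀ (N : Subgroup G) [N.Normal], N ≠ ⊥ → Cfsg.IsPClosed p (G ⧸ N)) (hns : ¬ IsSimpleGroup G) :
    ∃ q : ℕ, q.Prime ∧ q ≠ p ∧ Nat.card G = p * q ^ orderOf (q : ZMod p) ∧
      ∃ A : Subgroup G, A.Normal ∧ Nat.card ↥A = q ^ orderOf (q : ZMod p) ∧ Cfsg.IsElementaryAbelian q A ∧
        ∀ B : Subgroup G, B.Normal → B ≤ A → B = ⊥ ∨ B = A := by
  classical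
  have hp : p.Prime := Fact.out
  obtain ⟨P⟩ : Nonempty (Sylow p G) := inferInstance
  -- `P` is not normal
  have hPnn : ¬ (P : Subgroup G).Normal := by
    intro hn
    apply hnc
    intro Q
    have h0 : Q = P := by
      haveI := Sylow.unique_of_normal P hn
      exact Subsingleton.elim _ _
    rw [h0]
    exact hn
  have hPtop : (P : Subgroup G) ≠ ⊤ := by
    intro h
    apply hPnn
    rw [h]
    infer_instance
  -- Step A
  have hA : ∀ M : Subgroup G, M.Normal → M ≠ ⊥ → (P : Subgroup G) ⊔ M = ⊤ := by
    intro M hM hMne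
    by_contra hne
    have hqcl := hquo M hMne
    have hmap := hqcl (P.mapSurjective (QuotientGroup.mk'_surjective M))
    rw [Sylow.coe_mapSurjective] at hmap
    have hKn : ((P : Subgroup G) ⊔ M).Normal := by
      have h1 := hmap.comap (QuotientGroup.mk' M)
      rw [Subgroup.comap_map_eq, QuotientGroup.ker_mk'] at h1
      exact h1
    have hcl := hsub _ hne
    apply hPnn
    constructor
    intro n hn g
    have hR : IsPGroup p ((P : Subgroup G).map (MulAut.conj g).toMonoidHom) := P.isPGroup'.map _
    have hRK : (P : Subgroup G).map (MulAut.conj g).toMonoidHom ≤ (P : Subgroup G) ⊔ M := by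
      rintro _ ⟨a, ha, rfl⟩
      exact hKn.conj_mem a (Subgroup.mem_sup_left ha) g
    exact le_sylow_of_closed hcl P le_sup_left hR hRK ⟨n, hn, rfl⟩
  -- nontrivial
  have hnt : Nontrivial G := by
    by_contra hno
    rw [not_nontrivial_iff_subsingleton] at hno
    apply hPtop
    exact Subsingleton.elim _ _
  obtain ⟨N, hNn, hNbot, hNtop, hmin⟩ := Cfsg.Agent.Lib.Coprime.MinClosed.exists_minimal_normal hns hnt
  haveI := hNn
  -- Step B : `p ∤ |N|`
  have hNcop : (Nat.card N).Coprime p := by
    rw [Nat.coprime_comm, Nat.Prime.coprime_iff_not_dvd hp]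
    intro hdvd
    obtain ⟨S⟩ : Nonempty (Sylow p N) := inferInstance
    have hSn : (S : Subgroup N).Normal := hsub N hNtop S
    haveI hSc : (S : Subgroup N).Characteristic := Sylow.characteristic_of_normal S hSn
    have hTn := Cfsg.Agent.Lib.Coprime.normal_map_subtype_of_characteristic N (S : Subgroup N)
    rcases hmin _ hTn (Subgroup.map_subtype_le _) with h0 | h0
    · have hSbot : (S : Subgroup N) = ⊥ := by
        rw [eq_bot_iff]
        intro a ha
        have h1 : (a : G) ∈ (S : Subgroup N).map N.subtype := ⟨a, ha, rfl⟩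
        rw [h0, Subgroup.mem_bot] at h1
        exact Subgroup.mem_bot.mpr (Subtype.ext h1)
      exact S.ne_bot_of_dvd_card hdvd hSbot
    · have h1 : IsPGroup p N := by
        have h2 : IsPGroup p ((S : Subgroup N).map N.subtype) := S.isPGroup'.map _
        rwa [h0] at h2
      have h3 : N ≤ P := h1.le_sylow_of_normal P
      have h4 := hA N hNn hNbot
      rw [sup_eq_left.mpr h3] at h4
      exact hPtop h4
  -- complements
  have hPcop : (Nat.card N).Coprime (Nat.card (P : Subgroup G)) := by
    obtain ⟨k, hk⟩ := IsPGroup.iff_card.mp P.isPGroup'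
    rw [hk]
    exact Nat.Coprime.pow_right k hNcop
  have hcP : Subgroup.IsComplement' N P := by
    apply Cfsg.Agent.Lib.Coprime.MinClosed.complement_of_sup_eq_top hPcop
    rw [sup_comm]
    exact hA N hNn hNbot
  have hcardG : Nat.card N * Nat.card (P : Subgroup G) = Nat.card G := hcP.card_mul_card
  -- Step D
  have hD : ∀ y ∈ (P : Subgroup G), Subgroup.zpowers y ≠ P → y ∈ Subgroup.centralizer (N : Set G) := by
    intro y hy hyP
    have hyle : Subgroup.zpowers y ≤ P := by rw [Subgroup.zpowers_le]; exact hy
    have hzp : IsPGroup p (Subgroup.zpowers y) := P.isPGroup'.to_le hyle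
    have hne : N ⊔ Subgroup.zpowers y ≠ ⊤ := by
      intro h
      have hcop : (Nat.card N).Coprime (Nat.card (Subgroup.zpowers y)) := by
        obtain ⟨k, hk⟩ := IsPGroup.iff_card.mp hzp
        rw [hk]
        exact Nat.Coprime.pow_right k hNcop
      have hc := Cfsg.Agent.Lib.Coprime.MinClosed.complement_of_sup_eq_top hcop h
      have h1 := hc.card_mul_card
      have hNpos : 0 < Nat.card N := Nat.card_pos
      have h2 : Nat.card (Subgroup.zpowers y) = Nat.card (P : Subgroup G) := by
        have h3 : Nat.card N * Nat.card (Subgroup.zpowers y) = Nat.card N * Nat.card (P : Subgroup G) := by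
          rw [h1, hcardG]
        exact Nat.eq_of_mul_eq_mul_left hNpos h3
      exact hyP (Subgroup.eq_of_le_of_card_ge hyle h2.ge)
    refine comm_of_closed (hsub _ hne) le_sup_left hNcop
      (Subgroup.mem_sup_right (Subgroup.mem_zpowers y)) hzp ?_
    rw [Subgroup.normalizer_eq_top_iff.mpr hNn]
    trivial
  -- exists `x`
  obtain ⟨x, hxP, hxN⟩ : ∃ x ∈ (P : Subgroup G), x ∉ Subgroup.centralizer (N : Set G) := by
    by_contra hno
    push Not at hno
    apply hPnn
    rw [← Subgroup.normalizer_eq_top_iff, eq_top_iff, ← hcP.sup_eq_top]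
    refine sup_le ?_ Subgroup.le_normalizer
    intro n hn
    rw [Subgroup.mem_normalizer_iff]
    intro h
    constructor
    · intro hh
      have h1 := (Subgroup.mem_centralizer_iff.mp (hno h hh)) n hn
      rw [h1]
      simpa using hh
    · intro hh
      have h2 : n * h * n⁻¹ ∈ (P : Subgroup G) := hh
      have h1 := (Subgroup.mem_centralizer_iff.mp (hno _ h2)) n hn
      have h3 : n * h * n⁻¹ = h :=
        mul_left_cancel (a := n) (by rw [h1]; group)
      rwa [h3] at hh
  have hxzp : Subgroup.zpowers x = P := by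
    by_contra h
    exact hxN (hD x hxP h)
  have hx1 : x ≠ 1 := by
    rintro rfl
    apply hxN
    exact Subgroup.one_mem _
  -- order `p`
  have hxo : orderOf x = p := by
    -- `x ^ p` is central
    obtain ⟨k, hk⟩ := (IsPGroup.iff_card.mp P.isPGroup')
    have hord : Nat.card (P : Subgroup G) = orderOf x := by
      rw [← hxzp, Nat.card_zpowers]
    have hkpos : k ≠ 0 := by
      rintro rfl
      apply hx1
      rw [hord] at hk
      exact orderOf_eq_one_iff.mp (by simpa using hk)
    have hpd : p ∣ orderOf x := by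
      rw [← hord, hk]
      exact dvd_pow_self _ hkpos
    by_contra hne
    have hxp : Subgroup.zpowers (x ^ p) ≠ P := by
      intro h
      have h1 : Nat.card (Subgroup.zpowers (x ^ p)) = orderOf x := by rw [h]; exact hord
      rw [Nat.card_zpowers, orderOf_pow' x hp.ne_zero,
        Nat.gcd_eq_right hpd] at h1
      have hpos : 0 < orderOf x := by rw [← hord]; exact Nat.card_pos
      have h2 := Nat.div_eq_self.mp h1
      rcases h2 with h3 | h3
      · omega
      · exact hp.one_lt.ne' h3
    have hcent := hD _ (Subgroup.pow_mem _ hxP p) hxp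
    have hZ : (Subgroup.zpowers (x ^ p)).Normal := by
      rw [← Subgroup.normalizer_eq_top_iff, eq_top_iff, ← hcP.sup_eq_top]
      have hgen : ∀ g : G, g * x ^ p = x ^ p * g → g ∈ Subgroup.normalizer ((Subgroup.zpowers (x ^ p) : Subgroup G) : Set G) := by
        intro g hg
        have hcz : ∀ j : ℤ, g * (x ^ p) ^ j * g⁻¹ = (x ^ p) ^ j := by
          intro j
          have : Commute g ((x ^ p) ^ j) := (show Commute g (x ^ p) from hg).zpow_right j
          rw [this.eq]
          group
        rw [Subgroup.mem_normalizer_iff]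
        intro h
        constructor
        · intro hh
          obtain ⟨j, rfl⟩ := Subgroup.mem_zpowers_iff.mp hh
          rw [hcz]
          exact hh
        · intro hh
          obtain ⟨j, hj⟩ := Subgroup.mem_zpowers_iff.mp hh
          have h7 : h = (x ^ p) ^ j := by
            have h9 : g * (x ^ p) ^ j * g⁻¹ = g * h * g⁻¹ := by rw [hcz, hj]
            exact (mul_left_cancel (mul_right_cancel h9)).symm
          rw [h7]
          exact Subgroup.zpow_mem _ (Subgroup.mem_zpowers _) j
      refine sup_le ?_ ?_
      · intro n hn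
        apply hgen
        exact ((Subgroup.mem_centralizer_iff.mp hcent) n hn)
      · intro y hy
        apply hgen
        rw [← hxzp] at hy
        obtain ⟨j, rfl⟩ := Subgroup.mem_zpowers_iff.mp hy
        exact (Commute.pow_right (Commute.zpow_self x j) p)
    have hZne : Subgroup.zpowers (x ^ p) ≠ ⊥ := by
      intro h
      rw [Subgroup.zpowers_eq_bot] at h
      have h1 : orderOf x ∣ p := orderOf_dvd_of_pow_eq_one h
      rcases (Nat.dvd_prime hp).mp h1 with h2 | h2
      · exact hx1 (orderOf_eq_one_iff.mp h2)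
      · exact hne h2
    have h2 := hA _ hZ hZne
    rw [sup_eq_left.mpr (by rw [Subgroup.zpowers_le]; exact Subgroup.pow_mem _ hxP p)] at h2
    exact hPtop h2
  have hcardG' : Nat.card G = p * Nat.card N := by
    rw [← hcardG, ← hxzp, Nat.card_zpowers, hxo, mul_comm]
  -- hQ
  have hQ : ∀ Q : Subgroup G, Q ≤ N → x ∈ Subgroup.normalizer (Q : Set G) → Q ≠ N →
      x ∈ Subgroup.centralizer (Q : Set G) := by
    intro Q hQN hxQ hQne
    have hne : Q ⊔ Subgroup.zpowers x ≠ ⊤ := by
      intro h
      apply hQne
      apply le_antisymm hQN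
      intro n hn
      have hle : Subgroup.zpowers x ≤ Subgroup.normalizer (Q : Set G) := by
        rw [Subgroup.zpowers_le]; exact hxQ
      have hset := Subgroup.coe_mul_of_left_le_normalizer_right _ _ hle
      rw [sup_comm, h] at hset
      have hn' : n ∈ ((Subgroup.zpowers x : Subgroup G) : Set G) * (Q : Set G) := by
        rw [← hset]; trivial
      obtain ⟨u, hu, v, hv, rfl⟩ := Set.mem_mul.mp hn'
      have hvN : v ∈ N := hQN hv
      have huN : u ∈ N := by
        have := N.mul_mem hn (N.inv_mem hvN)
        simpa using this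
      have hu1 : u = 1 := by
        have hd : Disjoint N (P : Subgroup G) := Subgroup.disjoint_of_coprime_natCard hPcop
        exact Subgroup.disjoint_def.mp hd huN (by rw [← hxzp]; exact hu)
      rw [hu1, one_mul]
      exact hv
    have hQcop : (Nat.card Q).Coprime p :=
      Nat.Coprime.coprime_dvd_left (Subgroup.card_dvd_of_le hQN) hNcop
    have hzp : IsPGroup p (Subgroup.zpowers x) := by rw [hxzp]; exact P.isPGroup'
    exact comm_of_closed (hsub _ hne) le_sup_left hQcop
      (Subgroup.mem_sup_right (Subgroup.mem_zpowers x)) hzp hxQ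
  exact Cfsg.Agent.Lib.Coprime.MinClosed.final_structure N x hxo hNcop hcardG' hQ hxN hmin

end Cfsg.Agent.S3868
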