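import Cfsg.Statements.S3869
-- import your own Cfsg.Agent.* helpers here
import Mathlib
import Cfsg.Agent.Lib.Coprime.MinClosed

set_option autoImplicit false
open Cfsg

namespace Cfsg.Agent.S3869

open Subgroup in

/-- Let p and q be distinct primes and G a finite non-abelian group with a normal elementary abelian q-subgroup A that is a minimal normal subgroup of G and has index p. Then A has order q^e with e the multiplicative order of q modulo p, and G is minimal non-p-closed: its Sylow p-subgroups are not normal, while in every proper subgroup and in every proper quotient of G the Sylow p-subgroups are normal. -/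
theorem result {G : Type*} [Group G] [Finite G] {p q : ℕ} [Fact p.Prime] (hq : q.Prime) (hpq : q ≠ p)
    (hna : ¬ IsMulCommutative G) (A : Subgroup G) [A.Normal] (hA : Cfsg.IsElementaryAbelian q A) (hidx : A.index = p)
    (hmin : ∀ B : Subgroup G, B.Normal → B ≤ A → B = ⊥ ∨ B = A) :
    Nat.card ↥A = q ^ orderOf (q : ZMod p) ∧ ¬ Cfsg.IsPClosed p G ∧ (∀ H : Subgroup G, H ≠ ⊤ → Cfsg.IsPClosed p ↥H) ∧
      ∀ (N : Subgroup G) [N.Normal], N ≠ ⊥ → Cfsg.IsPClosed p (G ⧸ N) := by
  classical
  have hp : p.Prime := Fact.out
  haveI : Fact q.Prime := ⟨hq⟩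
  haveI hAn : A.Normal := inferInstance
  have hAcomm : ∀ a ∈ A, ∀ b ∈ A, a * b = b * a := fun a ha b hb =>
    congrArg (fun z : A => (z : G)) (hA.1.is_comm.comm ⟨a, ha⟩ ⟨b, hb⟩)
  have hAq : IsPGroup q A := by
    intro a
    refine ⟨1, ?_⟩
    apply Subtype.ext
    simpa using hA.2 a a.2
  have hcoat : IsCoatom A := Cfsg.Agent.Lib.Transfer.isCoatom_of_index_prime (by rw [hidx]; exact hp)
  have hcardG : Nat.card G = Nat.card A * p := by
    rw [← Subgroup.card_mul_index A, hidx]
  have hAcop : (Nat.card A).Coprime p := by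
    obtain ⟨k, hk⟩ := IsPGroup.iff_card.mp hAq
    rw [hk]
    exact Nat.Coprime.pow_left k ((Nat.coprime_primes hq hp).mpr hpq)
  -- element of order `p`
  obtain ⟨x, hxo⟩ := exists_prime_orderOf_dvd_card' p (show p ∣ Nat.card G by rw [hcardG]; exact dvd_mul_left _ _)
  have hxA0 : x ∉ A := by
    intro hx
    have h1 : orderOf x ∣ q := orderOf_dvd_of_pow_eq_one (hA.2 x hx)
    rw [hxo] at h1
    exact hpq ((Nat.prime_dvd_prime_iff_eq hp hq).mp h1).symm
  -- general: not in `A` ⇒ with `A` generates
  have hsupof : ∀ H : Subgroup G, ¬ H ≤ A → A ⊔ H = ⊤ := by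
    intro H hH
    apply hcoat.2
    exact lt_of_le_of_ne le_sup_left (fun h => hH (by rw [h]; exact le_sup_right))
  have hxzp : A ⊔ Subgroup.zpowers x = ⊤ :=
    hsupof _ (fun h => hxA0 (h (Subgroup.mem_zpowers x)))
  have hxA : x ∉ Subgroup.centralizer (A : Set G) := by
    intro hx
    apply hna
    refine IsMulCommutative.of_comm ?_
    have hXcomm : ∀ a ∈ A, ∀ y ∈ Subgroup.zpowers x, Commute y a := by
      intro a ha y hy
      obtain ⟨k, rfl⟩ := Subgroup.mem_zpowers_iff.mp hy
      have h1 : Commute x a := ((Subgroup.mem_centralizer_iff.mp hx) a ha).symm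
      exact (h1.zpow_left k)
    have hZcomm : ∀ u ∈ Subgroup.zpowers x, ∀ v ∈ Subgroup.zpowers x, u * v = v * u := by
      intro u hu v hv
      obtain ⟨k, rfl⟩ := Subgroup.mem_zpowers_iff.mp hu
      obtain ⟨l, rfl⟩ := Subgroup.mem_zpowers_iff.mp hv
      exact (Commute.zpow_zpow_self x k l)
    intro a b
    have ha : a ∈ A ⊔ Subgroup.zpowers x := by rw [hxzp]; trivial
    have hb : b ∈ A ⊔ Subgroup.zpowers x := by rw [hxzp]; trivial
    obtain ⟨u, hu, v, hv, rfl⟩ := Subgroup.mem_sup_of_normal_left.mp ha
    obtain ⟨u', hu', v', hv', rfl⟩ := Subgroup.mem_sup_of_normal_left.mp hb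
    have h1 := hXcomm u hu v' hv'
    have h2 := hXcomm u' hu' v hv
    have h3 := hAcomm u hu u' hu'
    have h4 := hZcomm v hv v' hv'
    calc u * v * (u' * v') = u * (v * u') * v' := by group
      _ = u * (u' * v) * v' := by rw [h2.eq]
      _ = (u * u') * (v * v') := by group
      _ = (u' * u) * (v' * v) := by rw [h3, h4]
      _ = u' * (u * v') * v := by group
      _ = u' * (v' * u) * v := by rw [h1.symm.eq]
      _ = u' * v' * (u * v) := by group
  -- normalizer of subgroups of `A` contains `A`
  have hAnorm : ∀ B : Subgroup G, B ≤ A → A ≤ Subgroup.normalizer (B : Set G) := by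
    intro B hBA n hn
    rw [Subgroup.mem_normalizer_iff]
    intro h
    constructor
    · intro hh
      have h1 : n * h * n⁻¹ = h := by
        rw [hAcomm n hn h (hBA hh)]
        group
      rwa [h1]
    · intro hh
      have hhN : n * h * n⁻¹ ∈ A := hBA hh
      have hhN' : h ∈ A := by
        have := hAn.conj_mem _ hhN n⁻¹
        simpa [mul_assoc] using this
      have h1 : n * h * n⁻¹ = h := by
        rw [hAcomm n hn h hhN']
        group
      rwa [h1] at hh
  have hcard : Nat.card ↥A = q ^ orderOf (q : ZMod p) := by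
    refine Cfsg.Agent.Lib.Coprime.MinClosed.card_of_irred_action hpq hA x
      (by rw [← hxo]; exact pow_orderOf_eq_one x) hxA ?_
    intro B hBA hxB
    apply hmin B ?_ hBA
    rw [← Subgroup.normalizer_eq_top_iff, eq_top_iff, ← hxzp]
    refine sup_le (hAnorm B hBA) ?_
    rw [Subgroup.zpowers_le]
    exact hxB
  refine ⟨hcard, ?_, ?_, ?_⟩
  · -- not `p`-closed
    intro hcl
    have hzp : IsPGroup p (Subgroup.zpowers x) := by
      rw [IsPGroup.iff_card, Nat.card_zpowers, hxo]
      exact ⟨1, (pow_one p).symm⟩
    obtain ⟨P, hP⟩ := hzp.exists_le_sylow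
    have hPn := hcl P
    have hPx : x ∈ (P : Subgroup G) := hP (Subgroup.mem_zpowers x)
    apply hxA
    rw [Subgroup.mem_centralizer_iff]
    intro a ha
    have hdisj : Disjoint (P : Subgroup G) A := by
      apply Subgroup.disjoint_of_coprime_natCard
      obtain ⟨k, hk⟩ := IsPGroup.iff_card.mp P.isPGroup'
      rw [hk]
      exact (Nat.Coprime.pow_left k hAcop.symm)
    have h1 : x * a * x⁻¹ * a⁻¹ ∈ (P : Subgroup G) := by
      have h2 : a * x⁻¹ * a⁻¹ ∈ (P : Subgroup G) := hPn.conj_mem _ (Subgroup.inv_mem _ hPx) a
      have h3 := Subgroup.mul_mem _ hPx h2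
      simpa [mul_assoc] using h3
    have h4 : x * a * x⁻¹ * a⁻¹ ∈ A := by
      have h2 : x * a * x⁻¹ ∈ A := hAn.conj_mem a ha x
      exact A.mul_mem h2 (A.inv_mem ha)
    have h5 : x * a * x⁻¹ * a⁻¹ = 1 := Subgroup.disjoint_def.mp hdisj h1 h4
    have h6 : x * a = a * x := by
      have h7 : x * a * x⁻¹ = a := by rwa [mul_inv_eq_one] at h5
      conv_rhs => rw [← h7]
      group
    exact h6.symm
  · -- proper subgroups
    intro H hH
    by_cases hHA : H ≤ A
    · intro P
      haveI : IsMulCommutative H := ⟨⟨fun a b => Subtype.ext (hAcomm a (hHA a.2) b (hHA b.2))⟩⟩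
      exact Subgroup.normal_of_isMulCommutative _
    · have hsup := hsupof H hHA
      have hinfn : (H ⊓ A).Normal := by
        rw [← Subgroup.normalizer_eq_top_iff, eq_top_iff, ← hsup]
        refine sup_le (hAnorm _ inf_le_right) ?_
        intro h hh
        rw [Subgroup.mem_normalizer_iff]
        intro y
        constructor
        · intro hy
          exact Subgroup.mem_inf.mpr ⟨H.mul_mem (H.mul_mem hh (Subgroup.mem_inf.mp hy).1) (H.inv_mem hh),
            hAn.conj_mem _ (Subgroup.mem_inf.mp hy).2 h⟩
        · intro hy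
          have h1 := (Subgroup.mem_inf.mp hy).1
          have h2 := (Subgroup.mem_inf.mp hy).2
          refine Subgroup.mem_inf.mpr ⟨?_, ?_⟩
          · have := H.mul_mem (H.mul_mem (H.inv_mem hh) h1) hh
            simpa [mul_assoc] using this
          · have := hAn.conj_mem _ h2 h⁻¹
            simpa [mul_assoc] using this
      rcases hmin _ hinfn inf_le_right with h0 | h0
      · -- `H` is a `p`-group
        have hd : Nat.card H ∣ p := by
          have h1 : A.relIndex H ∣ A.index := Subgroup.relIndex_dvd_index_of_normal A H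
          rw [hidx] at h1
          have h2 : A.relIndex H = Nat.card H := by
            have h3 : A.subgroupOf H = ⊥ := by
              rw [eq_bot_iff]
              intro a ha
              rw [Subgroup.mem_subgroupOf] at ha
              have h4 : (a : G) ∈ H ⊓ A := Subgroup.mem_inf.mpr ⟨a.2, ha⟩
              rw [h0, Subgroup.mem_bot] at h4
              exact (Subgroup.mem_bot).mpr (Subtype.ext h4)
            rw [Subgroup.relIndex, h3, Subgroup.index_bot]
          rwa [h2] at h1
        have hHp : IsPGroup p H := by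
          rcases (Nat.dvd_prime hp).mp hd with h1 | h1
          · exact IsPGroup.of_card (n := 0) (by simpa using h1)
          · exact IsPGroup.of_card (n := 1) (by simpa using h1)
        exact Cfsg.Agent.Lib.Coprime.MinClosed.pClosed_of_isPGroup hHp
      · exfalso
        have hAH : A ≤ H := by
          have : A ≤ H ⊓ A := by rw [h0]
          exact this.trans inf_le_left
        apply hH
        rw [← hsup]
        rw [sup_eq_right.mpr hAH]
  · -- proper quotients
    intro N _ hN
    haveI hNAn : (N ⊓ A).Normal := Subgroup.normal_inf_normal _ _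
    rcases hmin _ hNAn inf_le_right with h0 | h0
    · exfalso
      apply hN
      -- `N` centralizes `A`
      have hNC : N ≤ Subgroup.centralizer (A : Set G) := by
        intro n hn
        rw [Subgroup.mem_centralizer_iff]
        intro a ha
        have h4 : n * a * n⁻¹ * a⁻¹ ∈ N ⊓ A := by
          refine Subgroup.mem_inf.mpr ⟨?_, ?_⟩
          · have h2 : a * n⁻¹ * a⁻¹ ∈ N := (inferInstance : N.Normal).conj_mem _ (N.inv_mem hn) a
            have h3 := N.mul_mem hn h2
            simpa [mul_assoc] using h3
          · exact A.mul_mem (hAn.conj_mem a ha n) (A.inv_mem ha)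
        rw [h0, Subgroup.mem_bot] at h4
        have h7 : n * a * n⁻¹ = a := by rwa [mul_inv_eq_one] at h4
        have h6 : n * a = a * n := by
          conv_rhs => rw [← h7]
          group
        exact h6.symm
      have hCA : Subgroup.centralizer (A : Set G) = A := by
        symm
        by_contra hne
        have hle : A ≤ Subgroup.centralizer (A : Set G) := by
          intro a ha
          rw [Subgroup.mem_centralizer_iff]
          intro b hb
          exact hAcomm b hb a ha
        have hlt : A < Subgroup.centralizer (A : Set G) := lt_of_le_of_ne hle hne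
        have h1 := hcoat.2 _ hlt
        apply hxA
        rw [h1]
        trivial
      have hNA : N ≤ A := hCA ▸ hNC
      rw [eq_bot_iff, ← h0]
      exact le_inf le_rfl hNA
    · have hAN : A ≤ N := by
        have : A ≤ N ⊓ A := by rw [h0]
        exact this.trans inf_le_left
      have hd : Nat.card (G ⧸ N) ∣ p := by
        rw [← Subgroup.index_eq_card, ← hidx]
        exact Subgroup.index_dvd_of_le hAN
      have hHp : IsPGroup p (G ⧸ N) := by
        rcases (Nat.dvd_prime hp).mp hd with h1 | h1
        · exact IsPGroup.of_card (n := 0) (by simpa using h1)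
        · exact IsPGroup.of_card (n := 1) (by simpa using h1)
      exact Cfsg.Agent.Lib.Coprime.MinClosed.pClosed_of_isPGroup hHp

end Cfsg.Agent.S3869
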