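import Cfsg.Statements.S3870
-- import your own Cfsg.Agent.* helpers here
import Mathlib
import Cfsg.Agent.Lib.LocalEven2.Sylow

set_option autoImplicit false
open Cfsg

namespace Cfsg.Agent.S3870

/-- Let G be a finite simple group whose Sylow p-subgroups are not normal but such that every proper subgroup of G has a normal Sylow p-subgroup. Then any two distinct Sylow p-subgroups of G intersect trivially, and for every Sylow p-subgroup P the normalizer of every non-identity subgroup of P lies in the normalizer of P. -/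
theorem result {G : Type*} [Group G] [Finite G] [IsSimpleGroup G] {p : ℕ} [Fact p.Prime]
    (hnc : ¬ Cfsg.IsPClosed p G) (hsub : ∀ H : Subgroup G, H ≠ ⊤ → Cfsg.IsPClosed p ↥H) :
    (∀ P Q : Sylow p G, P ≠ Q → (P : Subgroup G) ⊓ (Q : Subgroup G) = ⊥) ∧
      ∀ (P : Sylow p G) (R : Subgroup G), R ≤ P → R ≠ ⊥ →
        Subgroup.normalizer (R : Set G) ≤ Subgroup.normalizer ((P : Subgroup G) : Set G) := by
  classical
  -- proper normalizers
  have hN : ∀ D : Subgroup G, IsPGroup p D → D ≠ ⊥ →
      Subgroup.normalizer (D : Set G) ≠ ⊤ := by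
    intro D hD hne htop
    have hDn : D.Normal := Subgroup.normalizer_eq_top_iff.mp htop
    rcases hDn.eq_bot_or_eq_top with h | h
    · exact hne h
    · apply hnc
      intro P
      have hG : IsPGroup p G := by
        rw [h] at hD
        exact IsPGroup.of_equiv hD Subgroup.topEquiv
      have : (P : Subgroup G) = ⊤ := P.is_maximal' (by rw [h] at hD; exact hD) le_top |>.symm
      rw [this]
      infer_instance
  -- two `p`-subgroups of a normalizer lie in a common Sylow
  have hcommon : ∀ (D S T : Subgroup G), IsPGroup p D → D ≠ ⊥ → IsPGroup p S → IsPGroup p T →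
      S ≤ Subgroup.normalizer (D : Set G) → T ≤ Subgroup.normalizer (D : Set G) →
      ∃ P₁ : Sylow p G, S ≤ P₁ ∧ T ≤ P₁ := by
    intro D S T hD hne hS hT hSN hTN
    set N := Subgroup.normalizer (D : Set G) with hNdef
    have hcl := hsub N (hN D hD hne)
    have hS' : IsPGroup p (S.subgroupOf N) := hS.comap_of_injective N.subtype N.subtype_injective
      |>.of_equiv (MulEquiv.refl _)
    have hT' : IsPGroup p (T.subgroupOf N) := hT.comap_of_injective N.subtype N.subtype_injective
      |>.of_equiv (MulEquiv.refl _)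
    obtain ⟨Y₁, hY₁⟩ := hS'.exists_le_sylow
    obtain ⟨Y₂, hY₂⟩ := hT'.exists_le_sylow
    have hsubs := Sylow.unique_of_normal Y₁ (hcl Y₁)
    have hY : Y₁ = Y₂ := Subsingleton.elim _ _
    subst hY
    have hYp : IsPGroup p ((Y₁ : Subgroup N).map N.subtype) := Y₁.isPGroup'.map N.subtype
    obtain ⟨P₁, hP₁⟩ := hYp.exists_le_sylow
    refine ⟨P₁, ?_, ?_⟩
    · intro x hx
      apply hP₁
      exact ⟨⟨x, hSN hx⟩, hY₁ (Subgroup.mem_subgroupOf.mpr hx), rfl⟩
    · intro x hx
      apply hP₁
      exact ⟨⟨x, hTN hx⟩, hY₂ (Subgroup.mem_subgroupOf.mpr hx), rfl⟩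
  -- TI
  have hTI : ∀ (k : ℕ) (P Q : Sylow p G), P ≠ Q →
      Nat.card G - Nat.card ↥((P : Subgroup G) ⊓ (Q : Subgroup G)) ≤ k →
      (P : Subgroup G) ⊓ (Q : Subgroup G) = ⊥ := by
    intro k
    induction k with
    | zero =>
      intro P Q hPQ hk
      exfalso
      have h1 : Nat.card G ≤ Nat.card ↥((P : Subgroup G) ⊓ (Q : Subgroup G)) := Nat.sub_eq_zero_iff_le.mp (Nat.le_zero.mp hk)
      have h2 : (P : Subgroup G) ⊓ (Q : Subgroup G) = ⊤ :=
        Subgroup.eq_top_of_le_card _ h1
      apply hPQ
      apply Sylow.ext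
      have h3 := inf_eq_top_iff.mp h2
      rw [h3.1, h3.2]
    | succ k ih =>
      intro P Q hPQ hk
      by_contra hne
      set D := (P : Subgroup G) ⊓ (Q : Subgroup G) with hD
      have hDP : D < (P : Subgroup G) := by
        refine lt_of_le_of_ne inf_le_left ?_
        intro he
        apply hPQ
        apply Sylow.ext
        have hle : (P : Subgroup G) ≤ Q := by
          rw [← he]; exact inf_le_right
        exact (P.is_maximal' Q.isPGroup' hle).symm
      have hDQ : D < (Q : Subgroup G) := by
        refine lt_of_le_of_ne inf_le_right ?_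
        intro he
        apply hPQ
        apply Sylow.ext
        have hle : (Q : Subgroup G) ≤ P := by
          rw [← he]; exact inf_le_left
        exact Q.is_maximal' P.isPGroup' hle
      have hDp : IsPGroup p D := P.isPGroup'.to_le inf_le_left
      have hS := Cfsg.Agent.Lib.LocalEven2.lt_inf_normalizer_of_lt P.isPGroup' hDP
      have hT := Cfsg.Agent.Lib.LocalEven2.lt_inf_normalizer_of_lt Q.isPGroup' hDQ
      obtain ⟨P₁, h1, h2⟩ := hcommon D _ _ hDp hne
        (P.isPGroup'.to_le inf_le_left) (Q.isPGroup'.to_le inf_le_left) inf_le_right inf_le_right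
      have key : ∀ R : Sylow p G, D < (R : Subgroup G) ⊓ Subgroup.normalizer (D : Set G) →
          (R : Subgroup G) ⊓ Subgroup.normalizer (D : Set G) ≤ P₁ → R = P₁ := by
        intro R hlt hle
        by_contra hRP
        have hlt2 : D < (R : Subgroup G) ⊓ (P₁ : Subgroup G) :=
          lt_of_lt_of_le hlt (le_inf inf_le_left hle)
        have hcard : Nat.card ↥D < Nat.card ↥((R : Subgroup G) ⊓ (P₁ : Subgroup G)) := by
          by_contra hc
          push Not at hc
          exact hlt2.ne (Subgroup.eq_of_le_of_card_ge hlt2.le hc)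
        have hcardG : Nat.card ↥((R : Subgroup G) ⊓ (P₁ : Subgroup G)) ≤ Nat.card G :=
          Subgroup.card_le_card_group _
        have hih := ih R P₁ hRP (by omega)
        rw [hih] at hlt2
        exact absurd hlt2 (not_lt_bot)
      have hPe := key P hS h1
      have hQe := key Q hT h2
      exact hPQ (hPe.trans hQe.symm)
  have hTI' : ∀ P Q : Sylow p G, P ≠ Q → (P : Subgroup G) ⊓ (Q : Subgroup G) = ⊥ :=
    fun P Q h => hTI _ P Q h le_rfl
  refine ⟨hTI', ?_⟩
  intro P R hRP hR g hg
  -- `P^g ∩ P ⊇ R`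
  by_contra hgN
  have hne : g • P ≠ P := fun h => hgN (Sylow.smul_eq_iff_mem_normalizer.mp h)
  have h0 := hTI' (g • P) P hne
  apply hR
  rw [eq_bot_iff, ← h0]
  intro x hx
  refine Subgroup.mem_inf.mpr ⟨?_, hRP hx⟩
  rw [Sylow.coe_subgroup_smul, Subgroup.mem_pointwise_smul_iff_inv_smul_mem]
  have h1 : g⁻¹ * x * g ∈ R := by
    simpa [mul_assoc] using (Subgroup.mem_normalizer_iff.mp (inv_mem hg) x).mp hx
  have h2 := hRP h1
  simpa [MulAut.smul_def, MulAut.conj_apply, mul_assoc] using h2

end Cfsg.Agent.S3870
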