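import Cfsg.Statements.S3872
-- import your own Cfsg.Agent.* helpers here
import Mathlib
import Cfsg.Agent.Lib.Struct.HallPetrescu
import Cfsg.Agent.Lib.Struct.RegularP
import Cfsg.Agent.Lib.Basic.FrobNorm
import Cfsg.Agent.Lib.Transfer.Frattini

set_option autoImplicit false
open Cfsg

namespace Cfsg.Agent.S3872

open Subgroup
open scoped commutatorElement

theorem eq_bot_of_le_comm {G : Type*} [Group G] {F T : Subgroup G} (hF : Group.IsNilpotent F)
    (hT : T ≤ F) (h : T ≤ ⁅T, F⁆) : T = ⊥ := by
  obtain ⟨n, hn⟩ := (Subgroup.isNilpotent_iff_lowerCentralSeries F).mp hF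
  have hall : ∀ m : ℕ, T ≤ F.lowerCentralSeries m := by
    intro m
    induction m with
    | zero => exact hT
    | succ m ih =>
      rw [Subgroup.lowerCentralSeries_succ]
      exact h.trans (Subgroup.commutator_mono ih le_rfl)
  exact le_bot_iff.mp (hn ▸ hall n)

theorem card_mul_le {G : Type*} [Group G] [Finite G] {p : ℕ} [Fact p.Prime] {H K : Subgroup G}
    (hK : IsPGroup p K) (h : H < K) : Nat.card H * p ≤ Nat.card K := by
  have hp : p.Prime := Fact.out
  obtain ⟨a, ha⟩ := IsPGroup.iff_card.mp hK
  have hd : Nat.card H ∣ p ^ a := ha ▸ Subgroup.card_dvd_of_le h.le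
  obtain ⟨b, hb, hbe⟩ := (Nat.dvd_prime_pow hp).mp hd
  have hne : Nat.card H ≠ Nat.card K := (Cfsg.Agent.Lib.Basic.card_lt_of_lt h).ne
  rw [hbe, ha] at *
  have hba : b ≠ a := fun h => hne (by rw [h])
  have hlt : b + 1 ≤ a := by omega
  calc p ^ b * p = p ^ (b + 1) := (pow_succ p b).symm
    _ ≤ p ^ a := Nat.pow_le_pow_right hp.pos hlt

/-- Say that a finite group is p-exponent closed when its elements of order dividing p form a subgroup. Let G be a finite p-group that is not p-exponent closed, but all of whose proper subgroups and proper quotients are. Then G is generated by two elements, has nilpotency class at least p, has exponent p², has cyclic center, and has order at least p^(p+1). -/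
theorem result {G : Type*} [Group G] [Finite G] {p : ℕ} [Fact p.Prime] (hG : IsPGroup p G)
    (hnc : ¬ (∃ H : Subgroup G, (H : Set G) = {g : G | g ^ p = 1})) (hsub : ∀ K : Subgroup G, K ≠ ⊤ → (∃ H : Subgroup ↥K, (H : Set ↥K) = {g : ↥K | g ^ p = 1}))
    (hquo : ∀ (N : Subgroup G) [N.Normal], N ≠ ⊥ → (∃ H : Subgroup (G ⧸ N), (H : Set (G ⧸ N)) = {g : (G ⧸ N) | g ^ p = 1})) :
    (∃ x y : G, Subgroup.closure ({x, y} : Set G) = ⊤) ∧ (⊤ : Subgroup G).lowerCentralSeries (p - 1) ≠ ⊥ ∧
      Monoid.exponent G = p ^ 2 ∧ IsCyclic ↥(Subgroup.center G) ∧ p ^ (p + 1) ≤ Nat.card G := by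
  classical
  have hp : p.Prime := Fact.out
  have hmemset : ∀ {K : Type _} [Group K] (H : Subgroup K), ((H : Set K) = {g : K | g ^ p = 1}) →
      ∀ g : K, g ∈ H ↔ g ^ p = 1 := by
    intro K _ H hH g
    have := Set.ext_iff.mp hH g
    exact this
  obtain ⟨x, y, hx, hy, hxy⟩ : ∃ x y : G, x ^ p = 1 ∧ y ^ p = 1 ∧ (x * y) ^ p ≠ 1 := by
    by_contra hcon
    push Not at hcon
    apply hnc
    refine ⟨{ carrier := {g | g ^ p = 1}
              mul_mem' := fun {a b} ha hb => hcon a b ha hb
              one_mem' := one_pow p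
              inv_mem' := fun {a} ha => ?_ }, rfl⟩
    show a⁻¹ ^ p = 1
    rw [inv_pow]
    have h1 : a ^ p = 1 := ha
    rw [h1, inv_one]
  have htop : closure ({x, y} : Set G) = ⊤ := by
    by_contra h
    obtain ⟨H, hH⟩ := hsub _ h
    have hm := hmemset H hH
    have hxK : x ∈ closure ({x, y} : Set G) := Subgroup.subset_closure (by simp)
    have hyK : y ∈ closure ({x, y} : Set G) := Subgroup.subset_closure (by simp)
    have h1 : (⟨x, hxK⟩ : closure ({x, y} : Set G)) ∈ H := by
      rw [hm]
      exact Subtype.ext hx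
    have h2 : (⟨y, hyK⟩ : closure ({x, y} : Set G)) ∈ H := by
      rw [hm]
      exact Subtype.ext hy
    have h3 := (hm _).mp (mul_mem h1 h2)
    apply hxy
    have := congrArg Subtype.val h3
    simpa using this
  have hpow : ∀ (N : Subgroup G) [N.Normal], N ≠ ⊥ → ∀ g : G, g ^ p ∈ N := by
    intro N _ hN g
    obtain ⟨H, hH⟩ := hquo N hN
    have hm := hmemset H hH
    have hcomap : H.comap (QuotientGroup.mk' N) = ⊤ := by
      rw [eq_top_iff, ← htop, closure_le]
      intro z hz
      simp only [Set.mem_insert_iff, Set.mem_singleton_iff] at hz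
      rcases hz with rfl | rfl
      · show QuotientGroup.mk' N z ∈ H
        rw [hm, ← map_pow, hx, map_one]
      · show QuotientGroup.mk' N z ∈ H
        rw [hm, ← map_pow, hy, map_one]
    have h1 : g ∈ H.comap (QuotientGroup.mk' N) := hcomap ▸ mem_top g
    have h2 : QuotientGroup.mk' N g ∈ H := h1
    rw [hm, ← map_pow, ← MonoidHom.mem_ker, QuotientGroup.ker_mk'] at h2
    exact h2
  obtain ⟨w, hw⟩ : ∃ w, w = (x * y) ^ p := ⟨_, rfl⟩
  have hw1 : w ≠ 1 := hw ▸ hxy
  have hwN : ∀ (N : Subgroup G) [N.Normal], N ≠ ⊥ → w ∈ N := fun N _ hN => hw ▸ hpow N hN _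
  haveI hnt : Nontrivial G := ⟨⟨w, 1, hw1⟩⟩
  have hnorm : ∀ z : G, (∀ u : G, u * z = z * u) → (zpowers z).Normal := by
    intro z hz
    constructor
    rintro _ ⟨i, rfl⟩ g
    refine ⟨i, ?_⟩
    have h1 : g * z * g⁻¹ = z := by
      rw [hz g]
      group
    show z ^ i = g * z ^ i * g⁻¹
    rw [← conj_zpow, h1]
  have hbotz : ∀ z : G, z ≠ 1 → zpowers z ≠ ⊥ := by
    intro z hz h
    rw [zpowers_eq_bot] at h
    exact hz h
  obtain ⟨z, -, hz1, hzc, hzp⟩ := Cfsg.Agent.Lib.Transfer.exists_central_of_normal hG
    (N := (⊤ : Subgroup G)) top_ne_bot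
  have hzo : orderOf z = p := orderOf_eq_prime hzp hz1
  haveI hzn := hnorm z hzc
  have hzpow : ∀ g : G, g ^ p ∈ zpowers z := fun g => hpow _ (hbotz z hz1) g
  have hpp : ∀ g : G, g ^ (p ^ 2) = 1 := by
    intro g
    obtain ⟨i, hi⟩ := hzpow g
    rw [pow_two, pow_mul]
    have h1 := congrArg (· ^ p) hi
    simp only at h1
    rw [← h1, ← zpow_natCast, ← zpow_mul, mul_comm, zpow_mul, zpow_natCast, hzp, one_zpow]
  have hwo : orderOf w = p := by
    apply orderOf_eq_prime _ hw1
    rw [hw, ← pow_mul, ← pow_two]
    exact hpp _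
  have hclass : (⊤ : Subgroup G).lowerCentralSeries (p - 1) ≠ ⊥ := by
    intro hcl
    have hreg := Cfsg.Agent.Lib.Struct.HallPetrescu.regular_of_class_lt hG hcl
    have h1 := Cfsg.Agent.Lib.Struct.RegularP.pow_eq_iff hG
      (Cfsg.Agent.Lib.Struct.RegularP.regAt_of_regular hreg 1) x y⁻¹
    simp only [pow_one, inv_inv, inv_pow, hx, hy, inv_one, true_iff] at h1
    exact hxy h1
  refine ⟨⟨x, y, htop⟩, hclass, ?_, ?_, ?_⟩
  · have hd : Monoid.exponent G ∣ p ^ 2 := Monoid.exponent_dvd_of_forall_pow_eq_one hpp
    obtain ⟨j, hj, hje⟩ := (Nat.dvd_prime_pow hp).mp hd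
    rw [hje]
    congr 1
    by_contra hne
    have hj1 : j ≤ 1 := by omega
    apply hxy
    have h1 : p ^ j ∣ p := by
      calc p ^ j ∣ p ^ 1 := pow_dvd_pow p hj1
        _ = p := pow_one p
    obtain ⟨c, hc⟩ := h1
    rw [hc, pow_mul, ← hje, Monoid.pow_exponent_eq_one, one_pow]
  · apply Cfsg.Agent.Lib.Basic.isCyclic_of_prime_torsion_le
    · intro a b
      apply Subtype.ext
      exact (Subgroup.mem_center_iff.mp a.2 _).symm
    · intro q hq
      haveI : Fact q.Prime := ⟨hq⟩
      by_cases hqp : q = p
      · subst hqp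
        have hinj : ∀ a : {a : Subgroup.center G // a ^ q = 1}, (a.1 : G) ∈ zpowers w := by
          rintro ⟨a, ha⟩
          by_cases ha1 : (a : G) = 1
          · rw [ha1]
            exact one_mem _
          · have hac : ∀ u : G, u * (a : G) = (a : G) * u := fun u => (Subgroup.mem_center_iff.mp a.2 u)
            haveI := hnorm a hac
            have ha' : (a : G) ^ q = 1 := by
              have := congrArg Subtype.val ha
              simpa using this
            have hao : orderOf (a : G) = q := orderOf_eq_prime ha' ha1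
            have h1 : w ∈ zpowers (a : G) := hwN _ (hbotz _ ha1)
            have h2 : zpowers w = zpowers (a : G) := by
              apply Subgroup.eq_of_le_of_card_ge
              · rwa [zpowers_le]
              · rw [Nat.card_zpowers, Nat.card_zpowers, hao, hwo]
            rw [h2]
            exact mem_zpowers _
        calc Nat.card {a : Subgroup.center G // a ^ q = 1} ≤ Nat.card (zpowers w) :=
              Nat.card_le_card_of_injective (fun a => ⟨(a.1 : G), hinj a⟩) (by
                intro a b hab
                apply Subtype.ext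
                apply Subtype.ext
                have := congrArg (fun z : zpowers w => (z : G)) hab
                exact this)
          _ = q := by rw [Nat.card_zpowers, hwo]
      · have hsub1 : Subsingleton {a : Subgroup.center G // a ^ q = 1} := by
          constructor
          rintro ⟨a, ha⟩ ⟨b, hb⟩
          have hall : ∀ c : Subgroup.center G, c ^ q = 1 → c = 1 := by
            intro c hc
            obtain ⟨k, hk⟩ := hG c
            have h1 : orderOf (c : G) ∣ q := by
              apply orderOf_dvd_of_pow_eq_one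
              have := congrArg Subtype.val hc
              simpa using this
            have h2 : orderOf (c : G) ∣ p ^ k := orderOf_dvd_of_pow_eq_one hk
            have h3 : q.Coprime (p ^ k) := Nat.Coprime.pow_right k ((Nat.coprime_primes hq hp).mpr hqp)
            have h4 := Nat.eq_one_of_dvd_coprimes h3 h1 h2
            exact Subtype.ext (orderOf_eq_one_iff.mp h4)
          apply Subtype.ext
          show a = b
          rw [hall a ha, hall b hb]
        have h1 := Finite.card_le_one_iff_subsingleton.mpr hsub1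
        exact h1.trans hq.one_lt.le
  · have hnil : Group.IsNilpotent (⊤ : Subgroup G) := (hG.to_subgroup ⊤).isNilpotent
    obtain ⟨L, hL⟩ : ∃ L : ℕ → Subgroup G, L = (⊤ : Subgroup G).lowerCentralSeries := ⟨_, rfl⟩
    rw [← hL] at hclass
    have hanti : ∀ {i j : ℕ}, i ≤ j → L j ≤ L i := fun {i j} h => by
      rw [hL]
      exact Subgroup.lowerCentralSeries_antitone _ h
    have hne : ∀ i, i ≤ p - 1 → L i ≠ ⊥ := by
      intro i hi h
      apply hclass
      exact le_bot_iff.mp (h ▸ hanti hi)
    have hlt : ∀ i, i ≤ p - 1 → L (i + 1) < L i := by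
      intro i hi
      refine lt_of_le_of_ne (hanti (Nat.le_succ i)) ?_
      intro h
      apply hne i hi
      refine eq_bot_of_le_comm hnil (F := ⊤) (T := L i) le_top ?_
      calc L i = L (i + 1) := h.symm
        _ = ⁅L i, ⊤⁆ := by rw [hL]; exact Subgroup.lowerCentralSeries_succ _ _
        _ ≤ ⁅L i, ⊤⁆ := le_rfl
    have hLp : ∀ i, IsPGroup p (L i) := fun i => hG.to_subgroup _
    have hL0 : L 0 = ⊤ := by rw [hL]; rfl
    have hp2 : 2 ≤ p := hp.two_le
    have hbase : Nat.card (L 1) * p ^ 2 ≤ Nat.card G := by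
      by_contra hcon
      have hL1lt := hlt 0 (Nat.zero_le _)
      rw [hL0] at hL1lt
      have hcardG : Nat.card (L 1) * p = Nat.card G := by
        have h1 := card_mul_le (hG.to_subgroup ⊤) hL1lt
        rw [Subgroup.card_top] at h1
        obtain ⟨a, ha⟩ := IsPGroup.iff_card.mp hG
        obtain ⟨b, hb⟩ := IsPGroup.iff_card.mp (hLp 1)
        rw [ha, hb] at hcon h1 ⊢
        have h2 : b + 1 ≤ a := by
          have h3 : p ^ (b + 1) ≤ p ^ a := by rw [pow_succ]; exact h1
          exact (Nat.pow_le_pow_iff_right hp.one_lt).mp h3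
        have h4 : a < b + 2 := by
          have h3 : p ^ a < p ^ (b + 2) := by
            rw [pow_add]
            exact not_le.mp hcon
          exact (Nat.pow_lt_pow_iff_right hp.one_lt).mp h3
        have h5 : a = b + 1 := by omega
        rw [h5, pow_succ]
      obtain ⟨g, -, hg⟩ := SetLike.exists_of_lt hL1lt
      have hsup : zpowers g ⊔ L 1 = ⊤ := by
        apply Subgroup.eq_top_of_le_card
        have h1 : L 1 < zpowers g ⊔ L 1 := by
          refine lt_of_le_of_ne le_sup_right ?_
          intro h
          apply hg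
          rw [h]
          exact (le_sup_left : zpowers g ≤ zpowers g ⊔ L 1) (mem_zpowers g)
        have h2 := card_mul_le (hG.to_subgroup _) h1
        rw [← hcardG]
        exact h2
      have hL1F : L 1 ≤ frattini G := by
        have h1 : L 1 = _root_.commutator G := by
          rw [hL]
          exact Subgroup.top_lowerCentralSeries_one
        rw [h1]
        exact Cfsg.Agent.Lib.Transfer.commutator_le_frattini hG
      have hzp : zpowers g = ⊤ := by
        apply frattini_nongenerating
        rw [eq_top_iff, ← hsup]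
        exact sup_le_sup_left hL1F _
      have hL1bot : L 1 = ⊥ := by
        have h1 : L 1 = _root_.commutator G := by
          rw [hL]
          exact Subgroup.top_lowerCentralSeries_one
        rw [h1, eq_bot_iff, _root_.commutator_def, Subgroup.commutator_le]
        intro a _ b _
        have ha : a ∈ zpowers g := hzp ▸ mem_top a
        have hb : b ∈ zpowers g := hzp ▸ mem_top b
        obtain ⟨i, rfl⟩ := ha
        obtain ⟨j, rfl⟩ := hb
        have h2 : Commute (g ^ i) (g ^ j) := (Commute.refl g).zpow_zpow i j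
        have h3 : ⁅g ^ i, g ^ j⁆ = 1 := commutatorElement_eq_one_iff_mul_comm.mpr h2.eq
        rw [h3]
        exact one_mem _
      exact hne 1 (by omega) hL1bot
    have hind : ∀ i, 1 ≤ i → i ≤ p - 1 → Nat.card (L i) * p ^ (i + 1) ≤ Nat.card G := by
      intro i hi
      induction i, hi using Nat.le_induction with
      | base => exact fun _ => hbase
      | succ i hi ih =>
        intro hle
        have h1 := ih (by omega)
        have h2 := card_mul_le (hLp i) (hlt i (by omega))
        calc Nat.card (L (i + 1)) * p ^ (i + 1 + 1) = (Nat.card (L (i + 1)) * p) * p ^ (i + 1) := by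
              rw [pow_succ p (i + 1)]
              ring
          _ ≤ Nat.card (L i) * p ^ (i + 1) := Nat.mul_le_mul_right _ h2
          _ ≤ _ := h1
    have h1 := hind (p - 1) (by omega) le_rfl
    have h2 : p - 1 + 1 = p := by omega
    rw [h2] at h1
    have h3 : p ≤ Nat.card (L (p - 1)) := by
      obtain ⟨c, hc⟩ := IsPGroup.iff_card.mp (hLp (p - 1))
      have hc0 : c ≠ 0 := by
        intro h0
        rw [h0, pow_zero] at hc
        exact hclass (Subgroup.card_eq_one.mp hc)
      rw [hc]
      exact Nat.le_self_pow hc0 p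
    calc p ^ (p + 1) = p * p ^ p := by rw [pow_succ]; ring
      _ ≤ Nat.card (L (p - 1)) * p ^ p := Nat.mul_le_mul_right _ h3
      _ ≤ _ := h1

end Cfsg.Agent.S3872
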