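import Cfsg.Statements.S3873
-- import your own Cfsg.Agent.* helpers here
import Mathlib
import Cfsg.Agent.Lib.Coprime.MinClosed

set_option autoImplicit false
open Cfsg

namespace Cfsg.Agent.S3873

open scoped Pointwise

/-- Say that a finite group is p-exponent closed when its elements of order dividing p form a subgroup. Let G be a finite group that is not p-exponent closed, but all of whose proper subgroups and proper quotients are, and suppose G is neither simple nor a p-group. Then there is a prime q ≠ p such that G has order p · q^e, where e is the multiplicative order of q modulo p, and G has a normal elementary abelian subgroup of order q^e that is a minimal normal subgroup of G. -/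
theorem result {G : Type*} [Group G] [Finite G] {p : ℕ} [Fact p.Prime]
    (hnc : ¬ (∃ H : Subgroup G, (H : Set G) = {g : G | g ^ p = 1})) (hsub : ∀ K : Subgroup G, K ≠ ⊤ → (∃ H : Subgroup ↥K, (H : Set ↥K) = {g : ↥K | g ^ p = 1}))
    (hquo : ∀ (N : Subgroup G) [N.Normal], N ≠ ⊥ → (∃ H : Subgroup (G ⧸ N), (H : Set (G ⧸ N)) = {g : (G ⧸ N) | g ^ p = 1}))
    (hns : ¬ IsSimpleGroup G) (hnp : ¬ IsPGroup p G) :
    ∃ q : ℕ, q.Prime ∧ q ≠ p ∧ Nat.card G = p * q ^ orderOf (q : ZMod p) ∧
      ∃ A : Subgroup G, A.Normal ∧ Nat.card ↥A = q ^ orderOf (q : ZMod p) ∧ Cfsg.IsElementaryAbelian q A ∧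
        ∀ B : Subgroup G, B.Normal → B ≤ A → B = ⊥ ∨ B = A := by
  classical
  have hp : p.Prime := Fact.out
  -- `E(K)` as a subgroup of `G`
  have hT : ∀ K : Subgroup G, K ≠ ⊤ → ∃ T : Subgroup G, ∀ g, g ∈ T ↔ g ∈ K ∧ g ^ p = 1 := by
    intro K hK
    obtain ⟨H, hH⟩ := hsub K hK
    refine ⟨H.map K.subtype, fun g => ?_⟩
    constructor
    · rintro ⟨h, hh, rfl⟩
      have h1 : h ^ p = 1 := by
        have : h ∈ (H : Set K) := hh
        rw [hH] at this
        exact this
      exact ⟨h.2, congrArg (fun z : K => (z : G)) h1⟩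
    · rintro ⟨h1, h2⟩
      have h3 : (⟨g, h1⟩ : K) ∈ (H : Set K) := by
        rw [hH]
        exact Subtype.ext h2
      exact ⟨⟨g, h1⟩, h3, rfl⟩
  have hTn : ∀ (K T : Subgroup G), (∀ g, g ∈ T ↔ g ∈ K ∧ g ^ p = 1) →
      K ≤ Subgroup.normalizer (T : Set G) := by
    intro K T hTK k hk
    rw [Subgroup.mem_normalizer_iff]
    intro h
    rw [hTK, hTK]
    constructor
    · rintro ⟨h1, h2⟩
      refine ⟨K.mul_mem (K.mul_mem hk h1) (K.inv_mem hk), ?_⟩
      rw [conj_pow, h2]
      simp
    · rintro ⟨h1, h2⟩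
      refine ⟨?_, ?_⟩
      · have := K.mul_mem (K.mul_mem (K.inv_mem hk) h1) hk
        simpa [mul_assoc] using this
      · rw [conj_pow] at h2
        have h3 : k * h ^ p = 1 * k := mul_inv_eq_iff_eq_mul.mp h2
        rw [one_mul] at h3
        exact mul_left_cancel (a := k) (by rw [h3, mul_one])
  -- (1)
  have hcl : Subgroup.closure {g : G | g ^ p = 1} = ⊤ := by
    by_contra hne
    obtain ⟨T, hT'⟩ := hT _ hne
    apply hnc
    refine ⟨T, ?_⟩
    ext g
    simp only [SetLike.mem_coe, hT', Set.mem_setOf_eq]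
    exact ⟨fun h => h.2, fun h => ⟨Subgroup.subset_closure h, h⟩⟩
  -- (2)
  have hpowM : ∀ M : Subgroup G, M.Normal → M ≠ ⊥ → ∀ g : G, g ^ p ∈ M := by
    intro M hM hMne g
    obtain ⟨H, hH⟩ := hquo M hMne
    have hle : Subgroup.closure {g : G | g ^ p = 1} ≤ H.comap (QuotientGroup.mk' M) := by
      rw [Subgroup.closure_le]
      intro y hy
      show (QuotientGroup.mk' M y) ∈ H
      have : (QuotientGroup.mk' M y) ∈ (H : Set (G ⧸ M)) := by
        rw [hH]
        show (QuotientGroup.mk' M y) ^ p = 1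
        rw [← map_pow, show y ^ p = 1 from hy, map_one]
      exact this
    rw [hcl, top_le_iff] at hle
    have h1 : g ∈ H.comap (QuotientGroup.mk' M) := by rw [hle]; trivial
    have h2 : (QuotientGroup.mk' M g) ∈ (H : Set (G ⧸ M)) := h1
    rw [hH] at h2
    have h3 : (QuotientGroup.mk' M g) ^ p = 1 := h2
    rw [← map_pow] at h3
    exact (QuotientGroup.eq_one_iff _).mp h3
  -- (3)
  have hnt : Nontrivial G := by
    by_contra hno
    rw [not_nontrivial_iff_subsingleton] at hno
    apply hnc
    refine ⟨⊤, ?_⟩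
    ext g
    simp only [Subgroup.coe_top, Set.mem_univ, Set.mem_setOf_eq, true_iff]
    exact Subsingleton.elim _ _
  obtain ⟨N, hNn, hNbot, hNtop, hmin⟩ :=
    Cfsg.Agent.Lib.Coprime.MinClosed.exists_minimal_normal hns hnt
  haveI := hNn
  have hN1 : ∀ n ∈ N, n ^ p = 1 → n = 1 := by
    obtain ⟨T, hT'⟩ := hT N hNtop
    have hTnorm : T.Normal := by
      constructor
      intro t ht g
      rw [hT'] at ht ⊢
      refine ⟨hNn.conj_mem _ ht.1 g, ?_⟩
      rw [conj_pow, ht.2]
      simp
    rcases hmin T hTnorm (fun t ht => ((hT' t).mp ht).1) with h0 | h0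
    · intro n hn hn'
      have : n ∈ T := (hT' n).mpr ⟨hn, hn'⟩
      rw [h0, Subgroup.mem_bot] at this
      exact this
    · exfalso
      apply hnp
      intro g
      refine ⟨2, ?_⟩
      have h1 : g ^ p ∈ N := hpowM N hNn hNbot g
      rw [← h0] at h1
      have h2 := ((hT' _).mp h1).2
      rw [pow_two, pow_mul]
      exact h2
  have hNcop : (Nat.card N).Coprime p := by
    rw [Nat.coprime_comm, Nat.Prime.coprime_iff_not_dvd hp]
    intro hdvd
    obtain ⟨c, hc⟩ := exists_prime_orderOf_dvd_card' p hdvd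
    have h1 : c ^ p = 1 := by rw [← hc]; exact pow_orderOf_eq_one c
    have h2 := hN1 c c.2 (congrArg (fun z : N => (z : G)) h1)
    have h3 : c = 1 := Subtype.ext h2
    rw [h3, orderOf_one] at hc
    exact hp.one_lt.ne hc
  -- (4)
  obtain ⟨P⟩ : Nonempty (Sylow p G) := inferInstance
  have hPcop : (Nat.card N).Coprime (Nat.card (P : Subgroup G)) := by
    obtain ⟨k, hk⟩ := IsPGroup.iff_card.mp P.isPGroup'
    rw [hk]
    exact Nat.Coprime.pow_right k hNcop
  have hdisjP : Disjoint N (P : Subgroup G) := Subgroup.disjoint_of_coprime_natCard hPcop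
  have hPexp : ∀ y ∈ (P : Subgroup G), y ^ p = 1 :=
    fun y hy => Subgroup.disjoint_def.mp hdisjP (hpowM N hNn hNbot y) (Subgroup.pow_mem _ hy p)
  have hquoP : IsPGroup p (G ⧸ N) := by
    intro g
    induction g using QuotientGroup.induction_on with
    | H g =>
      refine ⟨1, ?_⟩
      rw [pow_one, ← QuotientGroup.mk_pow]
      exact (QuotientGroup.eq_one_iff _).mpr (hpowM N hNn hNbot g)
  have hsupNP : N ⊔ (P : Subgroup G) = ⊤ := by
    have h1 : (P : Subgroup G).map (QuotientGroup.mk' N) = ⊤ := by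
      have h2 := (P.mapSurjective (QuotientGroup.mk'_surjective N)).is_maximal'
        (hquoP.to_subgroup ⊤) le_top
      rw [Sylow.coe_mapSurjective] at h2
      exact h2.symm
    have h3 := congrArg (Subgroup.comap (QuotientGroup.mk' N)) h1
    rw [Subgroup.comap_map_eq, QuotientGroup.ker_mk', Subgroup.comap_top] at h3
    rw [sup_comm]
    exact h3
  have hcP : Subgroup.IsComplement' N P :=
    Cfsg.Agent.Lib.Coprime.MinClosed.complement_of_sup_eq_top hPcop hsupNP
  -- (5)
  have hD : ∀ y ∈ (P : Subgroup G), N ⊔ Subgroup.zpowers y ≠ ⊤ → y ∈ Subgroup.centralizer (N : Set G) := by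
    intro y hy hne
    obtain ⟨T, hT'⟩ := hT _ hne
    refine Cfsg.Agent.Lib.Coprime.MinClosed.comm_of_normal_disjoint (hTn _ T hT')
      (le_sup_left : N ≤ N ⊔ Subgroup.zpowers y) ?_ ((hT' y).mpr ⟨Subgroup.mem_sup_right (Subgroup.mem_zpowers y), hPexp y hy⟩) ?_
    · rw [Subgroup.disjoint_def]
      intro t ht1 ht2
      exact hN1 t ht2 ((hT' t).mp ht1).2
    · rw [Subgroup.normalizer_eq_top_iff.mpr hNn]
      trivial
  -- (6)
  obtain ⟨x, hxP, hxN⟩ : ∃ x ∈ (P : Subgroup G), x ∉ Subgroup.centralizer (N : Set G) := by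
    by_contra hno
    push Not at hno
    have hPn : (P : Subgroup G).Normal := by
      rw [← Subgroup.normalizer_eq_top_iff, eq_top_iff, ← hcP.sup_eq_top]
      refine sup_le ?_ Subgroup.le_normalizer
      intro n hn
      rw [Subgroup.mem_normalizer_iff]
      intro h
      constructor
      · intro hh
        have h1 := (Subgroup.mem_centralizer_iff.mp (hno h hh)) n hn
        rw [h1]
        simpa using hh
      · intro hh
        have h2 : n * h * n⁻¹ ∈ (P : Subgroup G) := hh
        have h1 := (Subgroup.mem_centralizer_iff.mp (hno _ h2)) n hn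
        have h3 : n * h * n⁻¹ = h :=
          mul_left_cancel (a := n) (by rw [h1]; group)
        rwa [h3] at hh
    apply hnc
    refine ⟨P, ?_⟩
    ext g
    simp only [SetLike.mem_coe, Set.mem_setOf_eq]
    refine ⟨hPexp g, fun hg => ?_⟩
    have hzp : IsPGroup p (Subgroup.zpowers g) := by
      rw [IsPGroup.iff_card, Nat.card_zpowers]
      rcases (Nat.dvd_prime hp).mp (orderOf_dvd_of_pow_eq_one hg) with h1 | h1
      · exact ⟨0, by simpa using h1⟩
      · exact ⟨1, by simpa using h1⟩
    obtain ⟨S, hS⟩ := hzp.exists_le_sylow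
    have h0 : S = P := by
      haveI := Sylow.unique_of_normal P hPn
      exact Subsingleton.elim _ _
    rw [h0] at hS
    exact hS (Subgroup.mem_zpowers g)
  have hx1 : x ≠ 1 := by
    rintro rfl
    exact hxN (Subgroup.one_mem _)
  have hxo : orderOf x = p := orderOf_eq_prime (hPexp x hxP) hx1
  have hsupx : N ⊔ Subgroup.zpowers x = ⊤ := by
    by_contra h
    exact hxN (hD x hxP h)
  have hzcop : (Nat.card N).Coprime (Nat.card (Subgroup.zpowers x)) := by
    rw [Nat.card_zpowers, hxo]
    exact hNcop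
  have hcx := Cfsg.Agent.Lib.Coprime.MinClosed.complement_of_sup_eq_top hzcop hsupx
  have hcardG' : Nat.card G = p * Nat.card N := by
    rw [← hcx.card_mul_card, Nat.card_zpowers, hxo, mul_comm]
  -- (8)
  have hQ : ∀ Q : Subgroup G, Q ≤ N → x ∈ Subgroup.normalizer (Q : Set G) → Q ≠ N →
      x ∈ Subgroup.centralizer (Q : Set G) := by
    intro Q hQN hxQ hQne
    have hne : Q ⊔ Subgroup.zpowers x ≠ ⊤ := by
      intro h
      apply hQne
      apply le_antisymm hQN
      intro n hn
      have hle : Subgroup.zpowers x ≤ Subgroup.normalizer (Q : Set G) := by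
        rw [Subgroup.zpowers_le]; exact hxQ
      have hset := Subgroup.coe_mul_of_left_le_normalizer_right _ _ hle
      rw [sup_comm, h] at hset
      have hn' : n ∈ ((Subgroup.zpowers x : Subgroup G) : Set G) * (Q : Set G) := by
        rw [← hset]; trivial
      obtain ⟨u, hu, v, hv, rfl⟩ := Set.mem_mul.mp hn'
      have hvN : v ∈ N := hQN hv
      have huN : u ∈ N := by
        have := N.mul_mem hn (N.inv_mem hvN)
        simpa using this
      have hu1 : u = 1 := by
        have hzle : Subgroup.zpowers x ≤ P := by rw [Subgroup.zpowers_le]; exact hxP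
        exact Subgroup.disjoint_def.mp hdisjP huN (hzle hu)
      rw [hu1, one_mul]
      exact hv
    obtain ⟨T, hT'⟩ := hT _ hne
    refine Cfsg.Agent.Lib.Coprime.MinClosed.comm_of_normal_disjoint (hTn _ T hT')
      (le_sup_left : Q ≤ Q ⊔ Subgroup.zpowers x) ?_ ((hT' x).mpr ⟨Subgroup.mem_sup_right (Subgroup.mem_zpowers x), hPexp x hxP⟩) hxQ
    rw [Subgroup.disjoint_def]
    intro t ht1 ht2
    exact hN1 t (hQN ht2) ((hT' t).mp ht1).2
  exact Cfsg.Agent.Lib.Coprime.MinClosed.final_structure N x hxo hNcop hcardG' hQ hxN hmin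

end Cfsg.Agent.S3873
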