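import Cfsg.Statements.S3889
-- import your own Cfsg.Agent.* helpers here
import Mathlib

set_option autoImplicit false
open Cfsg

namespace Cfsg.Agent.S3889

/-- A finite abelian group that is the union of a family of proper subgroups any two of which intersect trivially is elementary abelian: its exponent is a prime. -/
theorem result {G : Type*} [CommGroup G] [Finite G] (𝓑 : Set (Subgroup G)) (hprop : ∀ B ∈ 𝓑, B ≠ ⊤)
    (hcov : ∀ g : G, ∃ B ∈ 𝓑, g ∈ B) (hdisj : ∀ B ∈ 𝓑, ∀ C ∈ 𝓑, B ≠ C → B ⊓ C = ⊥) :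
    (Monoid.exponent G).Prime := by
  classical
  -- key divisibility
  have key : ∀ B ∈ 𝓑, ∀ x ∈ B, ∀ y, y ∉ B → orderOf x ∣ orderOf y := by
    intro B hB x hx y hy
    obtain ⟨D, hD, hxy⟩ := hcov (x * y)
    have hDB : B ≠ D := by
      rintro rfl
      apply hy
      have := mul_mem (inv_mem hx) hxy
      simpa using this
    have h1 : x ^ orderOf y ∈ B := pow_mem hx _
    have h2 : x ^ orderOf y ∈ D := by
      have h3 : (x * y) ^ orderOf y ∈ D := pow_mem hxy _
      rwa [mul_pow, pow_orderOf_eq_one, mul_one] at h3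
    have h3 : x ^ orderOf y ∈ B ⊓ D := ⟨h1, h2⟩
    rw [hdisj B hB D hD hDB, Subgroup.mem_bot] at h3
    exact orderOf_dvd_of_pow_eq_one h3
  have hdiff : ∀ B ∈ 𝓑, ∀ x ∈ B, x ≠ 1 → ∀ y, y ∉ B → orderOf x = orderOf y := by
    intro B hB x hx hx1 y hy
    obtain ⟨C, hC, hyC⟩ := hcov y
    have hBC : B ≠ C := by
      rintro rfl
      exact hy hyC
    have hxC : x ∉ C := by
      intro hxC
      have h3 : x ∈ B ⊓ C := ⟨hx, hxC⟩
      rw [hdisj B hB C hC hBC, Subgroup.mem_bot] at h3
      exact hx1 h3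
    exact Nat.dvd_antisymm (key B hB x hx y hy) (key C hC y hyC x hxC)
  have hall : ∀ x y : G, x ≠ 1 → y ≠ 1 → orderOf x = orderOf y := by
    intro x y hx hy
    obtain ⟨B, hB, hxB⟩ := hcov x
    by_cases hyB : y ∈ B
    · obtain ⟨z, hz⟩ : ∃ z, z ∉ B := by
        by_contra hno
        push Not at hno
        exact hprop B hB (eq_top_iff.mpr fun w _ => hno w)
      rw [hdiff B hB x hxB hx z hz, hdiff B hB y hyB hy z hz]
    · exact hdiff B hB x hxB hx y hyB
  obtain ⟨B, hB, -⟩ := hcov 1
  obtain ⟨x, hx⟩ : ∃ z, z ∉ B := by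
    by_contra hno
    push Not at hno
    exact hprop B hB (eq_top_iff.mpr fun w _ => hno w)
  have hx1 : x ≠ 1 := by
    rintro rfl
    exact hx (one_mem _)
  have hexp : Monoid.exponent G = orderOf x := by
    apply Nat.dvd_antisymm
    · apply Monoid.exponent_dvd_of_forall_pow_eq_one
      intro g
      by_cases hg : g = 1
      · simp [hg]
      · rw [← hall g x hg hx1]
        exact pow_orderOf_eq_one g
    · exact Monoid.order_dvd_exponent x
  rw [hexp, Nat.prime_def]
  refine ⟨?_, ?_⟩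
  · have hne0 : orderOf x ≠ 0 := (orderOf_pos x).ne'
    have hne1 : orderOf x ≠ 1 := by
      rw [Ne, orderOf_eq_one_iff]; exact hx1
    omega
  · intro d hd
    by_cases hd1 : d = 1
    · exact Or.inl hd1
    · right
      have h1 : orderOf (x ^ (orderOf x / d)) = d := orderOf_pow_orderOf_div (orderOf_pos x).ne' hd
      have h2 : x ^ (orderOf x / d) ≠ 1 := by
        intro h
        rw [h, orderOf_one] at h1
        exact hd1 h1.symm
      rw [← h1, hall _ x h2 hx1]

end Cfsg.Agent.S3889
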