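import Cfsg.Statements.S3890
-- import your own Cfsg.Agent.* helpers here
import Mathlib
import Cfsg.Agent.Lib.Coprime.NilCover

set_option autoImplicit false
open Cfsg

namespace Cfsg.Agent.S3890

/-- A cover of a group is a finite set of proper subgroups whose union is the whole group; it is minimal when no cover has fewer members, and nilpotent when all its members are nilpotent. Let G be a finite group with trivial center admitting a nilpotent minimal cover 𝓐, and let P be an abelian Sylow p-subgroup of G that is not normal. Then either P is elementary abelian of order greater than p, or P is a Sylow p-subgroup of some member A of 𝓐, the normalizer N of P is a maximal subgroup of G, N meets each of its conjugates by elements outside N in a subgroup of order prime to p, and the centralizer of P equals A. -/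
theorem result {G : Type*} [Group G] [Finite G] (hZ : Subgroup.center G = ⊥) (𝓐 : Finset (Subgroup G))
    (h𝓐 : ((∀ A ∈ 𝓐, A ≠ ⊤) ∧ (∀ g : G, ∃ A ∈ 𝓐, g ∈ A)) ∧ (∀ 𝓑 : Finset (Subgroup G), (∀ A ∈ 𝓑, A ≠ ⊤) ∧ (∀ g : G, ∃ A ∈ 𝓑, g ∈ A) → 𝓐.card ≤ 𝓑.card) ∧ (∀ A ∈ 𝓐, Group.IsNilpotent ↥A)) {p : ℕ} [Fact p.Prime] (P : Sylow p G) (hab : IsMulCommutative ↥(P : Subgroup G))
    (hnn : ¬ (P : Subgroup G).Normal) :
    (Cfsg.IsElementaryAbelian p (P : Subgroup G) ∧ p < Nat.card ↥(P : Subgroup G)) ∨
    (∃ A ∈ 𝓐, (P : Subgroup G) ≤ A ∧ ¬ p ∣ ((P : Subgroup G).subgroupOf A).index ∧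
      IsCoatom (Subgroup.normalizer ((P : Subgroup G) : Set G)) ∧
      (∀ g : G, g ∉ Subgroup.normalizer ((P : Subgroup G) : Set G) →
        ¬ p ∣ Nat.card ↥(Subgroup.normalizer ((P : Subgroup G) : Set G) ⊓
          (Subgroup.normalizer ((P : Subgroup G) : Set G)).map (MulAut.conj g).toMonoidHom)) ∧
      Subgroup.centralizer ((P : Subgroup G) : Set G) = A) := by
  classical
  have hp' : p.Prime := Fact.out
  have hc : Cfsg.Agent.Lib.Coprime.NilCover 𝓐 := ⟨h𝓐.1.1, h𝓐.1.2, h𝓐.2.1, h𝓐.2.2⟩
  by_cases hE : Cfsg.IsElementaryAbelian p (P : Subgroup G) ∧ p < Nat.card ↥(P : Subgroup G)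
  · exact Or.inl hE
  right
  have hP : IsCyclic ↥(P : Subgroup G) ∨ (IsMulCommutative ↥(P : Subgroup G) ∧ ¬ Cfsg.IsElementaryAbelian p (P : Subgroup G)) := by
    by_cases hE2 : Cfsg.IsElementaryAbelian p (P : Subgroup G)
    · left
      have hle : Nat.card ↥(P : Subgroup G) ≤ p := by
        by_contra hlt
        push Not at hlt
        exact hE ⟨hE2, hlt⟩
      obtain ⟨k, hk⟩ := IsPGroup.iff_card.mp P.isPGroup'
      have hk1 : k ≤ 1 := by
        by_contra hlt
        push Not at hlt
        have h1 : p ^ 2 ≤ p ^ k := Nat.pow_le_pow_right hp'.pos hlt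
        rw [hk] at hle
        have h2 := hp'.two_le
        nlinarith
      interval_cases k
      · exfalso
        apply hnn
        rw [pow_zero] at hk
        rw [Subgroup.eq_bot_of_card_eq _ hk]
        infer_instance
      · haveI : Fact (Nat.card ↥(P : Subgroup G)).Prime := ⟨by rw [hk, pow_one]; exact hp'⟩
        exact isCyclic_of_prime_card rfl
    · exact Or.inr ⟨hab, hE2⟩
  obtain ⟨A, hA, hPA, hCA, hco, _, hTI⟩ := hc.core hZ P hP hnn
  refine ⟨A, hA, hPA, ?_, hco, hTI, hCA⟩
  intro hdvd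
  apply P.not_dvd_index
  rw [← Subgroup.relIndex_mul_index hPA]
  exact Dvd.dvd.mul_right hdvd _

end Cfsg.Agent.S3890
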