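import Cfsg.Statements.S3892
-- import your own Cfsg.Agent.* helpers here
import Mathlib
import Cfsg.Agent.Lib.Coprime.NilCover

set_option autoImplicit false
open Cfsg

namespace Cfsg.Agent.S3892

open Cfsg.Agent.Lib.Coprime in
theorem no_cover_of {G : Type*} [Group G] [Finite G] (hZ : Subgroup.center G = ⊥) {p : ℕ} [Fact p.Prime]
    (σ : G) (hσ : orderOf σ = p) (hp2 : ¬ p ^ 2 ∣ Nat.card G) (M : Subgroup G) (hM : M ≠ ⊤)
    (hCM : ∀ g : G, g * σ = σ * g → g ∈ M) (m : G) (hm : m ∈ M)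
    (hmN : m * σ * m⁻¹ ∉ Subgroup.zpowers σ) (𝓐 : Finset (Subgroup G)) (h : NilCover 𝓐) : False := by
  classical
  have hp : p.Prime := Fact.out
  have hzp : IsPGroup p (Subgroup.zpowers σ) := IsPGroup.of_card (n := 1) (by
    rw [Nat.card_zpowers, hσ, pow_one])
  obtain ⟨P, hP⟩ := hzp.exists_le_sylow
  obtain ⟨k, hk⟩ := IsPGroup.iff_card.mp P.isPGroup'
  have hk1 : k ≤ 1 := by
    by_contra hlt
    push Not at hlt
    apply hp2
    have h1 := Subgroup.card_subgroup_dvd_card (P : Subgroup G)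
    rw [hk] at h1
    exact (pow_dvd_pow p hlt).trans h1
  have hPe : (P : Subgroup G) = Subgroup.zpowers σ := by
    symm
    apply Subgroup.eq_of_le_of_card_ge hP
    rw [hk, Nat.card_zpowers, hσ]
    calc p ^ k ≤ p ^ 1 := Nat.pow_le_pow_right hp.pos hk1
      _ = p := pow_one p
  have hc : IsCyclic ↥(P : Subgroup G) := by
    rw [hPe]
    infer_instance
  have hnn : ¬ (P : Subgroup G).Normal := by
    intro hn
    apply hmN
    rw [← hPe]
    exact hn.conj_mem σ (hP (Subgroup.mem_zpowers σ)) m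
  obtain ⟨A, hA, hPA, hCA, hco, huniq, _⟩ := h.core hZ P (Or.inl hc) hnn
  obtain ⟨M', hM', hle⟩ := exists_coatom_ge hM
  have hCM' : Subgroup.centralizer ((P : Subgroup G) : Set G) ≤ M' := by
    intro g hg
    apply hle
    apply hCM
    exact (Subgroup.mem_centralizer_iff.mp hg σ (hP (Subgroup.mem_zpowers σ))).symm
  have h1 := huniq M' hM' hCM'
  have h2 : m ∈ Subgroup.normalizer ((P : Subgroup G) : Set G) := by
    rw [← h1]
    exact hle hm
  apply hmN
  rw [← hPe]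
  exact (Subgroup.mem_normalizer_iff.mp h2 σ).mp (hP (Subgroup.mem_zpowers σ))

theorem perm_center_bot (n : ℕ) (hn : 3 ≤ n) : Subgroup.center (Equiv.Perm (Fin n)) = ⊥ := by
  classical
  rw [eq_bot_iff]
  intro g hg
  rw [Subgroup.mem_bot]
  by_contra hne
  obtain ⟨a, ha⟩ : ∃ a, g a ≠ a := by
    by_contra hno
    push Not at hno
    exact hne (Equiv.ext hno)
  obtain ⟨c, hc1, hc2⟩ : ∃ c : Fin n, c ≠ a ∧ c ≠ g a := by
    by_contra hno
    push Not at hno
    have h1 : (Finset.univ : Finset (Fin n)) ⊆ {a, g a} := by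
      intro c _
      by_cases hc : c = a
      · simp [hc]
      · simp [hno c hc]
    have h2 := Finset.card_le_card h1
    rw [Finset.card_univ, Fintype.card_fin] at h2
    have h3 : ({a, g a} : Finset (Fin n)).card ≤ 2 := Finset.card_le_two
    omega
  have h1 := Subgroup.mem_center_iff.mp hg (Equiv.swap (g a) c)
  have h2 := congrArg (fun f : Equiv.Perm (Fin n) => f a) h1
  simp only [Equiv.Perm.mul_apply] at h2
  rw [Equiv.swap_apply_left, Equiv.swap_apply_of_ne_of_ne ha.symm hc1.symm] at h2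
  exact hc2 h2

theorem zpow_fix {α : Type*} (σ : Equiv.Perm α) {p : ℕ} (hp : p.Prime) (hσ : orderOf σ = p) (y : α)
    (hy : σ y ≠ y) (j : ℤ) (hj : (σ ^ j) y = y) : (p : ℤ) ∣ j := by
  by_contra hnd
  have hirr : Irreducible (p : ℤ) := (Nat.prime_iff_prime_int.mp hp).irreducible
  have hcop : IsCoprime (p : ℤ) j := (hirr.coprime_iff_not_dvd).mpr hnd
  obtain ⟨u, v, huv⟩ := hcop
  apply hy
  have h1 : σ = (σ ^ (p : ℤ)) ^ u * (σ ^ j) ^ v := by
    rw [← zpow_mul, ← zpow_mul, ← zpow_add]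
    have : (p : ℤ) * u + j * v = 1 := by linarith
    rw [this, zpow_one]
  have h2 : σ ^ (p : ℤ) = 1 := by
    rw [zpow_natCast, ← hσ]
    exact pow_orderOf_eq_one σ
  rw [h2, one_zpow, one_mul] at h1
  rw [h1]
  exact Equiv.Perm.zpow_apply_eq_self_of_apply_eq_self hj v

/-- The data for a permutation of prime order at least `5` with a fixed point. -/
theorem perm_data {n p : ℕ} (hp : p.Prime) (h5 : 5 ≤ p) (σ : Equiv.Perm (Fin n)) (hσ : orderOf σ = p)
    (hz : ∃ z, σ z = z) :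
    ∃ M : Subgroup (Equiv.Perm (Fin n)), ∃ c c' : Equiv.Perm (Fin n),
      (∀ g, g * σ = σ * g → g ∈ M) ∧ c ∈ M ∧ c * σ * c⁻¹ ∉ Subgroup.zpowers σ ∧ c' ∉ M ∧
      Equiv.Perm.sign c = 1 ∧ Equiv.Perm.sign c' = 1 := by
  classical
  obtain ⟨z, hz⟩ := hz
  have hσ1 : σ ≠ 1 := by
    intro h
    rw [h, orderOf_one] at hσ
    exact hp.one_lt.ne hσ
  obtain ⟨a, ha⟩ : ∃ a, σ a ≠ a := by
    by_contra hno
    push Not at hno
    exact hσ1 (Equiv.ext hno)
  let b := σ a
  let d := σ b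
  have hmoved : ∀ y, σ y ≠ y → σ (σ y) ≠ σ y := fun y hy h => hy (σ.injective h)
  have hb : σ b ≠ b := hmoved a ha
  have hd : σ d ≠ d := hmoved b hb
  have hab : a ≠ b := fun h => ha h.symm
  have hbd : b ≠ d := fun h => hb h.symm
  have had : a ≠ d := by
    intro h
    have h1 : (σ ^ (2 : ℤ)) a = a := by
      have h2 : σ ^ (2 : ℤ) = σ * σ := by
        rw [zpow_ofNat, pow_two]
      rw [h2]
      exact h.symm
    have h2 := zpow_fix σ hp hσ a ha 2 h1
    have h3 : p ∣ 2 := by exact_mod_cast h2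
    have h4 := Nat.le_of_dvd (by norm_num) h3
    omega
  have haz : a ≠ z := by
    rintro rfl
    exact ha hz
  -- the subgroup
  let M : Subgroup (Equiv.Perm (Fin n)) :=
    { carrier := {g | ∀ x, σ (g x) = g x ↔ σ x = x}
      one_mem' := fun x => by simp
      mul_mem' := by
        intro g h hg hh x
        rw [Equiv.Perm.mul_apply]
        exact (hg (h x)).trans (hh x)
      inv_mem' := by
        intro g hg x
        have h1 := hg (g⁻¹ x)
        have hgg : g (g⁻¹ x) = x := by simp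
        rw [hgg] at h1
        exact h1.symm }
  have hmemM : ∀ g, g ∈ M ↔ ∀ x, σ (g x) = g x ↔ σ x = x := fun g => Iff.rfl
  have hswap : ∀ u v, σ u ≠ u → σ v ≠ v → Equiv.swap u v ∈ M := by
    intro u v hu hv
    rw [hmemM]
    intro x
    by_cases h1 : x = u
    · subst h1
      rw [Equiv.swap_apply_left]
      exact ⟨fun h => absurd h hv, fun h => absurd h hu⟩
    · by_cases h2 : x = v
      · subst h2
        rw [Equiv.swap_apply_right]
        exact ⟨fun h => absurd h hu, fun h => absurd h hv⟩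
      · rw [Equiv.swap_apply_of_ne_of_ne h1 h2]
  let c : Equiv.Perm (Fin n) := Equiv.swap a b * Equiv.swap b d
  let c' : Equiv.Perm (Fin n) := Equiv.swap a z * Equiv.swap a b
  have hca : c a = b := by
    show Equiv.swap a b (Equiv.swap b d a) = b
    rw [Equiv.swap_apply_of_ne_of_ne hab had, Equiv.swap_apply_left]
  have hcb : c b = d := by
    show Equiv.swap a b (Equiv.swap b d b) = d
    rw [Equiv.swap_apply_left, Equiv.swap_apply_of_ne_of_ne had.symm hbd.symm]
  have hcd : c d = a := by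
    show Equiv.swap a b (Equiv.swap b d d) = a
    rw [Equiv.swap_apply_right, Equiv.swap_apply_right]
  refine ⟨M, c, c', ?_, ?_, ?_, ?_, ?_, ?_⟩
  · intro g hg
    rw [hmemM]
    intro x
    have h1 : σ (g x) = g (σ x) := by
      have := congrArg (fun f : Equiv.Perm (Fin n) => f x) hg
      exact this.symm
    rw [h1]
    exact g.injective.eq_iff
  · exact M.mul_mem (hswap a b ha hb) (hswap b d hb hd)
  · intro hin
    obtain ⟨k, hk⟩ := hin
    have hk' : σ ^ k = c * σ * c⁻¹ := hk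
    have hci : c⁻¹ b = a := by
      rw [← hca]
      simp
    have h1 : (σ ^ k) b = d := by
      rw [hk']
      show c (σ (c⁻¹ b)) = d
      rw [hci]
      exact hcb
    have h2 : (σ ^ (-1 + k)) b = b := by
      rw [zpow_add, zpow_neg_one]
      show σ⁻¹ ((σ ^ k) b) = b
      rw [h1]
      simp [d]
    have h3 := zpow_fix σ hp hσ b hb _ h2
    obtain ⟨t, ht⟩ := h3
    have hk2 : k = 1 + p * t := by linarith
    have h4 : σ ^ (p : ℤ) = 1 := by
      rw [zpow_natCast, ← hσ]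
      exact pow_orderOf_eq_one σ
    have h5' : σ ^ k = σ := by
      rw [hk2, zpow_add, zpow_one, zpow_mul, h4, one_zpow, mul_one]
    rw [h5'] at hk'
    have h6 : c * σ = σ * c := by
      calc c * σ = c * σ * c⁻¹ * c := by group
        _ = σ * c := by rw [← hk']
    have h7 : c (σ d) = σ (c d) := by
      have := congrArg (fun f : Equiv.Perm (Fin n) => f d) h6
      exact this
    rw [hcd] at h7
    have h8 : σ d = a := by
      apply c.injective
      rw [h7, hca]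
    have h9 : (σ ^ (3 : ℤ)) a = a := by
      have h10 : σ ^ (3 : ℤ) = σ * (σ * σ) := by
        rw [zpow_ofNat, pow_succ, pow_two, mul_assoc]
      rw [h10]
      exact h8
    have h10 := zpow_fix σ hp hσ a ha 3 h9
    have h11 : p ∣ 3 := by exact_mod_cast h10
    have h12 := Nat.le_of_dvd (by norm_num) h11
    omega
  · intro hin
    have h1 := ((hmemM c').mp hin b)
    have h2 : c' b = z := by
      show Equiv.swap a z (Equiv.swap a b b) = z
      rw [Equiv.swap_apply_right, Equiv.swap_apply_left]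
    rw [h2] at h1
    exact hb (h1.mp hz)
  · show Equiv.Perm.sign (Equiv.swap a b * Equiv.swap b d) = 1
    rw [map_mul, Equiv.Perm.sign_swap hab, Equiv.Perm.sign_swap hbd]
    rfl
  · show Equiv.Perm.sign (Equiv.swap a z * Equiv.swap a b) = 1
    rw [map_mul, Equiv.Perm.sign_swap haz, Equiv.Perm.sign_swap hab]
    rfl

theorem not_sq_dvd_factorial {n p : ℕ} (hp : p.Prime) (hn : n < 2 * p) : ¬ p ^ 2 ∣ n.factorial := by
  intro h
  by_cases hpn : p ≤ n
  · have hlog : Nat.log p n < 2 := by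
      apply Nat.log_lt_of_lt_pow (by omega)
      have := hp.two_le
      nlinarith
    rw [hp.pow_dvd_factorial_iff hlog] at h
    have h1 : n / p = 1 := Nat.div_eq_of_lt_le (by omega) (by omega)
    simp at h
    omega
  · have h1 : p ∣ n.factorial := (dvd_pow_self p (by norm_num)).trans h
    have := (hp.dvd_factorial).mp h1
    omega

/-- The general case `n ≥ 6`. -/
theorem no_cover_big (n : ℕ) (hn : 6 ≤ n) :
    (¬ ∃ 𝓐 : Finset (Subgroup ↥(alternatingGroup (Fin n))), Cfsg.Agent.Lib.Coprime.NilCover 𝓐) ∧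
    (¬ ∃ 𝓐 : Finset (Subgroup (Equiv.Perm (Fin n))), Cfsg.Agent.Lib.Coprime.NilCover 𝓐) := by
  classical
  obtain ⟨p, hp, hp1, hp2⟩ := Nat.exists_prime_lt_and_le_two_mul (n / 2) (by omega)
  haveI : Fact p.Prime := ⟨hp⟩
  have hp5 : 5 ≤ p := by
    have h3 : 3 ≤ n / 2 := by omega
    by_contra hlt
    have : p = 4 := by omega
    rw [this] at hp
    exact absurd hp (by norm_num)
  have hpn : p < n := by
    by_contra hge
    have hpe : p = n := by omega
    have h2 : 2 ∣ n := by omega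
    rw [hpe] at hp
    have := (Nat.prime_dvd_prime_iff_eq Nat.prime_two hp).mp h2
    omega
  have hn2 : n < 2 * p := by omega
  have hnd : ¬ p ∣ n := by
    intro h
    obtain ⟨k, hk⟩ := h
    have h1 : k = 0 ∨ k = 1 ∨ 2 ≤ k := by omega
    rcases h1 with rfl | rfl | h1
    · omega
    · omega
    · have : p * 2 ≤ p * k := Nat.mul_le_mul_left p h1
      omega
  haveI hnt : Nontrivial (Fin n) := Fin.nontrivial_iff_two_le.mpr (by omega)
  have h2n : 2 * Nat.card (alternatingGroup (Fin n)) = n.factorial := by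
    rw [two_mul_nat_card_alternatingGroup, Nat.card_perm, Nat.card_eq_fintype_card, Fintype.card_fin]
  have hnsq := not_sq_dvd_factorial hp hn2
  have hdvdA : p ∣ Nat.card (alternatingGroup (Fin n)) := by
    have h1 : p ∣ n.factorial := Nat.dvd_factorial hp.pos hpn.le
    rw [← h2n] at h1
    exact (hp.dvd_mul.mp h1).resolve_left (fun h3 => by
      have := (Nat.prime_dvd_prime_iff_eq hp Nat.prime_two).mp h3
      omega)
  obtain ⟨σ', hσ'⟩ := exists_prime_orderOf_dvd_card' p hdvdA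
  let σ : Equiv.Perm (Fin n) := σ'.1
  have hσ : orderOf σ = p := by
    show orderOf (σ'.1) = p
    rw [Subgroup.orderOf_coe]
    exact hσ'
  have hz : ∃ z, σ z = z := by
    have hzp : IsPGroup p (Subgroup.zpowers σ) := IsPGroup.of_card (n := 1) (by
      rw [Nat.card_zpowers, hσ, pow_one])
    obtain ⟨z, hz⟩ := hzp.nonempty_fixed_point_of_prime_not_dvd_card (Fin n) (by simpa using hnd)
    refine ⟨z, ?_⟩
    exact hz ⟨σ, Subgroup.mem_zpowers σ⟩
  obtain ⟨M, c, c', h1, h2, h3, h4, h5, h6⟩ := perm_data hp hp5 σ hσ hz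
  constructor
  · rintro ⟨𝓐, h𝓐⟩
    let M' : Subgroup (alternatingGroup (Fin n)) := M.subgroupOf _
    have hZ : Subgroup.center (alternatingGroup (Fin n)) = ⊥ :=
      alternatingGroup.center_eq_bot (by simp; omega)
    refine no_cover_of hZ σ' hσ' ?_ M' ?_ ?_ ⟨c, Equiv.Perm.mem_alternatingGroup.mpr h5⟩ ?_ ?_ 𝓐 h𝓐
    · intro hd
      apply hnsq
      rw [← h2n]
      exact Dvd.dvd.mul_left hd 2
    · intro ht
      have h7 : (⟨c', Equiv.Perm.mem_alternatingGroup.mpr h6⟩ : alternatingGroup (Fin n)) ∈ M' := by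
        rw [ht]; trivial
      exact h4 h7
    · intro g hg
      apply h1
      exact congrArg Subtype.val hg
    · exact h2
    · intro hin
      apply h3
      obtain ⟨k, hk⟩ := hin
      refine ⟨k, ?_⟩
      have := congrArg Subtype.val hk
      simpa using this
  · rintro ⟨𝓐, h𝓐⟩
    have hZ : Subgroup.center (Equiv.Perm (Fin n)) = ⊥ :=
      perm_center_bot n (by omega)
    refine no_cover_of hZ σ hσ ?_ M ?_ h1 c h2 h3 𝓐 h𝓐
    · rw [Nat.card_perm, Nat.card_eq_fintype_card, Fintype.card_fin]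
      exact hnsq
    · intro ht
      exact h4 (by rw [ht]; trivial)

set_option maxRecDepth 100000 in
theorem comm_A5 : ∀ g : Equiv.Perm (Fin 5), g * (Equiv.swap 0 1 * Equiv.swap 1 2) = (Equiv.swap 0 1 * Equiv.swap 1 2) * g → Equiv.Perm.sign g = 1 → g 4 = 4 := by
  decide

set_option maxRecDepth 100000 in
theorem comm_S4 : ∀ g : Equiv.Perm (Fin 4), g * (Equiv.swap 0 1 * Equiv.swap 1 2) = (Equiv.swap 0 1 * Equiv.swap 1 2) * g → Equiv.Perm.sign g = 1 := by
  decide

set_option maxRecDepth 100000 in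
theorem comm_S5 : ∀ g : Equiv.Perm (Fin 5), g * (Equiv.swap 0 1 * Equiv.swap 1 2 * Equiv.swap 2 3 * Equiv.swap 3 4) = (Equiv.swap 0 1 * Equiv.swap 1 2 * Equiv.swap 2 3 * Equiv.swap 3 4) * g → Equiv.Perm.sign g = 1 := by
  decide

/-- `S₄`. -/
theorem no_cover_S4 : ¬ ∃ 𝓐 : Finset (Subgroup (Equiv.Perm (Fin 4))), Cfsg.Agent.Lib.Coprime.NilCover 𝓐 := by
  rintro ⟨𝓐, h𝓐⟩
  haveI : Fact (Nat.Prime 3) := ⟨Nat.prime_three⟩
  have hZ : Subgroup.center (Equiv.Perm (Fin 4)) = ⊥ := perm_center_bot 4 (by omega)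
  have hσ : orderOf (Equiv.swap 0 1 * Equiv.swap 1 2 : Equiv.Perm (Fin 4)) = 3 :=
    orderOf_eq_prime (by decide) (by decide)
  refine no_cover_of hZ (Equiv.swap 0 1 * Equiv.swap 1 2 : Equiv.Perm (Fin 4)) hσ ?_ (alternatingGroup (Fin 4)) ?_
    ?_ (Equiv.swap 0 1 * Equiv.swap 2 3) ?_ ?_ 𝓐 h𝓐
  · rw [Nat.card_perm, Nat.card_eq_fintype_card, Fintype.card_fin]
    decide
  · intro ht
    have h1 : (Equiv.swap 0 1 : Equiv.Perm (Fin 4)) ∈ alternatingGroup (Fin 4) := by
      rw [ht]; trivial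
    rw [Equiv.Perm.mem_alternatingGroup] at h1
    exact absurd h1 (by decide)
  · intro g hg
    exact Equiv.Perm.mem_alternatingGroup.mpr (comm_S4 g hg)
  · exact Equiv.Perm.mem_alternatingGroup.mpr (by decide)
  · rw [mem_zpowers_iff_mem_range_orderOf, hσ]
    decide

/-- `S₅`. -/
theorem no_cover_S5 : ¬ ∃ 𝓐 : Finset (Subgroup (Equiv.Perm (Fin 5))), Cfsg.Agent.Lib.Coprime.NilCover 𝓐 := by
  rintro ⟨𝓐, h𝓐⟩
  haveI : Fact (Nat.Prime 5) := ⟨by norm_num⟩
  have hZ : Subgroup.center (Equiv.Perm (Fin 5)) = ⊥ := perm_center_bot 5 (by omega)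
  have hσ : orderOf (Equiv.swap 0 1 * Equiv.swap 1 2 * Equiv.swap 2 3 * Equiv.swap 3 4 : Equiv.Perm (Fin 5)) = 5 :=
    orderOf_eq_prime (by decide) (by decide)
  refine no_cover_of hZ (Equiv.swap 0 1 * Equiv.swap 1 2 * Equiv.swap 2 3 * Equiv.swap 3 4 : Equiv.Perm (Fin 5)) hσ ?_ (alternatingGroup (Fin 5)) ?_
    ?_ (Equiv.swap 0 1 * Equiv.swap 1 2) ?_ ?_ 𝓐 h𝓐
  · rw [Nat.card_perm, Nat.card_eq_fintype_card, Fintype.card_fin]
    decide
  · intro ht
    have h1 : (Equiv.swap 0 1 : Equiv.Perm (Fin 5)) ∈ alternatingGroup (Fin 5) := by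
      rw [ht]; trivial
    rw [Equiv.Perm.mem_alternatingGroup] at h1
    exact absurd h1 (by decide)
  · intro g hg
    exact Equiv.Perm.mem_alternatingGroup.mpr (comm_S5 g hg)
  · exact Equiv.Perm.mem_alternatingGroup.mpr (by decide)
  · rw [mem_zpowers_iff_mem_range_orderOf, hσ]
    decide

/-- `A₅`. -/
theorem no_cover_A5 : ¬ ∃ 𝓐 : Finset (Subgroup (alternatingGroup (Fin 5))), Cfsg.Agent.Lib.Coprime.NilCover 𝓐 := by
  rintro ⟨𝓐, h𝓐⟩
  haveI : Fact (Nat.Prime 3) := ⟨Nat.prime_three⟩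
  have hZ : Subgroup.center (alternatingGroup (Fin 5)) = ⊥ :=
    alternatingGroup.center_eq_bot (by simp)
  let σ : alternatingGroup (Fin 5) := ⟨Equiv.swap 0 1 * Equiv.swap 1 2, Equiv.Perm.mem_alternatingGroup.mpr (by decide)⟩
  let m : alternatingGroup (Fin 5) := ⟨Equiv.swap 0 1 * Equiv.swap 2 3, Equiv.Perm.mem_alternatingGroup.mpr (by decide)⟩
  let t : alternatingGroup (Fin 5) := ⟨Equiv.swap 0 1 * Equiv.swap 3 4, Equiv.Perm.mem_alternatingGroup.mpr (by decide)⟩
  have hσ : orderOf σ = 3 := orderOf_eq_prime (by decide) (by decide)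
  let M : Subgroup (alternatingGroup (Fin 5)) :=
    { carrier := {g | g.1 4 = 4}
      one_mem' := rfl
      mul_mem' := by
        intro a b ha hb
        show a.1 (b.1 4) = 4
        have hb' : b.1 4 = 4 := hb
        rw [hb']
        exact ha
      inv_mem' := by
        intro a ha
        have ha' : a.1 4 = 4 := ha
        show a.1⁻¹ 4 = 4
        rw [Equiv.Perm.inv_eq_iff_eq]
        exact ha'.symm }
  refine no_cover_of hZ σ hσ ?_ M ?_ ?_ m ?_ ?_ 𝓐 h𝓐
  · have h2n : 2 * Nat.card (alternatingGroup (Fin 5)) = Nat.factorial 5 := by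
      rw [two_mul_nat_card_alternatingGroup, Nat.card_perm, Nat.card_eq_fintype_card, Fintype.card_fin]
    have h60 : Nat.card (alternatingGroup (Fin 5)) = 60 := by
      have : Nat.factorial 5 = 120 := rfl
      omega
    rw [h60]
    decide
  · intro ht
    have h1 : t ∈ M := by rw [ht]; trivial
    have h2 : t.1 4 = 4 := h1
    exact absurd h2 (by decide)
  · intro g hg
    have h1 : g.1 * (Equiv.swap 0 1 * Equiv.swap 1 2) = (Equiv.swap 0 1 * Equiv.swap 1 2) * g.1 :=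
      congrArg Subtype.val hg
    exact comm_A5 g.1 h1 g.2
  · show m.1 4 = 4
    decide
  · rw [mem_zpowers_iff_mem_range_orderOf, hσ]
    decide

/-- A cover of a group is a finite set of proper subgroups whose union is the whole group; it is minimal when no cover has fewer members, and nilpotent when all its members are nilpotent. The alternating groups of degree at least 5 and the symmetric groups of degree at least 4 have no nilpotent minimal cover. -/
theorem result (n : ℕ) :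
    (5 ≤ n → ¬ ∃ 𝓐 : Finset (Subgroup ↥(alternatingGroup (Fin n))), ((∀ A ∈ 𝓐, A ≠ ⊤) ∧ (∀ g : ↥(alternatingGroup (Fin n)), ∃ A ∈ 𝓐, g ∈ A)) ∧ (∀ 𝓑 : Finset (Subgroup ↥(alternatingGroup (Fin n))), (∀ A ∈ 𝓑, A ≠ ⊤) ∧ (∀ g : ↥(alternatingGroup (Fin n)), ∃ A ∈ 𝓑, g ∈ A) → 𝓐.card ≤ 𝓑.card) ∧ (∀ A ∈ 𝓐, Group.IsNilpotent ↥A)) ∧
    (4 ≤ n → ¬ ∃ 𝓐 : Finset (Subgroup (Equiv.Perm (Fin n))), ((∀ A ∈ 𝓐, A ≠ ⊤) ∧ (∀ g : (Equiv.Perm (Fin n)), ∃ A ∈ 𝓐, g ∈ A)) ∧ (∀ 𝓑 : Finset (Subgroup (Equiv.Perm (Fin n))), (∀ A ∈ 𝓑, A ≠ ⊤) ∧ (∀ g : (Equiv.Perm (Fin n)), ∃ A ∈ 𝓑, g ∈ A) → 𝓐.card ≤ 𝓑.card) ∧ (∀ A ∈ 𝓐, Group.IsNilpotent ↥A)) := by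
  rcases Nat.lt_or_ge n 6 with hn | hn
  · constructor
    · intro h5
      have hn5 : n = 5 := by omega
      subst hn5
      rintro ⟨𝓐, h⟩
      exact no_cover_A5 ⟨𝓐, ⟨h.1.1, h.1.2, h.2.1, h.2.2⟩⟩
    · intro h4
      have hn45 : n = 4 ∨ n = 5 := by omega
      rcases hn45 with rfl | rfl
      · rintro ⟨𝓐, h⟩
        exact no_cover_S4 ⟨𝓐, ⟨h.1.1, h.1.2, h.2.1, h.2.2⟩⟩
      · rintro ⟨𝓐, h⟩
        exact no_cover_S5 ⟨𝓐, ⟨h.1.1, h.1.2, h.2.1, h.2.2⟩⟩
  · obtain ⟨h1, h2⟩ := no_cover_big n hn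
    constructor
    · intro _
      rintro ⟨𝓐, h⟩
      exact h1 ⟨𝓐, ⟨h.1.1, h.1.2, h.2.1, h.2.2⟩⟩
    · intro _
      rintro ⟨𝓐, h⟩
      exact h2 ⟨𝓐, ⟨h.1.1, h.1.2, h.2.1, h.2.2⟩⟩

end Cfsg.Agent.S3892
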