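import Cfsg.Statements.S3904
-- import your own Cfsg.Agent.* helpers here
import Mathlib
import Cfsg.Agent.Lib.Coprime.MaxCent

set_option autoImplicit false
open Cfsg

namespace Cfsg.Agent.S3904

open Cfsg.Agent.Lib.Coprime.MaxCent
open scoped commutatorElement

/-- Let G be a non-abelian finite group in which the centralizer of every non-central element is a maximal subgroup. Then G/Z(G) is either an elementary abelian p-group for some prime p, or a minimal non-abelian group (non-abelian with all proper subgroups abelian) of order p^a · q for distinct primes p, q with a normal Sylow p-subgroup. -/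
theorem result {G : Type*} [Group G] [Finite G] (hna : ¬ IsMulCommutative G)
    (h : ∀ x : G, x ∉ Subgroup.center G → IsCoatom (Subgroup.centralizer ({x} : Set G))) :
    (∃ p : ℕ, p.Prime ∧ Cfsg.IsElementaryAbelian p (⊤ : Subgroup (G ⧸ Subgroup.center G))) ∨
    (¬ IsMulCommutative (G ⧸ Subgroup.center G) ∧ (∀ H : Subgroup (G ⧸ Subgroup.center G), H ≠ ⊤ → IsMulCommutative ↥H) ∧
      ∃ p q a : ℕ, p.Prime ∧ q.Prime ∧ p ≠ q ∧ Nat.card (G ⧸ Subgroup.center G) = p ^ a * q ∧
        ∀ P : Subgroup (G ⧸ Subgroup.center G), Nat.card ↥P = p ^ a → P.Normal) := by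
  classical
  have hcent : Subgroup.centralizer (((⊤ : Subgroup G) : Subgroup G) : Set G) = Subgroup.center G := by
    rw [Subgroup.coe_top, Subgroup.centralizer_univ]
  by_cases hI : ∃ x₀ : G, x₀ ∉ Subgroup.center G ∧ ∀ y, ⁅x₀, y⁆ ∈ Subgroup.center G
  · left
    obtain ⟨x₀, hc, hy⟩ := hI
    obtain ⟨h1, p, hp, h2⟩ := caseI (⊤ : Subgroup G) (fun x _ hx => h x (by rwa [hcent] at hx))
      x₀ (Subgroup.mem_top _) (by rwa [hcent]) (fun y _ => by rw [hcent]; exact hy y)
    refine ⟨p, hp, ⟨⟨fun a b => ?_⟩⟩, fun a _ => ?_⟩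
    · apply Subtype.ext
      obtain ⟨a', ha'⟩ := QuotientGroup.mk_surjective a.1
      obtain ⟨b', hb'⟩ := QuotientGroup.mk_surjective b.1
      show a.1 * b.1 = b.1 * a.1
      rw [← ha', ← hb']
      refine (comm_mod _ a' b').2 ?_
      have := h1 a' (Subgroup.mem_top _) b' (Subgroup.mem_top _)
      rwa [hcent] at this
    · obtain ⟨a', rfl⟩ := QuotientGroup.mk_surjective a
      rw [← QuotientGroup.mk_pow, QuotientGroup.eq_one_iff]
      have := h2 a' (Subgroup.mem_top _)
      rwa [hcent] at this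
  right
  push Not at hI
  have hZ : ∀ x : G ⧸ Subgroup.center G, (∀ y, x * y = y * x) → x = 1 := by
    intro x hx
    obtain ⟨x', rfl⟩ := QuotientGroup.mk_surjective x
    by_contra hne
    have h1 : x' ∉ Subgroup.center G := by
      intro h2
      exact hne ((QuotientGroup.eq_one_iff x').2 h2)
    obtain ⟨y, hy⟩ := hI _ h1
    exact hy ((comm_mod _ x' y).1 (hx _))
  haveI hnt : Nontrivial (G ⧸ Subgroup.center G) := by
    by_contra hcon
    rw [not_nontrivial_iff_subsingleton] at hcon
    apply hna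
    refine ⟨⟨fun a b => ?_⟩⟩
    have h1 : a ∈ Subgroup.center G := by
      rw [← QuotientGroup.eq_one_iff]
      exact Subsingleton.elim _ _
    exact Subgroup.mem_center_iff.1 h1 b |>.symm
  have hmax : ∀ x : G ⧸ Subgroup.center G, x ≠ 1 →
      IsCoatom (cent ((MonoidHom.id (G ⧸ Subgroup.center G)) x)) := by
    intro x hx
    obtain ⟨x', rfl⟩ := QuotientGroup.mk_surjective x
    have h1 : x' ∉ Subgroup.center G := by
      intro h2
      exact hx ((QuotientGroup.eq_one_iff x').2 h2)
    apply coatom_quot _ _ (h _ h1)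
    obtain ⟨y, hy⟩ := hI _ h1
    refine ⟨y, fun h3 => hy ?_⟩
    rw [← commutatorElement_inv]
    exact Subgroup.inv_mem _ h3
  have hn : (MonoidHom.id (G ⧸ Subgroup.center G)).range.Normal := by
    rw [MonoidHom.range_eq_top.2 Function.surjective_id]
    infer_instance
  obtain ⟨V, T, p, q, hp, hq, hpq, hVn, hVne, hVc, hVp, hcT, hVT, hprod, hfpf, hmin⟩ :=
    core_hom (MonoidHom.id _) Function.injective_id hn hZ hmax
  have hmin' : ∀ W : Subgroup (G ⧸ Subgroup.center G), W.Normal → W ≤ V → W = ⊥ ∨ W = V := by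
    intro W hW hWV
    apply hmin W _ hWV
    have : W.map (MonoidHom.id _) = W := Subgroup.map_id W
    rw [this]
    exact hW
  obtain ⟨h1, a, h2, h3⟩ := minnonab_of_data V T p q hp hq hpq hVn hVne hVc hVp hcT hVT hprod hmin'
  refine ⟨?_, h1, p, q, a, hp, hq, hpq, h2, h3⟩
  intro hc
  obtain ⟨x, y, hxy⟩ := exists_pair_ne (G ⧸ Subgroup.center G)
  have hc' : ∀ u v : G ⧸ Subgroup.center G, u * v = v * u := fun u v => hc.is_comm.comm u v
  rw [hZ x (hc' x), hZ y (hc' y)] at hxy
  exact hxy rfl

end Cfsg.Agent.S3904
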