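import Cfsg.Statements.S3905
-- import your own Cfsg.Agent.* helpers here
import Mathlib
import Cfsg.Agent.Lib.Coprime.MaxCent

set_option autoImplicit false
open Cfsg

namespace Cfsg.Agent.S3905

open Cfsg.Agent.Lib.Coprime.MaxCent
open scoped commutatorElement

/-- Let N be a normal subgroup of the finite group G such that for every element x of N outside the center of N the centralizer C_G(x) is a maximal subgroup of G. Then N/Z(N) is either an elementary abelian p-group for some prime p, or a Frobenius group whose kernel is an elementary abelian normal subgroup and whose complement has prime order. -/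
theorem result {G : Type*} [Group G] [Finite G] (N : Subgroup G) [N.Normal]
    (h : ∀ x : G, x ∈ N → x ∉ Subgroup.centralizer (N : Set G) → IsCoatom (Subgroup.centralizer ({x} : Set G))) :
    (∃ p : ℕ, p.Prime ∧ Cfsg.IsElementaryAbelian p (⊤ : Subgroup (↥N ⧸ Subgroup.center ↥N))) ∨
    (∃ (Q K : Subgroup (↥N ⧸ Subgroup.center ↥N)) (p : ℕ), p.Prime ∧ Cfsg.IsFrobeniusComplement Q ∧ (Nat.card ↥Q).Prime ∧
      K.Normal ∧ (K : Set (↥N ⧸ Subgroup.center ↥N)) = Cfsg.frobeniusKernel Q ∧ Cfsg.IsElementaryAbelian p K) := by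
  classical
  have hmemZ : ∀ x : N, (x : G) ∈ Subgroup.centralizer (N : Set G) ↔ x ∈ Subgroup.center N := by
    intro x
    rw [Subgroup.mem_centralizer_iff, Subgroup.mem_center_iff]
    constructor
    · intro hx y
      exact Subtype.ext (hx y y.2)
    · intro hx y hy
      exact congrArg Subtype.val (hx ⟨y, hy⟩)
  have hcommq : ∀ x y : N, (QuotientGroup.mk x : N ⧸ Subgroup.center N) * QuotientGroup.mk y =
      QuotientGroup.mk y * QuotientGroup.mk x ↔ ⁅(x : G), (y : G)⁆ ∈ Subgroup.centralizer (N : Set G) := by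
    intro x y
    rw [comm_mod, ← hmemZ]
    rfl
  by_cases hI : ∃ x₀ ∈ N, x₀ ∉ Subgroup.centralizer (N : Set G) ∧
      ∀ y ∈ N, ⁅x₀, y⁆ ∈ Subgroup.centralizer (N : Set G)
  · left
    obtain ⟨x₀, hN, hc, hy⟩ := hI
    obtain ⟨h1, p, hp, h2⟩ := caseI N h x₀ hN hc hy
    refine ⟨p, hp, ⟨⟨fun a b => ?_⟩⟩, fun a _ => ?_⟩
    · apply Subtype.ext
      obtain ⟨a', ha'⟩ := QuotientGroup.mk_surjective a.1
      obtain ⟨b', hb'⟩ := QuotientGroup.mk_surjective b.1
      show a.1 * b.1 = b.1 * a.1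
      rw [← ha', ← hb']
      exact (hcommq a' b').2 (h1 _ a'.2 _ b'.2)
    · obtain ⟨a', rfl⟩ := QuotientGroup.mk_surjective a
      rw [← QuotientGroup.mk_pow, QuotientGroup.eq_one_iff, ← hmemZ]
      exact h2 _ a'.2
  by_cases htriv : N ≤ Subgroup.centralizer (N : Set G)
  · left
    refine ⟨2, Nat.prime_two, ⟨⟨fun a b => ?_⟩⟩, fun a _ => ?_⟩
    · apply Subtype.ext
      obtain ⟨a', ha'⟩ := QuotientGroup.mk_surjective a.1
      obtain ⟨b', hb'⟩ := QuotientGroup.mk_surjective b.1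
      show a.1 * b.1 = b.1 * a.1
      rw [← ha', ← hb', (QuotientGroup.eq_one_iff a').2 ((hmemZ a').1 (htriv a'.2)),
        (QuotientGroup.eq_one_iff b').2 ((hmemZ b').1 (htriv b'.2))]
    · obtain ⟨a', rfl⟩ := QuotientGroup.mk_surjective a
      rw [(QuotientGroup.eq_one_iff a').2 ((hmemZ a').1 (htriv a'.2)), one_pow]
  right
  push Not at hI
  obtain ⟨W, hW⟩ : ∃ W : Subgroup G, W = N ⊓ Subgroup.centralizer (N : Set G) := ⟨_, rfl⟩
  haveI hWn : W.Normal := by
    rw [hW]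
    infer_instance
  have hle : Subgroup.center N ≤ ((QuotientGroup.mk' W).comp N.subtype).ker := by
    intro x hx
    rw [MonoidHom.mem_ker]
    show (QuotientGroup.mk (x : G) : G ⧸ W) = 1
    rw [QuotientGroup.eq_one_iff, hW]
    exact ⟨x.2, (hmemZ x).2 hx⟩
  let ι : (N ⧸ Subgroup.center N) →* (G ⧸ W) := QuotientGroup.lift _ _ hle
  have hιmk : ∀ x : N, ι (QuotientGroup.mk x) = QuotientGroup.mk (x : G) := fun x => rfl
  have hι : Function.Injective ι := by
    rw [injective_iff_map_eq_one]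
    intro a ha
    obtain ⟨a', rfl⟩ := QuotientGroup.mk_surjective a
    rw [hιmk, QuotientGroup.eq_one_iff, hW] at ha
    exact (QuotientGroup.eq_one_iff a').2 ((hmemZ a').1 ha.2)
  have hn : ι.range.Normal := by
    refine ⟨?_⟩
    rintro _ ⟨a, rfl⟩ g
    obtain ⟨a', rfl⟩ := QuotientGroup.mk_surjective a
    obtain ⟨g', rfl⟩ := QuotientGroup.mk_surjective g
    refine ⟨QuotientGroup.mk ⟨g' * a' * g'⁻¹, ‹N.Normal›.conj_mem _ a'.2 g'⟩, ?_⟩
    rw [hιmk, hιmk]
    rfl
  have hZ : ∀ x : N ⧸ Subgroup.center N, (∀ y, x * y = y * x) → x = 1 := by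
    intro x hx
    obtain ⟨x', rfl⟩ := QuotientGroup.mk_surjective x
    by_contra hne
    have h1 : (x' : G) ∉ Subgroup.centralizer (N : Set G) := by
      intro h2
      exact hne ((QuotientGroup.eq_one_iff x').2 ((hmemZ x').1 h2))
    obtain ⟨y, hy, hy2⟩ := hI _ x'.2 h1
    exact hy2 ((hcommq x' ⟨y, hy⟩).1 (hx _))
  haveI hnt : Nontrivial (N ⧸ Subgroup.center N) := by
    obtain ⟨x, hx, hx2⟩ := SetLike.not_le_iff_exists.1 htriv
    refine ⟨⟨QuotientGroup.mk ⟨x, hx⟩, 1, fun e => hx2 ?_⟩⟩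
    exact (hmemZ ⟨x, hx⟩).2 ((QuotientGroup.eq_one_iff _).1 e)
  have hmax : ∀ x : N ⧸ Subgroup.center N, x ≠ 1 → IsCoatom (cent (ι x)) := by
    intro x hx
    obtain ⟨x', rfl⟩ := QuotientGroup.mk_surjective x
    rw [hιmk]
    have h1 : (x' : G) ∉ Subgroup.centralizer (N : Set G) := by
      intro h2
      exact hx ((QuotientGroup.eq_one_iff x').2 ((hmemZ x').1 h2))
    apply coatom_quot W _ (h _ x'.2 h1)
    obtain ⟨y, hy, hy2⟩ := hI _ x'.2 h1
    refine ⟨y, fun h3 => hy2 ?_⟩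
    rw [hW] at h3
    rw [← commutatorElement_inv]
    exact Subgroup.inv_mem _ h3.2
  obtain ⟨V, T, p, q, hp, hq, hpq, hVn, hVne, hVc, hVp, hcT, hVT, hprod, hfpf, -⟩ :=
    core_hom ι hι hn hZ hmax
  have hTne : T ≠ ⊥ := by
    rintro rfl
    rw [Subgroup.card_bot] at hcT
    exact hq.one_lt.ne hcT
  obtain ⟨h1, h2⟩ := frob_of_data V T hVn hVne hVc hTne hVT hprod hfpf
  refine ⟨T, V, p, hp, h1, hcT ▸ hq, hVn, h2, ⟨⟨fun a b => Subtype.ext (hVc _ a.2 _ b.2)⟩⟩, hVp⟩

end Cfsg.Agent.S3905
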