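import Cfsg.Statements.S3946
-- import your own Cfsg.Agent.* helpers here
import Mathlib
import Cfsg.Agent.Lib.Struct.Hughes3

set_option autoImplicit false
open Cfsg

namespace Cfsg.Agent.S3946

open Cfsg.Agent.Lib.Struct.Hughes

/-- Powers in the semidirect product. -/
theorem pow_elem {G : Type*} [Group G] (α : MulAut G) (x : G) (n : ℕ) :
    ((⟨x, ⟨α, Subgroup.mem_zpowers α⟩⟩ : SemidirectProduct G (Subgroup.zpowers α) (Subgroup.zpowers α).subtype) ^ n).left =
      ((List.range n).map (fun i : ℕ => (α ^ i) x)).prod := by
  induction n with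
  | zero => simp
  | succ n ih =>
    rw [pow_succ, SemidirectProduct.mul_left, ih, List.range_succ, List.map_append, List.prod_append]
    have hr : ((⟨x, ⟨α, Subgroup.mem_zpowers α⟩⟩ : SemidirectProduct G (Subgroup.zpowers α) (Subgroup.zpowers α).subtype) ^ n).right = ⟨α, Subgroup.mem_zpowers α⟩ ^ n := by
      have := map_pow (SemidirectProduct.rightHom (N := G) (G := Subgroup.zpowers α) (φ := (Subgroup.zpowers α).subtype)) ⟨x, ⟨α, Subgroup.mem_zpowers α⟩⟩ n
      exact this
    rw [hr]
    simp

/-- Call an automorphism α of order n of a group G splitting when x · α(x) · α²(x) ⋯ α^(n−1)(x) = 1 for every x ∈ G. A finite group admitting a splitting automorphism of prime order is nilpotent (this contains the case of a fixed-point-free automorphism of prime order). -/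
theorem result {G : Type*} [Group G] [Finite G] (α : MulAut G) (hp : (orderOf α).Prime)
    (hsplit : ∀ x : G, (((List.range (orderOf α)).map (fun i : ℕ => (α ^ i) x)).prod = 1)) : Group.IsNilpotent G := by
  classical
  set p := orderOf α with hpdef
  let Γ := SemidirectProduct G (Subgroup.zpowers α) (Subgroup.zpowers α).subtype
  haveI : Finite (MulAut G) := inferInstance
  haveI : Finite Γ := by
    exact Finite.of_equiv _ SemidirectProduct.equivProd.symm
  let ρ : Γ →* Subgroup.zpowers α := SemidirectProduct.rightHom
  have hρs : Function.Surjective ρ := SemidirectProduct.rightHom_surjective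
  have hcard : Nat.card (Subgroup.zpowers α) = p := Nat.card_zpowers α
  have hspow : ∀ x : G, ((⟨x, ⟨α, Subgroup.mem_zpowers α⟩⟩ : Γ)) ^ p = 1 := by
    intro x
    apply SemidirectProduct.ext
    · show (((⟨x, ⟨α, Subgroup.mem_zpowers α⟩⟩ : Γ)) ^ p).left = 1
      rw [pow_elem]
      exact hsplit x
    · show ρ (((⟨x, ⟨α, Subgroup.mem_zpowers α⟩⟩ : Γ)) ^ p) = 1
      rw [map_pow]
      apply Subtype.ext
      show α ^ p = 1
      exact pow_orderOf_eq_one α
  have hsp : Split p ρ.ker := by
    refine ⟨MonoidHom.normal_ker _, ?_, ?_⟩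
    · rw [Subgroup.index_ker, MonoidHom.range_eq_top.mpr hρs, Subgroup.card_top]
      exact hcard
    · intro g hg
      have hγ : ρ g ≠ 1 := fun h => hg (MonoidHom.mem_ker.mpr h)
      have hpr : p.Prime := hp
      haveI : Fact p.Prime := ⟨hpr⟩
      -- the element g^j lies over α
      let α' : Subgroup.zpowers α := ⟨α, Subgroup.mem_zpowers α⟩
      have hα' : α' ∈ Subgroup.zpowers (ρ g) := mem_zpowers_of_prime_card hcard hγ
      obtain ⟨k₀, hk₀⟩ := mem_powers_iff_mem_zpowers.mpr hα'
      have hk₀' : (ρ g) ^ k₀ = α' := hk₀
      have hα1 : α' ≠ 1 := by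
        intro h
        have h1 : α = 1 := congrArg Subtype.val h
        rw [h1, orderOf_one] at hpdef
        exact hpr.one_lt.ne' hpdef
      have hpk : ¬ p ∣ k₀ := by
        rintro ⟨t, rfl⟩
        apply hα1
        rw [← hk₀', pow_mul, ← hcard, pow_card_eq_one', one_pow]
      set n := orderOf g with hn
      have hn0 : n ≠ 0 := (orderOf_pos g).ne'
      set m := n / p ^ n.factorization p with hm
      have hmco : m.Coprime p := (Nat.coprime_ordCompl hpr hn0).symm
      obtain ⟨j, hj1, hj2⟩ := Nat.chineseRemainder hmco 1 k₀
      have hjm : j.Coprime m := by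
        have := hj1.gcd_eq
        show Nat.gcd j m = 1
        rw [this]
        simp
      have hjp : j.Coprime p := by
        rw [Nat.coprime_comm, hpr.coprime_iff_not_dvd]
        intro hd
        exact hpk ((hj2.dvd_iff (dvd_refl p)).mp hd)
      have hjn : j.Coprime n := by
        have e : n = p ^ n.factorization p * m := (Nat.ordProj_mul_ordCompl_eq_self n p).symm
        rw [e]
        exact Nat.Coprime.mul_right (Nat.Coprime.pow_right _ hjp) hjm
      have hρj : ρ (g ^ j) = α' := by
        rw [map_pow, ← hk₀']
        rw [pow_eq_pow_iff_modEq]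
        apply Nat.ModEq.of_dvd _ hj2
        apply orderOf_dvd_of_pow_eq_one
        rw [← hcard]
        exact pow_card_eq_one'
      have hgj : g ^ j = ⟨(g ^ j).left, α'⟩ := by
        apply SemidirectProduct.ext
        · rfl
        · exact hρj
      have h1 : (g ^ j) ^ p = 1 := by
        rw [hgj]
        exact hspow _
      have h2 : n ∣ j * p := by
        rw [← pow_mul] at h1
        exact orderOf_dvd_of_pow_eq_one h1
      have h3 : n ∣ p := (hjn.symm).dvd_of_dvd_mul_left h2
      exact orderOf_dvd_iff_pow_eq_one.mp h3
  have hnil := split_nilpotent hp _ Γ ρ.ker rfl hsp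
  let f : G →* ρ.ker :=
    { toFun := fun x => ⟨SemidirectProduct.inl x, by
        rw [MonoidHom.mem_ker]
        exact SemidirectProduct.rightHom_inl x⟩
      map_one' := by
        apply Subtype.ext
        exact map_one _
      map_mul' := fun a b => by
        apply Subtype.ext
        exact map_mul _ _ _ }
  refine nil_of_inj f ?_
  intro a b hab
  exact SemidirectProduct.inl_injective (congrArg Subtype.val hab)

end Cfsg.Agent.S3946
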