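import Cfsg.Statements.S4018
import Cfsg.Agent.Lib.PGroups.TIChar2
import Cfsg.Agent.Lib.PGroups.Cyclic
import Cfsg.Agent.Lib.PGroups.CycSub2

set_option autoImplicit false
open Cfsg

namespace Cfsg.Agent.S4018

open Subgroup Cfsg.Agent.Lib.PGroups

private theorem fusion_klein {G : Type*} [Group G] [Finite G]
    (hs : ∀ L : Subgroup G, L.Normal → L = ⊥ ∨ L = ⊤) (hbig : 4 < Nat.card G)
    (S : Sylow 2 G) (hS4 : Nat.card (S : Subgroup G) = 4) (t : G) (htS : t ∈ (S : Subgroup G))
    (ht1 : t ≠ 1) :
    ∀ v ∈ (S : Subgroup G), v ≠ 1 → IsConj t v := by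
  classical
  haveI := Fintype.ofFinite G
  have hcomm : ∀ a b : (S : Subgroup G), a * b = b * a :=
    IsPGroup.commutative_of_card_eq_prime_sq (p := 2) (by rw [hS4]; norm_num)
  have hScomm : ∀ a ∈ (S : Subgroup G), ∀ b ∈ (S : Subgroup G), a * b = b * a := fun a ha b hb =>
    congrArg Subtype.val (hcomm ⟨a, ha⟩ ⟨b, hb⟩)
  by_cases hcent : normalizer ((S : Subgroup G) : Set G) ≤ centralizer ((S : Subgroup G) : Set G)
  · exfalso
    have hc := MonoidHom.ker_transferSylow_isComplement' S hcent
    have hk := hc.card_mul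
    rcases hs (MonoidHom.transferSylow S hcent).ker inferInstance with h | h
    · rw [h, Subgroup.card_bot, one_mul, hS4] at hk
      omega
    · rw [h, Subgroup.card_top, hS4] at hk
      have : 0 < Nat.card G := Nat.card_pos
      omega
  · obtain ⟨x, hxN, hxC⟩ := SetLike.not_le_iff_exists.mp hcent
    obtain ⟨a, b, hab, hcab, ⟨k, hk⟩, hb2, haz, hbz⟩ := exists_pPart 2 x
    have hzN : zpowers x ≤ normalizer ((S : Subgroup G) : Set G) := (zpowers_le).mpr hxN
    have haS : a ∈ (S : Subgroup G) := mem_sylow_of_mem_normalizer S ⟨k, hk⟩ (hzN haz)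
    have hbN : b ∈ normalizer ((S : Subgroup G) : Set G) := hzN hbz
    have haC : a ∈ centralizer ((S : Subgroup G) : Set G) := by
      rw [Subgroup.mem_centralizer_iff]
      intro h hh
      exact hScomm h hh a haS
    have hbC : b ∉ centralizer ((S : Subgroup G) : Set G) := by
      intro hb
      apply hxC
      rw [hab]
      exact mul_mem haC hb
    obtain ⟨v₀, hv₀S, hv₀⟩ : ∃ v₀ ∈ (S : Subgroup G), b * v₀ * b⁻¹ ≠ v₀ := by
      by_contra hall
      push Not at hall
      apply hbC
      rw [Subgroup.mem_centralizer_iff]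
      intro h hh
      have := hall h hh
      calc h * b = b * h * b⁻¹ * b := by rw [this]
        _ = b * h := by group
    let σ : G → G := fun v => b * v * b⁻¹
    have hσinj : Function.Injective σ := by
      intro u w huw
      have h1 : b * u = b * w := mul_right_cancel huw
      exact mul_left_cancel h1
    have hσS : ∀ v ∈ (S : Subgroup G), σ v ∈ (S : Subgroup G) := fun v hv =>
      (Subgroup.mem_normalizer_iff.mp hbN v).mp hv
    have hσ1 : σ 1 = 1 := by simp [σ]
    have hodd : (b * b) ^ ((orderOf b + 1) / 2) = b := by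
      have h2 : 2 * ((orderOf b + 1) / 2) = orderOf b + 1 := by omega
      rw [← pow_two, ← pow_mul, h2, pow_succ, pow_orderOf_eq_one, one_mul]
    set v₁ := σ v₀ with hv₁
    set v₂ := σ v₁ with hv₂
    have hv₀1 : v₀ ≠ 1 := fun h => hv₀ (by rw [h]; simp)
    have hv₁1 : v₁ ≠ 1 := fun h => hv₀1 (hσinj (by rw [hσ1]; exact h))
    have hv₂1 : v₂ ≠ 1 := fun h => hv₁1 (hσinj (by rw [hσ1]; exact h))
    have h01 : v₀ ≠ v₁ := fun h => hv₀ h.symm
    have h12 : v₁ ≠ v₂ := fun h => h01 (hσinj h)
    have h02 : v₀ ≠ v₂ := by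
      intro h
      have h1 : Commute (b * b) v₀ := by
        show b * b * v₀ = v₀ * (b * b)
        have h3 : v₂ = b * b * v₀ * (b * b)⁻¹ := by
          simp only [hv₂, hv₁, σ]
          group
        rw [h3] at h
        calc b * b * v₀ = (b * b * v₀ * (b * b)⁻¹) * (b * b) := by group
          _ = v₀ * (b * b) := by rw [← h]
      have h4 : Commute b v₀ := by
        rw [← hodd]
        exact h1.pow_left _
      apply hv₀
      rw [h4.eq]
      group
    have hv₁S : v₁ ∈ (S : Subgroup G) := hσS _ hv₀S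
    have hv₂S : v₂ ∈ (S : Subgroup G) := hσS _ hv₁S
    let F : Finset G := {1, v₀, v₁, v₂}
    have hFcard : F.card = 4 := by
      simp only [F]
      rw [Finset.card_insert_of_notMem, Finset.card_insert_of_notMem, Finset.card_insert_of_notMem,
        Finset.card_singleton]
      · simpa using h12
      · simp [h01, h02]
      · simp [hv₀1.symm, hv₁1.symm, hv₂1.symm]
    let Sf : Finset G := Finset.univ.filter (fun x => x ∈ (S : Subgroup G))
    have hSfcard : Sf.card = 4 := by
      rw [← hS4, Nat.card_eq_fintype_card, Fintype.card_subtype]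
    have hsub : F ⊆ Sf := by
      intro y hy
      simp only [F, Finset.mem_insert, Finset.mem_singleton] at hy
      refine Finset.mem_filter.mpr ⟨Finset.mem_univ _, ?_⟩
      rcases hy with rfl | rfl | rfl | rfl
      · exact one_mem _
      · exact hv₀S
      · exact hv₁S
      · exact hv₂S
    have heq : F = Sf := Finset.eq_of_subset_of_card_le hsub (by omega)
    have hcl : ∀ v ∈ (S : Subgroup G), v ≠ 1 → IsConj v₀ v := by
      intro v hv hv1
      have h1 : v ∈ F := by
        rw [heq]
        exact Finset.mem_filter.mpr ⟨Finset.mem_univ _, hv⟩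
      simp only [F, Finset.mem_insert, Finset.mem_singleton] at h1
      rcases h1 with h | h | h | h
      · exact absurd h hv1
      · rw [h]
      · rw [h]
        exact isConj_iff.mpr ⟨b, rfl⟩
      · rw [h]
        exact isConj_iff.mpr ⟨b * b, by simp only [hv₂, hv₁, σ]; group⟩
    intro v hv hv1
    exact (hcl t htS ht1).symm.trans (hcl v hv hv1)


/-- Let G be a finite group with an abelian Sylow 3-subgroup P such that the normalizer of P has order 4·#P, the centralizer C of P has order 2·#P, C meets each of its conjugates by elements outside its normalizer trivially, and every proper subgroup of G of even order has order dividing 4·#P. Then G is not simple. -/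
theorem result {G : Type*} [Group G] [Finite G]
    (P : Sylow 3 G) (hab : IsMulCommutative P)
    (hN : Nat.card (Subgroup.normalizer ((P : Subgroup G) : Set G)) = 4 * Nat.card P)
    (hC : Nat.card (Subgroup.centralizer (P : Set G)) = 2 * Nat.card P)
    (hTI : Cfsg.IsTISubset (Subgroup.centralizer (P : Set G) : Set G))
    (heven : ∀ H : Subgroup G, H ≠ ⊤ → 2 ∣ Nat.card H → Nat.card H ∣ 4 * Nat.card P) :
    ¬ IsSimpleGroup G := by
  classical
  intro hsimple
  haveI := hsimple
  haveI := Fintype.ofFinite G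
  have hs : ∀ L : Subgroup G, L.Normal → L = ⊥ ∨ L = ⊤ := fun L hL =>
    hsimple.eq_bot_or_eq_top_of_normal L hL
  have h3 : Nat.Prime 3 := Nat.prime_three
  haveI : Fact (Nat.Prime 2) := ⟨Nat.prime_two⟩
  set PP : Subgroup G := (P : Subgroup G) with hPP
  set N : Subgroup G := normalizer (PP : Set G) with hNdef
  set C : Subgroup G := centralizer (PP : Set G) with hCdef
  set p₀ : ℕ := Nat.card PP with hp₀
  have hN' : Nat.card N = 4 * p₀ := hN
  have hC' : Nat.card C = 2 * p₀ := hC
  have hp₀pos : 0 < p₀ := Nat.card_pos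
  have hPc : ∀ u ∈ PP, ∀ v ∈ PP, u * v = v * u := fun u hu v hv =>
    congrArg Subtype.val (hab.is_comm.comm (⟨u, hu⟩ : PP) ⟨v, hv⟩)
  -- `P` is nontrivial
  have hPne : PP ≠ ⊥ := by
    intro h
    have h1 : N = ⊤ := by
      rw [hNdef, h]
      rw [eq_top_iff]
      intro g _
      rw [Subgroup.mem_normalizer_iff]
      intro x
      simp only [Subgroup.coe_bot, Set.mem_singleton_iff, Subgroup.mem_bot]
      constructor
      · rintro rfl; simp
      · intro hx
        have : x = g⁻¹ * (g * x * g⁻¹) * g := by group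
        rw [this, hx]; simp
    have h2 : C = ⊤ := by
      rw [hCdef, h]
      rw [eq_top_iff]
      intro g _
      rw [Subgroup.mem_centralizer_iff]
      intro x hx
      have : x = 1 := by simpa using hx
      rw [this, one_mul, mul_one]
    rw [h1, Subgroup.card_top] at hN'
    rw [h2, Subgroup.card_top] at hC'
    omega
  obtain ⟨a, ha⟩ := IsPGroup.iff_card.mp P.2
  have ha' : p₀ = 3 ^ a := ha
  have ha0 : 1 ≤ a := by
    rcases Nat.eq_zero_or_pos a with h | h
    · rw [h, pow_zero] at ha'
      exact absurd (Subgroup.card_eq_one.mp ha') hPne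
    · exact h
  have hp₀3 : 3 ≤ p₀ := by
    rw [ha']
    calc 3 = 3 ^ 1 := rfl
      _ ≤ 3 ^ a := Nat.pow_le_pow_right (by norm_num) ha0
  have hp₀odd : Nat.Coprime 2 p₀ := by
    rw [ha']
    exact Nat.Coprime.pow_right a (by norm_num)
  have hodd : ∀ u ∈ PP, u * u = 1 → u = 1 := by
    intro u hu huu
    have h1 : orderOf u ∣ 2 := orderOf_dvd_of_pow_eq_one (by rw [pow_two]; exact huu)
    have h2 : orderOf u ∣ p₀ := Subgroup.orderOf_dvd_natCard PP hu
    have h4 := Nat.Coprime.eq_one_of_dvd (Nat.Coprime.coprime_dvd_right h2 (Nat.Coprime.coprime_dvd_left h1 hp₀odd)) (dvd_refl _)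
    exact orderOf_eq_one_iff.mp h4
  have hPC : PP ≤ C := by
    intro u hu
    rw [hCdef, Subgroup.mem_centralizer_iff]
    intro v hv
    exact hPc v hv u hu
  have hcen : ∀ u ∈ PP, ∀ x ∈ C, u * x = x * u := fun u hu x hx =>
    Subgroup.mem_centralizer_iff.mp hx u hu
  have hCN : C ≤ N := by
    intro c hc
    exact mem_normalizer_of_forall_commute (fun z hz => (hcen z hz c hc).symm)
  -- the involution
  have h2dC : 2 ∣ Nat.card C := by rw [hC']; exact Nat.dvd_mul_right _ _
  obtain ⟨y, hy⟩ := exists_prime_orderOf_dvd_card' 2 h2dC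
  set t : G := (y : G) with ht
  have htC : t ∈ C := y.2
  have hto : orderOf t = 2 := by rw [ht, Subgroup.orderOf_coe, hy]
  have ht2 : t * t = 1 := by rw [← pow_two, ← hto]; exact pow_orderOf_eq_one t
  have ht1 : t ≠ 1 := by
    intro h
    rw [h, orderOf_one] at hto
    omega
  have htinv : t⁻¹ = t := inv_eq_of_mul_eq_one_left ht2
  have htP : t ∉ PP := fun h => ht1 (hodd t h ht2)
  have hct : ∀ u ∈ PP, u * t = t * u := fun u hu => hcen u hu t htC
  -- index two
  have hidx : (PP.subgroupOf C).index = 2 := by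
    have h1 := Subgroup.index_mul_card (PP.subgroupOf C)
    have h2 : Nat.card (PP.subgroupOf C) = p₀ := Nat.card_congr (Subgroup.subgroupOfEquivOfLe hPC).toEquiv
    rw [h2, hC'] at h1
    exact Nat.eq_of_mul_eq_mul_right hp₀pos h1
  have hdec : ∀ x ∈ C, x ∈ PP ∨ x * t ∈ PP := by
    intro x hx
    by_cases hxP : x ∈ PP
    · exact Or.inl hxP
    · right
      have h1 := Subgroup.mul_mem_iff_of_index_two hidx (a := (⟨x, hx⟩ : C)) (b := (⟨t, htC⟩ : C))
      have h2 : (⟨x, hx⟩ : C) ∉ PP.subgroupOf C := fun h => hxP (Subgroup.mem_subgroupOf.mp h)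
      have h3 : (⟨t, htC⟩ : C) ∉ PP.subgroupOf C := fun h => htP (Subgroup.mem_subgroupOf.mp h)
      have h4 := h1.mpr (iff_of_false h2 h3)
      exact Subgroup.mem_subgroupOf.mp h4
  have hform : ∀ x ∈ C, ∃ u ∈ PP, x = u ∨ x = u * t := by
    intro x hx
    rcases hdec x hx with h | h
    · exact ⟨x, h, Or.inl rfl⟩
    · refine ⟨x * t, h, Or.inr ?_⟩
      rw [mul_assoc, ht2, mul_one]
  have hCcomm : ∀ x ∈ C, ∀ y ∈ C, x * y = y * x := by
    intro x hx y hy
    obtain ⟨u, hu, hxu⟩ := hform x hx
    obtain ⟨v, hv, hyv⟩ := hform y hy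
    rcases hxu with rfl | rfl
    · exact hcen _ hu _ hy
    · rcases hyv with rfl | rfl
      · exact (hcen _ hv _ hx).symm
      · calc u * t * (v * t) = u * (t * v) * t := by group
          _ = u * (v * t) * t := by rw [hct v hv]
          _ = u * v * (t * t) := by group
          _ = v * u * (t * t) := by rw [hPc u hu v hv]
          _ = v * (u * t) * t := by group
          _ = v * (t * u) * t := by rw [hct u hu]
          _ = v * t * (u * t) := by group
  have hinvol : ∀ x ∈ C, x * x = 1 → x = 1 ∨ x = t := by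
    intro x hx hxx
    obtain ⟨u, hu, hxu⟩ := hform x hx
    rcases hxu with rfl | rfl
    · exact Or.inl (hodd _ hu hxx)
    · right
      have h1 : u * u = 1 := by
        calc u * u = u * u * (t * t) := by rw [ht2, mul_one]
          _ = u * (u * t) * t := by group
          _ = u * (t * u) * t := by rw [hct u hu]
          _ = u * t * (u * t) := by group
          _ = 1 := hxx
      rw [hodd u hu h1, one_mul]
  -- powers
  obtain ⟨k, hk⟩ : ∃ k, p₀ = 2 * k + 1 := by
    have h1 : ¬ 2 ∣ p₀ := fun h => by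
      have := Nat.Coprime.eq_one_of_dvd hp₀odd h
      omega
    exact ⟨p₀ / 2, by omega⟩
  have htpow : t ^ p₀ = t := by
    rw [hk, pow_succ, pow_mul, pow_two, ht2, one_pow, one_mul]
  have hNC : normalizer ((C : Subgroup G) : Set G) ≤ N := by
    intro g hg
    refine mem_normalizer_of_conj_le' PP g fun u hu => ?_
    have h1 : g * u * g⁻¹ ∈ C := (Subgroup.mem_normalizer_iff.mp hg u).mp (hPC hu)
    obtain ⟨v, hv, hvu⟩ := hform _ h1
    rcases hvu with hvu | hvu
    · rw [hvu]; exact hv
    · exfalso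
      have h2 : (g * u * g⁻¹) ^ p₀ = 1 := by
        rw [conj_pow]
        have h5 : u ^ p₀ = 1 := by
          have := Subgroup.orderOf_dvd_natCard PP hu
          exact orderOf_dvd_iff_pow_eq_one.mp this
        rw [h5]
        group
      rw [hvu, (show Commute v t from hct v hv).mul_pow, htpow] at h2
      have h5 : v ^ p₀ = 1 := by
        have := Subgroup.orderOf_dvd_natCard PP hv
        exact orderOf_dvd_iff_pow_eq_one.mp this
      rw [h5, one_mul] at h2
      exact ht1 h2
  have hnnorm : ∀ g ∈ N, ∀ x ∈ C, g * x * g⁻¹ ∈ C := by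
    intro g hg x hx
    rw [hCdef, Subgroup.mem_centralizer_iff]
    intro u hu
    have hu' : u ∈ PP := hu
    have h1 : g⁻¹ * u * g ∈ PP := by
      have := (Subgroup.mem_normalizer_iff.mp (N.inv_mem hg) u).mp hu'
      simpa using this
    have h2 := hcen _ h1 x hx
    calc u * (g * x * g⁻¹) = g * (g⁻¹ * u * g * x) * g⁻¹ := by group
      _ = g * (x * (g⁻¹ * u * g)) * g⁻¹ := by rw [h2]
      _ = g * x * g⁻¹ * u := by group
  have hti : ∀ g : G, ∀ x ∈ C, x ≠ 1 → g * x * g⁻¹ ∈ C → g ∈ N := by
    intro g x hx hx1 hgx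
    by_contra hg
    exact hx1 (hTI g (fun h => hg (hNC h)) x hx hgx)
  have hcentN : ∀ g ∈ N, g * t = t * g := by
    intro g hg
    have h1 := hnnorm g hg t htC
    have h2 : g * t * g⁻¹ * (g * t * g⁻¹) = 1 := by
      calc g * t * g⁻¹ * (g * t * g⁻¹) = g * (t * t) * g⁻¹ := by group
        _ = 1 := by rw [ht2]; group
    rcases hinvol _ h1 h2 with h3 | h3
    · exfalso
      apply ht1
      have : t = g⁻¹ * (g * t * g⁻¹) * g := by group
      rw [this, h3]
      group
    · calc g * t = g * t * g⁻¹ * g := by group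
        _ = t * g := by rw [h3]
  -- the centralizer of `t`
  have hLN : centralizer ({t} : Set G) = N := by
    have hNL : N ≤ centralizer ({t} : Set G) := fun g hg =>
      Subgroup.mem_centralizer_singleton_iff.mpr (hcentN g hg)
    have htL : t ∈ centralizer ({t} : Set G) := Subgroup.mem_centralizer_singleton_iff.mpr rfl
    have hLtop : centralizer ({t} : Set G) ≠ ⊤ := by
      intro h
      have h1 : ∀ g : G, g * t = t * g := fun g =>
        Subgroup.mem_centralizer_singleton_iff.mp (by rw [h]; trivial)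
      have h2 : t ∈ center G := Subgroup.mem_center_iff.mpr fun g => h1 g
      rcases hs (center G) inferInstance with h3 | h3
      · rw [h3] at h2
        exact ht1 (Subgroup.mem_bot.mp h2)
      · have h4 : N ≤ C := by
          intro g _
          rw [hCdef, Subgroup.mem_centralizer_iff]
          intro u _
          have : g ∈ center G := by rw [h3]; trivial
          exact (Subgroup.mem_center_iff.mp this u)
        have h5 := Subgroup.card_le_of_le h4
        rw [hN', hC'] at h5
        omega
    have h2d : 2 ∣ Nat.card (centralizer ({t} : Set G)) := by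
      have := Subgroup.orderOf_dvd_natCard _ htL
      rwa [hto] at this
    have h1 := heven _ hLtop h2d
    have h4 : Nat.card (centralizer ({t} : Set G)) ∣ Nat.card N := by
      rw [hN']; exact h1
    have h5 := Nat.le_of_dvd Nat.card_pos h4
    exact (Subgroup.eq_of_le_of_card_ge hNL h5).symm
  have hcentr : ∀ g : G, g * t = t * g ↔ g ∈ N := by
    intro g
    rw [← hLN, Subgroup.mem_centralizer_singleton_iff]
  -- Sylow 2
  have hzt : IsPGroup 2 (zpowers t) := isPGroup_zpowers_iff.mpr ⟨1, by rw [hto]; rfl⟩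
  obtain ⟨Q, hQ⟩ := hzt.exists_le_sylow
  have htQ : t ∈ (Q : Subgroup G) := hQ (Subgroup.mem_zpowers t)
  have hNG : Nat.card N ∣ Nat.card G := Subgroup.card_subgroup_dvd_card N
  have h4G : 4 ∣ Nat.card G := by
    rw [hN'] at hNG
    exact (Nat.dvd_mul_right _ _).trans hNG
  have hbig : 4 < Nat.card G := by
    have h1 := Nat.le_of_dvd Nat.card_pos hNG
    rw [hN'] at h1
    omega
  have hQ4 : Nat.card (Q : Subgroup G) = 4 := by
    obtain ⟨c, hc⟩ := IsPGroup.iff_card.mp Q.2
    have hQtop : (Q : Subgroup G) ≠ ⊤ := by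
      intro h
      have h1 : Nat.card G = 2 ^ c := by rw [← hc, h, Subgroup.card_top]
      have h2 : 3 ∣ Nat.card G := by
        rw [hN', ha'] at hNG
        exact ((dvd_pow_self 3 (by omega)).trans (Nat.dvd_mul_left _ _)).trans hNG
      rw [h1] at h2
      have := Nat.Prime.dvd_of_dvd_pow h3 h2
      omega
    have h2d : 2 ∣ Nat.card (Q : Subgroup G) := by
      have := Subgroup.orderOf_dvd_natCard _ htQ
      rwa [hto] at this
    have h1 := heven _ hQtop h2d
    have h5 : Nat.card (Q : Subgroup G) ∣ 4 * p₀ := h1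
    have h6 : Nat.card (Q : Subgroup G) ∣ 4 := by
      rw [hc] at h5 ⊢
      exact Nat.Coprime.dvd_of_dvd_mul_right (Nat.Coprime.pow_left c hp₀odd) h5
    have h7 : 2 ^ 2 ∣ Nat.card (Q : Subgroup G) :=
      Sylow.pow_dvd_card_of_pow_dvd_card Q (by simpa using h4G)
    exact Nat.dvd_antisymm h6 (by simpa using h7)
  have hfus := fusion_klein hs hbig Q hQ4 t htQ ht1
  have hQc : ∀ a ∈ (Q : Subgroup G), ∀ b ∈ (Q : Subgroup G), a * b = b * a := fun a ha b hb =>
    congrArg Subtype.val
      (IsPGroup.commutative_of_card_eq_prime_sq (p := 2) (by rw [hQ4]; norm_num) (⟨a, ha⟩ : (Q : Subgroup G)) ⟨b, hb⟩)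
  have hconj2 : ∀ c : G, IsConj t c → c * c = 1 := by
    intro c hc
    obtain ⟨g, rfl⟩ := isConj_iff.mp hc
    calc g * t * g⁻¹ * (g * t * g⁻¹) = g * (t * t) * g⁻¹ := by group
      _ = 1 := by rw [ht2]; group
  have hallconj : ∀ a : G, a * a = 1 → a ≠ 1 → IsConj t a := by
    intro a haa ha1
    have hao : orderOf a = 2 := orderOf_eq_prime (by rw [pow_two]; exact haa) ha1
    have hza : IsPGroup 2 (zpowers a) := isPGroup_zpowers_iff.mpr ⟨1, by rw [hao]; rfl⟩
    obtain ⟨g, hg⟩ := sylow_conj' Q hza
    have h1 := hg a (Subgroup.mem_zpowers a)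
    have h2 : g⁻¹ * a * g ≠ 1 := by
      intro h
      apply ha1
      have : a = g * (g⁻¹ * a * g) * g⁻¹ := by group
      rw [this, h]
      group
    have h4 := hfus _ h1 h2
    refine h4.trans (isConj_iff.mpr ⟨g, by group⟩)
  -- 2-elements are involutions
  have h2el : ∀ w : G, (∃ k, orderOf w = 2 ^ k) → w * w = 1 := by
    intro w hw
    have hzw : IsPGroup 2 (zpowers w) := isPGroup_zpowers_iff.mpr hw
    obtain ⟨g, hg⟩ := sylow_conj' Q hzw
    have h1 := hg w (Subgroup.mem_zpowers w)
    by_cases h2 : g⁻¹ * w * g = 1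
    · have : w = g * (g⁻¹ * w * g) * g⁻¹ := by group
      rw [this, h2]
      group
    · have h4 := hconj2 _ (hfus _ h1 h2)
      calc w * w = g * (g⁻¹ * w * g * (g⁻¹ * w * g)) * g⁻¹ := by group
        _ = 1 := by rw [h4]; group
  -- an element of `Q` outside `C`
  obtain ⟨s, hsQ, hs1, hst⟩ : ∃ s ∈ (Q : Subgroup G), s ≠ 1 ∧ s ≠ t := by
    by_contra hall
    push Not at hall
    have hle : (Q : Subgroup G) ≤ zpowers t := by
      intro s hsQ
      by_cases h : s = 1
      · rw [h]; exact one_mem _
      · rw [hall s hsQ h]; exact Subgroup.mem_zpowers t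
    have h1 := Subgroup.card_le_of_le hle
    rw [hQ4, Nat.card_zpowers, hto] at h1
    omega
  have hsN : s ∈ N := (hcentr s).mp (hQc s hsQ t htQ)
  have hs2 : s * s = 1 := hconj2 s (hfus s hsQ hs1)
  have hsinv' : s⁻¹ = s := inv_eq_of_mul_eq_one_left hs2
  have hsC : s ∉ C := by
    intro h
    rcases hinvol s h hs2 with h1 | h1
    · exact hs1 h1
    · exact hst h1
  have hPs : ∀ u ∈ PP, u * s = s * u → u = 1 := by
    intro u hu hus
    by_contra hu1
    obtain ⟨g, hg⟩ := isConj_iff.mp (hfus s hsQ hs1)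
    have h1 : g⁻¹ * u * g ∈ N := by
      rw [← hcentr]
      have h2 : u * (g * t * g⁻¹) = (g * t * g⁻¹) * u := by rw [hg]; exact hus
      calc g⁻¹ * u * g * t = g⁻¹ * (u * (g * t * g⁻¹)) * g := by group
        _ = g⁻¹ * ((g * t * g⁻¹) * u) * g := by rw [h2]
        _ = t * (g⁻¹ * u * g) := by group
    have h2 : ∃ k, orderOf (g⁻¹ * u * g) = 3 ^ k := by
      have h3 : orderOf (g⁻¹ * u * g) = orderOf u := by
        have : g⁻¹ * u * g = MulAut.conj g⁻¹ u := by simp [MulAut.conj_apply]
        rw [this, MulEquiv.orderOf_eq]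
      rw [h3]
      exact exists_orderOf_of_mem_isPGroup P.2 hu
    have h3 : g⁻¹ * u * g ∈ PP := mem_sylow_of_mem_normalizer P h2 h1
    have h4 : g⁻¹ ∈ N := hti g⁻¹ u (hPC hu) hu1 (by simpa using hPC h3)
    have h5 : g ∈ N := by simpa using N.inv_mem h4
    apply hst
    rw [← hg]
    rw [hcentN g h5]
    group
  have hsinvP : ∀ u ∈ PP, s * u * s⁻¹ = u⁻¹ := by
    intro u hu
    have hsu : s * u * s⁻¹ ∈ PP := (Subgroup.mem_normalizer_iff.mp hsN u).mp hu
    have hw : u * (s * u * s⁻¹) ∈ PP := PP.mul_mem hu hsu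
    have h1 : u * (s * u * s⁻¹) * s = s * (u * (s * u * s⁻¹)) := by
      have h2 := hPc u hu _ hsu
      calc u * (s * u * s⁻¹) * s = (s * u * s⁻¹) * u * s := by rw [h2]
        _ = s * u * (s⁻¹ * u * s) := by group
        _ = s * u * (s * u * s⁻¹) := by rw [hsinv']
        _ = s * (u * (s * u * s⁻¹)) := by group
    have h2 := hPs _ hw h1
    exact (eq_inv_of_mul_eq_one_right h2)
  have hstt : s * t * s⁻¹ = t := by
    rw [hcentN s hsN]
    group
  have hsinvC : ∀ x ∈ C, s * x * s⁻¹ = x⁻¹ := by
    intro x hx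
    obtain ⟨u, hu, hxu⟩ := hform x hx
    rcases hxu with rfl | rfl
    · exact hsinvP x hu
    · have h1 : s * (u * t) * s⁻¹ = (s * u * s⁻¹) * (s * t * s⁻¹) := by group
      rw [h1, hsinvP u hu, hstt, mul_inv_rev, htinv]
      have h2 := hct u hu
      have h3 : u⁻¹ * t = t * u⁻¹ := by
        calc u⁻¹ * t = u⁻¹ * (t * u) * u⁻¹ := by group
          _ = u⁻¹ * (u * t) * u⁻¹ := by rw [h2]
          _ = t * u⁻¹ := by group
      exact h3
  have hidxN : (C.subgroupOf N).index = 2 := by
    have h1 := Subgroup.index_mul_card (C.subgroupOf N)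
    have h2 : Nat.card (C.subgroupOf N) = 2 * p₀ := by
      rw [← hC']
      exact Nat.card_congr (Subgroup.subgroupOfEquivOfLe hCN).toEquiv
    rw [h2, hN'] at h1
    have h5 : 0 < 2 * p₀ := by omega
    have h6 : 4 * p₀ = 2 * (2 * p₀) := by ring
    rw [h6] at h1
    exact Nat.eq_of_mul_eq_mul_right h5 h1
  have hzs : ∀ z ∈ N, z ∉ C → z * s ∈ C := by
    intro z hz hzC
    have h1 := Subgroup.mul_mem_iff_of_index_two hidxN (a := (⟨z, hz⟩ : N)) (b := (⟨s, hsN⟩ : N))
    have h2 : (⟨z, hz⟩ : N) ∉ C.subgroupOf N := fun h => hzC (Subgroup.mem_subgroupOf.mp h)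
    have h3 : (⟨s, hsN⟩ : N) ∉ C.subgroupOf N := fun h => hsC (Subgroup.mem_subgroupOf.mp h)
    have h4 := h1.mpr (iff_of_false h2 h3)
    exact Subgroup.mem_subgroupOf.mp h4
  have hzform : ∀ z, z = (z * s) * s := by
    intro z
    rw [mul_assoc, hs2, mul_one]
  have hninv : ∀ z ∈ N, z ∉ C → ∀ x ∈ C, z * x * z⁻¹ = x⁻¹ := by
    intro z hz hzC x hx
    have hc := hzs z hz hzC
    set c := z * s with hcdef
    rw [hzform z, ← hcdef]
    have h1 : c * s * x * (c * s)⁻¹ = c * (s * x * s⁻¹) * c⁻¹ := by group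
    rw [h1, hsinvC x hx]
    have h2 := hCcomm c hc x⁻¹ (C.inv_mem hx)
    rw [h2]
    group
  have hnsq : ∀ z ∈ N, z ∉ C → z * z = 1 := by
    intro z hz hzC
    have hc := hzs z hz hzC
    set c := z * s with hcdef
    rw [hzform z, ← hcdef]
    have h1 : c * s * (c * s) = c * (s * c * s⁻¹) * (s * s) := by
      group
    rw [h1, hsinvC c hc, hs2]
    group
  -- products of involutions
  have hprod : ∀ a b : G, a * a = 1 → b * b = 1 → a ≠ 1 → b ≠ 1 → a ≠ b → ∃ g : G, g⁻¹ * (a * b) * g ∈ C := by
    intro a b haa hbb ha1 hb1 hab'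
    set x := a * b with hx
    have hainv : a⁻¹ = a := inv_eq_of_mul_eq_one_left haa
    have hbinv : b⁻¹ = b := inv_eq_of_mul_eq_one_left hbb
    have hx1 : x ≠ 1 := by
      intro h
      apply hab'
      have : a * b = 1 := h
      exact eq_inv_of_mul_eq_one_left this |>.trans hbinv
    let H : Subgroup G := Subgroup.closure {a, b}
    have haH : a ∈ H := Subgroup.subset_closure (by simp)
    have hbH : b ∈ H := Subgroup.subset_closure (by simp)
    have hxH : x ∈ H := H.mul_mem haH hbH
    have hHtop : H ≠ ⊤ := by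
      intro htop
      have hxinv : x⁻¹ = b * a := by rw [hx, mul_inv_rev, hainv, hbinv]
      have hazx : a ∈ normalizer ((zpowers x : Subgroup G) : Set G) := by
        refine mem_normalizer_of_conj_le' _ a fun w hw => ?_
        obtain ⟨i, rfl⟩ := Subgroup.mem_zpowers_iff.mp hw
        rw [← conj_zpow]
        have h1 : a * x * a⁻¹ = x⁻¹ := by
          rw [hxinv, hainv, hx]
          calc a * (a * b) * a = (a * a) * (b * a) := by group
            _ = b * a := by rw [haa, one_mul]
        rw [h1]
        exact zpow_mem (inv_mem (Subgroup.mem_zpowers x)) i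
      have hbzx : b ∈ normalizer ((zpowers x : Subgroup G) : Set G) := by
        refine mem_normalizer_of_conj_le' _ b fun w hw => ?_
        obtain ⟨i, rfl⟩ := Subgroup.mem_zpowers_iff.mp hw
        rw [← conj_zpow]
        have h1 : b * x * b⁻¹ = x⁻¹ := by
          rw [hxinv, hbinv, hx]
          calc b * (a * b) * b = b * a * (b * b) := by group
            _ = b * a := by rw [hbb, mul_one]
        rw [h1]
        exact zpow_mem (inv_mem (Subgroup.mem_zpowers x)) i
      have hHle : H ≤ normalizer ((zpowers x : Subgroup G) : Set G) := by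
        rw [Subgroup.closure_le]
        rintro c (rfl | rfl)
        · exact hazx
        · exact hbzx
      have hnorm : (zpowers x).Normal := by
        rw [← Subgroup.normalizer_eq_top_iff]
        rw [eq_top_iff, ← htop]
        exact hHle
      rcases hs _ hnorm with h5 | h5
      · exact hx1 (Subgroup.zpowers_eq_bot.mp h5)
      · have hcyc : ∀ c d : G, c * d = d * c := by
          intro c d
          have hc : c ∈ zpowers x := by rw [h5]; trivial
          have hd : d ∈ zpowers x := by rw [h5]; trivial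
          obtain ⟨i, rfl⟩ := Subgroup.mem_zpowers_iff.mp hc
          obtain ⟨j, rfl⟩ := Subgroup.mem_zpowers_iff.mp hd
          exact (Commute.refl x).zpow_zpow i j
        have h4 : N ≤ C := by
          intro g _
          rw [hCdef, Subgroup.mem_centralizer_iff]
          intro u _
          exact hcyc u g
        have h6 := Subgroup.card_le_of_le h4
        rw [hN', hC'] at h6
        omega
    have hHd : 2 ∣ Nat.card H := by
      have hao : orderOf a = 2 := orderOf_eq_prime (by rw [pow_two]; exact haa) ha1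
      have := Subgroup.orderOf_dvd_natCard H haH
      rwa [hao] at this
    have hHdvd : Nat.card H ∣ 4 * p₀ := heven H hHtop hHd
    have hxdvd : orderOf x ∣ 4 * p₀ := (Subgroup.orderOf_dvd_natCard H hxH).trans hHdvd
    obtain ⟨x₂, x₃, hxeq, hcomm, ⟨k₂, hk₂⟩, hx₃2, hx₂z, hx₃z⟩ := exists_pPart 2 x
    have hx₂sq : x₂ * x₂ = 1 := h2el x₂ ⟨k₂, hk₂⟩
    by_cases hx₂1 : x₂ = 1
    · -- `x` has odd order dividing `4 p₀`, hence is a 3-element
      have hxx₃ : x = x₃ := by rw [hxeq, hx₂1, one_mul]
      have hodd' : orderOf x ∣ p₀ := by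
        have h5 : Nat.Coprime (orderOf x) 4 := by
          have h6 : Nat.Coprime (orderOf x) 2 := by
            rw [hxx₃]
            exact ((Nat.Prime.coprime_iff_not_dvd Nat.prime_two).mpr hx₃2).symm
          exact Nat.Coprime.pow_right 2 h6
        exact Nat.Coprime.dvd_of_dvd_mul_left h5 hxdvd
      have h3el : ∃ k, orderOf x = 3 ^ k := by
        rw [ha'] at hodd'
        obtain ⟨j, -, hj⟩ := (Nat.dvd_prime_pow h3).mp hodd'
        exact ⟨j, hj⟩
      have hzx : IsPGroup 3 (zpowers x) := isPGroup_zpowers_iff.mpr h3el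
      obtain ⟨g, hg⟩ := sylow_conj' P hzx
      exact ⟨g, hPC (hg x (Subgroup.mem_zpowers x))⟩
    · -- `x₂` is an involution commuting with `x`
      obtain ⟨g, hg⟩ := isConj_iff.mp (hallconj x₂ hx₂sq hx₂1)
      have hxcomm : x * x₂ = x₂ * x := by
        rw [hxeq]
        have := hcomm.eq
        calc x₂ * x₃ * x₂ = x₂ * (x₃ * x₂) := by group
          _ = x₂ * (x₂ * x₃) := by rw [this]
      have hzN : g⁻¹ * x * g ∈ N := by
        rw [← hcentr]
        have h2 : x * (g * t * g⁻¹) = (g * t * g⁻¹) * x := by rw [hg]; exact hxcomm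
        calc g⁻¹ * x * g * t = g⁻¹ * (x * (g * t * g⁻¹)) * g := by group
          _ = g⁻¹ * ((g * t * g⁻¹) * x) * g := by rw [h2]
          _ = t * (g⁻¹ * x * g) := by group
      by_cases hzC : g⁻¹ * x * g ∈ C
      · exact ⟨g, hzC⟩
      · have h4 := hnsq _ hzN hzC
        have h5 : x * x = 1 := by
          calc x * x = g * (g⁻¹ * x * g * (g⁻¹ * x * g)) * g⁻¹ := by group
            _ = 1 := by rw [h4]; group
        obtain ⟨h, hh⟩ := isConj_iff.mp (hallconj x h5 hx1)
        refine ⟨h, ?_⟩
        rw [← hh]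
        have : h⁻¹ * (h * t * h⁻¹) * h = t := by group
        rw [this]
        exact htC
  have hD : TIData G C N t (2 * p₀) :=
    { hm6 := by omega
      cardC := hC'
      cardN := by rw [hN']; ring
      hCN := hCN
      htC := htC
      ht2 := ht2
      ht1 := ht1
      comm := hCcomm
      invol := hinvol
      centr := hcentr
      ti := hti
      nnorm := hnnorm
      ninv := hninv
      nsq := hnsq
      allconj := hallconj
      prod := hprod
      simple := hs }
  exact hD.false_of

end Cfsg.Agent.S4018
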