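import Cfsg.Statements.S4040
import Cfsg.Agent.Lib.PGroups.NilpMax
import Cfsg.Agent.Lib.Fusion.GTGroupSys
import Cfsg.Agent.Lib.PLocal.Embedding

set_option autoImplicit false
open Cfsg

namespace Cfsg.Agent.S4040


/-- A finite group possessing a maximal subgroup that is nilpotent of odd order is solvable. -/
theorem result {G : Type*} [Group G] [Finite G]
    (M : Subgroup G) (hmax : IsCoatom M) (hnil : Group.IsNilpotent M) (hodd : Odd (Nat.card M)) :
    Group.IsSolvable G := by
  refine Cfsg.Agent.Lib.PGroups.isSolvable_of_nilpotent_coatom_induction (fun X _ M => Odd (Nat.card M)) ?_ ?_ _ G M rfl hmax hnil hodd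
  · intro X _ _ M N _ _ h
    exact Odd.of_dvd_nat h (Subgroup.card_map_dvd M _)
  · intro X _ _ M hM hnil hodd hcf q hq hd
    haveI : Fact q.Prime := ⟨hq⟩
    have hq2 : q ≠ 2 := by
      rintro rfl
      exact (Nat.not_even_iff_odd.mpr hodd) (even_iff_two_dvd.mpr hd)
    obtain ⟨P, hPM, hMP⟩ := Cfsg.Agent.Lib.PGroups.exists_sylow_of_nilpotent_coatom hM hnil hcf q hd
    have hPne : (P : Subgroup X) ≠ ⊥ :=
      Sylow.ne_bot_of_dvd_card P (hd.trans (Subgroup.card_subgroup_dvd_card M))
    have hZne := Cfsg.Agent.Lib.PLocal.centerThompsonAOf_ne_bot P.2 hPne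
    have hZle := Cfsg.Agent.Lib.PLocal.centerThompsonAOf_le (P : Subgroup X)
    have hMZ : M ≤ Subgroup.normalizer (Cfsg.centerThompsonAOf (P : Subgroup X) : Set X) :=
      hMP.trans (Cfsg.Agent.Lib.PLocal.normalizer_le_normalizer_centerThompsonAOf _)
    have hNne : Subgroup.normalizer (Cfsg.centerThompsonAOf (P : Subgroup X) : Set X) ≠ ⊤ := by
      intro h
      exact hZne (hcf _ (Subgroup.normalizer_eq_top_iff.mp h) (hZle.trans hPM))
    have hEq : Subgroup.normalizer (Cfsg.centerThompsonAOf (P : Subgroup X) : Set X) = M := by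
      by_contra hcon
      exact hNne (hM.2 _ (lt_of_le_of_ne hMZ (Ne.symm hcon)))
    apply Cfsg.Agent.Lib.Fusion.GT.hasNormalPComplement_of_normalizer hq2 P
    rw [hEq]
    haveI := hnil
    exact Cfsg.Agent.Lib.PGroups.hasNormalPComplement_of_isNilpotent M q

end Cfsg.Agent.S4040
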