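import Cfsg.Statements.S4113

set_option autoImplicit false
open Cfsg

namespace Cfsg.Agent.S4113


/-- Let G be a finite group, M ≤ N non-trivial proper normal subgroups, and H a subgroup with HM = G and H ∩ M = 1. Then every element of G outside N acts fixed-point-freely on M (C_G(x) ≤ N for every x ∈ M, x ≠ 1) if and only if H ∩ gHg⁻¹ ≤ H ∩ N for every g outside H, with H proper and non-trivial and H ∩ N proper in H. -/
theorem result {G : Type*} [Group G] [Finite G] (N M : Subgroup G) [N.Normal] [M.Normal] (hMN : M ≤ N) (hM1 : M ≠ ⊥) (hN2 : N ≠ ⊤)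
    (H : Subgroup G) (hHM : H ⊔ M = ⊤) (hHM' : H ⊓ M = ⊥) :
    (∀ x ∈ M, x ≠ 1 → Subgroup.centralizer ({x} : Set G) ≤ N) ↔
      (H ≠ ⊥ ∧ H ≠ ⊤ ∧ H ⊓ N < H ∧ ∀ g : G, g ∉ H → H ⊓ H.map (MulAut.conj g).toMonoidHom ≤ N) := by
  have hMH : ∀ g : G, ∃ m ∈ M, ∃ h ∈ H, g = m * h := by
    intro g
    have hg : g⁻¹ ∈ H ⊔ M := by rw [hHM]; exact Subgroup.mem_top _
    obtain ⟨h', hh', m', hm', e⟩ := Subgroup.mem_sup_of_normal_right.mp hg
    refine ⟨m'⁻¹, inv_mem hm', h'⁻¹, inv_mem hh', ?_⟩
    rw [← mul_inv_rev, e, inv_inv]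
  have hdisj : ∀ u : G, u ∈ H → u ∈ M → u = 1 := by
    intro u hu hu'
    have : u ∈ H ⊓ M := ⟨hu, hu'⟩
    rw [hHM'] at this
    simpa using this
  constructor
  · intro hfix
    refine ⟨?_, ?_, ?_, ?_⟩
    · rintro rfl
      apply hN2
      rw [bot_sup_eq] at hHM
      rw [eq_top_iff, ← hHM]
      exact hMN
    · rintro rfl
      apply hM1
      simpa using hHM'
    · refine lt_of_le_of_ne inf_le_left ?_
      intro he
      apply hN2
      have hHN : H ≤ N := by
        rw [← he]; exact inf_le_right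
      rw [eq_top_iff, ← hHM]
      exact sup_le hHN hMN
    · intro g hg y hy
      obtain ⟨hyH, h₁, hh₁, e⟩ := hy
      obtain ⟨m, hm, h, hh, rfl⟩ := hMH g
      have hm1 : m ≠ 1 := by
        rintro rfl
        apply hg
        simpa using hh
      set k := h * h₁ * h⁻¹ with hk
      have hkH : k ∈ H := H.mul_mem (H.mul_mem hh hh₁) (H.inv_mem hh)
      have ey : y = m * k * m⁻¹ := by
        rw [← e, hk]
        simp only [MulEquiv.coe_toMonoidHom, MulAut.conj_apply]
        group
      have h2 : y * k⁻¹ ∈ M := by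
        have : y * k⁻¹ = m * (k * m⁻¹ * k⁻¹) := by rw [ey]; group
        rw [this]
        exact M.mul_mem hm (‹M.Normal›.conj_mem _ (M.inv_mem hm) _)
      have h3 : y * k⁻¹ = 1 := hdisj _ (H.mul_mem hyH (H.inv_mem hkH)) h2
      have h4 : y = k := by
        rwa [mul_inv_eq_one] at h3
      have h5 : y * m = m * y := by
        calc y * m = m * k * m⁻¹ * m := by rw [← ey]
          _ = m * k := by group
          _ = m * y := by rw [h4]
      apply hfix m hm hm1
      rw [Subgroup.mem_centralizer_iff]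
      intro z hz
      rw [Set.mem_singleton_iff] at hz
      rw [hz]
      exact h5.symm
  · rintro ⟨-, -, -, hTI⟩ x hx hx1 y hy
    by_contra hyN
    have hc : y * x = x * y := by
      rw [Subgroup.mem_centralizer_iff] at hy
      exact (hy x rfl).symm
    obtain ⟨m₁, hm₁, h, hh, rfl⟩ := hMH y
    have hhN : h ∉ N := by
      intro hhN
      exact hyN (N.mul_mem (hMN hm₁) hhN)
    -- an element of `M` commuting with `h` is trivial
    have hfree : ∀ w : G, w ∈ M → w * h = h * w → w = 1 := by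
      intro w hw hwc
      by_contra hw1
      have hwH : w ∉ H := fun hwH => hw1 (hdisj w hwH hw)
      apply hhN
      have := hTI w hwH (x := h) ⟨hh, h, hh, ?_⟩
      · exact this
      · simp only [MulEquiv.coe_toMonoidHom, MulAut.conj_apply]
        rw [hwc]
        group
    -- the map `u ↦ u⁻¹ * h * u * h⁻¹` on `M` is injective
    let f : M → M := fun u => ⟨(u : G)⁻¹ * (h * (u : G) * h⁻¹),
      M.mul_mem (M.inv_mem u.2) (‹M.Normal›.conj_mem _ u.2 _)⟩
    have hfi : Function.Injective f := by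
      intro u v huv
      have h1 : (u : G)⁻¹ * (h * (u : G) * h⁻¹) = (v : G)⁻¹ * (h * (v : G) * h⁻¹) :=
        congrArg Subtype.val huv
      have h2 : ((v : G) * (u : G)⁻¹) * h = h * ((v : G) * (u : G)⁻¹) := by
        have h3 : (u : G)⁻¹ * (h * (u : G)) = (v : G)⁻¹ * (h * (v : G)) := by
          have := congrArg (· * h) h1
          simpa [mul_assoc] using this
        have h4 : h * (u : G) = (u : G) * ((v : G)⁻¹ * (h * (v : G))) := by
          rw [← h3]; group
        have h5 : (v : G) * (u : G)⁻¹ * h * (u : G) = h * (v : G) := by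
          rw [mul_assoc _ h, h4]; group
        have h6 := congrArg (· * (u : G)⁻¹) h5
        simpa [mul_assoc] using h6
      have h7 := hfree _ (M.mul_mem v.2 (M.inv_mem u.2)) h2
      rw [mul_inv_eq_one] at h7
      exact (Subtype.ext h7).symm
    have hfs : Function.Surjective f := Finite.injective_iff_surjective.mp hfi
    obtain ⟨u, hu⟩ := hfs ⟨m₁, hm₁⟩
    have hu' : (u : G)⁻¹ * (h * (u : G) * h⁻¹) = m₁ := congrArg Subtype.val hu
    have hy' : m₁ * h = (u : G)⁻¹ * h * (u : G) := by
      rw [← hu']; group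
    -- conjugating by `u`
    set x₁ := (u : G) * x * (u : G)⁻¹ with hx₁
    have hx₁M : x₁ ∈ M := ‹M.Normal›.conj_mem _ hx _
    have hx₁1 : x₁ ≠ 1 := by
      intro h0
      apply hx1
      have : x = (u : G)⁻¹ * x₁ * (u : G) := by rw [hx₁]; group
      rw [this, h0]; group
    have hcc : x₁ * h = h * x₁ := by
      have h1 : (u : G)⁻¹ * h * (u : G) * x = x * ((u : G)⁻¹ * h * (u : G)) := by
        rw [← hy']; exact hc
      have h2 : h = (u : G) * ((u : G)⁻¹ * h * (u : G)) * (u : G)⁻¹ := by group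
      calc x₁ * h = (u : G) * (x * ((u : G)⁻¹ * h * (u : G))) * (u : G)⁻¹ := by rw [hx₁]; group
        _ = (u : G) * ((u : G)⁻¹ * h * (u : G) * x) * (u : G)⁻¹ := by rw [h1]
        _ = h * x₁ := by rw [hx₁]; group
    exact hx₁1 (hfree x₁ hx₁M hcc)

end Cfsg.Agent.S4113
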