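import Cfsg.Statements.S4127
import Cfsg.Agent.Lib.PGroups.ClassPower
import Cfsg.Agent.Lib.PGroups.ClassLemmas
import Cfsg.Agent.Lib.PGroups.Parts
import Cfsg.Agent.S4035
import Cfsg.Agent.Lib.OddLocal.PGroup
import Cfsg.Agent.Lib.Transfer.Basic

set_option autoImplicit false
open Cfsg

namespace Cfsg.Agent.S4127

open Subgroup Cfsg.Agent.Lib.PGroups


/-- Let G be a finite group, p a prime and p^a the largest power of p dividing the size of any conjugacy class of G. If some element of p-power order has a conjugacy class of size exactly p^a, then G has a normal p-complement. -/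
theorem result {G : Type*} [Group G] [Finite G] (p : ℕ) [Fact p.Prime]
    (a : ℕ) (hmax : ∀ y : G, ¬ p ^ (a + 1) ∣ (Subgroup.centralizer ({y} : Set G)).index)
    (hx : ∃ x : G, (∃ k : ℕ, orderOf x = p ^ k) ∧ (Subgroup.centralizer ({x} : Set G)).index = p ^ a) :
    Cfsg.HasNormalPComplement p G := by
  classical
  obtain ⟨x, ⟨k, hk⟩, hxa⟩ := hx
  have hp : p.Prime := Fact.out
  set K := centralizer ({x} : Set G) with hK
  have hxcomm : ∀ z : K, Commute x (z : G) := by
    intro z
    exact (mem_centralizer_singleton_iff.mp z.2).symm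
  -- Step 1: `p` divides no class size of a `p'`-element of `K`
  have h1 : ∀ z : K, (orderOf z).Coprime p → ¬ p ∣ (ConjClasses.mk z).carrier.ncard := by
    intro z hz hd
    rw [carrier_ncard_eq_index] at hd
    have hz' : orderOf (z : G) = orderOf z := Subgroup.orderOf_coe z
    have hcop : (orderOf x).Coprime (orderOf (z : G)) := by
      rw [hk, hz']
      exact Nat.Coprime.pow_left k hz.symm
    have h2 := centralizer_mul_of_coprime (hxcomm z) hcop
    have h3 := hmax (x * z)
    rw [h2] at h3
    apply h3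
    have h4 : (K ⊓ centralizer ({(z : G)} : Set G)).relIndex K * K.index =
        (K ⊓ centralizer ({(z : G)} : Set G)).index := Subgroup.relIndex_mul_index inf_le_left
    have h5 : (K ⊓ centralizer ({(z : G)} : Set G)).relIndex K =
        (centralizer ({(z : G)} : Set G)).relIndex K := by
      rw [inf_comm, Subgroup.inf_relIndex_right]
    have h6 : centralizer ({z} : Set K) = (centralizer ({(z : G)} : Set G)).subgroupOf K := by
      ext y
      rw [mem_centralizer_singleton_iff, Subgroup.mem_subgroupOf, mem_centralizer_singleton_iff]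
      exact ⟨fun h => by simpa using congrArg Subtype.val h, fun h => Subtype.ext (by simpa using h)⟩
    have h7 : (centralizer ({z} : Set K)).index = (centralizer ({(z : G)} : Set G)).relIndex K := by
      rw [h6]; rfl
    rw [h7] at hd
    rw [← h4, h5, hxa, pow_succ, mul_comm (p ^ a)]
    exact mul_dvd_mul_right hd _
  obtain ⟨S⟩ : Nonempty (Sylow p K) := inferInstance
  obtain ⟨hSn, H, hHn, hHp, hinf, hsup⟩ := Cfsg.Agent.S4035.result h1 S
  have hdisj : Disjoint (S : Subgroup K) H := disjoint_iff.mpr hinf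
  have hcomm : ∀ s ∈ (S : Subgroup K), ∀ h ∈ H, Commute s h := fun s hs h hh =>
    Subgroup.commute_of_normal_of_disjoint _ _ hSn hHn hdisj s h hs hh
  have hHcop : (Nat.card H).Coprime p := ((Nat.Prime.coprime_iff_not_dvd hp).mpr hHp).symm
  -- `p'`-elements of `K` lie in `H`
  have hpp : ∀ z : K, (orderOf z).Coprime p → z ∈ H := by
    intro z hz
    have hzt : z ∈ (S : Subgroup K) ⊔ H := by rw [hsup]; exact mem_top z
    obtain ⟨s, hs, h, hh, rfl⟩ := Subgroup.mem_sup_of_normal_right.mp hzt
    have hc := hcomm s hs h hh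
    set m := orderOf (s * h) with hm
    have h2 : s ^ m * h ^ m = 1 := by
      rw [← hc.mul_pow, hm, pow_orderOf_eq_one]
    have h3 : s ^ m = (h ^ m)⁻¹ := eq_inv_of_mul_eq_one_left h2
    have h4 : s ^ m ∈ (S : Subgroup K) ⊓ H :=
      Subgroup.mem_inf.mpr ⟨pow_mem hs m, by rw [h3]; exact inv_mem (pow_mem hh m)⟩
    rw [hinf, Subgroup.mem_bot] at h4
    obtain ⟨n, hn⟩ := S.2 ⟨s, hs⟩
    have hn' : s ^ p ^ n = 1 := congrArg Subtype.val hn
    have h5 : s ^ Nat.gcd m (p ^ n) = 1 := pow_gcd_eq_one.mpr ⟨h4, hn'⟩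
    rw [Nat.Coprime.pow_right n hz, pow_one] at h5
    rw [h5, one_mul]
    exact hh
  -- `p`-elements of `K` lie in `S`
  have hps : ∀ z : K, (∃ n : ℕ, orderOf z = p ^ n) → z ∈ (S : Subgroup K) := by
    intro z hz
    obtain ⟨T, hT⟩ := (isPGroup_zpowers_iff.mpr hz).exists_le_sylow
    have hTS : T = S := by
      haveI := Sylow.unique_of_normal S hSn
      exact Subsingleton.elim _ _
    rw [← hTS]
    exact hT (mem_zpowers z)
  -- the normal closure of `x`
  have hQ : IsPGroup p (normalClosure ({x} : Set G)) := normalClosure_isPGroup_of_index hk hxa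
  set Q := normalClosure ({x} : Set G) with hQdef
  haveI hQn : Q.Normal := Subgroup.normalClosure_normal
  have hxQ : x ∈ Q := Subgroup.subset_normalClosure (Set.mem_singleton x)
  set A := H.map K.subtype with hA
  have hAcard : Nat.card A = Nat.card H :=
    Subgroup.card_map_of_injective K.subtype_injective
  have hAK : ∀ a ∈ A, ∃ h : K, h ∈ H ∧ (h : G) = a := by
    rintro _ ⟨h, hh, rfl⟩
    exact ⟨h, hh, rfl⟩
  have hAB : A ≤ centralizer (Q : Set G) := by
    apply Cfsg.Agent.Lib.OddLocal.thompson_AxB p Q A (zpowers x) hQ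
      (isPGroup_zpowers_iff.mpr ⟨k, hk⟩) (by rw [hAcard]; exact hHcop)
    · rw [Subgroup.normalizer_eq_top_iff.mpr hQn]; exact le_top
    · rw [Subgroup.normalizer_eq_top_iff.mpr hQn]; exact le_top
    · intro a ha b hb
      obtain ⟨h, -, rfl⟩ := hAK a ha
      obtain ⟨n, rfl⟩ := hb
      exact ((hxcomm h).symm.zpow_right n).eq
    · intro a ha z hz hzc
      obtain ⟨h, hh, rfl⟩ := hAK a ha
      have hzK : z ∈ K := by
        rw [hK, mem_centralizer_singleton_iff]
        exact (hzc x (mem_zpowers x)).symm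
      have hzS : (⟨z, hzK⟩ : K) ∈ (S : Subgroup K) := by
        apply hps
        obtain ⟨n, hn⟩ := exists_orderOf_of_mem_isPGroup hQ hz
        exact ⟨n, by rw [Subgroup.orderOf_mk]; exact hn⟩
      have := hcomm _ hzS h hh
      exact (congrArg Subtype.val this.eq).symm
  -- `A` is normal in `G`
  have hAn : A.Normal := by
    refine ⟨fun y hy g => ?_⟩
    obtain ⟨h, hh, rfl⟩ := hAK y hy
    have hc : (g * (h : G) * g⁻¹) * x = x * (g * (h : G) * g⁻¹) := by
      have h1 : g⁻¹ * x * g ∈ Q := by
        have := hQn.conj_mem x hxQ g⁻¹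
        simpa using this
      have h2 : (g⁻¹ * x * g) * (h : G) = (h : G) * (g⁻¹ * x * g) :=
        (Subgroup.mem_centralizer_iff.mp (hAB ⟨h, hh, rfl⟩)) _ h1
      calc (g * (h : G) * g⁻¹) * x = g * ((h : G) * (g⁻¹ * x * g)) * g⁻¹ := by group
        _ = g * ((g⁻¹ * x * g) * (h : G)) * g⁻¹ := by rw [h2]
        _ = _ := by group
    have hw : g * (h : G) * g⁻¹ ∈ K := mem_centralizer_singleton_iff.mpr hc
    have hord : orderOf (⟨g * (h : G) * g⁻¹, hw⟩ : K) = orderOf h := by
      rw [Subgroup.orderOf_mk, orderOf_conj_eq, Subgroup.orderOf_coe]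
    have hh' : (orderOf h).Coprime p := Nat.Coprime.coprime_dvd_left (Subgroup.orderOf_dvd_natCard H hh) hHcop
    have := hpp ⟨_, hw⟩ (by rw [hord]; exact hh')
    exact ⟨_, this, rfl⟩
  -- its index is a power of `p`
  have hcompl : (S : Subgroup K).IsComplement' H := by
    apply Subgroup.isComplement'_of_disjoint_and_mul_eq_univ hdisj
    rw [← Subgroup.mul_normal, hsup]
    rfl
  obtain ⟨n, hn⟩ := S.2.exists_card_eq
  have hind : A.index = p ^ (n + a) := by
    rw [hA, Subgroup.index_map_subtype, hxa, pow_add, ← hn]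
    rw [hcompl.index_eq_card]
  exact Cfsg.Agent.Lib.Transfer.hasNormalPComplement_of_hall (N := A) (by rw [hAcard]; exact hHcop) hind

end Cfsg.Agent.S4127
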