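import Cfsg.Statements.S4140
import Cfsg.Agent.Lib.Char.TwoLargest
import Cfsg.Agent.Lib.Transfer.Tate
import Cfsg.Agent.Lib.PGroups.EqualOrder
import Cfsg.Agent.Lib.PGroups.TwoClass
import Cfsg.Agent.Lib.LocalEven.Frat
import Cfsg.Agent.S0033

set_option autoImplicit false
open Cfsg

namespace Cfsg.Agent.S4140

open Subgroup
open Cfsg.Agent.Lib.Char.TwoLargest
open scoped commutatorElement

variable {G : Type*} [Group G] [Finite G] {N : Subgroup G}

theorem cam_isConj (hcam : ∀ g : G, g ∉ N → ∀ n ∈ N, ∃ x : G, x * g * x⁻¹ = g * n)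
    {g n : G} (hg : g ∉ N) (hn : n ∈ N) : IsConj g (g * n) := by
  obtain ⟨x, hx⟩ := hcam g hg n hn
  exact isConj_iff.mpr ⟨x, hx⟩

theorem cam_heq (hcam : ∀ g : G, g ∉ N → ∀ n ∈ N, ∃ x : G, x * g * x⁻¹ = g * n) :
    ∀ x : G, x ∉ N → ∀ n ∈ N, orderOf (x * n) = orderOf x := by
  intro x hx n hn
  obtain ⟨c, hc⟩ := hcam x hx n hn
  rw [← hc]
  exact orderOf_conj' c x

theorem cam_dvd [hN : N.Normal] (hcam : ∀ g : G, g ∉ N → ∀ n ∈ N, ∃ x : G, x * g * x⁻¹ = g * n)
    {x : G} (hx : x ∉ N) : Nat.card N ∣ cc x := by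
  apply card_dvd_cc N x
  intro r hr b' hb
  have hb' : b' ∉ N := by
    obtain ⟨c, rfl⟩ := isConj_iff.mp hb
    intro h
    apply hx
    have := hN.conj_mem _ h c⁻¹
    simpa [mul_assoc] using this
  have h1 : r * b' = b' * (b'⁻¹ * r * b') := by group
  rw [h1]
  exact hb.trans (cam_isConj hcam hb' (by simpa using hN.conj_mem r hr b'⁻¹))

theorem cam_bound {p : ℕ} [hp : Fact p.Prime] [hN : N.Normal]
    (hcam : ∀ g : G, g ∉ N → ∀ n ∈ N, ∃ x : G, x * g * x⁻¹ = g * n) (P : Sylow p G)
    {x : G} (hx : x ∉ N) :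
    Nat.card ↥((P : Subgroup G) ⊓ N) * Nat.card ↥((P : Subgroup G) ⊓ cent x) ∣
      Nat.card (P : Subgroup G) := by
  have h1 : Nat.card ↥((P : Subgroup G) ⊓ N) ∣ Nat.card N := card_dvd_of_le inf_le_right
  have h2 : Nat.card ↥((P : Subgroup G) ⊓ cent x) ∣ Nat.card (cent x) :=
    card_dvd_of_le inf_le_right
  have h3 : Nat.card N * Nat.card (cent x) ∣ Nat.card G := by
    have := (cent x).card_mul_index
    rw [← this, mul_comm]
    exact mul_dvd_mul_left _ (cam_dvd hcam hx)
  have h4 := (mul_dvd_mul h1 h2).trans h3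
  rw [← (P : Subgroup G).card_mul_index] at h4
  obtain ⟨a, ha⟩ := IsPGroup.iff_card.mp (P.isPGroup'.to_le (inf_le_left : (P : Subgroup G) ⊓ N ≤ P))
  obtain ⟨b, hb⟩ := IsPGroup.iff_card.mp
    (P.isPGroup'.to_le (inf_le_left : (P : Subgroup G) ⊓ cent x ≤ P))
  have hcop : Nat.Coprime (Nat.card ↥((P : Subgroup G) ⊓ N) * Nat.card ↥((P : Subgroup G) ⊓ cent x))
      (P : Subgroup G).index := by
    rw [ha, hb, ← pow_add]
    exact Nat.Coprime.pow_left _ ((Nat.Prime.coprime_iff_not_dvd hp.out).mpr P.not_dvd_index)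
  exact hcop.dvd_of_dvd_mul_right h4

theorem cam_orbit {p : ℕ} [hp : Fact p.Prime] [hN : N.Normal]
    (hcam : ∀ g : G, g ∉ N → ∀ n ∈ N, ∃ x : G, x * g * x⁻¹ = g * n) (P : Sylow p G)
    {x : G} (hxP : x ∈ (P : Subgroup G)) (hx : x ∉ N)
    (hc : ∀ u ∈ (P : Subgroup G), u * x * u⁻¹ * x⁻¹ ∈ N) :
    ∀ t ∈ (P : Subgroup G) ⊓ N, ∃ u ∈ (P : Subgroup G), u * x * u⁻¹ = x * t := by
  classical
  let Pg : Subgroup G := P
  let A' : Subgroup Pg := (cent x).subgroupOf Pg
  have hφm : ∀ u : Pg, x⁻¹ * ((u : G) * x * (u : G)⁻¹) ∈ Pg ⊓ N := by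
    intro u
    refine mem_inf.mpr ⟨Pg.mul_mem (Pg.inv_mem hxP) (Pg.mul_mem (Pg.mul_mem u.2 hxP) (Pg.inv_mem u.2)), ?_⟩
    have := hN.conj_mem _ (hc u u.2) x⁻¹
    have e : x⁻¹ * ((u : G) * x * (u : G)⁻¹ * x⁻¹) * x⁻¹⁻¹ = x⁻¹ * ((u : G) * x * (u : G)⁻¹) := by group
    rwa [e] at this
  let φ : Pg → ↥(Pg ⊓ N) := fun u => ⟨_, hφm u⟩
  have hφ : ∀ u v : Pg, φ u = φ v → u⁻¹ * v ∈ A' := by
    intro u v h
    have h1 : x⁻¹ * ((u : G) * x * (u : G)⁻¹) = x⁻¹ * ((v : G) * x * (v : G)⁻¹) := congrArg Subtype.val h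
    have h2 : (u : G) * x * (u : G)⁻¹ = (v : G) * x * (v : G)⁻¹ := mul_left_cancel h1
    rw [mem_subgroupOf]
    refine mem_cent_iff.mpr ?_
    have : (u : G)⁻¹ * ((u : G) * x * (u : G)⁻¹) * (v : G) = (u : G)⁻¹ * ((v : G) * x * (v : G)⁻¹) * (v : G) := by
      rw [h2]
    simp only [Subgroup.coe_mul, Subgroup.coe_inv]
    simpa [mul_assoc] using this.symm
  let F : Pg ⧸ A' → ↥(Pg ⊓ N) := fun q => φ q.out
  have hinj : Function.Injective F := by
    intro q1 q2 h
    have := hφ _ _ h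
    rw [← Quotient.out_eq' q1, ← Quotient.out_eq' q2]
    exact QuotientGroup.eq.mpr this
  have hcard : Nat.card ↥(Pg ⊓ N) ≤ Nat.card (Pg ⧸ A') := by
    have h1 := cam_bound hcam P hx
    have h2 : Nat.card A' = Nat.card ↥(Pg ⊓ cent x) := by
      have h3 : (A'.map Pg.subtype) = Pg ⊓ cent x := by
        rw [inf_comm]
        exact subgroupOf_map_subtype _ _
      rw [← h3]
      exact (Subgroup.card_map_of_injective Pg.subtype_injective).symm
    have h4 := A'.card_mul_index
    have h5 : Nat.card (Pg ⧸ A') = A'.index := rfl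
    rw [h5]
    have hpos : 0 < Nat.card A' := Nat.card_pos
    have h6 : Nat.card ↥(Pg ⊓ N) * Nat.card A' ≤ Nat.card Pg := by
      rw [h2]
      exact Nat.le_of_dvd Nat.card_pos h1
    rw [← h4, mul_comm] at h6
    exact Nat.le_of_mul_le_mul_left h6 hpos
  have hbij := hinj.bijective_of_nat_card_le hcard
  intro t ht
  obtain ⟨q, hq⟩ := hbij.2 ⟨t, ht⟩
  refine ⟨(q.out : Pg), (q.out : Pg).2, ?_⟩
  have h7 : x⁻¹ * (((q.out : Pg) : G) * x * ((q.out : Pg) : G)⁻¹) = t := congrArg Subtype.val hq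
  rw [← h7]
  group

theorem le_bot_of_le_comm {H : Type*} [Group H] [hH : Group.IsNilpotent H] (K : Subgroup H)
    (h : K ≤ ⁅K, (⊤ : Subgroup H)⁆) : K = ⊥ := by
  obtain ⟨n, hn⟩ := _root_.nilpotent_iff_lowerCentralSeries.mp hH
  have key : ∀ m, K ≤ (⊤ : Subgroup H).lowerCentralSeries m := by
    intro m
    induction m with
    | zero => exact le_top
    | succ m ih => exact h.trans (commutator_mono ih le_rfl)
  exact le_bot_iff.mp (hn ▸ key n)

/-- A central element of order `p` of the image of a Sylow subgroup. -/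
theorem exists_central_lift {p : ℕ} [hp : Fact p.Prime] {W : Type*} [Group W] [Finite W]
    (π : G →* W) (hπ : π.ker = N) (P : Sylow p G) (hpN : ¬ (P : Subgroup G) ≤ N) :
    ∃ x ∈ (P : Subgroup G), x ∉ N ∧ (∀ u ∈ (P : Subgroup G), u * x * u⁻¹ * x⁻¹ ∈ N) ∧
      orderOf (π x) = p := by
  have hQp : IsPGroup p ((P : Subgroup G).map π) := P.isPGroup'.map π
  obtain ⟨y, hyP, hyN⟩ := Set.not_subset.mp hpN
  have hy1 : π y ≠ 1 := by
    intro h
    apply hyN
    rw [← hπ]
    exact MonoidHom.mem_ker.mpr h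
  haveI hnt : Nontrivial ((P : Subgroup G).map π) :=
    ⟨⟨⟨π y, mem_map_of_mem _ hyP⟩, 1, fun h => hy1 (congrArg Subtype.val h)⟩⟩
  haveI := hQp.center_nontrivial
  have hZp : IsPGroup p (center ((P : Subgroup G).map π)) := hQp.to_subgroup _
  obtain ⟨k, hk⟩ := IsPGroup.iff_card.mp hZp
  have hk0 : k ≠ 0 := by
    rintro rfl
    rw [pow_zero] at hk
    have := Finite.one_lt_card (α := center ((P : Subgroup G).map π))
    omega
  have hdvd : p ∣ Nat.card (center ((P : Subgroup G).map π)) := by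
    rw [hk]
    exact dvd_pow_self p hk0
  obtain ⟨z, hz⟩ := exists_prime_orderOf_dvd_card' p hdvd
  obtain ⟨x, hxP, hxz⟩ := Subgroup.mem_map.mp z.1.2
  refine ⟨x, hxP, ?_, ?_, ?_⟩
  · intro hxN
    rw [← hπ] at hxN
    have h1 : π x = 1 := hxN
    have h2 : z = 1 := by
      apply Subtype.ext
      apply Subtype.ext
      simp only [OneMemClass.coe_one]
      rw [← hxz, h1]
    rw [h2, orderOf_one] at hz
    exact hp.out.one_lt.ne hz
  · intro u hu
    rw [← hπ, MonoidHom.mem_ker]
    have h3 := mem_center_iff.mp z.2 ⟨π u, mem_map_of_mem _ hu⟩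
    have h4 : π u * (z : ((P : Subgroup G).map π)).1 = (z : ((P : Subgroup G).map π)).1 * π u :=
      congrArg Subtype.val h3
    rw [← hxz] at h4
    simp only [map_mul, map_inv]
    rw [h4]
    group
  · rw [hxz]
    have h5 : orderOf ((z : ((P : Subgroup G).map π)) : W) = orderOf (z : ((P : Subgroup G).map π)) :=
      Subgroup.orderOf_coe _
    have h6 : orderOf (z : ((P : Subgroup G).map π)) = orderOf z := Subgroup.orderOf_coe _
    rw [h5, h6, hz]

theorem cam_T_bot {p : ℕ} [hp : Fact p.Prime] [hN : N.Normal]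
    (hcam : ∀ g : G, g ∉ N → ∀ n ∈ N, ∃ x : G, x * g * x⁻¹ = g * n) (P : Sylow p G)
    (hpN : ¬ (P : Subgroup G) ≤ N) {W : Type*} [Group W] [Finite W] (π : G →* W) (hπ : π.ker = N)
    (hU : Cfsg.Agent.Lib.OddLocal.UniqueP p ((P : Subgroup G).map π)) :
    (P : Subgroup G) ⊓ N = ⊥ := by
  classical
  obtain ⟨x, hxP, hxN, hxc, hxo⟩ := exists_central_lift π hπ P hpN
  let Pg : Subgroup G := P
  have hQp : IsPGroup p ((P : Subgroup G).map π) := P.isPGroup'.map π
  haveI hPnil : Group.IsNilpotent Pg := P.isPGroup'.isNilpotent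
  let T₀ : Subgroup Pg := N.subgroupOf Pg
  haveI hT₀n : T₀.Normal := inferInstance
  let T₁ : Subgroup Pg := ⁅T₀, (⊤ : Subgroup Pg)⁆
  haveI hT₁n : T₁.Normal := Subgroup.commutator_normal _ _
  let xh : Pg := ⟨x, hxP⟩
  have hT₀mem : ∀ t : Pg, (t : G) ∈ N ↔ t ∈ T₀ := fun t => (mem_subgroupOf).symm
  -- every commutator with `x` lies in `T₁`
  have hK : ∀ uh : Pg, uh * xh * uh⁻¹ * xh⁻¹ ∈ T₁ := by
    intro uh
    by_cases huN : (uh : G) ∈ N
    · exact commutator_mem_commutator ((hT₀mem uh).mp huN) (mem_top _)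
    · -- `π x` is a power of `π u`
      have hu1 : π uh ≠ 1 := by
        intro h
        apply huN
        rw [← hπ]
        exact MonoidHom.mem_ker.mpr h
      let ub : ((P : Subgroup G).map π) := ⟨π uh, mem_map_of_mem _ uh.2⟩
      have hub1 : ub ≠ 1 := fun h => hu1 (congrArg Subtype.val h)
      obtain ⟨k, hk⟩ := (IsPGroup.iff_orderOf.mp hQp) ub
      have hk0 : k ≠ 0 := by
        rintro rfl
        rw [pow_zero, orderOf_eq_one_iff] at hk
        exact hub1 hk
      obtain ⟨j, rfl⟩ := Nat.exists_eq_succ_of_ne_zero hk0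
      let w := ub ^ (p ^ j)
      have hw : orderOf w = p := by
        have h1 : orderOf w = orderOf ub / Nat.gcd (orderOf ub) (p ^ j) := orderOf_pow' _ (pow_ne_zero _ hp.out.ne_zero)
        rw [hk, Nat.gcd_eq_right (pow_dvd_pow p (Nat.le_succ j)), Nat.pow_succ] at h1
        rw [h1]
        exact Nat.mul_div_cancel_left _ (pow_pos hp.out.pos _)
      let z₀ : ((P : Subgroup G).map π) := ⟨π x, mem_map_of_mem _ hxP⟩
      have hz₀ : orderOf z₀ = p := by
        have : orderOf (z₀ : W) = orderOf z₀ := Subgroup.orderOf_coe _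
        rw [← this]
        exact hxo
      have heq := hU (zpowers z₀) (zpowers w) (by rw [Nat.card_zpowers, hz₀]) (by rw [Nat.card_zpowers, hw])
      have hz₀w : z₀ ∈ zpowers w := heq ▸ mem_zpowers z₀
      obtain ⟨n, hn⟩ := mem_zpowers_iff.mp hz₀w
      -- the exponent
      let m : ℤ := (p ^ j : ℕ) * n
      have hm : π x = π ((uh : G) ^ m) := by
        have h1 : w ^ n = ub ^ m := by
          simp only [w, m]
          rw [← zpow_natCast, ← zpow_mul]
        have h2 : ub ^ m = z₀ := by rw [← h1]; exact hn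
        have h3 := congrArg Subtype.val h2
        rw [map_zpow]
        simp only [z₀, ub] at h3
        rw [← h3]
        simp
      let t' : Pg := uh ^ (-m) * xh
      have ht' : t' ∈ T₀ := by
        rw [← hT₀mem, ← hπ, MonoidHom.mem_ker]
        simp only [t', xh, Subgroup.coe_mul, Subgroup.coe_zpow, map_mul, map_zpow]
        rw [hm, map_zpow, zpow_neg]
        group
      have hxh : xh = uh ^ m * t' := by
        simp only [t']
        rw [zpow_neg]
        group
      have hcomm : ⁅t', uh⁆ ∈ T₁ := commutator_mem_commutator ht' (mem_top _)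
      have hcomm2 := hT₁n.conj_mem _ (T₁.inv_mem hcomm) (uh ^ m)
      have e : uh * xh * uh⁻¹ * xh⁻¹ = uh ^ m * ⁅t', uh⁆⁻¹ * (uh ^ m)⁻¹ := by
        have hc1 : uh * uh ^ m = uh ^ m * uh := by
          exact (Commute.zpow_right (Commute.refl uh) m).eq
        rw [hxh, commutatorElement_def]
        simp only [mul_inv_rev, inv_inv]
        calc uh * (uh ^ m * t') * uh⁻¹ * (t'⁻¹ * (uh ^ m)⁻¹)
            = (uh * uh ^ m) * t' * uh⁻¹ * (t'⁻¹ * (uh ^ m)⁻¹) := by group
          _ = (uh ^ m * uh) * t' * uh⁻¹ * (t'⁻¹ * (uh ^ m)⁻¹) := by rw [hc1]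
          _ = uh ^ m * (uh * (t' * (uh⁻¹ * t'⁻¹))) * (uh ^ m)⁻¹ := by group
      rw [e]
      simpa [commutatorElement_def, mul_assoc] using hcomm2
  have hle : T₀ ≤ T₁ := by
    intro t ht
    have htN : (t : G) ∈ N := (hT₀mem t).mpr ht
    obtain ⟨u, hu, huu⟩ := cam_orbit hcam P hxP hxN hxc t (mem_inf.mpr ⟨t.2, htN⟩)
    let uh : Pg := ⟨u, hu⟩
    have e : t = xh⁻¹ * (uh * xh * uh⁻¹ * xh⁻¹) * xh⁻¹⁻¹ := by
      apply Subtype.ext
      simp only [Subgroup.coe_mul, Subgroup.coe_inv, xh, uh, inv_inv]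
      rw [huu]
      group
    rw [e]
    exact hT₁n.conj_mem _ (hK uh) xh⁻¹
  have hb := le_bot_of_le_comm T₀ hle
  have : (P : Subgroup G) ⊓ N ≤ ⊥ := by
    intro t ht
    have h1 : (⟨t, (mem_inf.mp ht).1⟩ : Pg) ∈ T₀ := (hT₀mem _).mp (mem_inf.mp ht).2
    rw [hb, mem_bot] at h1
    simpa using congrArg Subtype.val h1
  exact le_bot_iff.mp this

/-- A normal subgroup of index a nontrivial power of `q`: `q` divides `[H : H']`. -/
theorem dvd_index_commutator {H : Type*} [Group H] [Finite H] {q : ℕ} [hq : Fact q.Prime]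
    (W₀ : Subgroup H) [hW : W₀.Normal] {k : ℕ} (hk : W₀.index = q ^ k) (hk0 : k ≠ 0) :
    q ∣ (commutator H).index := by
  have hQ : IsPGroup q (H ⧸ W₀) := IsPGroup.of_card (n := k) hk
  haveI := hQ.isNilpotent
  let L : Subgroup (H ⧸ W₀) := commutator (H ⧸ W₀)
  have hcardQ : Nat.card (H ⧸ W₀) = q ^ k := hk
  have hL : L ≠ ⊤ := by
    intro h
    have h1 : (⊤ : Subgroup (H ⧸ W₀)) ≤ ⁅(⊤ : Subgroup (H ⧸ W₀)), (⊤ : Subgroup (H ⧸ W₀))⁆ := by
      rw [← commutator_def]
      exact h.ge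
    have h2 := le_bot_of_le_comm (⊤ : Subgroup (H ⧸ W₀)) h1
    have h3 : Nat.card (H ⧸ W₀) = 1 := by
      rw [← Subgroup.card_top, h2]
      simp
    rw [hcardQ] at h3
    have := Nat.one_lt_pow hk0 hq.out.one_lt
    omega
  have h4 : L.index ∣ q ^ k := hcardQ ▸ L.index_dvd_card
  have h5 : L.index ≠ 1 := by
    intro h
    exact hL (Subgroup.index_eq_one.mp h)
  have h6 : q ∣ L.index := by
    obtain ⟨j, -, hj⟩ := (Nat.dvd_prime_pow hq.out).mp h4
    rw [hj]
    apply dvd_pow_self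
    rintro rfl
    exact h5 (by simpa using hj)
  have h7 : commutator H ≤ L.comap (QuotientGroup.mk' W₀) := by
    rw [commutator_def, commutator_le]
    intro a _ b _
    rw [mem_comap, map_commutatorElement]
    exact commutator_mem_commutator (mem_top _) (mem_top _)
  have h8 : (L.comap (QuotientGroup.mk' W₀)).index = L.index :=
    Subgroup.index_comap_of_surjective _ (QuotientGroup.mk'_surjective W₀)
  exact h6.trans (h8 ▸ Subgroup.index_dvd_of_le h7)

/-- The uniqueness statement from an abelian quotient of `N` of order divisible by `r`. -/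
theorem cam_uniqueP {p r : ℕ} [hp : Fact p.Prime] [hr : Fact r.Prime] (hpr : p ≠ r) [hN : N.Normal]
    (hcam : ∀ g : G, g ∉ N → ∀ n ∈ N, ∃ x : G, x * g * x⁻¹ = g * n)
    (Y : Subgroup G) [hY : Y.Normal]
    (hab : ∀ a ∈ N, ∀ b ∈ N, a * b * a⁻¹ * b⁻¹ ∈ Y)
    (hrN : r ∣ Nat.card (N.map (QuotientGroup.mk' Y)))
    [hNn : (N.map (QuotientGroup.mk' Y)).Normal] (P : Sylow p G)
    (π : G →* ((G ⧸ Y) ⧸ (N.map (QuotientGroup.mk' Y))))
    (hπ : π = (QuotientGroup.mk' (N.map (QuotientGroup.mk' Y))).comp (QuotientGroup.mk' Y)) :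
    Cfsg.Agent.Lib.OddLocal.UniqueP p ((P : Subgroup G).map π) := by
  let Nt : Subgroup (G ⧸ Y) := N.map (QuotientGroup.mk' Y)
  have heq : ∀ x : G ⧸ Y, x ∉ Nt → ∀ n ∈ Nt, orderOf (x * n) = orderOf x := by
    intro x hx n hn
    obtain ⟨x, rfl⟩ := QuotientGroup.mk'_surjective Y x
    obtain ⟨n, hn', rfl⟩ := Subgroup.mem_map.mp hn
    have hxN : x ∉ N := fun h => hx (Subgroup.mem_map_of_mem _ h)
    obtain ⟨c, hc⟩ := hcam x hxN n hn'
    rw [← map_mul, ← hc]
    simp only [map_mul, map_inv]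
    exact orderOf_conj' _ _
  have hnil : Group.IsNilpotent Nt := by
    have hcomm : IsMulCommutative Nt := by
      refine ⟨⟨?_⟩⟩
      rintro ⟨a, ha0⟩ ⟨b, hb0⟩
      obtain ⟨a, ha, rfl⟩ := Subgroup.mem_map.mp ha0
      obtain ⟨b, hb, rfl⟩ := Subgroup.mem_map.mp hb0
      apply Subtype.ext
      change QuotientGroup.mk' Y a * QuotientGroup.mk' Y b = QuotientGroup.mk' Y b * QuotientGroup.mk' Y a
      rw [← map_mul, ← map_mul, eq_comm, QuotientGroup.mk'_apply, QuotientGroup.mk'_apply, QuotientGroup.eq]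
      have := hab a ha b hb
      have e : (b * a)⁻¹ * (a * b) = a⁻¹ * b⁻¹ * a * b := by group
      rw [e]
      have h2 := hab a⁻¹ (N.inv_mem ha) b⁻¹ (N.inv_mem hb)
      simpa using h2
    exact _root_.nilpotent_iff_lowerCentralSeries.mpr ⟨1, (Subgroup.lowerCentralSeries_one_eq_bot_iff).mpr hcomm⟩
  have hno : ∀ E : Subgroup ((G ⧸ Y) ⧸ Nt), IsPGroup p E → IsMulCommutative E → ¬ IsCyclic E → False :=
    fun E h1 h2 h3 => Cfsg.Agent.Lib.PGroups.no_noncyclic_of_eqOrder heq hnil hpr hrN E h1 h2 h3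
  have hQp : IsPGroup p ((P : Subgroup G).map π) := P.isPGroup'.map π
  refine Cfsg.Agent.Lib.PGroups.uniqueP_of_no_noncyclic hQp ?_
  intro E hEc hEn
  have hinj : Function.Injective ((P : Subgroup G).map π).subtype := Subgroup.subtype_injective _
  let e := E.equivMapOfInjective _ hinj
  refine hno (E.map ((P : Subgroup G).map π).subtype) ?_ ?_ ?_
  · exact IsPGroup.of_equiv (hQp.to_subgroup E) e
  · refine ⟨⟨?_⟩⟩
    intro a b
    have h1 := hEc.is_comm.comm (e.symm a) (e.symm b)
    have h2 := congrArg e h1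
    simpa using h2
  · intro hc
    exact hEn (isCyclic_of_surjective e.symm e.symm.surjective)

/-- Let G be a finite group and N a proper non-trivial normal subgroup such that for every g outside N the conjugacy class of g is a union of cosets of N (equivalently gn is conjugate to g for every n ∈ N). Then either every element of G outside N acts fixed-point-freely on N (C_G(x) ≤ N for all x ∈ N, x ≠ 1, so G is a Frobenius group with kernel N), or N has prime-power order, or G/N has prime-power order. -/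
theorem result {G : Type*} [Group G] [Finite G] (N : Subgroup G) [N.Normal] (hN1 : N ≠ ⊥) (hN2 : N ≠ ⊤)
    (hcam : ∀ g : G, g ∉ N → ∀ n ∈ N, ∃ x : G, x * g * x⁻¹ = g * n) :
    (∀ x ∈ N, x ≠ 1 → Subgroup.centralizer ({x} : Set G) ≤ N) ∨ IsPrimePow (Nat.card N) ∨ IsPrimePow N.index := by
  classical
  have hN : N.Normal := inferInstance
  by_contra hcon
  push Not at hcon
  obtain ⟨hFrob, hNpp, hipp⟩ := hcon
  have hheq := cam_heq hcam
  -- primes
  have hN1' : 1 < Nat.card N := by
    have : Nat.card N ≠ 1 := fun h => hN1 (Subgroup.card_eq_one.mp h)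
    have h0 : 0 < Nat.card N := Nat.card_pos
    omega
  have hi1 : 1 < N.index := by
    have : N.index ≠ 1 := fun h => hN2 (Subgroup.index_eq_one.mp h)
    have h0 : 0 < N.index := Nat.pos_of_ne_zero Subgroup.index_ne_zero_of_finite
    omega
  have hother : ∀ (n : ℕ), 1 < n → ¬ IsPrimePow n → ∀ p : ℕ, p.Prime → ∃ q : ℕ, q.Prime ∧ q ∣ n ∧ q ≠ p := by
    intro n hn hnp p hp
    by_contra hno
    push Not at hno
    apply hnp
    rw [isPrimePow_iff_unique_prime_dvd]
    obtain ⟨q, hq, hqn⟩ := Nat.exists_prime_and_dvd (show n ≠ 1 by omega)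
    refine ⟨q, ⟨hq, hqn⟩, ?_⟩
    rintro s ⟨hs, hsn⟩
    rw [hno s hs hsn, hno q hq hqn]
  -- abelian quotient
  let Nc : Subgroup N := commutator N
  let Y : Subgroup G := Nc.map N.subtype
  haveI hYn : Y.Normal := Cfsg.Agent.Lib.Coprime.PLen.normal_map_of_characteristic Nc
  have habY : ∀ a ∈ N, ∀ b ∈ N, a * b * a⁻¹ * b⁻¹ ∈ Y := by
    intro a ha b hb
    refine Subgroup.mem_map.mpr ⟨⁅(⟨a, ha⟩ : N), (⟨b, hb⟩ : N)⁆, ?_, ?_⟩
    · exact commutator_mem_commutator (mem_top _) (mem_top _)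
    · simp [commutatorElement_def]
  haveI hNn : (N.map (QuotientGroup.mk' Y)).Normal :=
    Subgroup.Normal.map inferInstance _ (QuotientGroup.mk'_surjective Y)
  let π : G →* ((G ⧸ Y) ⧸ (N.map (QuotientGroup.mk' Y))) :=
    (QuotientGroup.mk' (N.map (QuotientGroup.mk' Y))).comp (QuotientGroup.mk' Y)
  have hYN : Y ≤ N := by
    rintro _ ⟨x, -, rfl⟩
    exact x.2
  have hπker : π.ker = N := by
    ext x
    rw [MonoidHom.mem_ker]
    constructor
    · intro h
      have h1 : QuotientGroup.mk' Y x ∈ N.map (QuotientGroup.mk' Y) :=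
        (QuotientGroup.eq_one_iff _).mp h
      obtain ⟨n, hn, hnx⟩ := Subgroup.mem_map.mp h1
      have h2 : n⁻¹ * x ∈ Y := QuotientGroup.eq.mp hnx
      have := N.mul_mem hn (hYN h2)
      simpa using this
    · intro h
      exact (QuotientGroup.eq_one_iff _).mpr (Subgroup.mem_map_of_mem _ h)
  have hcardNt : Nat.card (N.map (QuotientGroup.mk' Y)) = Nc.index := by
    let f : N →* (G ⧸ Y) := (QuotientGroup.mk' Y).comp N.subtype
    have hker : f.ker = Nc := by
      ext x
      rw [MonoidHom.mem_ker]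
      constructor
      · intro h
        have h1 : (x : G) ∈ Y := (QuotientGroup.eq_one_iff _).mp h
        obtain ⟨y, hy, hyx⟩ := Subgroup.mem_map.mp h1
        have : y = x := Subtype.ext hyx
        exact this ▸ hy
      · intro h
        exact (QuotientGroup.eq_one_iff _).mpr (Subgroup.mem_map_of_mem _ h)
    have hrange : f.range = N.map (QuotientGroup.mk' Y) := by
      rw [MonoidHom.range_comp, Subgroup.range_subtype]
    rw [← hrange, ← hker, Subgroup.index_ker]
  -- the key: primes of the index do not divide `N`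
  have key : ∀ p : ℕ, p.Prime → p ∣ N.index → ¬ p ∣ Nat.card N := by
    intro p hp hpi hpN
    haveI : Fact p.Prime := ⟨hp⟩
    obtain ⟨q, hq, hqi, hqp⟩ := hother _ hi1 hipp p hp
    haveI : Fact q.Prime := ⟨hq⟩
    -- find `r ≠ p` dividing the abelianization
    have hex : ∃ r : ℕ, r.Prime ∧ r ≠ p ∧ r ∣ Nc.index := by
      by_cases hqN : q ∣ Nat.card N
      · refine ⟨q, hq, hqp, ?_⟩
        -- Tate
        let Q : Sylow q G := default
        have hQN : ¬ (Q : Subgroup G) ≤ N := by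
          intro hle
          exact Q.not_dvd_index (hqi.trans (Subgroup.index_dvd_of_le hle))
        obtain ⟨x, hxQ, hxN, hxc, -⟩ := exists_central_lift (QuotientGroup.mk' N)
          (QuotientGroup.ker_mk' N) Q hQN
        have hfr : N ⊓ (Q : Subgroup G) ≤ (frattini (Q : Subgroup G)).map (Q : Subgroup G).subtype := by
          intro t ht
          obtain ⟨u, hu, huu⟩ := cam_orbit hcam Q hxQ hxN hxc t (mem_inf.mpr ⟨(mem_inf.mp ht).2, (mem_inf.mp ht).1⟩)
          apply Cfsg.Agent.Lib.LocalEven.commutator_le_frattini_map (Q : Subgroup G) Q.isPGroup'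
          have e : t = ⁅x⁻¹, u⁆ := by
            rw [commutatorElement_def, inv_inv]
            have : x⁻¹ * (u * x * u⁻¹) = t := by
              rw [huu]; group
            rw [← this]
            group
          rw [e]
          exact commutator_mem_commutator (Subgroup.inv_mem _ hxQ) hu
        have hT := Cfsg.Agent.Lib.Transfer.tate_hasNormalPComplement Q N hfr
        obtain ⟨W₀, hW₀, hW₀c, k, hk⟩ := Cfsg.Agent.Lib.Transfer.exists_hall_of_hasNormalPComplement hT
        have hk0 : k ≠ 0 := by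
          rintro rfl
          rw [pow_zero] at hk
          rw [← W₀.card_mul_index, hk, mul_one] at hqN
          exact (Nat.Prime.coprime_iff_not_dvd hq).mp hW₀c.symm hqN
        exact dvd_index_commutator W₀ hk hk0
      · -- Thompson
        obtain ⟨y, hy⟩ := exists_prime_orderOf_dvd_card' q
          (hqi.trans (Subgroup.index_dvd_card N))
        have hyN : y ∉ N := by
          intro h
          apply hqN
          have := Subgroup.orderOf_dvd_natCard N h
          rwa [hy] at this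
        let φ : N ≃* N := MulAut.conjNormal y
        have hφ : MonoidHom.FixedPointFree (φ : N →* N) := by
          intro n hn
          have h1 : y * (n : G) * y⁻¹ = n := congrArg Subtype.val hn
          have h2 : y * (n : G) = n * y := mul_inv_eq_iff_eq_mul.mp h1
          have hcop : (orderOf y).Coprime (orderOf (n : G)) := by
            rw [hy]
            refine (Nat.Prime.coprime_iff_not_dvd hq).mpr (fun h => hqN (h.trans ?_))
            exact Subgroup.orderOf_dvd_natCard N n.2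
          apply Subtype.ext
          exact Cfsg.Agent.Lib.PGroups.eq_one_of_commute_of_coprime hheq hyN n.2 h2 hcop
        have hord : orderOf φ = q := by
          haveI : Fact q.Prime := ⟨hq⟩
          apply orderOf_eq_prime
          · have : φ ^ q = MulAut.conjNormal (y ^ q) := by
              rw [map_pow]
            rw [this, ← hy, pow_orderOf_eq_one, map_one]
          · intro h
            apply hN1
            rw [eq_bot_iff]
            intro n hn
            have h1 : φ ⟨n, hn⟩ = ⟨n, hn⟩ := by rw [h]; rfl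
            have h2 := hφ ⟨n, hn⟩ h1
            simpa using congrArg Subtype.val h2
        have hnil : Group.IsNilpotent N := Cfsg.Agent.S0033.result φ hφ q hq hord
        obtain ⟨r, hr, hrN, hrp⟩ := hother _ hN1' hNpp p hp
        haveI : Fact r.Prime := ⟨hr⟩
        refine ⟨r, hr, hrp, ?_⟩
        obtain ⟨W₀, hW₀, hW₀c, k, hk⟩ := Cfsg.Agent.Lib.Transfer.exists_hall_of_hasNormalPComplement
          (Cfsg.Agent.Lib.PGroups.hasNormalPComplement_of_isNilpotent N r)
        have hk0 : k ≠ 0 := by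
          rintro rfl
          rw [pow_zero] at hk
          rw [← W₀.card_mul_index, hk, mul_one] at hrN
          exact (Nat.Prime.coprime_iff_not_dvd hr).mp hW₀c.symm hrN
        exact dvd_index_commutator W₀ hk hk0
    obtain ⟨r, hr, hrp, hrd⟩ := hex
    haveI : Fact r.Prime := ⟨hr⟩
    let P : Sylow p G := default
    have hPN : ¬ (P : Subgroup G) ≤ N := by
      intro hle
      exact P.not_dvd_index (hpi.trans (Subgroup.index_dvd_of_le hle))
    have hU := cam_uniqueP hrp.symm hcam Y habY (by rw [hcardNt]; exact hrd) P π rfl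
    have hbot := cam_T_bot hcam P hPN π hπker hU
    -- `p ∤ |N|`
    have h1 := Cfsg.Agent.Lib.PGroups.TwoClass.not_dvd_relIndex_inf P N (by
      intro u _
      rw [Subgroup.mem_normalizer_iff]
      intro n
      constructor
      · exact fun h => hN.conj_mem n h u
      · intro h
        have := hN.conj_mem _ h u⁻¹
        simpa [mul_assoc] using this)
    apply h1
    rw [inf_comm, hbot]
    simpa using hpN
  -- coprimality
  have hcop : (Nat.card N).Coprime N.index := by
    apply Nat.coprime_of_dvd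
    intro k hk hk1 hk2
    exact key k hk hk2 hk1
  obtain ⟨z, hzN, hz1, hzc⟩ := hFrob
  obtain ⟨g, hg, hgN⟩ := Set.not_subset.mp hzc
  have hgz : g * z = z * g := mem_centralizer_singleton_iff.mp hg
  have hg₁ : g ^ Nat.card N ∉ N := by
    intro h
    apply hgN
    have h1 : (QuotientGroup.mk' N g) ^ Nat.card N = 1 := by
      rw [← map_pow]
      exact (QuotientGroup.eq_one_iff _).mpr h
    have h2 : (QuotientGroup.mk' N g) ^ N.index = 1 := pow_card_eq_one'
    have h3 : orderOf (QuotientGroup.mk' N g) = 1 := by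
      have h4 := Nat.dvd_gcd (orderOf_dvd_of_pow_eq_one h1) (orderOf_dvd_of_pow_eq_one h2)
      rw [hcop] at h4
      exact Nat.dvd_one.mp h4
    rw [orderOf_eq_one_iff] at h3
    exact (QuotientGroup.eq_one_iff _).mp h3
  have ho1 : orderOf (g ^ Nat.card N) ∣ N.index := by
    apply orderOf_dvd_of_pow_eq_one
    rw [← pow_mul, N.card_mul_index]
    exact pow_card_eq_one'
  have ho2 : orderOf z ∣ Nat.card N := Subgroup.orderOf_dvd_natCard N hzN
  have hcop2 : (orderOf (g ^ Nat.card N)).Coprime (orderOf z) :=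
    Nat.Coprime.coprime_dvd_left ho1 (Nat.Coprime.coprime_dvd_right ho2 hcop.symm)
  have hcomm : g ^ Nat.card N * z = z * g ^ Nat.card N := ((Commute.pow_left hgz) _).eq
  exact hz1 (Cfsg.Agent.Lib.PGroups.eq_one_of_commute_of_coprime hheq hg₁ hzN hcomm hcop2)

end Cfsg.Agent.S4140
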