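import Cfsg.Statements.S4146
import Cfsg.Agent.Lib.Misc7.TypeVec

set_option autoImplicit false
open Cfsg

namespace Cfsg.Agent.S4146

open Cfsg.Agent.Lib.Misc7.TypeVec Cfsg.Agent.Lib.Char.TwoLargest Cfsg.Agent.Lib.PGroups

/-- Let G be a finite group whose conjugacy class sizes are exactly 1, n, m and nm for coprime integers n, m > 1. Then G is nilpotent and n and m are prime powers. -/
theorem result {G : Type*} [Group G] [Finite G] (n m : ℕ) (hn : 1 < n) (hm : 1 < m) (hcop : n.Coprime m)
    (h : Set.range (fun x : G => (Subgroup.centralizer ({x} : Set G)).index) = ({1, n, m, n * m} : Set ℕ)) :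
    Group.IsNilpotent G ∧ IsPrimePow n ∧ IsPrimePow m := by
  have hS : ∀ g : G, cc g = 1 ∨ cc g = n ∨ cc g = m ∨ cc g = n * m := by
    intro g
    have h1 : (Subgroup.centralizer ({g} : Set G)).index ∈ ({1, n, m, n * m} : Set ℕ) := by
      rw [← h]; exact ⟨g, rfl⟩
    simpa using h1
  have hmem : ∀ c ∈ ({1, n, m, n * m} : Set ℕ), ∃ x : G, cc x = c := by
    intro c hc
    rw [← h] at hc
    obtain ⟨x, hx⟩ := hc
    exact ⟨x, hx⟩
  have V : Vec G n m := ⟨hn, hm, hcop, hS, hmem n (by simp), hmem m (by simp)⟩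
  obtain ⟨w, hw⟩ := hmem (n * m) (by simp)
  have hcomm : ∀ a b : G, cc a = n → cc b = m → Commute a b :=
    fun a b ha hb => V.all_commute hw ha hb
  have hcomm' : ∀ a b : G, cc a = m → cc b = n → Commute a b :=
    fun a b ha hb => (hcomm b a hb ha).symm
  refine ⟨?_, V.primePow hcomm, V.symm.primePow hcomm'⟩
  refine ((Group.isNilpotent_of_finite_tfae (G := G)).out 0 3).mpr ?_
  intro u hu P
  haveI := hu
  by_cases hun : u ∣ n
  · exact V.sylow_normal hcomm hun P
  by_cases hum : u ∣ m
  · exact V.symm.sylow_normal hcomm' hum P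
  refine (Cfsg.Agent.S4035.result (p := u) (fun x _ => ?_) P).1
  rw [carrier_ncard_eq_index]
  have hup : u.Prime := Fact.out
  rcases hS x with h1 | h1 | h1 | h1
  · change ¬ u ∣ cc x
    rw [h1]
    exact hup.not_dvd_one
  · change ¬ u ∣ cc x
    rw [h1]
    exact hun
  · change ¬ u ∣ cc x
    rw [h1]
    exact hum
  · change ¬ u ∣ cc x
    rw [h1]
    intro hd
    rcases (Nat.Prime.dvd_mul hup).mp hd with h2 | h2
    · exact hun h2
    · exact hum h2

end Cfsg.Agent.S4146
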