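import Cfsg.Statements.S4157
import Cfsg.Agent.Lib.PGroups.KulGam

set_option autoImplicit false
open Cfsg

namespace Cfsg.Agent.S4157

universe u

section KulMain

open Cfsg.Agent.Lib.PGroups.Kul Finset

variable {p : ℕ} [hpf : Fact p.Prime]

/-- Maximal subgroups counted out of the recursion. -/
def kulBad (p k m : ℕ) {G : Type u} [Group G] (M : Subgroup G) : Prop :=
  IsCyclic M ∨ (k + 3 ≤ m ∧ p = 2 ∧ Group.nilpotencyClass M = m - 2)

open Classical in
theorem count_key {G : Type u} [Group G] [Finite G] {m k : ℕ} (hG : Nat.card G = p ^ m) (hnc : ¬ IsCyclic G)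
    (hk : k + 2 ≤ m) (bad : Subgroup G → Prop)
    (hM : ∀ M ∈ maxSet p G, sc (p ^ k) M ≡ 1 + p * (if bad M then 0 else 1) [MOD p ^ 2]) :
    sc (p ^ k) G + p * ((maxSet p G).filter bad).card ≡ 1 + p [MOD p ^ 2] := by
  have hp : p.Prime := hpf.out
  have hR : IsPGroup p G := IsPGroup.of_card hG
  have hZ := sum_maxSet_modEq hG hnc hk
  have hN := (maxSet_card_modEq hR hnc).1
  have h1 : ∑ M ∈ maxSet p G, sc (p ^ k) M ≡ ∑ M ∈ maxSet p G, (1 + p * (if bad M then 0 else 1)) [MOD p ^ 2] :=
    Nat.ModEq.sum hM
  have h2 : ∑ M ∈ maxSet p G, (1 + p * (if bad M then 0 else 1)) =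
      (maxSet p G).card + p * ((maxSet p G).filter (fun M => ¬ bad M)).card := by
    rw [Finset.sum_add_distrib, ← Finset.mul_sum]
    congr 1
    · simp
    · congr 1
      rw [Finset.card_filter]
      apply Finset.sum_congr rfl
      intro M _
      by_cases h : bad M <;> simp [h]
  rw [h2] at h1
  have h3 := Finset.card_filter_add_card_filter_not (s := maxSet p G) bad
  have h4 : sc (p ^ k) G + p + p * ((maxSet p G).filter bad).card ≡
      (maxSet p G).card + p * (maxSet p G).card [MOD p ^ 2] := by
    have h5 := (hZ.symm.trans h1).add_right (p * ((maxSet p G).filter bad).card)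
    have h6 : (maxSet p G).card + p * ((maxSet p G).filter (fun M => ¬ bad M)).card +
        p * ((maxSet p G).filter bad).card = (maxSet p G).card + p * (maxSet p G).card := by
      have h60 : p * ((maxSet p G).filter (fun M => ¬ bad M)).card + p * ((maxSet p G).filter bad).card =
          p * (maxSet p G).card := by
        rw [← h3]
        ring
      rw [add_assoc, h60]
    rwa [h6] at h5
  have h7 : p * (maxSet p G).card ≡ p * (1 + p) [MOD p ^ 2] := by
    exact Nat.ModEq.mul_left p hN
  have h8 : p * (1 + p) ≡ p [MOD p ^ 2] := by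
    have : p * (1 + p) = p + p ^ 2 := by ring
    rw [this]
    simp [Nat.ModEq]
  have h9 : sc (p ^ k) G + p + p * ((maxSet p G).filter bad).card ≡ 1 + p + p [MOD p ^ 2] :=
    h4.trans (hN.add (h7.trans h8))
  have h10 : sc (p ^ k) G + p * ((maxSet p G).filter bad).card + p ≡ 1 + p + p [MOD p ^ 2] := by
    have : sc (p ^ k) G + p * ((maxSet p G).filter bad).card + p = sc (p ^ k) G + p + p * ((maxSet p G).filter bad).card := by
      ring
    rw [this]
    exact h9
  exact Nat.ModEq.add_right_cancel' p h10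

open Classical in
theorem parity_good {G : Type u} [Group G] [Finite G] {m k : ℕ} (hk1 : 1 ≤ k) (hm3 : 3 ≤ m) (hG : Nat.card G = p ^ m) (hnc : ¬ IsCyclic G)
    (hgood : p = 2 → Group.nilpotencyClass G ≠ m - 1) :
    p ∣ ((maxSet p G).filter (kulBad p k m)).card := by
  have hcyc := dvd_card_cyclic_good hm3 hG hnc hgood
  by_cases h : k + 3 ≤ m ∧ p = 2
  · obtain ⟨h1, rfl⟩ := h
    have hm4 : 4 ≤ m := by omega
    have hev := even_card_bad_good hm4 hG (hgood rfl)
    have hU : (maxSet 2 G).filter (kulBad 2 k m) =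
        (maxSet 2 G).filter (fun M : Subgroup G => IsCyclic M) ∪
          (maxSet 2 G).filter (fun M : Subgroup G => Group.nilpotencyClass M = m - 2) := by
      ext M
      simp only [Finset.mem_filter, Finset.mem_union, kulBad]
      constructor
      · rintro ⟨h2, h3 | h3⟩
        · exact Or.inl ⟨h2, h3⟩
        · exact Or.inr ⟨h2, h3.2.2⟩
      · rintro (⟨h2, h3⟩ | ⟨h2, h3⟩)
        · exact ⟨h2, Or.inl h3⟩
        · exact ⟨h2, Or.inr ⟨h1, trivial, h3⟩⟩
    have hD : Disjoint ((maxSet 2 G).filter (fun M : Subgroup G => IsCyclic M))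
        ((maxSet 2 G).filter (fun M : Subgroup G => Group.nilpotencyClass M = m - 2)) := by
      apply Finset.disjoint_filter.mpr
      intro M _ h2 h3
      haveI := h2
      have hP : IsPGroup 2 M := IsPGroup.of_card (card_of_index (p := 2) (n := m) (by omega)
        hG M (mem_maxSet.mp ‹M ∈ maxSet 2 G›))
      haveI hnil : Group.IsNilpotent M := hP.isNilpotent
      have h5 : IsMulCommutative M := h2.commutative
      have h6 := Group.IsNilpotent.nilpotencyClass_le_one_iff.mpr h5
      omega
    rw [hU, Finset.card_union_of_disjoint hD]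
    exact Nat.dvd_add hcyc hev.two_dvd
  · have hE : (maxSet p G).filter (kulBad p k m) = (maxSet p G).filter (fun M : Subgroup G => IsCyclic M) := by
      apply Finset.filter_congr
      intro M _
      simp only [kulBad]
      constructor
      · rintro (h1 | ⟨h1, h2, -⟩)
        · exact h1
        · exact absurd ⟨h1, h2⟩ h
      · exact Or.inl
    rw [hE]
    exact hcyc

open Classical in
theorem parity_bad {G : Type u} [Group G] [Finite G] {m k : ℕ} (hk1 : 1 ≤ k) (hp2 : p = 2) (hm3 : 3 ≤ m) (hG : Nat.card G = p ^ m)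
    (hc : Group.nilpotencyClass G = m - 1) (hnc : ¬ IsCyclic G) :
    Odd ((maxSet p G).filter (kulBad p k m)).card := by
  subst hp2
  have hP : IsPGroup 2 G := IsPGroup.of_card hG
  by_cases h : k + 3 ≤ m
  · have hm4 : 4 ≤ m := by omega
    have hE : (maxSet 2 G).filter (kulBad 2 k m) = maxSet 2 G := by
      apply Finset.filter_true_of_mem
      intro M hM
      rcases cyclic_or_bad_of_bad hm4 hG hc M (mem_maxSet.mp hM) with h1 | h1
      · exact Or.inl h1
      · exact Or.inr ⟨h, rfl, h1⟩
    rw [hE]
    have hN := (maxSet_card_modEq (p := 2) hP hnc).1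
    have h1 : (maxSet 2 G).card % 4 = 3 := hN
    rw [Nat.odd_iff]
    omega
  · have hE : (maxSet 2 G).filter (kulBad 2 k m) = (maxSet 2 G).filter (fun M : Subgroup G => IsCyclic M) := by
      apply Finset.filter_congr
      intro M _
      simp only [kulBad]
      constructor
      · rintro (h1 | ⟨h1, -, -⟩)
        · exact h1
        · exact absurd h1 h
      · exact Or.inl
    rw [hE]
    exact odd_card_cyclic_bad hm3 hG hc

open Classical in
theorem kul_main : ∀ (m : ℕ) (G : Type u) [Group G] [Finite G], Nat.card G = p ^ m → ¬ IsCyclic G →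
    ∀ k : ℕ, 1 ≤ k → k < m →
      ((p = 2 → Group.nilpotencyClass G ≠ m - 1) → sc (p ^ k) G ≡ 1 + p [MOD p ^ 2]) ∧
      (p = 2 → Group.nilpotencyClass G = m - 1 → k + 1 < m → sc (p ^ k) G ≡ 1 [MOD p ^ 2]) := by
  intro m
  induction m using Nat.strong_induction_on with
  | _ m ih =>
  intro G _ _ hG hnc k hk1 hk2
  have hp : p.Prime := hpf.out
  by_cases hkm : k + 1 = m
  · subst hkm
    refine ⟨fun _ => sc_top_modEq hG hnc, fun _ _ h => absurd h (lt_irrefl _)⟩
  have hk2' : k + 2 ≤ m := by omega
  have hm3 : 3 ≤ m := by omega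
  have hM : ∀ M ∈ maxSet p G, sc (p ^ k) M ≡ 1 + p * (if kulBad p k m M then 0 else 1) [MOD p ^ 2] := by
    intro M hM'
    have hi := mem_maxSet.mp hM'
    have hcardM := card_of_index (by omega) hG M hi
    by_cases hcyc : IsCyclic M
    · have h1 : kulBad p k m M := Or.inl hcyc
      simp only [h1, if_true, mul_zero, add_zero]
      rw [sc_cyclic hcardM (by omega)]
    · by_cases hk3 : k + 3 ≤ m
      · obtain ⟨h1, h2⟩ := ih (m - 1) (by omega) M hcardM hcyc k hk1 (by omega)
        by_cases hb : p = 2 ∧ Group.nilpotencyClass M = m - 2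
        · have h3 : kulBad p k m M := Or.inr ⟨hk3, hb.1, hb.2⟩
          simp only [h3, if_true, mul_zero, add_zero]
          exact h2 hb.1 (by rw [hb.2]; omega) (by omega)
        · have h3 : ¬ kulBad p k m M := by
            rintro (h4 | ⟨-, h4, h5⟩)
            · exact hcyc h4
            · exact hb ⟨h4, h5⟩
          simp only [h3, if_false, mul_one]
          apply h1
          intro h4 h5
          exact hb ⟨h4, by rw [h5]; omega⟩
      · have h3 : ¬ kulBad p k m M := by
          rintro (h4 | ⟨h4, -, -⟩)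
          · exact hcyc h4
          · exact hk3 h4
        simp only [h3, if_false, mul_one]
        have h4 : m - 1 = k + 1 := by omega
        rw [h4] at hcardM
        exact sc_top_modEq hcardM hcyc
  have hkey := count_key hG hnc hk2' (kulBad p k m) hM
  constructor
  · intro hgood
    obtain ⟨c, hc⟩ := parity_good (k := k) hk1 hm3 hG hnc hgood
    rw [hc] at hkey
    have h1 : p * (p * c) ≡ 0 [MOD p ^ 2] := by
      rw [← mul_assoc, ← sq]
      exact (Nat.modEq_zero_iff_dvd).mpr (Dvd.intro _ rfl)
    have h2 := (Nat.ModEq.refl (sc (p ^ k) G)).add h1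
    rw [add_zero] at h2
    exact h2.symm.trans hkey
  · intro hp2 hc hlt
    obtain ⟨c, hc'⟩ := parity_bad (k := k) hk1 hp2 hm3 hG hc hnc
    rw [hc'] at hkey
    subst hp2
    have h1 : sc (2 ^ k) G % 4 = 1 := by
      have h2 : (sc (2 ^ k) G + 2 * (2 * c + 1)) % 4 = 3 := hkey
      omega
    exact h1

end KulMain

/-- Let G be a finite p-group of order p^m that is not cyclic and, when p = 2, not of maximal class (nilpotency class m − 1). Then for every 1 ≤ k < m the number of subgroups of G of order p^k is congruent to 1 + p modulo p². -/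
theorem result {G : Type*} [Group G] [Finite G] {p : ℕ} [Fact p.Prime] (m : ℕ)
    (hG : Nat.card G = p ^ m) (hnc : ¬ IsCyclic G) (h2 : p = 2 → Group.nilpotencyClass G ≠ m - 1)
    (k : ℕ) (hk1 : 1 ≤ k) (hk2 : k < m) :
    Nat.card {H : Subgroup G // Nat.card H = p ^ k} ≡ 1 + p [MOD p ^ 2] := by
  obtain ⟨h1, -⟩ := kul_main m G hG hnc k hk1 hk2
  exact h1 h2

end Cfsg.Agent.S4157
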