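import Cfsg.Statements.S4198
import Mathlib

set_option autoImplicit false
open Cfsg

namespace Cfsg.Agent.S4198


open Equiv Equiv.Perm

/-! ### Bounding the number of partitions -/

def comps : ℕ → ℕ → List (List ℕ)
  | 0, n => if n = 0 then [[]] else []
  | f + 1, n =>
    if n = 0 then [[]] else
      (List.range n).flatMap fun a => (comps f (n - (a + 1))).map fun t => (a + 1) :: t

theorem mem_comps : ∀ (f : ℕ) (l : List ℕ) (n : ℕ), l.length ≤ f → (∀ x ∈ l, 0 < x) → l.sum = n →
    l ∈ comps f n := by
  intro f
  induction f with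
  | zero =>
    intro l n hl _ hs
    have : l = [] := List.length_eq_zero_iff.mp (by omega)
    subst this
    simp at hs
    simp [comps, ← hs]
  | succ f ih =>
    intro l n hl hp hs
    cases l with
    | nil =>
      simp at hs
      simp [comps, ← hs]
    | cons a t =>
      have ha : 0 < a := hp a (by simp)
      simp only [List.sum_cons] at hs
      have hn : n ≠ 0 := by omega
      simp only [comps, hn, if_false, List.mem_flatMap, List.mem_map, List.mem_range]
      refine ⟨a - 1, by omega, t, ?_, ?_⟩
      · refine ih t _ (by simpa using hl) (fun x hx => hp x (by simp [hx])) ?_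
        omega
      · congr 1; omega

def LL : List (Multiset ℕ) := [{5}, {4,1}, {3,2}, {3,1,1}, {2,2,1}, {2,1,1,1}, {1,1,1,1,1}]

theorem comps_LL : ∀ l ∈ comps 5 5, (l : Multiset ℕ) ∈ LL := by
  decide +kernel

theorem card_partition_five : Fintype.card (Nat.Partition 5) ≤ 8 := by
  classical
  have h : ∀ p : Nat.Partition 5, p.parts ∈ LL := by
    intro p
    obtain ⟨l, hl⟩ := Quot.exists_rep p.parts
    have hl' : (l : Multiset ℕ) = p.parts := hl
    have hpos : ∀ x ∈ l, 0 < x := by
      intro x hx
      refine p.parts_pos ?_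
      rw [← hl']; exact hx
    have hsum : l.sum = 5 := by
      have := p.parts_sum
      rwa [← hl', Multiset.sum_coe] at this
    have hlen : l.length ≤ 5 := by
      rw [← hsum]
      exact List.length_le_sum_of_one_le l (fun x hx => hpos x hx)
    rw [← hl']
    exact comps_LL l (mem_comps 5 l 5 hlen hpos hsum)
  calc Fintype.card (Nat.Partition 5)
      = (Finset.univ : Finset (Nat.Partition 5)).card := rfl
    _ ≤ (LL.toFinset).card := by
        refine Finset.card_le_card_of_injOn (fun p => p.parts) ?_ ?_
        · intro p _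
          simpa using h p
        · intro p _ q _ hpq
          exact Nat.Partition.ext hpq
    _ ≤ LL.length := List.toFinset_card_le _
    _ ≤ 8 := by decide

theorem card_partition_succ (n : ℕ) :
    Fintype.card (Nat.Partition (n + 1)) ≤ 2 * Fintype.card (Nat.Partition n) := by
  classical
  let R : Nat.Partition (n + 1) → Nat.Partition n × Bool → Prop := fun p q =>
    (q.2 = false ∧ 1 ∈ p.parts ∧ q.1.parts = p.parts.erase 1) ∨
    (q.2 = true ∧ 1 ∉ p.parts ∧ ∃ s ∈ p.parts, (∀ x ∈ p.parts, s ≤ x) ∧
      q.1.parts = (s - 1) ::ₘ p.parts.erase s)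
  have key : (Finset.univ : Finset (Nat.Partition (n + 1))).card ≤
      (Finset.univ : Finset (Nat.Partition n × Bool)).card := by
    refine Finset.card_le_card_of_forall_subsingleton R ?_ ?_
    · intro p _
      by_cases h1 : 1 ∈ p.parts
      · refine ⟨(⟨p.parts.erase 1, fun hi => p.parts_pos (Multiset.mem_of_mem_erase hi), ?_⟩, false),
          Finset.mem_univ _, Or.inl ⟨rfl, h1, rfl⟩⟩
        have := Multiset.sum_erase h1
        have h2 := p.parts_sum
        omega
      · have hne : p.parts ≠ 0 := by
          intro h0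
          have := p.parts_sum
          rw [h0] at this
          simp at this
        obtain ⟨a, ha⟩ := Multiset.exists_mem_of_ne_zero hne
        obtain ⟨s, hs, hmin⟩ := Finset.exists_min_image p.parts.toFinset id ⟨a, by simpa using ha⟩
        have hs' : s ∈ p.parts := by simpa using hs
        have hmin' : ∀ x ∈ p.parts, s ≤ x := fun x hx => hmin x (by simpa using hx)
        have hs2 : 2 ≤ s := by
          have h3 := p.parts_pos hs'
          have h4 : s ≠ 1 := fun h => h1 (h ▸ hs')
          omega
        refine ⟨(⟨(s - 1) ::ₘ p.parts.erase s, ?_, ?_⟩, true), Finset.mem_univ _,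
          Or.inr ⟨rfl, h1, s, hs', hmin', rfl⟩⟩
        · intro i hi
          rcases Multiset.mem_cons.mp hi with rfl | hi
          · omega
          · exact p.parts_pos (Multiset.mem_of_mem_erase hi)
        · have := Multiset.sum_erase hs'
          have h2 := p.parts_sum
          rw [Multiset.sum_cons]
          omega
    · rintro ⟨q, b⟩ _ p₁ hp₁ p₂ hp₂
      have hp₁' := hp₁.2
      have hp₂' := hp₂.2
      rcases hp₁' with ⟨hb, h1, h2⟩ | ⟨hb, h1, s₁, hs₁, hm₁, h2⟩ <;>
      rcases hp₂' with ⟨hb', h1', h2'⟩ | ⟨hb', h1', s₂, hs₂, hm₂, h2'⟩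
      · apply Nat.Partition.ext
        rw [← Multiset.cons_erase h1, ← Multiset.cons_erase h1', ← (show _ = p₁.parts.erase 1 from h2),
          ← (show _ = p₂.parts.erase 1 from h2')]
      · simp only at hb hb'; rw [hb] at hb'; exact absurd hb' (by simp)
      · simp only at hb hb'; rw [hb] at hb'; exact absurd hb' (by simp)
      · simp only at h2 h2'
        have hpos1 := p₁.parts_pos hs₁
        have hpos2 := p₂.parts_pos hs₂
        have e1 : s₁ - 1 ∈ q.parts := by rw [h2]; simp
        have e2 : s₂ - 1 ∈ q.parts := by rw [h2']; simp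
        have f1 : s₁ - 1 = s₂ - 1 ∨ s₂ ≤ s₁ - 1 := by
          rw [h2'] at e1
          rcases Multiset.mem_cons.mp e1 with h | h
          · exact Or.inl h
          · exact Or.inr (hm₂ _ (Multiset.mem_of_mem_erase h))
        have f2 : s₂ - 1 = s₁ - 1 ∨ s₁ ≤ s₂ - 1 := by
          rw [h2] at e2
          rcases Multiset.mem_cons.mp e2 with h | h
          · exact Or.inl h
          · exact Or.inr (hm₁ _ (Multiset.mem_of_mem_erase h))
        have hs : s₁ = s₂ := by omega
        subst hs
        have : p₁.parts.erase s₁ = p₂.parts.erase s₁ := by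
          rw [h2] at h2'
          exact (Multiset.cons_inj_right _).mp h2'
        apply Nat.Partition.ext
        rw [← Multiset.cons_erase hs₁, ← Multiset.cons_erase hs₂, this]
  simpa [Fintype.card_prod, mul_comm] using key

theorem card_partition_le (n : ℕ) (hn : 5 ≤ n) : Fintype.card (Nat.Partition n) ≤ 2 ^ (n - 2) := by
  induction n, hn using Nat.le_induction with
  | base => simpa using card_partition_five
  | succ n hn ih =>
    have h1 := card_partition_succ n
    have h2 : 2 ^ (n + 1 - 2) = 2 * 2 ^ (n - 2) := by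
      rw [show n + 1 - 2 = (n - 2) + 1 by omega, pow_succ]; ring
    omega

/-! ### Upper bound on classes of the symmetric group -/

theorem card_classes_le (n : ℕ) :
    Nat.card (ConjClasses (Perm (Fin n))) ≤ Fintype.card (Nat.Partition n) := by
  classical
  haveI : Fintype (ConjClasses (Perm (Fin n))) := Fintype.ofFinite _
  rw [Nat.card_eq_fintype_card]
  have hcast : ∀ (m : ℕ), m = n → Fintype.card (Nat.Partition m) = Fintype.card (Nat.Partition n) := by
    rintro m rfl; rfl
  rw [← hcast (Fintype.card (Fin n)) (by simp)]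
  refine Finset.card_le_card_of_forall_subsingleton
    (fun c p => ∃ x : Perm (Fin n), ConjClasses.mk x = c ∧ x.partition = p) ?_ ?_
  · intro c _
    obtain ⟨x, rfl⟩ := ConjClasses.exists_rep c
    exact ⟨x.partition, Finset.mem_univ _, x, rfl, rfl⟩
  · intro p _ c₁ hc₁ c₂ hc₂
    obtain ⟨x₁, rfl, h₁⟩ := hc₁.2
    obtain ⟨x₂, rfl, h₂⟩ := hc₂.2
    exact ConjClasses.mk_eq_mk_iff_isConj.mpr (partition_eq_of_isConj.mpr (h₁.trans h₂.symm))

/-! ### Alternating group -/

variable {n : ℕ}

theorem conj_of_even {a b : alternatingGroup (Fin n)} {g : Perm (Fin n)} (hg : g ∈ alternatingGroup (Fin n))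
    (h : g * (a : Perm (Fin n)) * g⁻¹ = b) : IsConj a b := by
  refine isConj_iff.mpr ⟨⟨g, hg⟩, Subtype.ext ?_⟩
  simpa using h

theorem conj_of_centralizer {a b : alternatingGroup (Fin n)}
    (hc : ¬ Subgroup.centralizer {(a : Perm (Fin n))} ≤ alternatingGroup (Fin n))
    (h : IsConj (a : Perm (Fin n)) b) : IsConj a b := by
  obtain ⟨g, hg⟩ := isConj_iff.mp h
  by_cases hgm : g ∈ alternatingGroup (Fin n)
  · exact conj_of_even hgm hg
  · obtain ⟨t, ht, htn⟩ := SetLike.not_le_iff_exists.mp hc
    have hsign : sign g = -1 := by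
      rcases Int.units_eq_one_or (sign g) with h1 | h1
      · exact absurd (Equiv.Perm.mem_alternatingGroup.mpr h1) hgm
      · exact h1
    have hsign2 : sign t = -1 := by
      rcases Int.units_eq_one_or (sign t) with h1 | h1
      · exact absurd (Equiv.Perm.mem_alternatingGroup.mpr h1) htn
      · exact h1
    have hgt : g * t ∈ alternatingGroup (Fin n) := by
      rw [Equiv.Perm.mem_alternatingGroup, map_mul, hsign, hsign2]; decide
    refine conj_of_even hgt ?_
    have htc : t * (a : Perm (Fin n)) = a * t := by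
      have := Subgroup.mem_centralizer_singleton_iff.mp ht
      rw [this]
    calc g * t * (a : Perm (Fin n)) * (g * t)⁻¹ = g * (t * (a : Perm (Fin n))) * t⁻¹ * g⁻¹ := by group
      _ = g * ((a : Perm (Fin n)) * t) * t⁻¹ * g⁻¹ := by rw [htc]
      _ = g * (a : Perm (Fin n)) * g⁻¹ := by group
      _ = b := hg

theorem conj_three {a b d : alternatingGroup (Fin n)} (h1 : IsConj (a : Perm (Fin n)) b)
    (h2 : IsConj (a : Perm (Fin n)) d) : IsConj a b ∨ IsConj a d ∨ IsConj b d := by
  obtain ⟨g, hg⟩ := isConj_iff.mp h1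
  obtain ⟨k, hk⟩ := isConj_iff.mp h2
  by_cases hgm : g ∈ alternatingGroup (Fin n)
  · exact Or.inl (conj_of_even hgm hg)
  by_cases hkm : k ∈ alternatingGroup (Fin n)
  · exact Or.inr (Or.inl (conj_of_even hkm hk))
  right; right
  have hsign : sign g = -1 := by
    rcases Int.units_eq_one_or (sign g) with h1 | h1
    · exact absurd (Equiv.Perm.mem_alternatingGroup.mpr h1) hgm
    · exact h1
  have hsign2 : sign k = -1 := by
    rcases Int.units_eq_one_or (sign k) with h1 | h1
    · exact absurd (Equiv.Perm.mem_alternatingGroup.mpr h1) hkm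
    · exact h1
  have hm : k * g⁻¹ ∈ alternatingGroup (Fin n) := by
    rw [Equiv.Perm.mem_alternatingGroup, map_mul, map_inv, hsign, hsign2]; decide
  refine conj_of_even hm ?_
  rw [← hk, ← hg]; group

theorem sign_of_even_part {m : Multiset ℕ} {τ : Perm (Fin n)} {M : ℕ} (hodd : ∀ a ∈ m, Odd a) (hM : Odd M)
    (hM3 : 3 ≤ M) (hτ : τ.cycleType = (M - 1) ::ₘ m.erase M) : sign τ = -1 := by
  rw [sign_of_cycleType', hτ, Multiset.map_cons, Multiset.prod_cons]
  have h1 : ((m.erase M).map fun n => -(-1 : ℤˣ) ^ n).prod = 1 := by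
    refine Multiset.prod_eq_one ?_
    intro x hx
    obtain ⟨a, ha, rfl⟩ := Multiset.mem_map.mp hx
    have := hodd a (Multiset.mem_of_mem_erase ha)
    rw [this.neg_one_pow]; simp
  rw [h1]
  have h2 : Even (M - 1) := by
    obtain ⟨k, hk⟩ := hM
    exact ⟨k, by omega⟩
  rw [h2.neg_one_pow]; simp

theorem key_count (hn : 5 ≤ n) :
    Nat.card (ConjClasses (alternatingGroup (Fin n))) < Nat.card (ConjClasses (Perm (Fin n))) := by
  classical
  haveI : Fintype (ConjClasses (Perm (Fin n))) := Fintype.ofFinite _
  haveI : Fintype (ConjClasses (alternatingGroup (Fin n))) := Fintype.ofFinite _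
  rw [Nat.card_eq_fintype_card, Nat.card_eq_fintype_card]
  set ι : ConjClasses (alternatingGroup (Fin n)) → ConjClasses (Perm (Fin n)) :=
    ConjClasses.map (alternatingGroup (Fin n)).subtype with hι
  have hιmk : ∀ a : alternatingGroup (Fin n), ι (ConjClasses.mk a) = ConjClasses.mk (a : Perm (Fin n)) :=
    fun _ => rfl
  set E := Finset.univ.image ι with hE
  set Sp := E.filter (fun c => ∃ x : Perm (Fin n), ConjClasses.mk x = c ∧
    Subgroup.centralizer {x} ≤ alternatingGroup (Fin n)) with hSp
  have h1 : Fintype.card (ConjClasses (alternatingGroup (Fin n))) ≤ E.card + Sp.card := by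
    have h := Finset.card_eq_sum_card_image ι (Finset.univ : Finset (ConjClasses (alternatingGroup (Fin n))))
    rw [← hE] at h
    have hb : ∀ c ∈ E, (Finset.univ.filter fun a => ι a = c).card ≤ 1 + (if c ∈ Sp then 1 else 0) := by
      intro c hc
      by_cases hcs : c ∈ Sp
      · rw [if_pos hcs]
        by_contra hlt
        have hlt' : 2 < (Finset.univ.filter fun a => ι a = c).card := by omega
        obtain ⟨x, hx, y, hy, z, hz, hxy, hxz, hyz⟩ := Finset.two_lt_card.mp hlt'
        obtain ⟨a, rfl⟩ := ConjClasses.exists_rep x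
        obtain ⟨b, rfl⟩ := ConjClasses.exists_rep y
        obtain ⟨d, rfl⟩ := ConjClasses.exists_rep z
        have hx' := (Finset.mem_filter.mp hx).2
        have hy' := (Finset.mem_filter.mp hy).2
        have hz' := (Finset.mem_filter.mp hz).2
        rw [hιmk] at hx' hy' hz'
        have e1 : IsConj (a : Perm (Fin n)) b :=
          ConjClasses.mk_eq_mk_iff_isConj.mp (hx'.trans hy'.symm)
        have e2 : IsConj (a : Perm (Fin n)) d :=
          ConjClasses.mk_eq_mk_iff_isConj.mp (hx'.trans hz'.symm)
        rcases conj_three e1 e2 with h | h | h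
        · exact hxy (ConjClasses.mk_eq_mk_iff_isConj.mpr h)
        · exact hxz (ConjClasses.mk_eq_mk_iff_isConj.mpr h)
        · exact hyz (ConjClasses.mk_eq_mk_iff_isConj.mpr h)
      · rw [if_neg hcs, add_zero]
        refine Finset.card_le_one.mpr ?_
        intro x hx y hy
        obtain ⟨a, rfl⟩ := ConjClasses.exists_rep x
        obtain ⟨b, rfl⟩ := ConjClasses.exists_rep y
        have hx' := (Finset.mem_filter.mp hx).2
        have hy' := (Finset.mem_filter.mp hy).2
        rw [hιmk] at hx' hy'
        have hcent : ¬ Subgroup.centralizer {(a : Perm (Fin n))} ≤ alternatingGroup (Fin n) := by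
          intro hle
          exact hcs (Finset.mem_filter.mpr ⟨hc, a, hx', hle⟩)
        exact ConjClasses.mk_eq_mk_iff_isConj.mpr (conj_of_centralizer hcent
          (ConjClasses.mk_eq_mk_iff_isConj.mp (hx'.trans hy'.symm)))
    calc Fintype.card (ConjClasses (alternatingGroup (Fin n)))
        = (Finset.univ : Finset (ConjClasses (alternatingGroup (Fin n)))).card := rfl
      _ = ∑ c ∈ E, (Finset.univ.filter fun a => ι a = c).card := h
      _ ≤ ∑ c ∈ E, (1 + (if c ∈ Sp then 1 else 0)) := Finset.sum_le_sum hb
      _ = E.card + Sp.card := by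
          rw [Finset.sum_add_distrib, Finset.sum_const, smul_eq_mul, mul_one, Finset.sum_ite_mem,
            Finset.sum_const, smul_eq_mul, mul_one]
          congr 2
          exact Finset.inter_eq_right.mpr (Finset.filter_subset _ _)
  -- the transposition class
  have h5 : (0 : ℕ) < n := by omega
  have h6 : (1 : ℕ) < n := by omega
  set t : Perm (Fin n) := swap ⟨0, h5⟩ ⟨1, h6⟩ with ht
  have htsign : sign t = -1 := sign_swap (by simp [Fin.ext_iff])
  have htct : t.cycleType = {2} := isSwap_iff_cycleType.mp ⟨_, _, (by simp [Fin.ext_iff]), rfl⟩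
  have hnotE : ∀ τ : Perm (Fin n), sign τ = -1 → ConjClasses.mk τ ∉ E := by
    intro τ hτ hmem
    obtain ⟨x, _, hx⟩ := Finset.mem_image.mp hmem
    obtain ⟨a, rfl⟩ := ConjClasses.exists_rep x
    rw [hιmk] at hx
    obtain ⟨g, hg⟩ := isConj_iff.mp (ConjClasses.mk_eq_mk_iff_isConj.mp hx)
    have h1 : sign (a : Perm (Fin n)) = 1 := Equiv.Perm.mem_alternatingGroup.mp a.2
    have h2 : sign τ = sign (a : Perm (Fin n)) := by
      rw [← hg, map_mul, map_mul, map_inv, mul_comm (sign g), mul_inv_cancel_right]
    rw [h1, hτ] at h2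
    exact absurd h2 (by decide)
  set O := (Finset.univ \ E).erase (ConjClasses.mk t) with hO
  have h2 : Sp.card ≤ O.card := by
    refine Finset.card_le_card_of_forall_subsingleton
      (fun c d => ∃ (x τ : Perm (Fin n)) (M : ℕ), ConjClasses.mk x = c ∧ ConjClasses.mk τ = d ∧ M ∈ x.cycleType ∧
        (∀ a ∈ x.cycleType, Odd a) ∧ τ.cycleType = (M - 1) ::ₘ x.cycleType.erase M) ?_ ?_
    · intro c hc
      obtain ⟨hcE, x, rfl, hcent⟩ := Finset.mem_filter.mp hc
      obtain ⟨hodd, hle, hcount⟩ := Equiv.Perm.centralizer_le_alternating_iff.mp hcent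
      have hcard : Fintype.card (Fin n) = n := Fintype.card_fin n
      have hne : x.cycleType ≠ 0 := by
        intro h0
        rw [h0, hcard] at hle
        simp at hle
        omega
      obtain ⟨M, hM⟩ := Multiset.exists_mem_of_ne_zero hne
      have hM2 := two_le_of_mem_cycleType hM
      have hMo := hodd M hM
      have hM3 : 3 ≤ M := by
        obtain ⟨k, hk⟩ := hMo
        omega
      have hsum := Multiset.sum_erase hM
      have hsl := sum_cycleType_le x
      obtain ⟨τ, hτ⟩ := (Equiv.Perm.exists_with_cycleType_iff (α := Fin n)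
        (m := (M - 1) ::ₘ x.cycleType.erase M)).mpr ⟨by
          rw [Multiset.sum_cons]; omega, by
          intro a ha
          rcases Multiset.mem_cons.mp ha with rfl | ha
          · omega
          · exact two_le_of_mem_cycleType (Multiset.mem_of_mem_erase ha)⟩
      have hτs := sign_of_even_part hodd hMo hM3 hτ
      refine ⟨ConjClasses.mk τ, ?_, x, τ, M, rfl, rfl, hM, hodd, hτ⟩
      rw [hO, Finset.mem_erase, Finset.mem_sdiff]
      refine ⟨?_, Finset.mem_univ _, hnotE τ hτs⟩
      intro heq
      have hct := isConj_iff_cycleType_eq.mp (ConjClasses.mk_eq_mk_iff_isConj.mp heq)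
      rw [hτ, htct] at hct
      have hlen := congrArg Multiset.card hct
      simp only [Multiset.card_cons, Multiset.card_singleton] at hlen
      have hz : (x.cycleType.erase M) = 0 := Multiset.card_eq_zero.mp (by omega)
      rw [hz] at hct hsum
      have hv : M - 1 = 2 := by simpa using hct
      simp only [Multiset.sum_zero, add_zero] at hsum
      rw [hcard] at hle
      omega
    · intro d _ c₁ hc₁ c₂ hc₂
      obtain ⟨x₁, τ₁, M₁, rfl, rfl, hM₁, hodd₁, hτ₁⟩ := hc₁.2
      obtain ⟨x₂, τ₂, M₂, rfl, he, hM₂, hodd₂, hτ₂⟩ := hc₂.2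
      have hct := isConj_iff_cycleType_eq.mp (ConjClasses.mk_eq_mk_iff_isConj.mp he)
      rw [hτ₁, hτ₂] at hct
      have hM3₁ : 3 ≤ M₁ := by
        have := two_le_of_mem_cycleType hM₁
        obtain ⟨k, hk⟩ := hodd₁ M₁ hM₁
        omega
      have hM3₂ : 3 ≤ M₂ := by
        have := two_le_of_mem_cycleType hM₂
        obtain ⟨k, hk⟩ := hodd₂ M₂ hM₂
        omega
      have heven₁ : Even (M₁ - 1) := by
        obtain ⟨k, hk⟩ := hodd₁ M₁ hM₁
        exact ⟨k, by omega⟩
      have heven₂ : Even (M₂ - 1) := by
        obtain ⟨k, hk⟩ := hodd₂ M₂ hM₂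
        exact ⟨k, by omega⟩
      have hfil : ∀ {x : Perm (Fin n)} {M : ℕ}, (∀ a ∈ x.cycleType, Odd a) → Even (M - 1) →
          ((M - 1) ::ₘ x.cycleType.erase M).filter Even = {M - 1} := by
        intro x M hodd he
        rw [Multiset.filter_cons_of_pos _ he]
        have : (x.cycleType.erase M).filter Even = 0 := by
          refine Multiset.filter_eq_nil.mpr ?_
          intro a ha
          exact Nat.not_even_iff_odd.mpr (hodd a (Multiset.mem_of_mem_erase ha))
        rw [this]; rfl
      have h3 := congrArg (Multiset.filter Even) hct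
      rw [hfil hodd₁ heven₁, hfil hodd₂ heven₂] at h3
      have h4 : M₂ - 1 = M₁ - 1 := Multiset.singleton_inj.mp h3
      have h5 : M₁ = M₂ := by omega
      subst h5
      rw [Multiset.cons_inj_right] at hct
      refine ConjClasses.mk_eq_mk_iff_isConj.mpr (isConj_iff_cycleType_eq.mpr ?_)
      rw [← Multiset.cons_erase hM₁, ← Multiset.cons_erase hM₂, hct]
  have h3 : O.card + 1 = (Finset.univ \ E).card := by
    rw [hO]
    refine Finset.card_erase_add_one ?_
    exact Finset.mem_sdiff.mpr ⟨Finset.mem_univ _, hnotE t htsign⟩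
  have h4 : (Finset.univ \ E).card + E.card = Fintype.card (ConjClasses (Perm (Fin n))) :=
    Finset.card_sdiff_add_card_eq_card (Finset.subset_univ _)
  omega

/-- For n ≥ 5 the alternating group of degree n has strictly fewer conjugacy classes than the symmetric group of degree n, and the symmetric group of degree n (whose classes correspond to the partitions of n) has at most 2^(n−2) conjugacy classes. -/
theorem result (n : ℕ) (hn : 5 ≤ n) : Nat.card (ConjClasses (alternatingGroup (Fin n))) < Nat.card (ConjClasses (Equiv.Perm (Fin n))) ∧ Nat.card (ConjClasses (Equiv.Perm (Fin n))) ≤ 2 ^ (n - 2) := by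
  exact ⟨key_count hn, (card_classes_le n).trans (card_partition_le n hn)⟩

end Cfsg.Agent.S4198
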