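import Cfsg.Statements.S4298
import Cfsg.Agent.Lib.Struct.FrobeniusConstruct

set_option autoImplicit false
open Cfsg

namespace Cfsg.Agent.S4298


/-- The embedding of `SL(2,3)` into `SL(2,5)`, as a table indexed by the matrix entries. -/
def tbl : List (ZMod 5 × ZMod 5 × ZMod 5 × ZMod 5) := [(0, 0, 0, 0), (0, 0, 0, 0), (0, 0, 0, 0), (0, 0, 0, 0), (0, 0, 0, 0), (0, 0, 0, 0), (0, 0, 0, 0), (0, 0, 0, 0), (0, 0, 0, 0), (0, 0, 0, 0), (0, 0, 0, 0), (0, 0, 0, 0), (0, 0, 0, 0), (0, 0, 0, 0), (0, 0, 0, 0), (0, 4, 1, 0), (2, 4, 3, 4), (3, 2, 1, 1), (0, 0, 0, 0), (0, 0, 0, 0), (0, 0, 0, 0), (0, 1, 4, 0), (2, 3, 4, 4), (3, 1, 2, 1), (0, 0, 0, 0), (0, 0, 0, 0), (0, 0, 0, 0), (0, 0, 0, 0), (1, 0, 0, 1), (0, 0, 0, 0), (0, 0, 0, 0), (1, 2, 1, 3), (0, 0, 0, 0), (0, 0, 0, 0), (3, 3, 4, 1), (0, 0, 0, 0), (0, 0, 0, 0), (1, 1, 2, 3), (0, 0, 0, 0), (0, 0, 0, 0), (0, 0, 0, 0), (0, 2, 2,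 0), (4, 2, 1, 2), (0, 0, 0, 0), (0, 0, 0, 0), (0, 0, 0, 0), (3, 4, 3, 1), (0, 0, 0, 0), (4, 1, 2, 2), (0, 0, 0, 0), (0, 0, 0, 0), (0, 0, 0, 0), (0, 0, 0, 0), (3, 0, 0, 2), (0, 0, 0, 0), (0, 0, 0, 0), (4, 0, 0, 4), (0, 0, 0, 0), (0, 0, 0, 0), (2, 2, 1, 4), (0, 0, 0, 0), (0, 0, 0, 0), (4, 3, 4, 2), (0, 0, 0, 0), (0, 0, 0, 0), (2, 1, 2, 4), (0, 0, 0, 0), (2, 0, 0, 3), (0, 0, 0, 0), (1, 4, 3, 3), (0, 0, 0, 0), (0, 0, 0, 0), (0, 0, 0, 0), (0, 0, 0, 0), (4, 4, 3, 2), (1, 3, 4, 3), (0, 0, 0, 0), (0, 0, 0, 0), (0, 0, 0, 0), (0, 3, 3, 0), (0, 0, 0, 0)]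

/-- Table lookup. -/
def ent (a b c d : ZMod 3) : ZMod 5 × ZMod 5 × ZMod 5 × ZMod 5 :=
  tbl.getD (a.val * 27 + b.val * 9 + c.val * 3 + d.val) (0, 0, 0, 0)

theorem ent_one : ent 1 0 0 1 = (1, 0, 0, 1) := by decide +kernel

theorem ent_mul : ∀ a b c d : ZMod 3, a * d - b * c = 1 → ∀ a' b' c' d' : ZMod 3, a' * d' - b' * c' = 1 →
    ent (a * a' + b * c') (a * b' + b * d') (c * a' + d * c') (c * b' + d * d') =
      ((ent a b c d).1 * (ent a' b' c' d').1 + (ent a b c d).2.1 * (ent a' b' c' d').2.2.1,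
       (ent a b c d).1 * (ent a' b' c' d').2.1 + (ent a b c d).2.1 * (ent a' b' c' d').2.2.2,
       (ent a b c d).2.2.1 * (ent a' b' c' d').1 + (ent a b c d).2.2.2 * (ent a' b' c' d').2.2.1,
       (ent a b c d).2.2.1 * (ent a' b' c' d').2.1 + (ent a b c d).2.2.2 * (ent a' b' c' d').2.2.2) := by
  decide +kernel

theorem ent_fpf : ∀ a b c d : ZMod 3, a * d - b * c = 1 → ¬ (a = 1 ∧ b = 0 ∧ c = 0 ∧ d = 1) →
    ∀ u v : ZMod 5, (ent a b c d).1 * u + (ent a b c d).2.1 * v = u →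
      (ent a b c d).2.2.1 * u + (ent a b c d).2.2.2 * v = v → u = 0 ∧ v = 0 := by
  decide +kernel

/-- The group SL(2,3) of order 24 (the binary tetrahedral group) occurs as a Frobenius complement of some finite Frobenius group. -/
theorem result :
    ∃ (L : Type) (_ : Group L) (_ : Finite L) (H : Subgroup L), Cfsg.IsFrobeniusComplement H ∧ Nonempty (H ≃* Matrix.SpecialLinearGroup (Fin 2) (ZMod 3)) := by
  classical
  let Fn : Matrix.SpecialLinearGroup (Fin 2) (ZMod 3) → ZMod 5 × ZMod 5 × ZMod 5 × ZMod 5 :=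
    fun g => ent (g.1 0 0) (g.1 0 1) (g.1 1 0) (g.1 1 1)
  let F : Matrix.SpecialLinearGroup (Fin 2) (ZMod 3) → ((ZMod 5 × ZMod 5) →+ (ZMod 5 × ZMod 5)) := fun g =>
    { toFun := fun v => ((Fn g).1 * v.1 + (Fn g).2.1 * v.2, (Fn g).2.2.1 * v.1 + (Fn g).2.2.2 * v.2)
      map_zero' := by ext <;> simp
      map_add' := fun v w => by ext <;> simp <;> ring }
  have Fdef : ∀ g v, F g v = ((Fn g).1 * v.1 + (Fn g).2.1 * v.2, (Fn g).2.2.1 * v.1 + (Fn g).2.2.2 * v.2) :=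
    fun _ _ => rfl
  have hdet : ∀ g : Matrix.SpecialLinearGroup (Fin 2) (ZMod 3),
      g.1 0 0 * g.1 1 1 - g.1 0 1 * g.1 1 0 = 1 := by
    intro g
    have := g.2
    rwa [Matrix.det_fin_two] at this
  have hQ : Nontrivial (Matrix.SpecialLinearGroup (Fin 2) (ZMod 3)) := by
    refine ⟨⟨!![1, 1; 0, 1], by rw [Matrix.det_fin_two]; decide⟩, 1, ?_⟩
    intro h
    have h2 := congrArg (fun g : Matrix.SpecialLinearGroup (Fin 2) (ZMod 3) => g.1 0 1) h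
    revert h2
    simp only [Matrix.SpecialLinearGroup.coe_one]
    decide
  haveI : Nontrivial (ZMod 5 × ZMod 5) := ⟨(0, 0), (1, 0), by decide⟩
  obtain ⟨L, hL, hLf, H, hH, ⟨e⟩⟩ := Cfsg.Agent.Lib.Struct.exists_frobenius_of_add F
    (fun v => by
      rw [Fdef]
      have : Fn 1 = (1, 0, 0, 1) := by
        show ent _ _ _ _ = _
        simp only [Matrix.SpecialLinearGroup.coe_one, Matrix.one_apply_eq, Matrix.one_apply_ne,
          ne_eq, zero_ne_one, one_ne_zero, not_false_eq_true, ent_one]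
      rw [this]
      exact Prod.ext (by show 1 * v.1 + 0 * v.2 = v.1; ring) (by show 0 * v.1 + 1 * v.2 = v.2; ring))
    (fun g g' v => by
      have h1 : Fn (g * g') = ((Fn g).1 * (Fn g').1 + (Fn g).2.1 * (Fn g').2.2.1,
          (Fn g).1 * (Fn g').2.1 + (Fn g).2.1 * (Fn g').2.2.2,
          (Fn g).2.2.1 * (Fn g').1 + (Fn g).2.2.2 * (Fn g').2.2.1,
          (Fn g).2.2.1 * (Fn g').2.1 + (Fn g).2.2.2 * (Fn g').2.2.2) := by
        show ent _ _ _ _ = _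
        rw [Matrix.SpecialLinearGroup.coe_mul, Matrix.two_mul_expl (g.1) (g'.1) |>.1,
          (Matrix.two_mul_expl (g.1) (g'.1)).2.1, (Matrix.two_mul_expl (g.1) (g'.1)).2.2.1,
          (Matrix.two_mul_expl (g.1) (g'.1)).2.2.2]
        exact ent_mul _ _ _ _ (hdet g) _ _ _ _ (hdet g')
      rw [Fdef, Fdef, Fdef, h1]
      refine Prod.ext ?_ ?_
      · show _ = (Fn g).1 * ((Fn g').1 * v.1 + (Fn g').2.1 * v.2) +
          (Fn g).2.1 * ((Fn g').2.2.1 * v.1 + (Fn g').2.2.2 * v.2)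
        simp only [Fn]
        ring
      · show _ = (Fn g).2.2.1 * ((Fn g').1 * v.1 + (Fn g').2.1 * v.2) +
          (Fn g).2.2.2 * ((Fn g').2.2.1 * v.1 + (Fn g').2.2.2 * v.2)
        simp only [Fn]
        ring)
    (by
      intro g hg v hv
      rw [Fdef] at hv
      have h1 := congrArg Prod.fst hv
      have h2 := congrArg Prod.snd hv
      have hne : ¬ (g.1 0 0 = 1 ∧ g.1 0 1 = 0 ∧ g.1 1 0 = 0 ∧ g.1 1 1 = 1) := by
        rintro ⟨a1, a2, a3, a4⟩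
        apply hg
        ext i j
        fin_cases i <;> fin_cases j <;> simp [a1, a2, a3, a4]
      obtain ⟨u0, v0⟩ := ent_fpf _ _ _ _ (hdet g) hne v.1 v.2 h1 h2
      exact Prod.ext u0 v0)
  exact ⟨L, hL, hLf, H, hH, ⟨e.symm⟩⟩

end Cfsg.Agent.S4298
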