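import Cfsg.Statements.S4347
import Cfsg.Agent.Lib.Struct.Basic

set_option autoImplicit false
open Cfsg

namespace Cfsg.Agent.S4347

open scoped Pointwise

/-- Let G be a finite group and p a prime. Say a Sylow p-subgroup Q is redundant when every element of p-power order lies in some Sylow p-subgroup other than Q. Then G has no redundant Sylow p-subgroup if and only if some element of p-power order lies in exactly one Sylow p-subgroup. -/
theorem result {G : Type*} [Group G] [Finite G]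
    (p : ℕ) [Fact p.Prime] :
    (¬ ∃ Q : Sylow p G, ∀ x : G, (∃ k : ℕ, orderOf x = p ^ k) → ∃ P : Sylow p G, P ≠ Q ∧ x ∈ P) ↔
      ∃ x : G, (∃ k : ℕ, orderOf x = p ^ k) ∧ ∃! P : Sylow p G, x ∈ P := by
  classical
  have hexists : ∀ x : G, (∃ k : ℕ, orderOf x = p ^ k) → ∃ P : Sylow p G, x ∈ P := by
    rintro x ⟨k, hk⟩
    have hp' : IsPGroup p (Subgroup.zpowers x) := by
      rw [IsPGroup.iff_card, Nat.card_zpowers, hk]
      exact ⟨k, rfl⟩
    obtain ⟨P, hP⟩ := hp'.exists_le_sylow
    exact ⟨P, hP (Subgroup.mem_zpowers x)⟩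
  constructor
  · intro h
    by_contra hcon
    push_neg at hcon
    apply h
    obtain ⟨Q⟩ : Nonempty (Sylow p G) := inferInstance
    refine ⟨Q, fun x hx => ?_⟩
    obtain ⟨P, hP⟩ := hexists x hx
    by_cases hPQ : P = Q
    · subst hPQ
      by_contra hno
      push_neg at hno
      apply hcon x hx
      refine ⟨P, hP, fun R hR => ?_⟩
      by_contra hne
      exact hno R hne hR
    · exact ⟨P, hPQ, hP⟩
  · rintro ⟨x, hx, P₀, hP₀, huniq⟩ ⟨Q, hQ⟩
    obtain ⟨g, hg⟩ := MulAction.exists_smul_eq G P₀ Q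
    have hmem : ∀ (k : G) (R : Sylow p G) (y : G), y ∈ k • R ↔ k⁻¹ * y * k ∈ R := by
      intro k R y
      change y ∈ ((k • R : Sylow p G) : Subgroup G) ↔ k⁻¹ * y * k ∈ (R : Subgroup G)
      rw [Sylow.coe_subgroup_smul, Subgroup.mem_pointwise_smul_iff_inv_smul_mem]
      simp [MulAut.smul_def, MulAut.conj_apply, mul_assoc]
    have hx' : ∃ k : ℕ, orderOf (g * x * g⁻¹) = p ^ k := by
      obtain ⟨k, hk⟩ := hx
      exact ⟨k, by rw [Lib.Struct.orderOf_conj, hk]⟩
    obtain ⟨R, hRne, hR⟩ := hQ _ hx'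
    apply hRne
    have h1 : g⁻¹ • R = P₀ := by
      apply huniq
      rw [hmem]
      simpa [mul_assoc] using hR
    rw [← hg, ← h1, smul_inv_smul]

end Cfsg.Agent.S4347
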