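import Cfsg.Statements.S4348
import Cfsg.Agent.Lib.Basic.Core

set_option autoImplicit false
open Cfsg

namespace Cfsg.Agent.S4348

/-- Let G be a finite group, p a prime and P a Sylow p-subgroup of G, and let O_p(G) be the largest normal p-subgroup of G. If P/O_p(G) is cyclic, then some element of p-power order of G lies in exactly one Sylow p-subgroup. -/
theorem result {G : Type*} [Group G] [Finite G]
    (p : ℕ) [Fact p.Prime] (P : Sylow p G)
    [hn : ((Cfsg.pCore p G).subgroupOf (P : Subgroup G)).Normal]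
    (hc : IsCyclic ((P : Subgroup G) ⧸ (Cfsg.pCore p G).subgroupOf (P : Subgroup G))) :
    ∃ x : G, (∃ k : ℕ, orderOf x = p ^ k) ∧ ∃! Q : Sylow p G, x ∈ Q := by
  classical
  obtain ⟨gen, hgen⟩ := hc
  obtain ⟨x, rfl⟩ := QuotientGroup.mk_surjective gen
  have hxP : (x : G) ∈ (P : Subgroup G) := x.2
  refine ⟨x, ?_, P, hxP, ?_⟩
  · have := IsPGroup.iff_orderOf.mp P.isPGroup' x
    simpa using this
  · intro R hR
    have hcoreR : Cfsg.pCore p G ≤ (R : Subgroup G) := by
      rw [Lib.Basic.pCore_eq_iInf_sylow]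
      exact iInf_le _ R
    have hPR : (P : Subgroup G) ≤ (R : Subgroup G) := by
      intro y hy
      obtain ⟨k, hk⟩ := Subgroup.mem_zpowers_iff.mp (hgen ((⟨y, hy⟩ : (P : Subgroup G)) : (P : Subgroup G) ⧸ (Cfsg.pCore p G).subgroupOf (P : Subgroup G)))
      have h1 : (x ^ k : (P : Subgroup G))⁻¹ * ⟨y, hy⟩ ∈ (Cfsg.pCore p G).subgroupOf (P : Subgroup G) := by
        rw [← QuotientGroup.eq]
        rw [← hk]
        rfl
      rw [Subgroup.mem_subgroupOf] at h1
      have h2 := hcoreR h1
      have h3 : ((x ^ k : (P : Subgroup G)) : G) ∈ (R : Subgroup G) := by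
        push_cast
        exact (R : Subgroup G).zpow_mem hR k
      have h4 : y = ((x ^ k : (P : Subgroup G)) : G) * (((x ^ k : (P : Subgroup G))⁻¹ * ⟨y, hy⟩ : (P : Subgroup G)) : G) := by
        simp
      rw [h4]
      exact (R : Subgroup G).mul_mem h3 h2
    exact (Sylow.ext (Subgroup.eq_of_le_of_card_ge hPR (by
      rw [Sylow.card_eq_multiplicity, Sylow.card_eq_multiplicity]))).symm

end Cfsg.Agent.S4348
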