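import Cfsg.Statements.S4796
import Cfsg.Agent.Lib.Char.CliffordBij

set_option autoImplicit false
open Cfsg

namespace Cfsg.Agent.S4796

open Cfsg Cfsg.Agent.Lib.Char Module
open scoped Pointwise

variable {G : Type*} [Group G] [Fintype G]

/-- The number of elements of order `p` is at least `(p - 1)` times the number of Sylow subgroups,
if the Sylow subgroups have order `p`. -/
theorem card_sylow_mul_le (p : ℕ) [hp : Fact p.Prime] (hP : ∀ Q : Sylow p G, Nat.card (Q : Subgroup G) = p) :
    open scoped Classical in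
    Nat.card (Sylow p G) * (p - 1) ≤ (Finset.univ.filter fun x : G => orderOf x = p).card := by
  classical
  letI : Fintype (Sylow p G) := Fintype.ofFinite _
  let A : Sylow p G → Finset G := fun Q =>
    Finset.univ.filter fun x => x ∈ (Q : Subgroup G) ∧ x ≠ 1
  have hA : ∀ Q, (A Q).card = p - 1 := by
    intro Q
    have h1 : (Finset.univ.filter fun x : G => x ∈ (Q : Subgroup G)).card = p := by
      rw [← Fintype.card_subtype, ← Nat.card_eq_fintype_card]
      exact hP Q
    have h2 : A Q = (Finset.univ.filter fun x : G => x ∈ (Q : Subgroup G)).erase 1 := by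
      ext x
      simp only [A, Finset.mem_filter, Finset.mem_univ, true_and, Finset.mem_erase]
      tauto
    rw [h2, Finset.card_erase_of_mem (by simp [(Q : Subgroup G).one_mem]), h1]
  have hdisj : ∀ Q ∈ (Finset.univ : Finset (Sylow p G)), ∀ Q' ∈ (Finset.univ : Finset (Sylow p G)),
      Q ≠ Q' → Disjoint (A Q) (A Q') := by
    intro Q _ Q' _ hne
    rw [Finset.disjoint_left]
    intro x hx hx'
    simp only [A, Finset.mem_filter, Finset.mem_univ, true_and] at hx hx'
    apply hne
    have hQ := hP Q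
    have hQ' := hP Q'
    have h1 : Subgroup.zpowers x ≤ (Q : Subgroup G) := by
      rw [Subgroup.zpowers_le]; exact hx.1
    have h2 : Subgroup.zpowers x ≤ (Q' : Subgroup G) := by
      rw [Subgroup.zpowers_le]; exact hx'.1
    haveI : Fact (Nat.card (Q : Subgroup G)).Prime := ⟨by rw [hQ]; exact hp.out⟩
    have hgen : ∀ (R : Subgroup G), Nat.card R = p → x ∈ R → Subgroup.zpowers x = R := by
      intro R hR hxR
      have hle : Subgroup.zpowers x ≤ R := by rw [Subgroup.zpowers_le]; exact hxR
      apply Subgroup.eq_of_le_of_card_ge hle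
      rw [hR]
      have hdvd := Subgroup.card_dvd_of_le hle
      rw [hR] at hdvd
      rcases (Nat.dvd_prime hp.out).mp hdvd with h | h
      · exfalso
        have h3 : Subgroup.zpowers x = ⊥ := Subgroup.eq_bot_of_card_eq _ h
        rw [Subgroup.zpowers_eq_bot] at h3
        exact hx.2 h3
      · rw [h]
    have h3 := hgen _ hQ hx.1
    have h4 := hgen _ hQ' hx'.1
    exact Sylow.ext (h3.symm.trans h4)
  have hsub : (Finset.univ : Finset (Sylow p G)).biUnion A ⊆ Finset.univ.filter fun x : G => orderOf x = p := by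
    intro x hx
    obtain ⟨Q, -, hx⟩ := Finset.mem_biUnion.mp hx
    simp only [A, Finset.mem_filter, Finset.mem_univ, true_and] at hx ⊢
    have hQ := hP Q
    have hdvd : orderOf x ∣ p := by
      have := Subgroup.orderOf_dvd_natCard (Q : Subgroup G) hx.1
      rwa [hQ] at this
    rcases (Nat.dvd_prime hp.out).mp hdvd with h | h
    · exact absurd (orderOf_eq_one_iff.mp h) hx.2
    · exact h
  have hcard := Finset.card_le_card hsub
  rw [Finset.card_biUnion hdisj] at hcard
  simp only [hA, Finset.sum_const, Finset.card_univ, smul_eq_mul] at hcard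
  rw [Nat.card_eq_fintype_card]
  exact hcard

/-- The degree is smaller than the prime if `|G| = p χ(1)`. -/
theorem charDegree_lt_of_card_eq {χ : G → ℂ} (hχ : IsIrrCharacter G χ) {p : ℕ} (hp : p.Prime)
    (hcod : Nat.card G = p * charDegree χ) : charDegree χ < p := by
  classical
  haveI : Fact p.Prime := ⟨hp⟩
  have hχc := IsIrrCharacter.isCharacter hχ
  set d := charDegree χ with hd
  have hd0 : 0 < d := charDegree_pos hχ
  have hχ1 : χ 1 = (d : ℂ) := apply_one_eq_charDegree hχc
  -- `∑ |χ|² = |G|`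
  have hsum := sum_norm_sq_irr hχ
  have hone : ‖χ 1‖ ^ 2 = (d : ℝ) ^ 2 := by rw [hχ1]; simp
  -- `d² ≤ |G|`
  have hdle : d ^ 2 ≤ Nat.card G := by
    have h1 : ‖χ 1‖ ^ 2 ≤ ∑ g : G, ‖χ g‖ ^ 2 :=
      Finset.single_le_sum (f := fun g => ‖χ g‖ ^ 2) (fun _ _ => by positivity) (Finset.mem_univ 1)
    rw [hone, hsum] at h1
    exact_mod_cast h1
  have hdp : d ≤ p := by
    rw [hcod] at hdle
    have : d * d ≤ p * d := by nlinarith
    exact Nat.le_of_mul_le_mul_right this hd0
  have hdlt : d < p := by
    rcases hdp.lt_or_eq with h | h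
    · exact h
    exfalso
    -- then `χ` is the only irreducible character, but it is not trivial
    have hne : χ ≠ fun _ => 1 := by
      intro h1
      have h2 : χ 1 = 1 := by rw [h1]
      rw [hχ1] at h2
      have h3 : d = 1 := by exact_mod_cast h2
      have := hp.two_le
      omega
    have h1 := sum_irr_degree_sq (G := G)
    have h2 : (d : ℂ) ^ 2 + 1 = ∑ ψ ∈ ({⟨χ, hχ⟩, ⟨fun _ => 1, isIrrCharacter_one⟩} : Finset (IrrCharacter G)),
        ((ψ : G → ℂ) 1) ^ 2 := by
      rw [Finset.sum_pair (fun h => hne (congrArg Subtype.val h))]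
      simp [hχ1]
    have h3 : ∑ ψ ∈ ({⟨χ, hχ⟩, ⟨fun _ => 1, isIrrCharacter_one⟩} : Finset (IrrCharacter G)),
        (((ψ : G → ℂ) 1)).re ^ 2 ≤ ∑ ψ : IrrCharacter G, (((ψ : G → ℂ) 1)).re ^ 2 :=
      Finset.sum_le_sum_of_subset_of_nonneg (Finset.subset_univ _) (fun _ _ _ => by positivity)
    have h4 : ∀ ψ : IrrCharacter G, ((ψ : G → ℂ) 1) ^ 2 = ((((ψ : G → ℂ) 1)).re ^ 2 : ℝ) := by
      intro ψ
      obtain ⟨n, -, hn⟩ := IsIrrCharacter.apply_one ψ.2
      rw [hn]
      simp
    have h5 : ∑ ψ : IrrCharacter G, (((ψ : G → ℂ) 1)).re ^ 2 = (Nat.card G : ℝ) := by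
      have : ((∑ ψ : IrrCharacter G, (((ψ : G → ℂ) 1)).re ^ 2 : ℝ) : ℂ) = ((Nat.card G : ℝ) : ℂ) := by
        rw [Complex.ofReal_sum]
        simp only [← h4]
        rw [h1]
        simp
      exact_mod_cast this
    have h6 : ∑ ψ ∈ ({⟨χ, hχ⟩, ⟨fun _ => 1, isIrrCharacter_one⟩} : Finset (IrrCharacter G)),
        (((ψ : G → ℂ) 1)).re ^ 2 = (d : ℝ) ^ 2 + 1 := by
      rw [Finset.sum_pair (fun h => hne (congrArg Subtype.val h))]
      simp [hχ1]
    rw [h5, h6] at h3
    have h7 : d ^ 2 + 1 ≤ Nat.card G := by exact_mod_cast h3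
    rw [hcod, h] at h7
    nlinarith
  exact hdlt

/-- The key structural consequence of a prime codegree. -/
theorem exists_normal_of_card_eq {χ : G → ℂ} (hχ : IsIrrCharacter G χ) {p : ℕ} (hp : p.Prime)
    (hcod : Nat.card G = p * charDegree χ) :
    ∃ N : Subgroup G, N.Normal ∧ Nat.card N = p ∧ Subgroup.centralizer (N : Set G) ≤ N := by
  classical
  haveI : Fact p.Prime := ⟨hp⟩
  have hχc := IsIrrCharacter.isCharacter hχ
  set d := charDegree χ with hd
  have hd0 : 0 < d := charDegree_pos hχ
  have hχ1 : χ 1 = (d : ℂ) := apply_one_eq_charDegree hχc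
  have hsum := sum_norm_sq_irr hχ
  have hone : ‖χ 1‖ ^ 2 = (d : ℝ) ^ 2 := by rw [hχ1]; simp
  have hdlt : d < p := charDegree_lt_of_card_eq hχ hp hcod
  have hpd : ¬ p ∣ d := fun h => absurd (Nat.le_of_dvd hd0 h) (by omega)
  -- the Sylow subgroups have order `p`
  have hfact : (Nat.card G).factorization p = 1 := by
    rw [hcod, Nat.factorization_mul hp.ne_zero hd0.ne', Finsupp.add_apply,
      hp.factorization_self, Nat.factorization_eq_zero_of_not_dvd hpd]
  have hsyl : ∀ Q : Sylow p G, Nat.card (Q : Subgroup G) = p := by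
    intro Q
    rw [Q.card_eq_multiplicity, hfact, pow_one]
  -- `χ` does not vanish at elements of order `p`
  let S : Finset G := Finset.univ.filter fun x : G => orderOf x = p
  have hS0 : ∀ x ∈ S, χ x ≠ 0 := by
    intro x hx h0
    simp only [S, Finset.mem_filter, Finset.mem_univ, true_and] at hx
    apply hpd
    apply Cfsg.Agent.Lib.H8Group.dvd_charDegree_of_apply_eq_zero hχc (g := x) (j := 1) _ h0
    rw [pow_one, ← hx, pow_orderOf_eq_one]
  have hSstable : ∀ k : ℕ, k.Coprime (Nat.card G) → ∀ x ∈ S, x ^ k ∈ S := by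
    intro k hk x hx
    simp only [S, Finset.mem_filter, Finset.mem_univ, true_and] at hx ⊢
    have hcop : k.Coprime (orderOf x) := Nat.Coprime.coprime_dvd_right (orderOf_dvd_natCard x) hk
    rw [Nat.Coprime.orderOf_pow hcop.symm, hx]
  have hSge := card_le_sum_norm_sq hχc S hSstable hS0
  have h1S : 1 ∉ S := by
    simp only [S, Finset.mem_filter, Finset.mem_univ, true_and, orderOf_one]
    exact hp.one_lt.ne
  have hSle : ∑ x ∈ S, ‖χ x‖ ^ 2 + ‖χ 1‖ ^ 2 ≤ (Nat.card G : ℝ) := by
    rw [← hsum, add_comm, ← Finset.sum_insert (f := fun x => ‖χ x‖ ^ 2) h1S]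
    exact Finset.sum_le_sum_of_subset_of_nonneg (Finset.subset_univ _) (fun _ _ _ => by positivity)
  have hSd : S.card + d ^ 2 ≤ p * d := by
    have h1 : (S.card : ℝ) + (d : ℝ) ^ 2 ≤ (p * d : ℕ) := by
      rw [← hcod, ← hone]
      linarith
    exact_mod_cast h1
  have hn := card_sylow_mul_le (G := G) p hsyl
  have hnS : Nat.card (Sylow p G) * (p - 1) ≤ S.card := hn
  -- the Sylow subgroup is normal
  haveI hsub : Subsingleton (Sylow p G) := by
    have hmod : Nat.card (Sylow p G) ≡ 1 [MOD p] := card_sylow_modEq_one p G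
    have hne : Nat.card (Sylow p G) ≠ 0 := Nat.card_pos.ne'
    by_contra hns
    have h1 : Nat.card (Sylow p G) ≠ 1 := by
      intro h
      exact hns (Finite.card_le_one_iff_subsingleton.mp h.le)
    have h2 : p + 1 ≤ Nat.card (Sylow p G) := by
      have h3 : 1 < Nat.card (Sylow p G) := by omega
      have h4 : p ∣ Nat.card (Sylow p G) - 1 := (Nat.modEq_iff_dvd' h3.le).mp hmod.symm
      have h5 := Nat.le_of_dvd (by omega) h4
      omega
    have h3 : (p + 1) * (p - 1) ≤ p * d := by
      calc (p + 1) * (p - 1) ≤ Nat.card (Sylow p G) * (p - 1) := Nat.mul_le_mul_right _ h2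
        _ ≤ S.card := hnS
        _ ≤ p * d := by omega
    obtain ⟨q, rfl⟩ : ∃ q, p = q + 1 := ⟨p - 1, by have := hp.pos; omega⟩
    simp only [Nat.add_sub_cancel] at h3
    have : d ≤ q := by omega
    nlinarith
  obtain ⟨P⟩ : Nonempty (Sylow p G) := inferInstance
  haveI hPn : (P : Subgroup G).Normal := P.normal_of_subsingleton
  refine ⟨P, hPn, hsyl P, ?_⟩
  generalize hN : (P : Subgroup G) = N at *
  have hNcard : Nat.card N = p := by rw [← hN]; exact hsyl P
  letI : Fintype N := Fintype.ofFinite _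
  have hcyc : IsCyclic N := isCyclic_of_prime_card hNcard
  have hcomm : ∀ a b : N, a * b = b * a := fun a b => by
    letI := IsCyclic.commGroup (α := N)
    exact mul_comm a b
  obtain ⟨lam, hlam, hne⟩ := exists_under hχ N
  letI : Fintype (inertia N lam) := Fintype.ofFinite _
  obtain ⟨ψ, hψ, hover, hχeq⟩ := exists_indFun_over hlam hχ hne
  have hNT : N ≤ inertia N lam := le_inertia_of_irr hlam
  have hlam1 : lam 1 = 1 := (comm_iff_irr_degree_one (G := N)).mp hcomm ⟨lam, hlam⟩
  have hlamn : ∀ a : N, ‖lam a‖ = 1 :=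
    norm_eq_one_of_degree_one (IsIrrCharacter.isCharacter hlam) hlam1
  have hres := resTo_eq_over N hlam le_rfl hNT hψ hover
  have hψc := IsIrrCharacter.isCharacter hψ
  have hψ1 : ψ 1 = classInner (resTo N hNT ψ) lam := by
    have := congrFun hres 1
    simp only [resTo, Pi.smul_apply, smul_eq_mul, hlam1, mul_one] at this
    exact this
  set e := charDegree ψ with he
  have he0 : 0 < e := charDegree_pos hψ
  have hψe : ψ 1 = (e : ℂ) := apply_one_eq_charDegree hψc
  have hnorm : ∀ t : inertia N lam, (t : G) ∈ N → ‖ψ t‖ = e := by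
    intro t ht
    have h1 := congrFun hres ⟨t, ht⟩
    simp only [resTo, Pi.smul_apply, smul_eq_mul] at h1
    have h2 : ψ t = classInner (resTo N hNT ψ) lam * lam ⟨t, ht⟩ := h1
    rw [h2, ← hψ1, norm_mul, hlamn, mul_one, hψe]
    simp
  have hdeg : d = (inertia N lam).index * e := by
    rw [hd, hχeq]
    exact charDegree_indFun hψc
  have hT : Nat.card (inertia N lam) = p * e := by
    have h1 := Subgroup.index_mul_card (inertia N lam)
    have h2 : 0 < (inertia N lam).index := Nat.pos_of_ne_zero Subgroup.index_ne_zero_of_finite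
    rw [hcod, hdeg] at h1
    have h3 : (inertia N lam).index * Nat.card (inertia N lam) = (inertia N lam).index * (p * e) := by
      rw [h1]; ring
    exact Nat.eq_of_mul_eq_mul_left h2 h3
  -- `p e² ≤ |T|`
  have hsumT := sum_norm_sq_irr hψ
  have hfilter : (Finset.univ.filter fun t : inertia N lam => (t : G) ∈ N).card = p := by
    rw [← hNcard, ← Fintype.card_subtype, Nat.card_eq_fintype_card]
    apply Fintype.card_congr
    exact {
      toFun := fun t => ⟨t.1, t.2⟩
      invFun := fun n => ⟨⟨n, hNT n.2⟩, n.2⟩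
      left_inv := fun _ => rfl
      right_inv := fun _ => rfl }
  have hle : (p : ℝ) * (e : ℝ) ^ 2 ≤ (Nat.card (inertia N lam) : ℝ) := by
    rw [← hsumT]
    calc (p : ℝ) * (e : ℝ) ^ 2 = ∑ t ∈ (Finset.univ.filter fun t : inertia N lam => (t : G) ∈ N), ‖ψ t‖ ^ 2 := by
          rw [Finset.sum_congr rfl (g := fun _ => (e : ℝ) ^ 2)
            (fun t ht => by rw [hnorm t (Finset.mem_filter.mp ht).2])]
          simp [hfilter]
      _ ≤ _ := Finset.sum_le_sum_of_subset_of_nonneg (Finset.subset_univ _) (fun _ _ _ => by positivity)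
  have he1 : e = 1 := by
    rw [hT] at hle
    have h1 : p * e ^ 2 ≤ p * e := by exact_mod_cast hle
    have h2 : e ^ 2 ≤ e := Nat.le_of_mul_le_mul_left h1 hp.pos
    nlinarith
  have hTN : inertia N lam = N := by
    symm
    apply Subgroup.eq_of_le_of_card_ge hNT
    rw [hT, he1, hNcard, mul_one]
  intro x hx
  rw [← hTN, mem_inertia]
  funext n
  simp only [conjFun_apply]
  congr 1
  ext
  simp only
  have : (n : G) * x = x * n := (Subgroup.mem_centralizer_iff.mp hx) n n.2
  rw [mul_assoc, this, inv_mul_cancel_left]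

theorem mem_conj_smul_iff {K : Type*} [Group K] (H : Subgroup K) (g x : K) :
    x ∈ MulAut.conj g • H ↔ g⁻¹ * x * g ∈ H := by
  rw [Subgroup.mem_pointwise_smul_iff_inv_smul_mem, MulAut.smul_def, ← map_inv, MulAut.conj_apply,
    inv_inv]

/-- Let G be a finite group with a faithful irreducible complex character χ whose codegree #G / χ(1) is a prime p (for a faithful character the kernel is trivial, so the codegree is #G / χ(1)). Then either G is cyclic of order p, or G is a Frobenius group whose Frobenius kernel has order p: some proper non-trivial subgroup H satisfies H ∩ gHg⁻¹ = 1 for every element g outside H, and the set of elements lying in no conjugate of H, together with the identity, has exactly p elements. -/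
theorem result {G : Type*} [Group G] [Finite G] (χ : Cfsg.IrrCharacter G) (hfaith : ∀ g : G, (χ : G → ℂ) g = (χ : G → ℂ) 1 → g = 1) (p : ℕ) (hp : p.Prime) (hcod : Nat.card G = p * Cfsg.charDegree (χ : G → ℂ)) : (IsCyclic G ∧ Nat.card G = p) ∨ ∃ H : Subgroup G, Cfsg.IsFrobeniusComplement H ∧ Nat.card ↥(Cfsg.frobeniusKernel H) = p := by
  classical
  letI : Fintype G := Fintype.ofFinite G
  obtain ⟨N, hNn, hNcard, hC⟩ := exists_normal_of_card_eq χ.2 hp hcod
  have hdlt := charDegree_lt_of_card_eq χ.2 hp hcod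
  have hd0 : 0 < charDegree (χ : G → ℂ) := charDegree_pos χ.2
  haveI : Fact p.Prime := ⟨hp⟩
  by_cases hd : charDegree (χ : G → ℂ) = 1
  · left
    rw [hd, mul_one] at hcod
    exact ⟨isCyclic_of_prime_card hcod, hcod⟩
  right
  set d := charDegree (χ : G → ℂ) with hdd
  have hindex : N.index = d := by
    have h1 := Subgroup.card_mul_index N
    rw [hNcard, hcod] at h1
    exact Nat.eq_of_mul_eq_mul_left hp.pos h1
  have hcop : (Nat.card N).Coprime N.index := by
    rw [hNcard, hindex]
    exact (Nat.Prime.coprime_iff_not_dvd hp).mpr fun h => absurd (Nat.le_of_dvd hd0 h) (by omega)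
  obtain ⟨H, hH⟩ := Subgroup.exists_right_complement'_of_coprime hcop
  have hHcard : Nat.card H = d := by
    have h1 := hH.card_mul_card
    rw [hNcard, hcod] at h1
    exact Nat.eq_of_mul_eq_mul_left hp.pos h1
  have hNH : ∀ x, x ∈ N → x ∈ H → x = 1 := by
    intro x hx hx'
    have h1 : x ∈ N ⊓ H := ⟨hx, hx'⟩
    rw [hH.disjoint.eq_bot] at h1
    exact h1
  -- commutation with a generator
  have hgen : ∀ n ∈ N, n ≠ 1 → ∀ y : G, y * n = n * y → y ∈ N := by
    intro n hn hn1 y hy
    apply hC
    rw [Subgroup.mem_centralizer_iff]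
    intro z hz
    have h1 : Subgroup.zpowers (⟨n, hn⟩ : N) = ⊤ := by
      haveI : Fact p.Prime := ⟨hp⟩
      exact zpowers_eq_top_of_prime_card hNcard (by
        intro h
        exact hn1 (congrArg Subtype.val h))
    have h2 : (⟨z, hz⟩ : N) ∈ Subgroup.zpowers (⟨n, hn⟩ : N) := by rw [h1]; trivial
    obtain ⟨k, hk⟩ := Subgroup.mem_zpowers_iff.mp h2
    have h3 : z = n ^ k := by
      have := congrArg Subtype.val hk
      simpa using this.symm
    rw [h3]
    have h4 : Commute y n := hy
    exact (h4.zpow_right k).eq.symm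
  have hdecomp : ∀ g : G, ∃ n ∈ N, ∃ k ∈ H, g = n * k := by
    intro g
    obtain ⟨x, hx⟩ := hH.existsUnique g |>.exists
    exact ⟨x.1, x.1.2, x.2, x.2.2, hx.symm⟩
  refine ⟨H, ⟨?_, ?_, ?_⟩, ?_⟩
  · intro h
    rw [h] at hHcard
    simp at hHcard
    omega
  · intro h
    rw [h, Subgroup.card_top, hcod] at hHcard
    have := hp.two_le
    nlinarith
  · intro g hg
    rw [eq_bot_iff]
    rintro y ⟨hy1, hy2⟩
    rw [Subgroup.mem_bot]
    change y ∈ H at hy1
    change y ∈ MulAut.conj g • H at hy2
    rw [mem_conj_smul_iff] at hy2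
    obtain ⟨n, hn, k, hk, rfl⟩ := hdecomp g
    have hn1 : n ≠ 1 := by
      rintro rfl
      apply hg
      simpa using hk
    -- `h' = n⁻¹ y n ∈ H`
    have hh' : n⁻¹ * y * n ∈ H := by
      have h1 : k * ((n * k)⁻¹ * y * (n * k)) * k⁻¹ ∈ H :=
        H.mul_mem (H.mul_mem hk hy2) (H.inv_mem hk)
      have h2 : k * ((n * k)⁻¹ * y * (n * k)) * k⁻¹ = n⁻¹ * y * n := by group
      rwa [h2] at h1
    -- `y⁻¹ (n y n⁻¹)`
    have hmem : (n⁻¹ * y * n) * y⁻¹ ∈ N := by
      have h1 : n⁻¹ ∈ N := N.inv_mem hn
      have h2 : y * n * y⁻¹ ∈ N := hNn.conj_mem n hn y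
      have h3 : (n⁻¹ * y * n) * y⁻¹ = n⁻¹ * (y * n * y⁻¹) := by group
      rw [h3]
      exact N.mul_mem h1 h2
    have hmem' : (n⁻¹ * y * n) * y⁻¹ ∈ H := H.mul_mem hh' (H.inv_mem hy1)
    have h1 := hNH _ hmem hmem'
    have h2 : n⁻¹ * y * n = y := by
      rwa [mul_inv_eq_one] at h1
    have h3 : y * n = n * y := by
      rw [← h2]
      simp only [mul_assoc, mul_inv_cancel_left]
      simp only [← mul_assoc, mul_inv_cancel, one_mul] 
      rw [h2]
    exact hNH y (hgen n hn hn1 y h3) hy1
  · have hker : Cfsg.frobeniusKernel H = (N : Set G) := by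
      ext x
      simp only [Cfsg.frobeniusKernel, Set.mem_ofPred_eq, SetLike.mem_coe]
      constructor
      · rintro (rfl | h)
        · exact N.one_mem
        by_contra hxN
        obtain ⟨n, hn, k, hk, rfl⟩ := hdecomp x
        have hk1 : k ≠ 1 := by
          rintro rfl
          apply hxN
          simpa using hn
        let φ : N → N := fun m => ⟨m * (k * (m : G)⁻¹ * k⁻¹),
          N.mul_mem m.2 (hNn.conj_mem _ (N.inv_mem m.2) k)⟩
        have hinj : Function.Injective φ := by
          intro m m' hm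
          have h1 : (m : G) * (k * (m : G)⁻¹ * k⁻¹) = m' * (k * (m' : G)⁻¹ * k⁻¹) :=
            congrArg Subtype.val hm
          have h2 : (m : G) * k * (m : G)⁻¹ = m' * k * (m' : G)⁻¹ := by
            have h3 := congrArg (fun z => z * k) h1
            simpa [mul_assoc] using h3
          by_contra hne
          have h4 : (m' : G)⁻¹ * m ≠ 1 := by
            intro h5
            apply hne
            apply Subtype.ext
            have := inv_mul_eq_one.mp h5
            exact this.symm
          have h5 : k * ((m' : G)⁻¹ * m) = ((m' : G)⁻¹ * m) * k := by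
            have h6 : (m : G) * k = m' * k * (m' : G)⁻¹ * m := by
              rw [← h2]; group
            calc k * ((m' : G)⁻¹ * m) = (m' : G)⁻¹ * (m' * k * (m' : G)⁻¹ * m) := by group
              _ = (m' : G)⁻¹ * (m * k) := by rw [h6]
              _ = _ := by group
          have h7 := hgen _ (N.mul_mem (N.inv_mem m'.2) m.2) h4 k h5
          exact hk1 (hNH k h7 hk)
        obtain ⟨m, hm⟩ := (Finite.injective_iff_surjective.mp hinj) ⟨n, hn⟩
        have hm' : (m : G) * (k * (m : G)⁻¹ * k⁻¹) = n := congrArg Subtype.val hm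
        apply h m
        rw [mem_conj_smul_iff, ← hm']
        have : (m : G)⁻¹ * ((m : G) * (k * (m : G)⁻¹ * k⁻¹) * k) * m = k := by group
        rw [this]
        exact hk
      · intro hx
        by_cases hx1 : x = 1
        · exact Or.inl hx1
        right
        intro g hg
        rw [mem_conj_smul_iff] at hg
        apply hx1
        have h1 : g⁻¹ * x * g ∈ N := by
          have := hNn.conj_mem x hx g⁻¹
          simpa using this
        have h2 := hNH _ h1 hg
        have h3 : x = g * (g⁻¹ * x * g) * g⁻¹ := by group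
        rw [h3, h2]
        simp
    rw [hker]
    exact hNcard

end Cfsg.Agent.S4796
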