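import Cfsg.Statements.S4797
import Cfsg.Agent.Lib.Char.Codegree
import Cfsg.Agent.S4796

set_option autoImplicit false
open Cfsg

namespace Cfsg.Agent.S4797

open Cfsg.Agent.Lib.Char

/-- A group acts on a cyclic normal subgroup through an abelian group. -/
theorem commutator_le_centralizer_of_isCyclic {K : Type*} [Group K] (N : Subgroup K) [hN : N.Normal]
    [hcyc : IsCyclic N] [Finite N] : commutator K ≤ Subgroup.centralizer (N : Set K) := by
  rw [commutator_def, Subgroup.commutator_le]
  intro a _ b _ n hn
  -- the conjugation actions commute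
  have h0 : Nat.card N ≠ 0 := Nat.card_pos.ne'
  have hcomm : ∀ f g : MulAut N, f * g = g * f := by
    intro f g
    apply (IsCyclic.mulAutMulEquiv N).injective
    rw [map_mul, map_mul, mul_comm]
  have h1 : MulAut.conjNormal a * MulAut.conjNormal b = MulAut.conjNormal b * MulAut.conjNormal a :=
    hcomm _ _
  have h2 : MulAut.conjNormal (a * b * a⁻¹ * b⁻¹) = (1 : MulAut N) := by
    rw [map_mul, map_mul, map_mul, map_inv, map_inv, h1]
    group
  have h3 := congrArg (fun f : MulAut N => ((f ⟨n, hn⟩ : N) : K)) h2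
  simp only [MulAut.conjNormal_apply, MulAut.one_apply] at h3
  rw [mul_inv_eq_iff_eq_mul] at h3
  exact h3.symm

/-- A nontrivial linear character yields a linear character with kernel of prime index. -/
theorem exists_hom_prime_index {K : Type*} [Group K] [Finite K] (hne : commutator K ≠ ⊤) :
    ∃ (μ : K →* ℂˣ), (Nat.card μ.range).Prime := by
  classical
  have h1 : Nat.card (K →* ℂˣ) = (commutator K).index := by
    rw [← card_linear_eq_index_commutator (G := K), Nat.card_congr (linearCharEquiv K)]
  have h2 : (commutator K).index ≠ 1 := by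
    rwa [Ne, Subgroup.index_eq_one]
  have hfin : Finite (K →* ℂˣ) := by
    apply Nat.finite_of_card_ne_zero
    rw [h1]
    exact Subgroup.index_ne_zero_of_finite
  have h3 : Nontrivial (K →* ℂˣ) := by
    apply Finite.one_lt_card_iff_nontrivial.mp
    have h4 : (commutator K).index ≠ 0 := Subgroup.index_ne_zero_of_finite
    rw [h1]
    omega
  obtain ⟨lam, hlam⟩ := exists_ne (1 : K →* ℂˣ)
  set m := Nat.card lam.range with hm
  haveI : Finite lam.range := Finite.of_surjective _ lam.rangeRestrict_surjective
  have hm1 : m ≠ 1 := by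
    intro h
    apply hlam
    ext x
    have h5 := (Subgroup.card_eq_one (H := lam.range)).mp h
    have h6 : lam x ∈ lam.range := ⟨x, rfl⟩
    rw [h5, Subgroup.mem_bot] at h6
    simp [h6]
  obtain ⟨c, hc⟩ := IsCyclic.exists_generator (α := lam.range)
  have hc1 : orderOf c = m := orderOf_eq_card_of_forall_mem_zpowers hc
  obtain ⟨x₀, hx₀⟩ := c.2
  have hx₁ : orderOf (lam x₀) = m := by
    rw [hx₀, ← hc1]
    exact Subgroup.orderOf_coe c
  obtain ⟨p, hp, hpm⟩ := Nat.exists_prime_and_dvd hm1
  obtain ⟨q, hq⟩ := hpm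
  have hm0 : 0 < m := Nat.card_pos
  have hq0 : 0 < q := by
    rcases q.eq_zero_or_pos with rfl | h
    · simp at hq; omega
    · exact h
  let μ : K →* ℂˣ := lam ^ q
  have hμ : ∀ x, μ x = lam x ^ q := fun x => rfl
  have hμne : μ x₀ ≠ 1 := by
    rw [hμ]
    apply pow_ne_one_of_lt_orderOf hq0.ne'
    rw [hx₁, hq]
    nlinarith [hp.two_le]
  have hμp : ∀ x, μ x ^ p = 1 := by
    intro x
    rw [hμ, ← pow_mul, mul_comm, ← hq]
    have h7 : (⟨lam x, x, rfl⟩ : lam.range) ^ m = 1 := pow_card_eq_one'
    have := congrArg Subtype.val h7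
    simpa using this
  haveI : Finite μ.range := Finite.of_surjective _ μ.rangeRestrict_surjective
  refine ⟨μ, ?_⟩
  obtain ⟨d, hd⟩ := IsCyclic.exists_generator (α := μ.range)
  have hd1 : orderOf d = Nat.card μ.range := orderOf_eq_card_of_forall_mem_zpowers hd
  have hd2 : d ^ p = 1 := by
    obtain ⟨y, hy⟩ := d.2
    apply Subtype.ext
    simp only [SubgroupClass.coe_pow, OneMemClass.coe_one]
    rw [← hy]
    exact hμp y
  have hd3 : orderOf d ∣ p := orderOf_dvd_of_pow_eq_one hd2
  rcases (Nat.dvd_prime hp).mp hd3 with h | h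
  · exfalso
    have h5 := (Subgroup.card_eq_one (H := μ.range)).mp (by rw [← hd1]; exact h)
    have h6 : μ x₀ ∈ μ.range := ⟨x₀, rfl⟩
    rw [h5, Subgroup.mem_bot] at h6
    exact hμne h6
  · rw [← hd1, h]
    exact hp

/-- The codegree of an irreducible complex character χ of a finite group G is [G : ker χ] / χ(1), where ker χ is the set of elements at which χ takes the value χ(1). A non-trivial finite group is perfect if and only if no irreducible complex character of it has prime codegree. -/
theorem result {G : Type*} [Group G] [Finite G] [Nontrivial G] : commutator G = ⊤ ↔ ∀ χ : Cfsg.IrrCharacter G, ¬ ((Nat.card G / (Nat.card {g : G // (χ : G → ℂ) g = (χ : G → ℂ) 1} * Cfsg.charDegree (χ : G → ℂ)))).Prime := by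
  classical
  letI : Fintype G := Fintype.ofFinite G
  constructor
  · intro hperf χ hprime
    have hχc := IsIrrCharacter.isCharacter χ.2
    set p := Nat.card G / (Nat.card {g : G // (χ : G → ℂ) g = (χ : G → ℂ) 1} * charDegree (χ : G → ℂ)) with hp
    have h1 : p * charDegree (χ : G → ℂ) = (charKer (χ : G → ℂ)).index := codegree_mul_charDegree χ.2
    haveI hKn := charKer_normal hχc
    letI : Fintype (charKer (χ : G → ℂ)) := Fintype.ofFinite _
    letI : Fintype (G ⧸ charKer (χ : G → ℂ)) := Fintype.ofFinite _
    obtain ⟨β, hβ, hχβ⟩ := exists_deflate (charKer (χ : G → ℂ)) χ.2 le_rfl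
    have hdeg : charDegree (χ : G → ℂ) = charDegree β := by
      have h2 : (χ : G → ℂ) 1 = β 1 := congrFun hχβ 1
      simp only [charDegree, h2]
    have hcard : Nat.card (G ⧸ charKer (χ : G → ℂ)) = p * charDegree β := by
      rw [← hdeg, h1]
      rfl
    obtain ⟨N, hNn, hNcard, hC⟩ := Cfsg.Agent.S4796.exists_normal_of_card_eq hβ hprime hcard
    haveI := hNn
    haveI hcyc : IsCyclic N := by
      haveI : Fact p.Prime := ⟨hprime⟩
      exact isCyclic_of_prime_card hNcard
    have h2 := commutator_le_centralizer_of_isCyclic N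
    have h3 : commutator (G ⧸ charKer (χ : G → ℂ)) = ⊤ := by
      rw [eq_top_iff]
      intro x _
      obtain ⟨g, rfl⟩ := QuotientGroup.mk_surjective x
      have h4 : g ∈ commutator G := hperf ▸ Subgroup.mem_top g
      have h5 : (QuotientGroup.mk' (charKer (χ : G → ℂ))) g ∈
          (commutator G).map (QuotientGroup.mk' (charKer (χ : G → ℂ))) := ⟨g, h4, rfl⟩
      have h6 := map_commutator_eq (f := QuotientGroup.mk' (charKer (χ : G → ℂ)))
      rw [h6] at h5
      have h7 : ⁅(QuotientGroup.mk' (charKer (χ : G → ℂ))).range, (QuotientGroup.mk' (charKer (χ : G → ℂ))).range⁆ ≤ commutator (G ⧸ charKer (χ : G → ℂ)) :=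
        Subgroup.commutator_mono le_top le_top
      exact h7 h5
    have h4 : N = ⊤ := by
      rw [eq_top_iff, ← h3]
      exact h2.trans hC
    have h5 : Nat.card (G ⧸ charKer (χ : G → ℂ)) = p := by
      rw [← hNcard, h4, Subgroup.card_top]
    haveI hcyc' : IsCyclic (G ⧸ charKer (χ : G → ℂ)) := by
      haveI : Fact p.Prime := ⟨hprime⟩
      exact isCyclic_of_prime_card h5
    have h6 : commutator (G ⧸ charKer (χ : G → ℂ)) = ⊥ := by
      letI := IsCyclic.commGroup (α := G ⧸ charKer (χ : G → ℂ))
      rw [commutator_def]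
      exact Subgroup.commutator_eq_bot_iff_le_centralizer.mpr (by
        intro a _
        rw [Subgroup.mem_centralizer_iff]
        intro b _
        exact mul_comm _ _)
    rw [h6] at h3
    have h7 : Nat.card (G ⧸ charKer (χ : G → ℂ)) = 1 := by
      have : Subsingleton (G ⧸ charKer (χ : G → ℂ)) := by
        constructor
        intro a b
        have h8 : a ∈ (⊤ : Subgroup _) := Subgroup.mem_top a
        have h9 : b ∈ (⊤ : Subgroup _) := Subgroup.mem_top b
        rw [← h3, Subgroup.mem_bot] at h8 h9
        rw [h8, h9]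
      exact Nat.card_unique
    rw [h5] at h7
    exact hprime.one_lt.ne' h7
  · intro hno
    by_contra hne
    obtain ⟨μ, hμ⟩ := exists_hom_prime_index hne
    let χ : IrrCharacter G := ⟨fun g => (μ g : ℂ), isIrrCharacter_of_monoidHom μ⟩
    apply hno χ
    have h1 : charDegree (χ : G → ℂ) = 1 := charDegree_eq (by simp [χ])
    have h2 : Nat.card {g : G // (χ : G → ℂ) g = (χ : G → ℂ) 1} = Nat.card μ.ker := by
      apply Nat.card_congr
      refine Equiv.subtypeEquivRight fun g => ?_
      simp only [χ, map_one, Units.val_one, MonoidHom.mem_ker]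
      rw [Units.val_eq_one]
    rw [h1, mul_one, h2, ← Subgroup.card_mul_index μ.ker,
      Nat.mul_div_cancel_left _ (Nat.card_pos)]
    rw [Subgroup.index_ker]
    exact hμ

end Cfsg.Agent.S4797
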