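import Cfsg.Statements.S4757
import Cfsg.Agent.S4797
import Cfsg.Agent.Lib.Basic.Core

set_option autoImplicit false
open Cfsg

namespace Cfsg.Agent.S4757

open Cfsg.Agent.Lib.Char Cfsg.Agent.Lib.Basic
open scoped ComplexConjugate

theorem sum_nat_ne_neg_one {ι : Type*} (s : Finset ι) (f : ι → ℂ) (h : ∀ i ∈ s, ∃ n : ℕ, f i = n) :
    ∑ i ∈ s, f i ≠ -1 := by
  intro h1
  have h2 : ∃ n : ℕ, ∑ i ∈ s, f i = n := by
    choose! n hn using h
    exact ⟨∑ i ∈ s, n i, by rw [Finset.sum_congr rfl hn]; push_cast; rfl⟩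
  obtain ⟨n, hn⟩ := h2
  rw [hn] at h1
  have h3 := congrArg Complex.re h1
  simp at h3
  have : (0 : ℝ) ≤ n := Nat.cast_nonneg n
  linarith

/-- A fixed-point-free involutive automorphism forces odd order. -/
theorem odd_card_of_fpf {H : Type*} [Group H] [Finite H] (f : H → H) (hf : ∀ x, f (f x) = x)
    (hfix : ∀ x, f x = x → x = 1) (h1 : f 1 = 1) : (Nat.card H).Coprime 2 := by
  classical
  letI : Fintype H := Fintype.ofFinite H
  haveI : Fact (Nat.Prime 2) := ⟨Nat.prime_two⟩
  let F : Function.End H := f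
  have hF : F ^ 2 ^ 1 = 1 := by
    funext x
    show f (f x) = x
    exact hf x
  have h2 := Equiv.Perm.card_fixedPoints_modEq (f := F) hF
  have h3 : Fintype.card (Function.fixedPoints F) = 1 := by
    rw [Fintype.card_eq_one_iff]
    refine ⟨⟨1, h1⟩, ?_⟩
    rintro ⟨x, hx⟩
    exact Subtype.ext (hfix x hx)
  rw [h3] at h2
  rw [Nat.card_eq_fintype_card]
  have h4 : Fintype.card H % 2 = 1 := h2
  exact ((Nat.Prime.coprime_iff_not_dvd Nat.prime_two).mpr (by omega)).symm

/-- Let u ≠ 1 be an element of the finite group G and c a complex number such that every non-principal irreducible character χ satisfies χ(1) − χ(u) = c or χ(u) = 0. Then the following are equivalent: (a) u has order 2, G is generated by u together with O(G), the largest normal subgroup of G of odd order, and the centralizer of u is {1, u}; (b) G is not perfect; (c) c = 2. -/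
theorem result {G : Type*} [Group G] [Finite G] (u : G) (hu : u ≠ 1) (c : ℂ) (hyp : ∀ χ : Cfsg.IrrCharacter G, (χ : G → ℂ) ≠ (fun _ => (1 : ℂ)) → ((χ : G → ℂ) 1 - (χ : G → ℂ) u = c ∨ (χ : G → ℂ) u = 0)) : ((orderOf u = 2 ∧ Subgroup.zpowers u ⊔ Cfsg.oddCore G = ⊤ ∧ Subgroup.centralizer ({u} : Set G) = Subgroup.zpowers u) ↔ commutator G ≠ ⊤) ∧ (commutator G ≠ ⊤ ↔ c = 2) := by
  classical
  letI : Fintype G := Fintype.ofFinite G
  let one : IrrCharacter G := ⟨fun _ => 1, isIrrCharacter_one⟩
  have hone1 : (one : G → ℂ) u = 1 := rfl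
  have hsum : ∑ χ : IrrCharacter G, (χ : G → ℂ) 1 * (χ : G → ℂ) u = 0 := by
    rw [sum_irr_degree_mul_apply, if_neg hu]
  have hsum' : ∑ χ ∈ Finset.univ.erase one, (χ : G → ℂ) 1 * (χ : G → ℂ) u = -1 := by
    rw [← Finset.add_sum_erase _ _ (Finset.mem_univ one)] at hsum
    have h2 : (one : G → ℂ) 1 * (one : G → ℂ) u = 1 := by simp [one]
    rw [h2] at hsum
    linear_combination hsum
  have hd : ∀ χ : IrrCharacter G, (χ : G → ℂ) 1 = (charDegree (χ : G → ℂ) : ℂ) := fun χ =>
    apply_one_eq_charDegree (IsIrrCharacter.isCharacter χ.2)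
  have hneone : ∀ χ ∈ Finset.univ.erase one, (χ : G → ℂ) ≠ fun _ => (1 : ℂ) := by
    intro χ hχ h
    exact (Finset.mem_erase.mp hχ).1 (Subtype.ext h)
  -- linear characters
  have hlin : ∀ μ : G →* ℂˣ, μ ≠ 1 → ((μ u : ℂˣ) : ℂ) = 1 - c := by
    intro μ hμ
    let χ : IrrCharacter G := ⟨fun g => (μ g : ℂ), isIrrCharacter_of_monoidHom μ⟩
    have hne : (χ : G → ℂ) ≠ fun _ => (1 : ℂ) := by
      intro h
      apply hμ
      ext g
      simpa [χ] using congrFun h g
    rcases hyp χ hne with h | h
    · have h1 : (χ : G → ℂ) 1 = 1 := by simp [χ]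
      rw [h1] at h
      have h2 : (χ : G → ℂ) u = ((μ u : ℂˣ) : ℂ) := rfl
      rw [h2] at h
      linear_combination -h
    · exact absurd h (Units.ne_zero _)
  have hc0 : c ≠ 0 := by
    rintro rfl
    apply sum_nat_ne_neg_one _ _ _ hsum'
    intro χ hχ
    rcases hyp χ (hneone χ hχ) with h | h
    · refine ⟨charDegree (χ : G → ℂ) ^ 2, ?_⟩
      have h1 : (χ : G → ℂ) u = (χ : G → ℂ) 1 := by linear_combination -h
      rw [h1, hd]
      push_cast
      ring
    · exact ⟨0, by simp [h]⟩
  have hexlin : commutator G ≠ ⊤ → ∃ μ : G →* ℂˣ, μ ≠ 1 := by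
    intro h
    obtain ⟨μ, hμ⟩ := Cfsg.Agent.S4797.exists_hom_prime_index h
    refine ⟨μ, ?_⟩
    rintro rfl
    have : Nat.card (1 : G →* ℂˣ).range = 1 := by
      rw [MonoidHom.range_one]
      simp
    rw [this] at hμ
    exact Nat.not_prime_one hμ
  -- the element `μ u = -1`
  have hminus : ∀ μ : G →* ℂˣ, μ ≠ 1 → μ * μ = 1 ∧ ((μ u : ℂˣ) : ℂ) = -1 := by
    intro μ hμ
    have h1 := hlin μ hμ
    have hμ2 : μ * μ = 1 := by
      by_contra hne
      have h2 := hlin _ hne
      have h3 : (((μ * μ) u : ℂˣ) : ℂ) = (1 - c) * (1 - c) := by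
        simp only [MonoidHom.mul_apply, Units.val_mul, h1]
      rw [h2] at h3
      have h4 : (1 - c) * c = 0 := by linear_combination h3
      rcases mul_eq_zero.mp h4 with h5 | h5
      · rw [h5] at h1
        exact Units.ne_zero _ h1
      · exact hc0 h5
    refine ⟨hμ2, ?_⟩
    have h3 : (μ u) * (μ u) = 1 := by
      have := congrArg (fun f : G →* ℂˣ => f u) hμ2
      simpa using this
    have h4 : ((μ u : ℂˣ) : ℂ) * ((μ u : ℂˣ) : ℂ) = 1 := by
      have := congrArg (fun z : ℂˣ => (z : ℂ)) h3
      simpa using this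
    have h5 : ((μ u : ℂˣ) : ℂ) ≠ 1 := by
      rw [h1]
      intro h
      apply hc0
      linear_combination -h
    have h6 : (((μ u : ℂˣ) : ℂ) - 1) * (((μ u : ℂˣ) : ℂ) + 1) = 0 := by linear_combination h4
    rcases mul_eq_zero.mp h6 with h7 | h7
    · exact absurd (sub_eq_zero.mp h7) h5
    · linear_combination h7
  have hbc : commutator G ≠ ⊤ → c = 2 := by
    intro h
    obtain ⟨μ, hμ⟩ := hexlin h
    have h1 := hlin μ hμ
    rw [(hminus μ hμ).2] at h1
    linear_combination h1
  have hcb : c = 2 → commutator G ≠ ⊤ := by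
    intro hc hperf
    apply sum_nat_ne_neg_one _ _ _ hsum'
    intro χ hχ
    have hne := hneone χ hχ
    have hpos := charDegree_pos χ.2
    have hd2 : 2 ≤ charDegree (χ : G → ℂ) := by
      by_contra hlt
      have h1 : charDegree (χ : G → ℂ) = 1 := by omega
      have h2 : (χ : G → ℂ) 1 = 1 := by rw [hd, h1]; simp
      obtain ⟨μ, hμ⟩ := IsCharacter.exists_monoidHom (IsIrrCharacter.isCharacter χ.2) h2
      apply hne
      funext g
      rw [hμ]
      have h3 : g ∈ commutator G := hperf ▸ Subgroup.mem_top g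
      have h4 : commutator G ≤ μ.ker := by
        rw [commutator_def, Subgroup.commutator_le]
        intro a _ b _
        rw [MonoidHom.mem_ker]
        simp [commutatorElement_def, mul_comm]
      have h5 := h4 h3
      rw [MonoidHom.mem_ker] at h5
      simp [h5]
    rcases hyp χ hne with h | h
    · refine ⟨charDegree (χ : G → ℂ) * (charDegree (χ : G → ℂ) - 2), ?_⟩
      have h1 : (χ : G → ℂ) u = (charDegree (χ : G → ℂ) : ℂ) - 2 := by
        rw [hd] at h
        linear_combination -h - hc
      rw [h1, hd]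
      push_cast [Nat.cast_sub hd2]
      ring
    · exact ⟨0, by simp [h]⟩
  have hab : (orderOf u = 2 ∧ Subgroup.zpowers u ⊔ Cfsg.oddCore G = ⊤ ∧
      Subgroup.centralizer ({u} : Set G) = Subgroup.zpowers u) → commutator G ≠ ⊤ := by
    rintro ⟨ho, hsup, -⟩ hperf
    haveI hON : (Cfsg.oddCore G).Normal := by
      haveI := pPrimeCore_characteristic (G := G) 2
      exact Subgroup.normal_of_characteristic _
    have hcop : (Nat.card (Cfsg.oddCore G)).Coprime 2 := pPrimeCore_coprime 2
    -- `G / O(G)` is cyclic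
    have hgen : Subgroup.zpowers (u : G ⧸ Cfsg.oddCore G) = ⊤ := by
      have h1 := congrArg (Subgroup.map (QuotientGroup.mk' (Cfsg.oddCore G))) hsup
      rw [Subgroup.map_sup, MonoidHom.map_zpowers, Subgroup.map_top_of_surjective _ (QuotientGroup.mk'_surjective _)] at h1
      have h2 : (Cfsg.oddCore G).map (QuotientGroup.mk' (Cfsg.oddCore G)) = ⊥ := by
        rw [eq_bot_iff]
        rintro _ ⟨x, hx, rfl⟩
        simpa using hx
      rw [h2, sup_bot_eq] at h1
      exact h1
    haveI hcyc : IsCyclic (G ⧸ Cfsg.oddCore G) := isCyclic_iff_exists_zpowers_eq_top.mpr ⟨_, hgen⟩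
    have hcomm : IsMulCommutative (G ⧸ Cfsg.oddCore G) := by
      letI := IsCyclic.commGroup (α := G ⧸ Cfsg.oddCore G)
      exact ⟨⟨fun a b => mul_comm a b⟩⟩
    have hle := Subgroup.Normal.quotient_commutative_iff_commutator_le.mp hcomm
    rw [hperf] at hle
    have hu' : u ∈ Cfsg.oddCore G := hle (Subgroup.mem_top u)
    have h3 : orderOf (⟨u, hu'⟩ : Cfsg.oddCore G) = 2 := by
      rw [Subgroup.orderOf_mk, ho]
    have h4 : 2 ∣ Nat.card (Cfsg.oddCore G) := h3 ▸ orderOf_dvd_natCard _
    have h5 := Nat.Coprime.eq_one_of_dvd hcop.symm h4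
    omega
  have hba : commutator G ≠ ⊤ → (orderOf u = 2 ∧ Subgroup.zpowers u ⊔ Cfsg.oddCore G = ⊤ ∧
      Subgroup.centralizer ({u} : Set G) = Subgroup.zpowers u) := by
    intro hne
    have hc := hbc hne
    obtain ⟨lam, hlam⟩ := hexlin hne
    obtain ⟨hlam2, hlamu⟩ := hminus lam hlam
    let L : IrrCharacter G := ⟨fun g => (lam g : ℂ), isIrrCharacter_of_monoidHom lam⟩
    have hLu : (L : G → ℂ) u = -1 := hlamu
    have hL1 : (L : G → ℂ) 1 = 1 := by simp [L]
    have hLone : L ≠ one := by
      intro h
      have : (L : G → ℂ) u = (one : G → ℂ) u := by rw [h]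
      rw [hLu, hone1] at this
      norm_num at this
    -- no other linear character
    have hlin2 : ∀ χ : IrrCharacter G, χ ≠ one → χ ≠ L → 2 ≤ charDegree (χ : G → ℂ) := by
      intro χ h1 h2
      have hpos := charDegree_pos χ.2
      by_contra hlt
      have h3 : charDegree (χ : G → ℂ) = 1 := by omega
      have h4 : (χ : G → ℂ) 1 = 1 := by rw [hd, h3]; simp
      obtain ⟨μ, hμ⟩ := IsCharacter.exists_monoidHom (IsIrrCharacter.isCharacter χ.2) h4
      have hμ1 : μ ≠ 1 := by
        rintro rfl
        apply h1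
        apply Subtype.ext
        rw [hμ]
        funext g
        simp [one]
      have hμL : μ * lam ≠ 1 := by
        intro h5
        apply h2
        apply Subtype.ext
        rw [hμ]
        funext g
        have h6 : μ = lam := by
          have h7 : μ * lam = lam * lam := by rw [h5, hlam2]
          exact mul_right_cancel h7
        simp [h6, L]
      have h5 := (hminus _ hμL).2
      have h6 := (hminus _ hμ1).2
      simp only [MonoidHom.mul_apply, Units.val_mul, h6, hlamu] at h5
      norm_num at h5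
    -- the sum over the remaining characters
    have hrest : ∑ χ ∈ (Finset.univ.erase one).erase L, (χ : G → ℂ) 1 * (χ : G → ℂ) u = 0 := by
      have hmem : L ∈ Finset.univ.erase one := Finset.mem_erase.mpr ⟨hLone, Finset.mem_univ _⟩
      rw [← Finset.add_sum_erase _ _ hmem, hL1, hLu] at hsum'
      linear_combination hsum'
    have hterm : ∀ χ ∈ (Finset.univ.erase one).erase L,
        ∃ n : ℕ, (χ : G → ℂ) 1 * (χ : G → ℂ) u = n ∧ (n = 0 → (χ : G → ℂ) u = 0) := by
      intro χ hχ
      have h1 := (Finset.mem_erase.mp hχ).1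
      have h2 := (Finset.mem_erase.mp (Finset.mem_erase.mp hχ).2).1
      have hd2 := hlin2 χ h2 h1
      have hne' : (χ : G → ℂ) ≠ fun _ => (1 : ℂ) := fun h => h2 (Subtype.ext h)
      rcases hyp χ hne' with h | h
      · refine ⟨charDegree (χ : G → ℂ) * (charDegree (χ : G → ℂ) - 2), ?_, ?_⟩
        · have h3 : (χ : G → ℂ) u = (charDegree (χ : G → ℂ) : ℂ) - 2 := by
            rw [hd] at h
            linear_combination -h - hc
          rw [h3, hd]
          push_cast [Nat.cast_sub hd2]
          ring
        · intro h4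
          have h3 : (χ : G → ℂ) u = (charDegree (χ : G → ℂ) : ℂ) - 2 := by
            rw [hd] at h
            linear_combination -h - hc
          rcases Nat.mul_eq_zero.mp h4 with h5 | h5
          · omega
          · have h6 : charDegree (χ : G → ℂ) = 2 := by omega
            rw [h3, h6]
            norm_num
      · exact ⟨0, by simp [h], fun _ => h⟩
    choose! n hn hn0 using hterm
    have hzero : ∀ χ : IrrCharacter G, χ ≠ one → χ ≠ L → (χ : G → ℂ) u = 0 := by
      intro χ h1 h2
      have hmem : χ ∈ (Finset.univ.erase one).erase L :=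
        Finset.mem_erase.mpr ⟨h2, Finset.mem_erase.mpr ⟨h1, Finset.mem_univ _⟩⟩
      rw [Finset.sum_congr rfl hn] at hrest
      have h3 : ∑ χ ∈ (Finset.univ.erase one).erase L, n χ = 0 := by exact_mod_cast hrest
      exact hn0 χ hmem (Finset.sum_eq_zero_iff.mp h3 χ hmem)
    -- the order of the centralizer
    have hC : Nat.card (Subgroup.centralizer ({u} : Set G)) = 2 := by
      have h1 := sum_irr_mul_conj_of_isConj (IsConj.refl u)
      rw [← Finset.add_sum_erase _ _ (Finset.mem_univ one),
        ← Finset.add_sum_erase _ _ (Finset.mem_erase.mpr ⟨hLone, Finset.mem_univ L⟩)] at h1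
      rw [Finset.sum_eq_zero] at h1
      · rw [hone1, hLu] at h1
        have h2 : (((Nat.card (Subgroup.centralizer ({u} : Set G)) : ℕ) : ℂ)) = ((2 : ℕ) : ℂ) := by
          rw [← h1]
          simp
          norm_num
        exact_mod_cast h2
      · intro χ hχ
        have h2 := (Finset.mem_erase.mp hχ).1
        have h3 := (Finset.mem_erase.mp (Finset.mem_erase.mp hχ).2).1
        rw [hzero χ h3 h2, zero_mul]
    have hzle : Subgroup.zpowers u ≤ Subgroup.centralizer ({u} : Set G) := by
      rw [Subgroup.zpowers_le, Subgroup.mem_centralizer_iff]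
      rintro x rfl
      rfl
    have hodvd : orderOf u ∣ 2 := by
      rw [← hC, ← Nat.card_zpowers]
      exact Subgroup.card_dvd_of_le hzle
    have ho : orderOf u = 2 := by
      rcases (Nat.dvd_prime Nat.prime_two).mp hodvd with h | h
      · exact absurd (orderOf_eq_one_iff.mp h) hu
      · exact h
    have hCeq : Subgroup.centralizer ({u} : Set G) = Subgroup.zpowers u := by
      symm
      apply Subgroup.eq_of_le_of_card_ge hzle
      rw [hC, Nat.card_zpowers, ho]
    refine ⟨ho, ?_, hCeq⟩
    -- the kernel of `lam`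
    have hu2 : u * u = 1 := by
      have := pow_orderOf_eq_one u
      rw [ho, pow_two] at this
      exact this
    have huinv : u⁻¹ = u := inv_eq_of_mul_eq_one_right hu2
    let H : Subgroup G := lam.ker
    haveI hHn : H.Normal := MonoidHom.normal_ker lam
    have huH : u ∉ H := by
      intro h
      have h1 : lam u = 1 := h
      rw [h1] at hlamu
      norm_num at hlamu
    have hz : ∀ y ∈ Subgroup.zpowers u, y = 1 ∨ y = u := by
      rintro y ⟨k, rfl⟩
      have hu2' : u ^ 2 = 1 := by rw [pow_two, hu2]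
      rcases Int.even_or_odd' k with ⟨m, rfl | rfl⟩
      · left
        change u ^ (2 * m) = 1
        rw [zpow_mul, zpow_ofNat, hu2', _root_.one_zpow]
      · right
        change u ^ (2 * m + 1) = u
        rw [zpow_add_one, zpow_mul, zpow_ofNat, hu2', _root_.one_zpow, one_mul]
    have hHodd : (Nat.card H).Coprime 2 := by
      apply odd_card_of_fpf (fun x : H => (⟨u * x * u⁻¹, hHn.conj_mem x x.2 u⟩ : H))
      · intro x
        apply Subtype.ext
        simp only [huinv]
        rw [show u * (u * (x : G) * u) * u = (u * u) * x * (u * u) by group, hu2]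
        simp
      · intro x hx
        have h1 : u * (x : G) * u⁻¹ = x := congrArg Subtype.val hx
        have h2 : (x : G) ∈ Subgroup.centralizer ({u} : Set G) := by
          rw [Subgroup.mem_centralizer_iff]
          rintro y rfl
          rw [mul_inv_eq_iff_eq_mul] at h1
          exact h1
        rw [hCeq] at h2
        have h3 : (x : G) = 1 := by
          rcases hz _ h2 with h4 | h4
          · exact h4
          · exact absurd (h4 ▸ x.2) huH
        exact Subtype.ext h3
      · apply Subtype.ext
        simp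
    have hHle : H ≤ Cfsg.oddCore G := le_pPrimeCore hHn hHodd
    rw [eq_top_iff]
    intro g _
    have h1 : (lam g) * (lam g) = 1 := by
      have := congrArg (fun f : G →* ℂˣ => f g) hlam2
      simpa using this
    have h2 : lam g = 1 ∨ lam g = lam u := by
      have h3 : ((lam g : ℂˣ) : ℂ) * ((lam g : ℂˣ) : ℂ) = 1 := by
        have := congrArg (fun z : ℂˣ => (z : ℂ)) h1
        simpa using this
      have h4 : (((lam g : ℂˣ) : ℂ) - 1) * (((lam g : ℂˣ) : ℂ) + 1) = 0 := by linear_combination h3
      rcases mul_eq_zero.mp h4 with h5 | h5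
      · left
        exact Units.ext (by simpa using sub_eq_zero.mp h5)
      · right
        apply Units.ext
        rw [hlamu]
        linear_combination h5
    rcases h2 with h | h
    · exact Subgroup.mem_sup_right (hHle h)
    · have h3 : u⁻¹ * g ∈ H := by
        show lam (u⁻¹ * g) = 1
        rw [map_mul, map_inv, h, inv_mul_cancel]
      have h4 : g = u * (u⁻¹ * g) := by group
      rw [h4]
      exact Subgroup.mul_mem_sup (Subgroup.mem_zpowers u) (hHle h3)
  exact ⟨⟨hab, hba⟩, ⟨hbc, hcb⟩⟩


end Cfsg.Agent.S4757
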