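import Cfsg.Statements.S4866
import Cfsg.Agent.Lib.H8Group.Thompson
import Cfsg.Agent.Lib.Char.BrauerPerm
import Mathlib.GroupTheory.GroupAction.Quotient

set_option autoImplicit false
open Cfsg

namespace Cfsg.Agent.S4866

open Cfsg.Agent.Lib.Char Cfsg.Agent.Lib.H8Group
open scoped ComplexConjugate

/-- The twisted Burnside count for a normal subgroup of odd index acting trivially. -/
theorem twisted_count {G Y : Type*} [Group G] [Fintype G] [MulAction G Y] [Finite Y] (K : Subgroup G)
    [hKn : K.Normal] (hodd : Odd K.index) (hK : ∀ k ∈ K, ∀ y : Y, k • y = y) (ι : Y → Y)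
    (hι : ∀ y, ι (ι y) = y) (hc : ∀ (g : G) (y : Y), ι (g • y) = g • ι y) :
    ∑ g : G, Nat.card {y : Y // ι (g • y) = y} =
      Nat.card (Quot (fun a b : {y : Y // ι y = y} => ∃ g : G, g • a.1 = b.1)) * Nat.card G := by
  classical
  haveI : Fintype Y := Fintype.ofFinite _
  let S := {y : Y // ι y = y}
  letI : MulAction G S :=
    { smul := fun g a => ⟨g • a.1, by rw [hc, a.2]⟩
      one_smul := fun a => Subtype.ext (one_smul G a.1)
      mul_smul := fun g h a => Subtype.ext (mul_smul g h a.1) }
  have hsmul : ∀ (g : G) (a : S), ((g • a : S) : Y) = g • (a : Y) := fun _ _ => rfl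
  have hburn := MulAction.sum_card_fixedBy_eq_card_orbits_mul_card_group (G := G) (X := S)
  have hquot : Nat.card (Quot (fun a b : {y : Y // ι y = y} => ∃ g : G, g • a.1 = b.1)) =
      Fintype.card (MulAction.orbitRel.Quotient G S) := by
    rw [← Nat.card_eq_fintype_card]
    refine Nat.card_congr (Quot.congr (Equiv.refl _) (fun a b => ?_))
    show (∃ g : G, g • a.1 = b.1) ↔ a ∈ MulAction.orbit G b
    constructor
    · rintro ⟨g, hg⟩
      refine ⟨g⁻¹, Subtype.ext ?_⟩
      show g⁻¹ • b.1 = a.1
      rw [← hg, inv_smul_smul]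
    · rintro ⟨g, hg⟩
      refine ⟨g⁻¹, ?_⟩
      have h1 : g • b.1 = a.1 := congrArg Subtype.val hg
      rw [← h1, inv_smul_smul]
  rw [hquot, Nat.card_eq_fintype_card (α := G), ← hburn]
  refine Finset.sum_congr rfl fun g _ => ?_
  rw [Nat.card_eq_fintype_card, Fintype.card_subtype]
  rw [← Fintype.card_subtype]
  apply Fintype.card_congr
  have hkey : ∀ y : Y, ι (g • y) = y → ι y = y ∧ g • y = y := by
    intro y hy
    have h1 : g • ι y = y := by rw [← hc]; exact hy
    have h2 : g • y = ι y := by
      have h3 := congrArg ι h1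
      rwa [hc, hι] at h3
    have h4 : g ^ 2 • y = y := by
      rw [sq, mul_smul, h2, h1]
    have h5 : g • y = y := by
      obtain ⟨m, hm⟩ := hodd
      have h6 : g ^ K.index ∈ K := by
        have h7 : (g : G ⧸ K) ^ K.index = 1 := by
          rw [Subgroup.index_eq_card]
          exact pow_card_eq_one'
        rw [← QuotientGroup.mk_pow, QuotientGroup.eq_one_iff] at h7
        exact h7
      have h8 := hK _ h6 y
      rw [hm, pow_succ, pow_mul, mul_smul] at h8
      have h9 : ∀ n : ℕ, (g ^ 2) ^ n • y = y := by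
        intro n
        induction n with
        | zero => simp
        | succ n ih => rw [pow_succ, mul_smul, h4, ih]
      have h10 : (g ^ 2) ^ m • (g • y) = g • ((g ^ 2) ^ m • y) := by
        rw [← mul_smul, ← mul_smul]
        congr 1
        exact ((Commute.refl g).pow_left 2 |>.pow_left m)
      rw [h10, h9] at h8
      exact h8
    refine ⟨?_, h5⟩
    rw [← h2, h5]
  refine
    { toFun := fun y => ⟨⟨y.1, (hkey y.1 y.2).1⟩, ?_⟩
      invFun := fun a => ⟨a.1.1, ?_⟩
      left_inv := fun y => rfl
      right_inv := fun a => rfl }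
  · rw [MulAction.mem_fixedBy]
    exact Subtype.ext (hkey y.1 y.2).2
  · have h1 : g • a.1 = a.1 := a.2
    have h2 : g • a.1.1 = a.1.1 := congrArg Subtype.val h1
    rw [h2]
    exact a.1.2

section

variable {H : Type*} [Group H] [Fintype H]

/-- The complex conjugate of an irreducible character. -/
noncomputable def conjIrr (χ : IrrCharacter H) : IrrCharacter H :=
  ⟨fun g => conj (χ.1 g), IsIrrCharacter.conj χ.2⟩

@[simp] theorem conjIrr_apply (χ : IrrCharacter H) (g : H) :
    ((conjIrr χ : IrrCharacter H) : H → ℂ) g = conj ((χ : H → ℂ) g) := rfl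

theorem conjIrr_conjIrr (χ : IrrCharacter H) : conjIrr (conjIrr χ) = χ := by
  apply Subtype.ext
  funext g
  simp [conjIrr]

theorem conjIrr_eq_iff (χ : IrrCharacter H) : conjIrr χ = χ ↔ ∀ g, ((χ : H → ℂ) g).im = 0 := by
  constructor
  · intro h g
    have h2 : conj (χ.1 g) = χ.1 g := congrArg (fun ψ : IrrCharacter H => ψ.1 g) h
    rwa [Complex.conj_eq_iff_im] at h2
  · intro h
    apply Subtype.ext
    funext g
    show conj (χ.1 g) = χ.1 g
    rw [Complex.conj_eq_iff_im]
    exact h g

end

section

variable {G : Type*} [Group G] (K : Subgroup G) [hK : K.Normal]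

/-- Conjugation on the classes of a normal subgroup. -/
def classAct (g : G) : ConjClasses K → ConjClasses K :=
  ConjClasses.map (MulAut.conjNormal g : K ≃* K).toMonoidHom

@[simp] theorem classAct_mk (g : G) (k : K) :
    classAct K g (ConjClasses.mk k) = ConjClasses.mk (MulAut.conjNormal g k) := rfl

/-- The action on the classes of a normal subgroup. -/
@[instance_reducible] def classAction : MulAction G (ConjClasses K) where
  smul g c := classAct K g c
  one_smul c := by
    obtain ⟨k, rfl⟩ := ConjClasses.mk_surjective c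
    show classAct K 1 (ConjClasses.mk k) = _
    rw [classAct_mk]
    congr 1
    apply Subtype.ext
    simp
  mul_smul a b c := by
    obtain ⟨k, rfl⟩ := ConjClasses.mk_surjective c
    show classAct K (a * b) (ConjClasses.mk k) = classAct K a (classAct K b (ConjClasses.mk k))
    rw [classAct_mk, classAct_mk, classAct_mk]
    congr 1
    apply Subtype.ext
    simp [mul_assoc]

/-- Inversion on classes. -/
def classInv : ConjClasses K → ConjClasses K :=
  Quotient.map (fun k : K => k⁻¹) (by
    intro a b h
    obtain ⟨c, hc⟩ := isConj_iff.mp h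
    refine isConj_iff.mpr ⟨c, ?_⟩
    rw [← hc]
    group)

@[simp] theorem classInv_mk (k : K) : classInv K (ConjClasses.mk k) = ConjClasses.mk k⁻¹ := rfl

end

/-- Let K be a normal subgroup of odd index in the finite group G. Then G has as many orbits on the real-valued irreducible complex characters of K (acting by conjugation) as it has orbits on the conjugacy classes of K that are real in K; equivalently, the number of G-orbits of real-valued irreducible characters of K equals the number of G-conjugacy classes of elements of K that are conjugate in K to their inverses. -/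
theorem result {G : Type*} [Group G] [Finite G] (K : Subgroup G) [K.Normal] (hodd : Odd K.index) : Nat.card (Quot (fun θ η : {θ : Cfsg.IrrCharacter ↥K // (∀ k : ↥K, ((θ : ↥K → ℂ) k).im = 0)} => ∃ g : G, ∀ k k' : ↥K, (k' : G) = g * (k : G) * g⁻¹ → (η.1 : ↥K → ℂ) k' = (θ.1 : ↥K → ℂ) k)) = Nat.card (Quot (fun x y : {x : ↥K // IsConj x x⁻¹} => ∃ g : G, (y.1 : G) = g * x.1 * g⁻¹)) := by
  classical
  cases nonempty_fintype G
  haveI : Fintype K := Fintype.ofFinite _
  letI := irrConjAction K
  letI := classAction K
  have hsmulI : ∀ (g : G) (θ : IrrCharacter K), ((g • θ : IrrCharacter K) : K → ℂ) = conjFun K g (θ : K → ℂ) :=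
    fun _ _ => rfl
  have hsmulC : ∀ (g : G) (k : K), g • (ConjClasses.mk k) = ConjClasses.mk (MulAut.conjNormal g k) :=
    fun _ _ => rfl
  have hinv2 : ∀ c : ConjClasses K, classInv K (classInv K c) = c := by
    intro c
    obtain ⟨k, rfl⟩ := ConjClasses.mk_surjective c
    rw [classInv_mk, classInv_mk, inv_inv]
  have h1 := twisted_count (Y := IrrCharacter K) K hodd
    (fun k hk θ => Subtype.ext (conjFun_of_mem K θ.2 hk)) conjIrr conjIrr_conjIrr
    (fun g θ => Subtype.ext (by
      funext n
      rfl))
  have h2 := twisted_count (Y := ConjClasses K) K hodd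
    (fun k hk c => by
      obtain ⟨x, rfl⟩ := ConjClasses.mk_surjective c
      rw [hsmulC, ConjClasses.mk_eq_mk_iff_isConj]
      refine isConj_iff.mpr ⟨⟨k, hk⟩⁻¹, Subtype.ext ?_⟩
      simp only [Subgroup.coe_mul, InvMemClass.coe_inv, MulAut.conjNormal_apply]
      group)
    (classInv K) hinv2
    (fun g c => by
      obtain ⟨x, rfl⟩ := ConjClasses.mk_surjective c
      rw [hsmulC, classInv_mk, classInv_mk, hsmulC, map_inv])
  have hterm : ∀ g : G, Nat.card {θ : IrrCharacter K // conjIrr (g • θ) = θ} =
      Nat.card {c : ConjClasses K // classInv K (g • c) = c} := by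
    intro g
    let π₁ : Equiv.Perm (IrrCharacter K) :=
      (MulAction.toPerm g).trans ⟨conjIrr, conjIrr, conjIrr_conjIrr, conjIrr_conjIrr⟩
    let π₂ : Equiv.Perm (ConjClasses K) :=
      (MulAction.toPerm g).trans ⟨classInv K, classInv K, hinv2, hinv2⟩
    refine card_fixed_irr_eq_card_fixed_class π₁ π₂ ?_
    intro χ x x' hx
    have h3 : ConjClasses.mk x' = ConjClasses.mk (MulAut.conjNormal g x)⁻¹ := hx
    rw [ConjClasses.mk_eq_mk_iff_isConj] at h3
    have hχc := IsIrrCharacter.isCharacter χ.2
    have hgc := isCharacter_conjFun K g hχc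
    show conj (conjFun K g (χ : K → ℂ) x') = (χ : K → ℂ) x
    rw [IsClassFunction.congr_isConj (IsCharacter.isClassFunction hgc) h3, conjFun_apply]
    have h4 : ∀ (h : g⁻¹ * (((MulAut.conjNormal g x)⁻¹ : K) : G) * g ∈ K), (⟨_, h⟩ : K) = x⁻¹ := by
      intro h
      apply Subtype.ext
      show g⁻¹ * (g * (x : G) * g⁻¹)⁻¹ * g = (x : G)⁻¹
      group
    rw [h4, IsCharacter.apply_inv hχc]
    simp
  have hG : 0 < Nat.card G := Nat.card_pos
  have hmain : Nat.card (Quot (fun a b : {θ : IrrCharacter K // conjIrr θ = θ} => ∃ g : G, g • a.1 = b.1)) =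
      Nat.card (Quot (fun a b : {c : ConjClasses K // classInv K c = c} => ∃ g : G, g • a.1 = b.1)) := by
    apply Nat.eq_of_mul_eq_mul_right hG
    rw [← h1, ← h2]
    exact Finset.sum_congr rfl fun g _ => hterm g
  -- the left-hand side
  have hE1 : Nat.card (Quot (fun θ η : {θ : IrrCharacter K // (∀ k : K, ((θ : K → ℂ) k).im = 0)} =>
      ∃ g : G, ∀ k k' : K, (k' : G) = g * (k : G) * g⁻¹ → (η.1 : K → ℂ) k' = (θ.1 : K → ℂ) k)) =
      Nat.card (Quot (fun a b : {θ : IrrCharacter K // conjIrr θ = θ} => ∃ g : G, g • a.1 = b.1)) := by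
    refine Nat.card_congr (Quot.congr (Equiv.subtypeEquivRight (fun θ => (conjIrr_eq_iff θ).symm)) ?_)
    intro a b
    show (∃ g : G, ∀ k k' : K, (k' : G) = g * (k : G) * g⁻¹ → (b.1 : K → ℂ) k' = (a.1 : K → ℂ) k) ↔
      ∃ g : G, g • a.1 = b.1
    constructor
    · rintro ⟨g, hg⟩
      refine ⟨g, Subtype.ext ?_⟩
      exact ((eq_conjFun_iff K).mpr hg).symm
    · rintro ⟨g, hg⟩
      refine ⟨g, (eq_conjFun_iff K).mp ?_⟩
      rw [← hg]
      rfl
  -- the right-hand side
  have hE2 : Nat.card (Quot (fun x y : {x : K // IsConj x x⁻¹} => ∃ g : G, (y.1 : G) = g * x.1 * g⁻¹)) =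
      Nat.card (Quot (fun a b : {c : ConjClasses K // classInv K c = c} => ∃ g : G, g • a.1 = b.1)) := by
    have hrep : ∀ c : {c : ConjClasses K // classInv K c = c}, IsConj (Quotient.out c.1) (Quotient.out c.1)⁻¹ := by
      intro c
      have h3 : ConjClasses.mk (Quotient.out c.1) = c.1 := Quotient.out_eq c.1
      have h4 := c.2
      rw [← h3, classInv_mk] at h4
      exact (ConjClasses.mk_eq_mk_iff_isConj.mp h4).symm
    refine Nat.card_congr
      { toFun := Quot.map (fun x => (⟨ConjClasses.mk x.1, by
            rw [classInv_mk]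
            exact (ConjClasses.mk_eq_mk_iff_isConj.mpr x.2).symm⟩ :
            {c : ConjClasses K // classInv K c = c})) ?_
        invFun := Quot.lift (fun c => Quot.mk _ ⟨Quotient.out c.1, hrep c⟩) ?_
        left_inv := ?_
        right_inv := ?_ }
    · rintro x y ⟨g, hg⟩
      refine ⟨g, ?_⟩
      show g • ConjClasses.mk x.1 = ConjClasses.mk y.1
      rw [hsmulC]
      congr 1
      apply Subtype.ext
      simp [hg]
    · rintro a b ⟨g, hg⟩
      apply Quot.sound
      have h3 : ConjClasses.mk (Quotient.out a.1) = a.1 := Quotient.out_eq a.1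
      have h4 : ConjClasses.mk (Quotient.out b.1) = b.1 := Quotient.out_eq b.1
      rw [← h3, ← h4, hsmulC, ConjClasses.mk_eq_mk_iff_isConj] at hg
      obtain ⟨k, hk⟩ := isConj_iff.mp hg
      refine ⟨k * g, ?_⟩
      have h5 := congrArg Subtype.val hk
      simp only [Subgroup.coe_mul, InvMemClass.coe_inv, MulAut.conjNormal_apply] at h5
      show ((Quotient.out b.1 : K) : G) = _
      rw [← h5]
      group
    · intro q
      induction q using Quot.ind with
      | mk x =>
        apply Quot.sound
        have h3 : ConjClasses.mk (Quotient.out (ConjClasses.mk x.1)) = ConjClasses.mk x.1 :=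
          Quotient.out_eq (ConjClasses.mk x.1)
        rw [ConjClasses.mk_eq_mk_iff_isConj] at h3
        obtain ⟨k, hk⟩ := isConj_iff.mp h3
        refine ⟨k, ?_⟩
        have h5 := congrArg Subtype.val hk
        simp only [Subgroup.coe_mul, InvMemClass.coe_inv] at h5
        exact h5.symm
    · intro q
      induction q using Quot.ind with
      | mk a =>
        show Quot.mk _ _ = Quot.mk _ a
        congr 1
        exact Subtype.ext (Quotient.out_eq a.1)
  rw [hE1, hE2, hmain]

end Cfsg.Agent.S4866
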