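import Cfsg.Statements.S4763
import Cfsg.Agent.S4866
import Cfsg.Agent.Lib.H8Group.GlaubCount
import Cfsg.Agent.Lib.H8Group.Thompson
import Cfsg.Agent.Lib.Char.Gallagher
import Cfsg.Agent.Lib.Char.CliffordBij
import Cfsg.Agent.Lib.Char.ItoP
import Cfsg.Agent.Lib.Char.Linear
import Cfsg.Agent.Lib.Char.Ito
import Cfsg.Agent.Lib.Known.Conj
import Cfsg.Agent.Lib.PGroups.Parts

set_option autoImplicit false
open Cfsg

namespace Cfsg.Agent.S4763

open Cfsg.Agent.Lib.Char Cfsg.Agent.Lib.H8Group
open scoped ComplexConjugate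

universe u

section Basic

variable {T : Type u} [Group T] [Fintype T]

/-- A nontrivial group has a non-principal irreducible character. -/
theorem exists_irr_ne_one [Nontrivial T] :
    ∃ β : T → ℂ, IsIrrCharacter T β ∧ classInner β (fun _ => (1 : ℂ)) = 0 := by
  classical
  have h1 : 1 < Nat.card (ConjClasses T) := by
    obtain ⟨x, hx⟩ := exists_ne (1 : T)
    haveI : Nontrivial (ConjClasses T) := ⟨⟨ConjClasses.mk x, ConjClasses.mk 1, by
      rw [Ne, ConjClasses.mk_eq_mk_iff_isConj, isConj_comm, isConj_one_right]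
      exact hx⟩⟩
    exact Finite.one_lt_card
  rw [← card_irr_eq_card_conjClasses (G := T)] at h1
  haveI : Nontrivial (IrrCharacter T) := by
    rwa [Finite.one_lt_card_iff_nontrivial] at h1
  obtain ⟨β, hβ⟩ := exists_ne (⟨_, isIrrCharacter_one⟩ : IrrCharacter T)
  refine ⟨β, β.2, ?_⟩
  refine classInner_irr_of_ne β.2 isIrrCharacter_one ?_
  intro h
  exact hβ (Subtype.ext h)

variable (N' : Subgroup T) [N'.Normal] [Fintype N']

/-- An invariant character of a normal `p`-complement extends. -/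
theorem exists_ext {p : ℕ} [Fact p.Prime] (hq : IsPGroup p (T ⧸ N'))
    (hcop : (Nat.card N').Coprime p) {θ : N' → ℂ} (hθ : IsIrrCharacter N' θ)
    (hinv : ∀ g, conjFun N' g θ = θ) :
    ∃ ψ : T → ℂ, IsIrrCharacter T ψ ∧ (∀ n : N', ψ n = θ n) := by
  have hd : θ 1 = charDegree θ := apply_one_eq_charDegree (IsIrrCharacter.isCharacter hθ)
  have hdp : ¬ p ∣ charDegree θ := by
    intro h
    have h2 : charDegree θ ∣ Nat.card N' := charDegree_dvd_card hθ
    have h3 := (Nat.Prime.dvd_iff_not_coprime (Fact.out : p.Prime)).mp (h.trans h2)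
    exact h3 hcop.symm
  obtain ⟨χ, hχ, hres, -⟩ := exists_canonical_ext N' p hq (m := Nat.card N') hcop
    (fun lam x => by rw [← map_pow, pow_card_eq_one', map_one]) hθ hinv hd hdp
  exact ⟨χ, hχ, hres⟩

end Basic

section Main

variable {G : Type u} [Group G] [Fintype G] (N : Subgroup G) [hNn : N.Normal] [Fintype N]
  {p : ℕ} [hp : Fact p.Prime]

theorem not_dvd_deg (hN : (Nat.card N).Coprime p) {θ : N → ℂ} (hθ : IsIrrCharacter N θ) :
    ¬ p ∣ charDegree θ := by
  intro h
  have h2 : charDegree θ ∣ Nat.card N := charDegree_dvd_card hθ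
  have h3 := (Nat.Prime.dvd_iff_not_coprime (Fact.out : p.Prime)).mp (h.trans h2)
  exact h3 hN.symm

theorem dvd_index_of_ne_top (hq : ∃ k, N.index = p ^ k) {T : Subgroup G} (hNT : N ≤ T) (hT : T ≠ ⊤) :
    p ∣ T.index := by
  obtain ⟨k, hk⟩ := hq
  have h1 : T.index ∣ N.index := Subgroup.index_dvd_of_le hNT
  rw [hk] at h1
  obtain ⟨j, -, hj⟩ := (Nat.dvd_prime_pow (Fact.out : p.Prime)).mp h1
  have hj0 : j ≠ 0 := by
    rintro rfl
    rw [pow_zero] at hj
    exact hT (Subgroup.index_eq_one.mp hj)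
  rw [hj]
  exact dvd_pow_self p hj0

/-- The `p`-group hypothesis passes to subgroups. -/
theorem isPGroup_quot (hq : IsPGroup p (G ⧸ N)) (T : Subgroup G) :
    IsPGroup p (T ⧸ N.subgroupOf T) := by
  intro x
  induction x using QuotientGroup.induction_on with
  | H t =>
  obtain ⟨k, hk⟩ := hq ((t : G) : G ⧸ N)
  refine ⟨k, ?_⟩
  rw [← QuotientGroup.mk_pow, QuotientGroup.eq_one_iff]
  rw [← QuotientGroup.mk_pow, QuotientGroup.eq_one_iff] at hk
  rw [Subgroup.mem_subgroupOf]
  simpa using hk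

/-- Two `p`-divisible irreducibles over a non-invariant character coincide, etc. -/
theorem eq_of_over_ninv (hidx : ∃ k, N.index = p ^ k) {χ₀ : G → ℂ}
    (huniq : ∀ χ : G → ℂ, IsIrrCharacter G χ → p ∣ charDegree χ → χ = χ₀)
    {θ : N → ℂ} (hθ : IsIrrCharacter N θ) (hninv : inertia N θ ≠ ⊤)
    {χ : G → ℂ} (hχ : IsIrrCharacter G χ) (hover : classInner (resFun N χ) θ ≠ 0) : χ = χ₀ := by
  classical
  letI : Fintype (inertia N θ) := Fintype.ofFinite _
  apply huniq χ hχ
  obtain ⟨ψ, hψ, -, rfl⟩ := exists_indFun_over hθ hχ hover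
  rw [charDegree_indFun (IsIrrCharacter.isCharacter hψ)]
  exact (dvd_index_of_ne_top N hidx (le_inertia_of_irr hθ) hninv).trans (dvd_mul_right _ _)

/-- The inertia group of a non-invariant character is `N`. -/
theorem inertia_eq (hq : IsPGroup p (G ⧸ N)) (hN : (Nat.card N).Coprime p)
    (hidx : ∃ k, N.index = p ^ k) {χ₀ : G → ℂ}
    (huniq : ∀ χ : G → ℂ, IsIrrCharacter G χ → p ∣ charDegree χ → χ = χ₀)
    {θ : N → ℂ} (hθ : IsIrrCharacter N θ) (hninv : inertia N θ ≠ ⊤) : inertia N θ = N := by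
  classical
  by_contra hne
  have hle : N ≤ inertia N θ := le_inertia_of_irr hθ
  letI : Fintype (inertia N θ) := Fintype.ofFinite _
  set I := inertia N θ with hI
  let N' : Subgroup I := N.subgroupOf I
  haveI : N'.Normal := Subgroup.normal_subgroupOf
  letI : Fintype N' := Fintype.ofFinite _
  letI : Fintype (I ⧸ N') := Fintype.ofFinite _
  let e : N' ≃* N := Subgroup.subgroupOfEquivOfLe hle
  let θ' : N' → ℂ := θ ∘ e
  have hθ' : IsIrrCharacter N' θ' := isIrrCharacter_comp_mulEquiv e hθ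
  have hinv' : ∀ t : I, conjFun N' t θ' = θ' := by
    intro t
    funext n'
    have h1 : conjFun N (t : G) θ = θ := t.2
    have h2 := congrFun h1 (e n')
    simp only [conjFun_apply] at h2
    simp only [conjFun_apply, θ']
    exact (congrArg θ (Subtype.ext rfl)).trans h2
  have hcopN' : (Nat.card N').Coprime p := by
    rw [Nat.card_congr e.toEquiv]
    exact hN
  obtain ⟨ψ₀, hψ₀, hres₀⟩ := exists_ext N' (isPGroup_quot N hq I) hcopN' hθ' hinv'
  have hnontriv : Nontrivial (I ⧸ N') := by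
    obtain ⟨t, htI, htN⟩ : ∃ t ∈ I, t ∉ N := by
      by_contra h
      push Not at h
      exact hne (le_antisymm h hle)
    refine ⟨⟨((⟨t, htI⟩ : I) : I ⧸ N'), 1, ?_⟩⟩
    rw [Ne, QuotientGroup.eq_one_iff, Subgroup.mem_subgroupOf]
    exact htN
  obtain ⟨β, hβ, hβ1⟩ := exists_irr_ne_one (T := I ⧸ N')
  have hresθ : resFun N' ψ₀ = θ' := funext hres₀
  have hresθ' : IsIrrCharacter N' (resFun N' ψ₀) := by rw [hresθ]; exact hθ'
  have hψ₁ := isIrrCharacter_gallagher N' (IsIrrCharacter.isCharacter hψ₀) hresθ' hβ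
  set ψ₁ : I → ℂ := fun g => inflate N' β g * ψ₀ g with hψ₁def
  have hres0 : resTo N hle ψ₀ = θ := by
    funext n
    have h1 := hres₀ (e.symm n)
    have h2 : ((e.symm n : N') : I) = ⟨n, hle n.2⟩ := rfl
    rw [h2] at h1
    simp only [resTo]
    rw [h1]
    simp [θ']
  have hres1 : resTo N hle ψ₁ = β 1 • θ := by
    funext n
    have h1 := hres₀ (e.symm n)
    have h2 : ((e.symm n : N') : I) = ⟨n, hle n.2⟩ := rfl
    rw [h2] at h1
    have h3 : (((⟨n, hle n.2⟩ : I)) : I ⧸ N') = 1 := by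
      rw [QuotientGroup.eq_one_iff, Subgroup.mem_subgroupOf]
      exact n.2
    simp only [resTo, hψ₁def, inflate, h3, Pi.smul_apply, smul_eq_mul]
    rw [h1]
    simp [θ']
  have hθself : classInner θ θ = 1 := classInner_irr_self hθ
  have hover0 : classInner (resTo N hle ψ₀) θ ≠ 0 := by
    rw [hres0, hθself]
    exact one_ne_zero
  have hover1 : classInner (resTo N hle ψ₁) θ ≠ 0 := by
    rw [hres1, classInner_smul_left, hθself, mul_one]
    exact IsIrrCharacter.apply_one_ne_zero hβ
  have hdvd : p ∣ I.index := dvd_index_of_ne_top N hidx hle hninv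
  have h0 := huniq _ (isIrrCharacter_indFun_over hθ hψ₀ hover0) (by
    rw [charDegree_indFun (IsIrrCharacter.isCharacter hψ₀)]
    exact hdvd.trans (dvd_mul_right _ _))
  have h1 := huniq _ (isIrrCharacter_indFun_over hθ hψ₁ hover1) (by
    rw [charDegree_indFun (IsIrrCharacter.isCharacter hψ₁)]
    exact hdvd.trans (dvd_mul_right _ _))
  have h2 : ψ₁ = ψ₀ := eq_of_indFun_eq_over hθ hψ₁ hψ₀ hover1 hover0 (h1.trans h0.symm)
  have h3 := classInner_gallagher N' (IsIrrCharacter.isCharacter hψ₀) hresθ' β (fun _ => (1 : ℂ))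
  simp only [inflate, one_mul] at h3
  rw [hβ1] at h3
  have h4 : classInner ψ₁ ψ₀ = 1 := by rw [h2]; exact classInner_irr_self hψ₀
  exact one_ne_zero (h4.symm.trans h3)


/-- The quotient by `N` is abelian. -/
theorem quot_comm (hq : IsPGroup p (G ⧸ N)) (hN : (Nat.card N).Coprime p)
    (hidx : ∃ k, N.index = p ^ k) {χ₀ : G → ℂ}
    (huniq : ∀ χ : G → ℂ, IsIrrCharacter G χ → p ∣ charDegree χ → χ = χ₀)
    (hne : Nontrivial N) : ∀ a b : G ⧸ N, a * b = b * a := by
  classical
  letI : Fintype (G ⧸ N) := Fintype.ofFinite _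
  by_contra hcon
  rw [comm_iff_irr_degree_one] at hcon
  push Not at hcon
  obtain ⟨β', hβ'⟩ := hcon
  have hβ'i := β'.2
  have hβ'c := IsIrrCharacter.isCharacter hβ'i
  have hdvd : p ∣ charDegree (β' : G ⧸ N → ℂ) := by
    obtain ⟨k, hk⟩ := hidx
    have h1 : charDegree (β' : G ⧸ N → ℂ) ∣ p ^ k := by
      rw [← hk, Subgroup.index]
      exact charDegree_dvd_card hβ'i
    obtain ⟨j, -, hj⟩ := (Nat.dvd_prime_pow (Fact.out : p.Prime)).mp h1
    have hj0 : j ≠ 0 := by
      rintro rfl
      apply hβ'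
      rw [apply_one_eq_charDegree hβ'c, hj]
      simp
    rw [hj]
    exact dvd_pow_self p hj0
  have h1χ : inflate N (β' : G ⧸ N → ℂ) 1 = (β' : G ⧸ N → ℂ) 1 := by
    simp only [inflate, QuotientGroup.mk_one]
  have hχ₀ : inflate N (β' : G ⧸ N → ℂ) = χ₀ := by
    apply huniq _ (isIrrCharacter_inflate N hβ'i)
    rw [charDegree_eq (n := charDegree (β' : G ⧸ N → ℂ))]
    · exact hdvd
    · rw [h1χ, apply_one_eq_charDegree hβ'c]
  obtain ⟨θ, hθ, hθ1⟩ := exists_irr_ne_one (T := N)
  have hresχ : resFun N χ₀ = (β' : G ⧸ N → ℂ) 1 • (fun _ => (1 : ℂ)) := by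
    funext n
    rw [← hχ₀]
    simp only [resFun, inflate, Pi.smul_apply, smul_eq_mul, mul_one]
    rw [(QuotientGroup.eq_one_iff (n : G)).mpr n.2]
  have hβne := IsIrrCharacter.apply_one_ne_zero hβ'i
  by_cases hinv : inertia N θ = ⊤
  · -- the invariant case: a second `p`-divisible character
    have hinv' : ∀ g, conjFun N g θ = θ := by
      intro g
      have : g ∈ inertia N θ := by rw [hinv]; trivial
      exact this
    obtain ⟨ψ, hψ, hres⟩ := exists_ext N hq hN hθ hinv'
    have hresψ : resFun N ψ = θ := funext hres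
    have hresψ' : IsIrrCharacter N (resFun N ψ) := by rw [hresψ]; exact hθ
    have h2 := isIrrCharacter_gallagher N (IsIrrCharacter.isCharacter hψ) hresψ' hβ'i
    have h3 := huniq _ h2 (by
      have hc2 := IsIrrCharacter.isCharacter h2
      have h4 : charDegree (fun g => inflate N (β' : G ⧸ N → ℂ) g * ψ g) =
          charDegree (β' : G ⧸ N → ℂ) * charDegree ψ := by
        apply charDegree_eq
        simp only [inflate, QuotientGroup.mk_one, Nat.cast_mul]
        rw [apply_one_eq_charDegree hβ'c, apply_one_eq_charDegree (IsIrrCharacter.isCharacter hψ)]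
      rw [h4]
      exact hdvd.trans (dvd_mul_right _ _))
    have h5 := resFun_gallagher N (χ₀ := ψ) (β' : G ⧸ N → ℂ)
    rw [h3, hresχ, hresψ] at h5
    have h6 : θ = fun _ => (1 : ℂ) := by
      funext n
      have := congrFun h5 n
      simp only [Pi.smul_apply, smul_eq_mul, mul_one] at this
      exact (mul_left_cancel₀ hβne (by rw [← this, mul_one])).symm
    rw [h6, classInner_irr_self isIrrCharacter_one] at hθ1
    exact one_ne_zero hθ1
  · obtain ⟨χ, hχ, hover⟩ := exists_over N hθ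
    have h1 := eq_of_over_ninv N hidx huniq hθ hinv hχ hover
    rw [h1, hresχ, classInner_smul_left, classInner_conj_symm, hθ1] at hover
    simp at hover

/-- Constituents of `χ₀` on `N` are not invariant. -/
theorem ninv_of_under (hq : IsPGroup p (G ⧸ N)) (hN : (Nat.card N).Coprime p)
    (hcomm : ∀ a b : G ⧸ N, a * b = b * a) {χ₀ : G → ℂ} (hχ₀ : IsIrrCharacter G χ₀)
    (hdvd : p ∣ charDegree χ₀) {θ : N → ℂ} (hθ : IsIrrCharacter N θ)
    (hover : classInner (resFun N χ₀) θ ≠ 0) : inertia N θ ≠ ⊤ := by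
  classical
  letI : Fintype (G ⧸ N) := Fintype.ofFinite _
  intro hinv
  have hinv' : ∀ g, conjFun N g θ = θ := by
    intro g
    have : g ∈ inertia N θ := by rw [hinv]; trivial
    exact this
  obtain ⟨ψ, hψ, hres⟩ := exists_ext N hq hN hθ hinv'
  have hresψ : resFun N ψ = θ := funext hres
  have hresψ' : IsIrrCharacter N (resFun N ψ) := by rw [hresψ]; exact hθ
  obtain ⟨β, hβ, hβeq⟩ := exists_gallagher N (IsIrrCharacter.isCharacter hψ) hresψ' hχ₀
    (by rw [hresψ]; exact hover)
  have hβ1 : β 1 = 1 := (comm_iff_irr_degree_one.mp hcomm) ⟨β, hβ⟩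
  have hd : charDegree χ₀ = charDegree θ := by
    apply charDegree_eq
    rw [hβeq]
    simp only [inflate, QuotientGroup.mk_one, hβ1, one_mul]
    rw [← apply_one_eq_charDegree (IsIrrCharacter.isCharacter hθ), ← hresψ]
    rfl
  rw [hd] at hdvd
  exact not_dvd_deg N hN hθ hdvd

/-- The non-invariant irreducible characters of `N` number exactly `|G : N|`. -/
theorem card_ninv (hq : IsPGroup p (G ⧸ N)) (hN : (Nat.card N).Coprime p)
    (hidx : ∃ k, N.index = p ^ k) (hcomm : ∀ a b : G ⧸ N, a * b = b * a)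
    {χ₀ : G → ℂ} (hχ₀ : IsIrrCharacter G χ₀) (hdvd : p ∣ charDegree χ₀)
    (huniq : ∀ χ : G → ℂ, IsIrrCharacter G χ → p ∣ charDegree χ → χ = χ₀) :
    Nat.card {θ : IrrCharacter N // inertia N (θ : N → ℂ) ≠ ⊤} = N.index := by
  classical
  letI := irrConjAction N
  obtain ⟨θ₀, hθ₀, hover₀⟩ := exists_under hχ₀ N
  have hninv₀ := ninv_of_under N hq hN hcomm hχ₀ hdvd hθ₀ hover₀
  have hiff : ∀ θ : IrrCharacter N, inertia N (θ : N → ℂ) ≠ ⊤ ↔
      θ ∈ MulAction.orbit G (⟨θ₀, hθ₀⟩ : IrrCharacter N) := by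
    intro θ
    constructor
    · intro h
      obtain ⟨χ, hχ, hover⟩ := exists_over N θ.2
      have h1 := eq_of_over_ninv N hidx huniq θ.2 h hχ hover
      rw [h1] at hover
      obtain ⟨g, hg⟩ := clifford_constituent N hχ₀ hθ₀ θ.2 hover₀ hover
      exact ⟨g, Subtype.ext hg.symm⟩
    · rintro ⟨g, rfl⟩
      have h1 : classInner (resFun N χ₀) (conjFun N g θ₀) ≠ 0 := by
        rw [classInner_resFun_conjFun N g (IsCharacter.isClassFunction (IsIrrCharacter.isCharacter hχ₀))]
        exact hover₀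
      exact ninv_of_under N hq hN hcomm hχ₀ hdvd (isIrrCharacter_conjFun N g hθ₀) h1
  have hstab : MulAction.stabilizer G (⟨θ₀, hθ₀⟩ : IrrCharacter N) = N := by
    refine Eq.trans ?_ (inertia_eq N hq hN hidx huniq hθ₀ hninv₀)
    ext g
    rw [MulAction.mem_stabilizer_iff, mem_inertia]
    exact ⟨fun h => congrArg Subtype.val h, fun h => Subtype.ext h⟩
  have h2 : (MulAction.orbit G (⟨θ₀, hθ₀⟩ : IrrCharacter N)).ncard = N.index := by
    rw [← MulAction.index_stabilizer, hstab]
  rw [← h2, ← Nat.card_coe_set_eq]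
  exact Nat.card_congr (Equiv.subtypeEquivRight hiff)


/-- A cardinality criterion for implications. -/
theorem imp_of_card_le {α : Type*} [Finite α] {P Q : α → Prop} (h : ∀ a, P a → Q a)
    (hc : Nat.card {a // Q a} ≤ Nat.card {a // P a}) : ∀ a, Q a → P a := by
  intro a ha
  have h1 : Function.Injective (Subtype.impEmbedding P Q h) := (Subtype.impEmbedding P Q h).injective
  have h2 := h1.bijective_of_nat_card_le hc
  obtain ⟨b, hb⟩ := h2.2 ⟨a, ha⟩
  have h3 : (b : α) = a := congrArg Subtype.val hb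
  rw [← h3]
  exact b.2

/-- The number of classes fixed by a `p`-subgroup equals the number of characters fixed by it. -/
theorem card_fix_eq (hN : (Nat.card N).Coprime p) (S : Subgroup G) (hS : IsPGroup p S) :
    Nat.card {θ : IrrCharacter N // S ≤ inertia N (θ : N → ℂ)} =
      Nat.card {c : ConjClasses N // ∀ s ∈ S, S4866.classAct N s c = c} := by
  classical
  have hcop : Nat.Coprime (Nat.card N) (Nat.card S) := by
    obtain ⟨k, hk⟩ := IsPGroup.iff_card.mp hS
    rw [hk]
    exact hN.pow_right k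
  have hnorm : ∀ t ∈ S, t ∈ Subgroup.normalizer (N : Set G) := by
    intro t _
    rw [Subgroup.normalizer_eq_top_iff.mpr hNn]
    trivial
  haveI : Group.IsNilpotent S := hS.isNilpotent
  haveI : Group.IsSolvable S := inferInstance
  have h1 := card_invariant_irr S (Nat.card N) N rfl hnorm hcop
  have h2 := card_invariant_classes N S hnorm hcop (Or.inl inferInstance)
  have h3 : Nat.card {θ : IrrCharacter N // S ≤ inertia N (θ : N → ℂ)} =
      Nat.card {χ : IrrCharacter N // InvBy S (χ : N → ℂ)} := by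
    refine Nat.card_congr (Equiv.subtypeEquivRight fun θ => ?_)
    constructor
    · intro h s hs g g' hg'
      have h4 : conjFun N s (θ : N → ℂ) g' = (θ : N → ℂ) g' := by
        rw [h hs]
      rw [← h4, conjFun_apply]
      refine congrArg _ (Subtype.ext ?_)
      show s⁻¹ * (g' : G) * s = g
      rw [hg']
      group
    · intro h s hs
      rw [mem_inertia]
      funext n
      rw [conjFun_apply]
      apply h s⁻¹ (S.inv_mem hs)
      simp
  have h4 : Nat.card {c : ConjClasses N // ∀ s ∈ S, S4866.classAct N s c = c} =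
      Nat.card {K : ConjClasses N // ∀ s ∈ S, ∀ g g' : N, (g' : G) = s * g * s⁻¹ →
        ConjClasses.mk g = K → ConjClasses.mk g' = K} := by
    refine Nat.card_congr (Equiv.subtypeEquivRight fun c => ?_)
    constructor
    · intro h s hs g g' hg' hc
      have h5 := h s hs
      rw [← hc, S4866.classAct_mk] at h5
      rw [← hc, ← h5]
      congr 1
      apply Subtype.ext
      rw [hg']
      simp
    · intro h s hs
      obtain ⟨k, rfl⟩ := ConjClasses.mk_surjective c
      rw [S4866.classAct_mk]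
      exact h s hs k _ (by simp) rfl
  rw [h3, h4, h1, h2]

/-- A Sylow subgroup supplements `N`. -/
theorem sup_sylow_eq_top (hidx : ∃ k, N.index = p ^ k) (Q : Sylow p G) : N ⊔ (Q : Subgroup G) = ⊤ := by
  obtain ⟨k, hk⟩ := hidx
  have h1 : (N ⊔ (Q : Subgroup G)).index ∣ p ^ k := by
    rw [← hk]
    exact Subgroup.index_dvd_of_le le_sup_left
  have h2 : (N ⊔ (Q : Subgroup G)).index ∣ (Q : Subgroup G).index :=
    Subgroup.index_dvd_of_le le_sup_right
  have h3 : ¬ p ∣ (Q : Subgroup G).index := Q.not_dvd_index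
  have h4 : Nat.Coprime ((Q : Subgroup G).index) (p ^ k) :=
    Nat.Coprime.pow_right k ((Nat.Prime.coprime_iff_not_dvd (Fact.out : p.Prime)).mpr h3).symm
  have h5 := Nat.Coprime.eq_one_of_dvd (h4.coprime_dvd_left h2) h1
  exact Subgroup.index_eq_one.mp h5

omit [Fintype G] in
theorem classAct_of_mem {g : G} (hg : g ∈ N) (c : ConjClasses N) : S4866.classAct N g c = c := by
  obtain ⟨k, rfl⟩ := ConjClasses.mk_surjective c
  rw [S4866.classAct_mk]
  rw [ConjClasses.mk_eq_mk_iff_isConj, isConj_comm, isConj_iff]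
  refine ⟨⟨g, hg⟩, ?_⟩
  apply Subtype.ext
  simp

/-- Elements of `p`-power order in `N` are trivial. -/
theorem eq_one_of_mem_of_pow (hN : (Nat.card N).Coprime p) {u : G} (hu : u ∈ N) {k : ℕ}
    (huk : orderOf u = p ^ k) : u = 1 := by
  have h1 : orderOf u ∣ Nat.card N := Subgroup.orderOf_dvd_natCard N hu
  have h2 : Nat.Coprime (orderOf u) (Nat.card N) := by
    rw [huk]
    exact (hN.pow_right k).symm
  have h3 := Nat.Coprime.eq_one_of_dvd h2 h1
  exact orderOf_eq_one_iff.mp h3

/-- Elements of order prime to `p` lie in `N`. -/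
theorem mem_of_not_dvd_order (hq : IsPGroup p (G ⧸ N)) {b : G} (hb : ¬ p ∣ orderOf b) : b ∈ N := by
  obtain ⟨k, hk⟩ := hq ((b : G) : G ⧸ N)
  have h1 : ((b : G) : G ⧸ N) ^ orderOf b = 1 := by
    rw [← QuotientGroup.mk_pow, pow_orderOf_eq_one, QuotientGroup.mk_one]
  have h2 := pow_gcd_eq_one.mpr ⟨hk, h1⟩
  have h3 : Nat.gcd (p ^ k) (orderOf b) = 1 :=
    Nat.Coprime.pow_left k ((Nat.Prime.coprime_iff_not_dvd (Fact.out : p.Prime)).mpr hb)
  rw [h3, pow_one, QuotientGroup.eq_one_iff] at h2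
  exact h2

section Classes

variable (hq : IsPGroup p (G ⧸ N)) (hN : (Nat.card N).Coprime p)
  (hidx : ∃ k, N.index = p ^ k) {χ₀ : G → ℂ}
  (huniq : ∀ χ : G → ℂ, IsIrrCharacter G χ → p ∣ charDegree χ → χ = χ₀)

include hq hN hidx huniq in
/-- A `p`-element fixing a class of `N` is trivial or fixes it under all of `G`. -/
theorem fix_of_pelt {u : G} {k : ℕ} (hu : orderOf u = p ^ k) (hu1 : u ≠ 1) (c : ConjClasses N)
    (hc : S4866.classAct N u c = c) (g : G) : S4866.classAct N g c = c := by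
  classical
  have hS : IsPGroup p (Subgroup.zpowers u) := by
    rw [IsPGroup.iff_card, Nat.card_zpowers]
    exact ⟨k, hu⟩
  obtain ⟨Q, hQ⟩ := hS.exists_le_sylow
  have h1 := card_fix_eq N hN (Subgroup.zpowers u) hS
  have h2 := card_fix_eq N hN (Q : Subgroup G) Q.isPGroup'
  have h3 : Nat.card {θ : IrrCharacter N // Subgroup.zpowers u ≤ inertia N (θ : N → ℂ)} =
      Nat.card {θ : IrrCharacter N // (Q : Subgroup G) ≤ inertia N (θ : N → ℂ)} := by
    refine Nat.card_congr (Equiv.subtypeEquivRight fun θ => ?_)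
    constructor
    · intro h
      by_cases hinv : inertia N (θ : N → ℂ) = ⊤
      · rw [hinv]
        exact le_top
      · rw [inertia_eq N hq hN hidx huniq θ.2 hinv] at h
        exact absurd (eq_one_of_mem_of_pow N hN (h (Subgroup.mem_zpowers u)) hu) hu1
    · intro h
      exact hQ.trans h
  have h4 := imp_of_card_le (α := ConjClasses N) (P := fun c => ∀ s ∈ (Q : Subgroup G), S4866.classAct N s c = c)
    (Q := fun c => ∀ s ∈ Subgroup.zpowers u, S4866.classAct N s c = c)
    (fun c hc s hs => hc s (hQ hs)) (by rw [← h1, ← h2, h3])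
  have hfix : ∀ s ∈ Subgroup.zpowers u, S4866.classAct N s c = c := by
    letI := S4866.classAction N
    have hsub : Subgroup.zpowers u ≤ MulAction.stabilizer G c := by
      rw [Subgroup.zpowers_le]
      exact hc
    exact fun s hs => hsub hs
  have h5 := h4 c hfix
  letI := S4866.classAction N
  have hsub : N ⊔ (Q : Subgroup G) ≤ MulAction.stabilizer G c := by
    refine sup_le (fun x hx => ?_) (fun x hx => h5 x hx)
    exact classAct_of_mem N hx c
  rw [sup_sylow_eq_top N hidx Q] at hsub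
  exact hsub (Subgroup.mem_top g)

include hq hN hidx huniq in
/-- The stabilizer of a non-invariant class is `N`. -/
theorem mem_of_fix {c : ConjClasses N} (hc : ∃ h, S4866.classAct N h c ≠ c) {g : G}
    (hg : S4866.classAct N g c = c) : g ∈ N := by
  obtain ⟨a, b, hab, -, ⟨k, hk⟩, hb, ha, -⟩ := Cfsg.Agent.Lib.PGroups.exists_pPart p g
  have ha1 : a = 1 := by
    by_contra hne
    obtain ⟨h, hh⟩ := hc
    letI := S4866.classAction N
    have hsub : Subgroup.zpowers g ≤ MulAction.stabilizer G c := by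
      rw [Subgroup.zpowers_le]
      exact hg
    exact hh (fix_of_pelt N hq hN hidx huniq hk hne c (hsub ha) h)
  rw [hab, ha1, one_mul]
  exact mem_of_not_dvd_order N hq hb

end Classes


section Count

variable (hq : IsPGroup p (G ⧸ N)) (hN : (Nat.card N).Coprime p)
  (hidx : ∃ k, N.index = p ^ k) (hcomm : ∀ a b : G ⧸ N, a * b = b * a)
  {χ₀ : G → ℂ} (hχ₀ : IsIrrCharacter G χ₀) (hdvd : p ∣ charDegree χ₀)
  (huniq : ∀ χ : G → ℂ, IsIrrCharacter G χ → p ∣ charDegree χ → χ = χ₀)

theorem card_split {α : Type*} [Finite α] (P : α → Prop) :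
    Nat.card α = Nat.card {a // P a} + Nat.card {a // ¬ P a} := by
  classical
  rw [← Nat.card_sum, Nat.card_congr (Equiv.sumCompl P)]

include hq hN hidx hcomm hχ₀ hdvd huniq in
theorem card_ninv_classes :
    Nat.card {c : ConjClasses N // ∃ h, S4866.classAct N h c ≠ c} = N.index := by
  classical
  obtain ⟨Q⟩ : Nonempty (Sylow p G) := inferInstance
  have h1 := card_fix_eq N hN (Q : Subgroup G) Q.isPGroup'
  have h2 : Nat.card {θ : IrrCharacter N // (Q : Subgroup G) ≤ inertia N (θ : N → ℂ)} =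
      Nat.card {θ : IrrCharacter N // inertia N (θ : N → ℂ) = ⊤} := by
    refine Nat.card_congr (Equiv.subtypeEquivRight fun θ => ?_)
    constructor
    · intro h
      rw [eq_top_iff, ← sup_sylow_eq_top N hidx Q]
      exact sup_le (le_inertia_of_irr θ.2) h
    · intro h
      rw [h]
      exact le_top
  have h3 : Nat.card {c : ConjClasses N // ∀ s ∈ (Q : Subgroup G), S4866.classAct N s c = c} =
      Nat.card {c : ConjClasses N // ∀ h, S4866.classAct N h c = c} := by
    refine Nat.card_congr (Equiv.subtypeEquivRight fun c => ?_)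
    letI := S4866.classAction N
    constructor
    · intro h g
      have hsub : N ⊔ (Q : Subgroup G) ≤ MulAction.stabilizer G c := by
        refine sup_le (fun x hx => ?_) (fun x hx => h x hx)
        exact classAct_of_mem N hx c
      rw [sup_sylow_eq_top N hidx Q] at hsub
      exact hsub (Subgroup.mem_top g)
    · intro h s _
      exact h s
  have h4 := card_ninv N hq hN hidx hcomm hχ₀ hdvd huniq
  have h5 := card_split (α := IrrCharacter N) (fun θ => inertia N (θ : N → ℂ) = ⊤)
  have h6 := card_split (α := ConjClasses N) (fun c => ∀ h, S4866.classAct N h c = c)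
  have h7 := card_irr_eq_card_conjClasses (G := N)
  have h8 : Nat.card {c : ConjClasses N // ∃ h, S4866.classAct N h c ≠ c} =
      Nat.card {c : ConjClasses N // ¬ ∀ h, S4866.classAct N h c = c} :=
    Nat.card_congr (Equiv.subtypeEquivRight fun c => not_forall.symm)
  have h9 : Nat.card {θ : IrrCharacter N // ¬ inertia N (θ : N → ℂ) = ⊤} = N.index := h4
  rw [h8]
  omega

include hq hN hidx hcomm hχ₀ hdvd huniq in
theorem exists_orbit : ∃ c₀ : ConjClasses N, (∃ h, S4866.classAct N h c₀ ≠ c₀) ∧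
    ∀ c : ConjClasses N, (∃ h, S4866.classAct N h c ≠ c) → ∃ g, c = S4866.classAct N g c₀ := by
  classical
  have h1 := card_ninv_classes N hq hN hidx hcomm hχ₀ hdvd huniq
  have h2 : N.index ≠ 0 := Subgroup.index_ne_zero_of_finite
  have h3 : Nonempty {c : ConjClasses N // ∃ h, S4866.classAct N h c ≠ c} := by
    rw [← h1] at h2
    exact (Nat.card_ne_zero.mp h2).1
  obtain ⟨⟨c₀, hc₀⟩⟩ := h3
  refine ⟨c₀, hc₀, ?_⟩
  letI := S4866.classAction N
  have hstab : MulAction.stabilizer G c₀ = N := by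
    apply le_antisymm
    · intro g hg
      exact mem_of_fix N hq hN hidx huniq hc₀ hg
    · intro g hg
      exact classAct_of_mem N hg c₀
  have h4 : (MulAction.orbit G c₀).ncard = N.index := by
    rw [← MulAction.index_stabilizer, hstab]
  have h5 := imp_of_card_le (α := ConjClasses N) (P := fun c => c ∈ MulAction.orbit G c₀)
    (Q := fun c => ∃ h, S4866.classAct N h c ≠ c) ?_ ?_
  · intro c hc
    obtain ⟨g, hg⟩ := h5 c hc
    exact ⟨g, hg.symm⟩
  · rintro c ⟨g, rfl⟩
    obtain ⟨h, hh⟩ := hc₀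
    refine ⟨g * h * g⁻¹, fun hcon => hh ?_⟩
    have h6 : (g * h * g⁻¹) • (g • c₀) = g • c₀ := hcon
    rw [smul_smul, mul_assoc, inv_mul_cancel, mul_one, mul_smul] at h6
    exact MulAction.injective g h6
  · rw [h1]
    have h7 : Nat.card {c // c ∈ MulAction.orbit G c₀} = (MulAction.orbit G c₀).ncard :=
      Nat.card_coe_set_eq _
    rw [h7, h4]

end Count

/-- The element-wise form of the abelianness of `G / N`: `p`-subgroups are abelian. -/
theorem commute_of_pgroup (hN : (Nat.card N).Coprime p) (hcomm : ∀ a b : G ⧸ N, a * b = b * a)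
    (R : Subgroup G) (hR : IsPGroup p R) {u v : G} (hu : u ∈ R) (hv : v ∈ R) : u * v = v * u := by
  have h1 : u * v * u⁻¹ * v⁻¹ ∈ N := by
    rw [← QuotientGroup.eq_one_iff]
    have h2 := hcomm (u : G ⧸ N) (v : G ⧸ N)
    have h3 : (((u * v * u⁻¹ * v⁻¹ : G)) : G ⧸ N) = (u : G ⧸ N) * v * (u : G ⧸ N)⁻¹ * (v : G ⧸ N)⁻¹ := rfl
    rw [h3, h2]
    group
  have h2 : u * v * u⁻¹ * v⁻¹ ∈ R :=
    R.mul_mem (R.mul_mem (R.mul_mem hu hv) (R.inv_mem hu)) (R.inv_mem hv)
  obtain ⟨k, hk⟩ := (IsPGroup.iff_orderOf.mp hR) ⟨_, h2⟩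
  rw [Subgroup.orderOf_mk] at hk
  have h3 := eq_one_of_mem_of_pow N hN h1 hk
  have h4 : u * v * u⁻¹ = v := by
    rwa [mul_inv_eq_one] at h3
  rw [mul_inv_eq_iff_eq_mul] at h4
  exact h4

/-- An element whose `N`-part has an invariant class has class size prime to `p`. -/
theorem not_dvd_of_inv (hN : (Nat.card N).Coprime p) (hcomm : ∀ a b : G ⧸ N, a * b = b * a)
    {a b : G} (hb : b ∈ N) (hab : Commute a b) {k : ℕ} (ha : orderOf a = p ^ k)
    (hinv : ∀ h, S4866.classAct N h (ConjClasses.mk (⟨b, hb⟩ : N)) = ConjClasses.mk (⟨b, hb⟩ : N)) :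
    ¬ p ∣ Nat.card (ConjClasses.mk (a * b)).carrier := by
  classical
  -- the `G`-class of `b` is its `N`-class
  let f : (ConjClasses.mk (⟨b, hb⟩ : N)).carrier → (ConjClasses.mk b).carrier := fun x =>
    ⟨((x : N) : G), by
      have hx : ConjClasses.mk (x : N) = ConjClasses.mk (⟨b, hb⟩ : N) :=
        ConjClasses.mem_carrier_iff_mk_eq.mp x.2
      rw [ConjClasses.mem_carrier_iff_mk_eq]
      rw [ConjClasses.mk_eq_mk_iff_isConj] at hx ⊢
      exact MonoidHom.map_isConj N.subtype hx⟩
  have hf : Function.Bijective f := by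
    constructor
    · intro x y hxy
      apply Subtype.ext
      apply Subtype.ext
      have h0 := congrArg Subtype.val hxy
      exact h0
    · rintro ⟨z, hz⟩
      have hz' : ConjClasses.mk z = ConjClasses.mk b := ConjClasses.mem_carrier_iff_mk_eq.mp hz
      rw [ConjClasses.mk_eq_mk_iff_isConj, isConj_comm, isConj_iff] at hz'
      obtain ⟨h, rfl⟩ := hz'
      have h1 := hinv h
      rw [S4866.classAct_mk] at h1
      refine ⟨⟨MulAut.conjNormal h ⟨b, hb⟩, ConjClasses.mem_carrier_iff_mk_eq.mpr h1⟩, ?_⟩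
      apply Subtype.ext
      simp [f]
  have h1 : Nat.card (ConjClasses.mk b).carrier = Nat.card (ConjClasses.mk (⟨b, hb⟩ : N)).carrier :=
    (Nat.card_congr (Equiv.ofBijective f hf)).symm
  have h2 : Nat.card (ConjClasses.mk (⟨b, hb⟩ : N)).carrier ∣ Nat.card N :=
    ⟨_, (Cfsg.Agent.Lib.Known.card_carrier_mul_card_centralizer (⟨b, hb⟩ : N)).symm⟩
  have h3 : ¬ p ∣ Nat.card (ConjClasses.mk b).carrier := by
    rw [h1]
    intro h
    exact ((Nat.Prime.dvd_iff_not_coprime (Fact.out : p.Prime)).mp (h.trans h2)) hN.symm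
  set D := Subgroup.centralizer ({b} : Set G) with hD
  have h4 : D.index = Nat.card (ConjClasses.mk b).carrier := by
    have h5 := Cfsg.Agent.Lib.Known.card_carrier_mul_card_centralizer b
    have h6 := D.card_mul_index
    have h7 : 0 < Nat.card D := Nat.card_pos
    apply Nat.eq_of_mul_eq_mul_left h7
    rw [h6, mul_comm, h5]
  have haD : a ∈ D := by
    rw [hD, Subgroup.mem_centralizer_singleton_iff]
    exact hab
  have hS : IsPGroup p (Subgroup.zpowers (⟨a, haD⟩ : D)) := by
    rw [IsPGroup.iff_card, Nat.card_zpowers]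
    refine ⟨k, ?_⟩
    rw [Subgroup.orderOf_mk]
    exact ha
  obtain ⟨R, hR⟩ := hS.exists_le_sylow
  let R' : Subgroup G := (R : Subgroup D).map D.subtype
  have hR'p : IsPGroup p R' := IsPGroup.map R.isPGroup' D.subtype
  have haR' : a ∈ R' := by
    refine ⟨⟨a, haD⟩, hR (Subgroup.mem_zpowers _), rfl⟩
  have hR'D : R' ≤ D := by
    rintro _ ⟨x, -, rfl⟩
    exact x.2
  have hidx : R'.index = (R : Subgroup D).index * D.index := Subgroup.index_map_subtype _
  have hle : R' ≤ Subgroup.centralizer ({a * b} : Set G) := by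
    intro u hu
    rw [Subgroup.mem_centralizer_singleton_iff]
    have h5 := commute_of_pgroup N hN hcomm R' hR'p hu haR'
    have h6 : u * b = b * u := by
      have h7 := hR'D hu
      rw [hD, Subgroup.mem_centralizer_singleton_iff] at h7
      exact h7
    rw [← mul_assoc, h5, mul_assoc, h6, mul_assoc]
  intro hdvd
  have h5 : (Subgroup.centralizer ({a * b} : Set G)).index = Nat.card (ConjClasses.mk (a * b)).carrier := by
    have h5 := Cfsg.Agent.Lib.Known.card_carrier_mul_card_centralizer (a * b)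
    have h6 := (Subgroup.centralizer ({a * b} : Set G)).card_mul_index
    have h7 : 0 < Nat.card (Subgroup.centralizer ({a * b} : Set G)) := Nat.card_pos
    apply Nat.eq_of_mul_eq_mul_left h7
    rw [h6, mul_comm, h5]
  have h6 : p ∣ R'.index := by
    rw [← h5] at hdvd
    exact hdvd.trans (Subgroup.index_dvd_of_le hle)
  rw [hidx] at h6
  rcases (Fact.out : p.Prime).dvd_mul.mp h6 with h7 | h7
  · exact R.not_dvd_index h7
  · rw [h4] at h7
    exact h3 h7

end Main

/-- Let p be a prime and G a finite group that is not nilpotent and has a normal p-complement (a normal subgroup of order prime to p and index a power of p). If G has exactly one irreducible complex character of degree divisible by p, then G has exactly one conjugacy class whose size is divisible by p. -/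
theorem result {G : Type*} [Group G] [Finite G] (p : ℕ) [Fact p.Prime] (hnil : ¬ Group.IsNilpotent G) (N : Subgroup G) [N.Normal] (hN : (Nat.card N).Coprime p) (hidx : ∃ k : ℕ, N.index = p ^ k) (hone : Nat.card {χ : Cfsg.IrrCharacter G // p ∣ Cfsg.charDegree (χ : G → ℂ)} = 1) : Nat.card {C : ConjClasses G // p ∣ Nat.card C.carrier} = 1 := by
  classical
  cases nonempty_fintype G
  letI : Fintype N := Fintype.ofFinite _
  have hq : IsPGroup p (G ⧸ N) := by
    rw [IsPGroup.iff_card]
    exact hidx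
  obtain ⟨hsub, ⟨⟨χ₀, hdvd⟩⟩⟩ := Nat.card_eq_one_iff_unique.mp hone
  have hχ₀ := χ₀.2
  have huniq : ∀ χ : G → ℂ, IsIrrCharacter G χ → p ∣ charDegree χ → χ = χ₀ := by
    intro χ hχ hd
    have h1 := hsub.elim (⟨⟨χ, hχ⟩, hd⟩ : {χ : IrrCharacter G // p ∣ charDegree (χ : G → ℂ)}) ⟨χ₀, hdvd⟩
    exact congrArg (fun x => ((x.1 : IrrCharacter G) : G → ℂ)) h1
  have hne : Nontrivial N := by
    by_contra hcon
    rw [not_nontrivial_iff_subsingleton] at hcon
    have h1 : N = ⊥ := by
      rw [eq_bot_iff]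
      intro x hx
      have := hcon.elim ⟨x, hx⟩ 1
      exact congrArg Subtype.val this
    apply hnil
    subst h1
    have hG : IsPGroup p G := by
      obtain ⟨k, hk⟩ := hidx
      rw [IsPGroup.iff_card]
      refine ⟨k, ?_⟩
      rw [← hk, Subgroup.index_bot]
    exact hG.isNilpotent
  have hcomm := quot_comm N hq hN hidx huniq hne
  obtain ⟨c₀, hc₀, horb⟩ := exists_orbit N hq hN hidx hcomm hχ₀ hdvd huniq
  obtain ⟨x₀, rfl⟩ := ConjClasses.mk_surjective c₀
  have hpG : p ∣ Nat.card G := hdvd.trans (charDegree_dvd_card hχ₀)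
  have hA : p ∣ Nat.card (ConjClasses.mk (x₀ : G)).carrier := by
    have h1 := Cfsg.Agent.Lib.Known.card_carrier_mul_card_centralizer (x₀ : G)
    have h2 : Subgroup.centralizer ({(x₀ : G)} : Set G) ≤ N := by
      intro y hy
      rw [Subgroup.mem_centralizer_singleton_iff] at hy
      apply mem_of_fix N hq hN hidx huniq hc₀
      rw [S4866.classAct_mk]
      congr 1
      apply Subtype.ext
      simp [hy]
    have h3 : Nat.card (Subgroup.centralizer ({(x₀ : G)} : Set G)) ∣ Nat.card N :=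
      Subgroup.card_dvd_of_le h2
    have h4 : Nat.Coprime p (Nat.card (Subgroup.centralizer ({(x₀ : G)} : Set G))) :=
      (Nat.Coprime.coprime_dvd_left h3 hN).symm
    rw [← h1] at hpG
    exact h4.dvd_of_dvd_mul_right hpG
  have hB : ∀ g : G, p ∣ Nat.card (ConjClasses.mk g).carrier →
      ConjClasses.mk g = ConjClasses.mk (x₀ : G) := by
    intro g hg
    obtain ⟨a, b, hab, hcm, ⟨k, hk⟩, hb, ha, -⟩ := Cfsg.Agent.Lib.PGroups.exists_pPart p g
    have hbN := mem_of_not_dvd_order N hq hb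
    by_cases hinv : ∃ h, S4866.classAct N h (ConjClasses.mk (⟨b, hbN⟩ : N)) ≠ ConjClasses.mk (⟨b, hbN⟩ : N)
    · have hfix : S4866.classAct N a (ConjClasses.mk (⟨b, hbN⟩ : N)) = ConjClasses.mk (⟨b, hbN⟩ : N) := by
        rw [S4866.classAct_mk]
        congr 1
        apply Subtype.ext
        simp [hcm.eq]
      have haN := mem_of_fix N hq hN hidx huniq hinv hfix
      have ha1 := eq_one_of_mem_of_pow N hN haN hk
      obtain ⟨y, hy⟩ := horb _ hinv
      rw [S4866.classAct_mk, ConjClasses.mk_eq_mk_iff_isConj] at hy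
      have h1 := MonoidHom.map_isConj N.subtype hy
      have h2 : IsConj b (x₀ : G) := by
        refine h1.trans ?_
        rw [isConj_comm, isConj_iff]
        exact ⟨y, by simp⟩
      rw [hab, ha1, one_mul, ConjClasses.mk_eq_mk_iff_isConj]
      exact h2
    · push Not at hinv
      rw [hab] at hg
      exact absurd hg (not_dvd_of_inv N hN hcomm hbN hcm hk hinv)
  rw [Nat.card_eq_one_iff_unique]
  refine ⟨⟨?_⟩, ⟨⟨ConjClasses.mk (x₀ : G), hA⟩⟩⟩
  rintro ⟨C, hC⟩ ⟨C', hC'⟩
  obtain ⟨g, rfl⟩ := ConjClasses.mk_surjective C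
  obtain ⟨g', rfl⟩ := ConjClasses.mk_surjective C'
  apply Subtype.ext
  exact (hB g hC).trans (hB g' hC').symm

end Cfsg.Agent.S4763
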