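import Cfsg.Statements.S4811
import Cfsg.Agent.Lib.Char.RelGraph3

set_option autoImplicit false
open Cfsg

namespace Cfsg.Agent.S4811

open Cfsg.Agent.Lib.Char Cfsg.Agent.Lib.Char.RelGraph
open scoped commutatorElement

universe u

theorem degree_one_of_le {G : Type u} [Group G] [Fintype G] {χ : G → ℂ} (hχ : IsIrrCharacter G χ)
    (hv : ∀ x ∈ commutator G, χ x = χ 1) : χ 1 = 1 := by
  letI : Fintype (commutator G) := Fintype.ofFinite _
  letI : Fintype (G ⧸ commutator G) := Fintype.ofFinite _
  have hle : commutator G ≤ charKer χ := fun x hx =>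
    (mem_charKer (IsIrrCharacter.isCharacter hχ)).2 (hv x hx)
  obtain ⟨β, hβ, rfl⟩ := exists_deflate (commutator G) hχ hle
  have hcomm : ∀ a b : G ⧸ commutator G, a * b = b * a := by
    intro a b
    obtain ⟨a, rfl⟩ := QuotientGroup.mk_surjective a
    obtain ⟨b, rfl⟩ := QuotientGroup.mk_surjective b
    rw [← QuotientGroup.mk_mul, ← QuotientGroup.mk_mul, QuotientGroup.eq]
    have : (a * b)⁻¹ * (b * a) = ⁅b⁻¹, a⁻¹⁆ := by
      simp only [commutatorElement_def]
      group
    rw [this]
    exact Subgroup.commutator_mem_commutator (Subgroup.mem_top _) (Subgroup.mem_top _)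
  have h1 := (comm_iff_irr_degree_one (G := G ⧸ commutator G)).1 hcomm ⟨β, hβ⟩
  exact h1

theorem mem_rel_of_dvd {G : Type u} [Group G] [Finite G] {d : ℕ} (hd : d ∈ charDegrees G)
    (hd1 : d ≠ 1) : d ∈ relCharDegrees (commutator G) := by
  classical
  letI : Fintype G := Fintype.ofFinite G
  obtain ⟨χ, rfl⟩ := hd
  refine ⟨χ, ?_, rfl⟩
  by_contra hcon
  have hcon' : ∀ x ∈ commutator G, (χ : G → ℂ) x = (χ : G → ℂ) 1 := by
    intro x hx
    by_contra h
    exact hcon ⟨x, hx, h⟩
  apply hd1
  have h1 := degree_one_of_le χ.2 hcon'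
  apply charDegree_eq
  rw [h1]
  simp

theorem rel_sub {G : Type u} [Group G] {N : Subgroup G} {d : ℕ} (hd : d ∈ relCharDegrees N) :
    d ∈ charDegrees G := by
  obtain ⟨χ, -, h⟩ := hd
  exact ⟨χ, h⟩

theorem reach_primes_same {G : Type u} [Group G] {d p q : ℕ} (hd : d ∈ charDegrees G)
    (hp : p.Prime) (hq : q.Prime) (hpd : p ∣ d) (hqd : q ∣ d) :
    ∃ (hp' : p ∈ degreePrimes G) (hq' : q ∈ degreePrimes G),
      ((degreeGraph G).induce (degreePrimes G)).Reachable ⟨p, hp'⟩ ⟨q, hq'⟩ := by
  refine ⟨⟨hp, d, hd, hpd⟩, ⟨hq, d, hd, hqd⟩, ?_⟩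
  by_cases hpq : p = q
  · subst hpq
    exact SimpleGraph.Reachable.refl _
  · apply SimpleGraph.Adj.reachable
    show (degreeGraph G).Adj p q
    refine ⟨hpq, hp, hq, d, hd, ?_⟩
    exact Nat.Coprime.mul_dvd_of_dvd_of_dvd ((Nat.coprime_primes hp hq).2 hpq) hpd hqd

theorem reach_primes {G : Type u} [Group G] [Finite G] {N : Subgroup G} {a b : ℕ}
    {ha : a ∈ relCharDegrees N} {hb : b ∈ relCharDegrees N}
    (h : (commonDivisorGraph.induce (relCharDegrees N)).Reachable ⟨a, ha⟩ ⟨b, hb⟩)
    {p q : ℕ} (hp : p.Prime) (hq : q.Prime) (hpa : p ∣ a) (hqb : q ∣ b) :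
    ∃ (hp' : p ∈ degreePrimes G) (hq' : q ∈ degreePrimes G),
      ((degreeGraph G).induce (degreePrimes G)).Reachable ⟨p, hp'⟩ ⟨q, hq'⟩ := by
  obtain ⟨w⟩ := h
  have key : ∀ (u v : relCharDegrees N), (commonDivisorGraph.induce (relCharDegrees N)).Walk u v →
      ∀ {p q : ℕ}, p.Prime → q.Prime → p ∣ (u : ℕ) → q ∣ (v : ℕ) →
      ∃ (hp' : p ∈ degreePrimes G) (hq' : q ∈ degreePrimes G),
        ((degreeGraph G).induce (degreePrimes G)).Reachable ⟨p, hp'⟩ ⟨q, hq'⟩ := by
    intro u v w
    induction w with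
    | nil =>
      intro p q hp hq hpu hqu
      exact reach_primes_same (rel_sub (Subtype.prop _)) hp hq hpu hqu
    | @cons u v' v hadj w ih =>
      intro p q hp hq hpu hqv
      have hadj' : commonDivisorGraph.Adj (u : ℕ) (v' : ℕ) := hadj
      obtain ⟨t, ht, htd⟩ := Nat.exists_prime_and_dvd (ne_of_gt hadj'.2)
      have h1 := reach_primes_same (rel_sub u.2) hp ht hpu (htd.trans (Nat.gcd_dvd_left _ _))
      have h2 := ih ht hq (htd.trans (Nat.gcd_dvd_right _ _)) hqv
      obtain ⟨hp1, ht1, hr1⟩ := h1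
      obtain ⟨ht2, hq2, hr2⟩ := h2
      exact ⟨hp1, hq2, hr1.trans hr2⟩
  exact key _ _ w hp hq hpa hqb

theorem finite_rel {G : Type u} [Group G] [Finite G] (N : Subgroup G) :
    (relCharDegrees N).Finite := by
  classical
  letI : Fintype G := Fintype.ofFinite G
  refine Set.Finite.subset (Set.finite_Iic (Nat.card G)) ?_
  rintro d ⟨χ, -, rfl⟩
  exact Nat.le_of_dvd Nat.card_pos (charDegree_dvd_card χ.2)

/-- For every finite solvable group G the character degree graph of G (vertices: the primes dividing some irreducible complex character degree; edges: distinct primes whose product divides some degree) has at most two connected components. -/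
theorem result {G : Type*} [Group G] [Finite G] [Group.IsSolvable G] : Nat.card ((Cfsg.degreeGraph G).induce (Cfsg.degreePrimes G)).ConnectedComponent ≤ 2 := by
  classical
  set Δ := (Cfsg.degreeGraph G).induce (Cfsg.degreePrimes G) with hΔ
  by_cases hbot : commutator G = ⊥
  · -- abelian: no primes at all
    have hemp : IsEmpty (Cfsg.degreePrimes G) := by
      constructor
      rintro ⟨p, hp, d, hd, hpd⟩
      classical
      letI : Fintype G := Fintype.ofFinite G
      obtain ⟨χ, rfl⟩ := hd
      have h1 := degree_one_of_le χ.2 (by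
        intro x hx
        rw [hbot] at hx
        rw [Subgroup.mem_bot.1 hx])
      have h2 : Cfsg.charDegree (χ : G → ℂ) = 1 := by
        apply charDegree_eq
        rw [h1]
        simp
      rw [h2] at hpd
      exact hp.one_lt.ne' (Nat.dvd_one.1 hpd)
    have : IsEmpty Δ.ConnectedComponent := by
      constructor
      intro c
      obtain ⟨v, -⟩ := c.exists_rep
      exact hemp.false v
    simp
  set N := commutator G with hN
  haveI hNn : N.Normal := inferInstance
  have hlt : ⁅N, N⁆ < N := by
    refine lt_of_le_of_ne (Subgroup.commutator_le_self N) ?_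
    intro hne
    obtain ⟨n, hn⟩ := (Group.isSolvable_def G).1 inferInstance
    have h1 : ∀ k, derivedSeries G (k + 1) = N := by
      intro k
      induction k with
      | zero =>
        rw [derivedSeries_succ, derivedSeries_zero]
        rfl
      | succ k ih =>
        rw [derivedSeries_succ, ih, hne]
    rcases n with _ | n
    · rw [derivedSeries_zero] at hn
      apply hbot
      rw [eq_bot_iff, ← hn]
      exact le_top
    · rw [h1 n] at hn
      exact hbot hn
  have hcard := card_components_le N hlt le_rfl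
  set Γ := commonDivisorGraph.induce (relCharDegrees N) with hΓ
  have hrepd : ∀ v : Cfsg.degreePrimes G, ∃ d : relCharDegrees N, (v : ℕ) ∣ (d : ℕ) := by
    rintro ⟨p, hp, d, hd, hpd⟩
    have hd1 : d ≠ 1 := by
      rintro rfl
      exact hp.one_lt.ne' (Nat.dvd_one.1 hpd)
    exact ⟨⟨d, mem_rel_of_dvd hd hd1⟩, hpd⟩
  let rep : Δ.ConnectedComponent → Cfsg.degreePrimes G := fun c => Classical.choose c.exists_rep
  have hrep : ∀ c : Δ.ConnectedComponent, Δ.connectedComponentMk (rep c) = c := fun c =>
    Classical.choose_spec c.exists_rep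
  let dd : Δ.ConnectedComponent → relCharDegrees N := fun c => Classical.choose (hrepd (rep c))
  have hdd : ∀ c, ((rep c : Cfsg.degreePrimes G) : ℕ) ∣ (dd c : ℕ) := fun c =>
    Classical.choose_spec (hrepd (rep c))
  let f : Δ.ConnectedComponent → Γ.ConnectedComponent := fun c => Γ.connectedComponentMk (dd c)
  have hf : Function.Injective f := by
    intro c c' hcc
    have h1 : Γ.Reachable (dd c) (dd c') := SimpleGraph.ConnectedComponent.eq.1 hcc
    have h2 := reach_primes (a := (dd c : ℕ)) (b := (dd c' : ℕ)) h1 (rep c).2.1 (rep c').2.1 (hdd c) (hdd c')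
    obtain ⟨h3, h4, h5⟩ := h2
    rw [← hrep c, ← hrep c']
    exact SimpleGraph.ConnectedComponent.eq.2 h5
  haveI : Finite (relCharDegrees N) := (finite_rel N).to_subtype
  haveI : Finite Γ.ConnectedComponent :=
    Finite.of_surjective Γ.connectedComponentMk (fun c => c.exists_rep)
  exact (Nat.card_le_card_of_injective f hf).trans hcard

end Cfsg.Agent.S4811
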