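import Cfsg.Statements.S4813
import Cfsg.Agent.Lib.Char.PrimeDeg
import Cfsg.Agent.S4811

set_option autoImplicit false
open Cfsg

namespace Cfsg.Agent.S4813

open Cfsg.Agent.Lib.Char

universe u

/-- If every irreducible complex character of the finite group G of degree greater than one has prime degree, then G has at most three distinct irreducible character degrees. -/
theorem result {G : Type*} [Group G] [Finite G] (hprime : ∀ d ∈ Cfsg.charDegrees G, d = 1 ∨ d.Prime) : Nat.card ↥(Cfsg.charDegrees G) ≤ 3 := by
  classical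
  haveI hsol : Group.IsSolvable G := Cfsg.Agent.Lib.Char.PrimeDeg.isSolvable_of_prime_degrees hprime
  letI : Fintype G := Fintype.ofFinite G
  -- no edges, so the primes are the components
  have hcomp := Cfsg.Agent.S4811.result (G := G)
  set Δ := (Cfsg.degreeGraph G).induce (Cfsg.degreePrimes G) with hΔ
  have hnoadj : ∀ a b : Cfsg.degreePrimes G, ¬ (Cfsg.degreeGraph G).Adj a b := by
    rintro a b ⟨hab, hap, hbp, d, hd, hdvd⟩
    rcases hprime d hd with h | h
    · rw [h] at hdvd
      have h1 := Nat.dvd_one.mp ((Dvd.intro _ rfl).trans hdvd)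
      exact hap.one_lt.ne' h1
    · have h1 : (a : ℕ) ∣ d := (Dvd.intro _ rfl).trans hdvd
      have h2 : (b : ℕ) ∣ d := (Dvd.intro_left _ rfl).trans hdvd
      have h3 := (Nat.prime_dvd_prime_iff_eq hap h).mp h1
      have h4 := (Nat.prime_dvd_prime_iff_eq hbp h).mp h2
      exact hab (h3.trans h4.symm)
  have hinj : Function.Injective (fun v : Cfsg.degreePrimes G => Δ.connectedComponentMk v) := by
    intro a b hab
    have h1 : Δ.Reachable a b := SimpleGraph.ConnectedComponent.eq.1 hab
    obtain ⟨w⟩ := h1
    cases w with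
    | nil => rfl
    | cons h _ => exact absurd h (hnoadj _ _)
  haveI hfinP : Finite (Cfsg.degreePrimes G) := by
    apply Set.Finite.to_subtype
    apply Set.Finite.subset (Set.finite_Iic (Nat.card G))
    rintro p ⟨hp, d, hd, hpd⟩
    obtain ⟨χ, rfl⟩ := hd
    exact (Nat.le_of_dvd (charDegree_pos χ.2) hpd).trans (Nat.le_of_dvd Nat.card_pos (charDegree_dvd_card χ.2))
  haveI : Finite Δ.ConnectedComponent :=
    Finite.of_surjective Δ.connectedComponentMk (fun c => c.exists_rep)
  have hcardP : Nat.card (Cfsg.degreePrimes G) ≤ 2 := (Nat.card_le_card_of_injective _ hinj).trans hcomp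
  -- the degrees other than `1` are primes in the vertex set
  have hsub : Cfsg.charDegrees G ⊆ insert 1 (Cfsg.degreePrimes G) := by
    intro d hd
    rcases hprime d hd with h | h
    · exact Or.inl h
    · exact Or.inr ⟨h, d, hd, dvd_rfl⟩
  have hfinI : (insert 1 (Cfsg.degreePrimes G) : Set ℕ).Finite := (Set.toFinite _).insert 1 
  have h1 : Nat.card (Cfsg.charDegrees G) ≤ Nat.card (insert 1 (Cfsg.degreePrimes G) : Set ℕ) := by
    rw [Nat.card_coe_set_eq, Nat.card_coe_set_eq]
    exact Set.ncard_le_ncard hsub hfinI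
  have h2 : Nat.card (insert 1 (Cfsg.degreePrimes G) : Set ℕ) ≤ 3 := by
    rw [Nat.card_coe_set_eq]
    have h3 := Set.ncard_insert_le 1 (Cfsg.degreePrimes G)
    rw [Nat.card_coe_set_eq] at hcardP
    omega
  omega

end Cfsg.Agent.S4813
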