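import Cfsg.Statements.S5083
import Cfsg.Agent.Lib.Fusion.Alperin

set_option autoImplicit false
open Cfsg

namespace Cfsg.Agent.S5083

open Cfsg.Agent.Lib.Fusion

/-- If F is a saturated fusion system over a finite p-group S in which Aut_F(P) is a p-group for every P ≤ S, then F is the inner fusion system of S (all its maps are conjugations by elements of S). -/
theorem result {Ω : Type*} [Group Ω] {S : Subgroup Ω} [Finite S] (p : ℕ) [Fact p.Prime] (hS : IsPGroup p S) (F : Cfsg.FusionSystem S) (hF : F.IsSaturated p) (h : ∀ P : Subgroup Ω, P ≤ S → IsPGroup p (F.autGroup P)) : F = Cfsg.innerFusionSystem S := by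
  apply fusionSystem_ext
  intro P
  apply Set.Subset.antisymm
  · refine alperin hS hF _ ?_ P
    intro R hR
    have hRS : R ≤ S := by
      rcases hR with rfl | hR
      · exact le_rfl
      · exact hR.1.1
    have hRn : F.IsFullyNormalized R := by
      rcases hR with rfl | hR
      · refine ⟨le_rfl, fun Q hQ => ?_⟩
        obtain ⟨φ, hφ, rfl⟩ := hQ
        rw [range_eq_of_top hφ]
      · exact hR.2.1
    have hRa := (fullyNormalized_spec hS hF hRn).2
    intro α hα
    exact mem_inner_autGroup hRS (le_of_isSylowIn_of_isPGroup hRa.2 (h R hRS) hα)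
  · exact inner_le F P

end Cfsg.Agent.S5083
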