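import Cfsg.Statements.S5191
import Cfsg.Agent.Lib.Fusion.GroupFusion

set_option autoImplicit false
open Cfsg

namespace Cfsg.Agent.S5191

/-- Fusion in a finite group G and in its quotient by O_{p'}(G) agree. Let S be a Sylow p-subgroup of G, N = O_{p'}(G) and P ≤ S. If an element of G/N conjugates the image of P into the image of S, then some element g of G conjugates P into S and induces the same map on P modulo N. (Together with the injectivity of S → G/N this says that g ↦ gN induces an isomorphism of the fusion system of G on S with that of G/N on SN/N.) -/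
theorem result {G : Type*} [Group G] [Finite G] {p : ℕ} [Fact p.Prime]
    [hN : (Cfsg.pPrimeCore p G).Normal] (S : Sylow p G) (P : Subgroup G) (hP : P ≤ (S : Subgroup G))
    (γ : G ⧸ Cfsg.pPrimeCore p G)
    (hγ : ∀ x ∈ P, γ * QuotientGroup.mk x * γ⁻¹ ∈ ((S : Subgroup G).map (QuotientGroup.mk' (Cfsg.pPrimeCore p G)))) :
    ∃ g : G, ∀ x ∈ P, g * x * g⁻¹ ∈ S ∧
      (QuotientGroup.mk (g * x * g⁻¹) : G ⧸ Cfsg.pPrimeCore p G) = γ * QuotientGroup.mk x * γ⁻¹ := by
  open Cfsg.Agent.Lib.Fusion in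
  obtain ⟨g₀, rfl⟩ := QuotientGroup.mk_surjective γ
  have h1 : ∀ x ∈ P, g₀ * x * g₀⁻¹ ∈ (S : Subgroup G) ⊔ Cfsg.pPrimeCore p G := by
    intro x hx
    obtain ⟨s, hs, hse⟩ := hγ x hx
    have h2 : (QuotientGroup.mk s : G ⧸ Cfsg.pPrimeCore p G) = QuotientGroup.mk (g₀ * x * g₀⁻¹) := by
      rw [QuotientGroup.mk_mul, QuotientGroup.mk_mul, QuotientGroup.mk_inv]
      exact hse
    have h3 : s⁻¹ * (g₀ * x * g₀⁻¹) ∈ Cfsg.pPrimeCore p G := QuotientGroup.eq.1 h2
    have h4 : g₀ * x * g₀⁻¹ = s * (s⁻¹ * (g₀ * x * g₀⁻¹)) := by group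
    rw [h4]
    exact Subgroup.mul_mem_sup hs h3
  obtain ⟨n, hn, hc⟩ := exists_lift_conj S (Cfsg.pPrimeCore p G) hP h1
  refine ⟨n * g₀, fun x hx => ⟨hc x hx, ?_⟩⟩
  have hn1 : (QuotientGroup.mk n : G ⧸ Cfsg.pPrimeCore p G) = 1 := (QuotientGroup.eq_one_iff n).2 hn
  simp only [QuotientGroup.mk_mul, QuotientGroup.mk_inv, hn1, one_mul, mul_inv_rev, inv_one, mul_one]

end Cfsg.Agent.S5191
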