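import Cfsg.Statements.S5272
import Cfsg.Agent.Lib.Fusion2.GTFam2
-- import your own Cfsg.Agent.* helpers here

set_option autoImplicit false
open Cfsg

namespace Cfsg.Agent.S5272

open Cfsg.FusionSystem Cfsg.Agent.Lib.Fusion Cfsg.Agent.Lib.Fusion.GT Cfsg.Agent.Lib.Fusion2.GTRel

/-- An axiomatic Glauberman–Thompson nilpotency criterion for fusion systems. Let p be an odd prime, F a saturated fusion system over a finite p-group S, and 𝒜 a nonempty family of abelian subgroups of S. For Q ≤ S write I(Q) for the intersection of the members of 𝒜 contained in Q. Assume (invariance) that for every Q ≤ S containing a member of 𝒜, every F-automorphism of Q maps I(Q) into itself, and (replacement) that for every subgroup B of S of nilpotency class at most 2, if some member of 𝒜 contains [B,B] but not B, then B normalizes some member of 𝒜 that contains [B,B]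 but not B. Then F is the inner fusion system of S if and only if the normalizer fusion system of I(S) in F is the inner fusion system of N_S(I(S)). -/
theorem result {Ω : Type*} [Group Ω] {S : Subgroup Ω} [Finite S] (p : ℕ) [Fact p.Prime] (hS : IsPGroup p ↥S) (F : Cfsg.FusionSystem S) (hF : F.IsSaturated p) (hp : p ≠ 2) (𝒜 : Set (Subgroup Ω)) (h𝒜 : ∀ A ∈ 𝒜, A ≤ S ∧ IsMulCommutative ↥A) (hne : 𝒜.Nonempty) (hinv : ∀ Q : Subgroup Ω, Q ≤ S → (∃ A ∈ 𝒜, A ≤ Q) → ∀ α ∈ F.autGroup Q, ∀ x : ↥Q, (x : Ω) ∈ (⨅ A ∈ {A : Subgroup Ω | A ∈ 𝒜 ∧ A ≤ Q}, A) → (((α : MulAut ↥Q) x : ↥Q) : Ω) ∈ (⨅ A ∈ {A : Subgroup Ω | A ∈ 𝒜 ∧ A ≤ Q}, A)) (hrep : ∀ B : Subgroup Ω, B ≤ S → ⁅⁅B, B⁆, B⁆ = ⊥ → (∃ A ∈ 𝒜, ⁅B, B⁆ ≤ A ∧ ¬ B ≤ A) → ∃ A ∈ 𝒜, ⁅B, B⁆ ≤ A ∧ ¬ B ≤ A ∧ B ≤ Subgroup.normalizer (A : Set Ω)) : (∀ P : Subgroup Ω, F.Hom P = (Cfsg.innerFusionSystem S).Hom P) ↔ ∀ N : Cfsg.FusionSystem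 (Cfsg.FusionSystem.normalizerIn S (⨅ A ∈ 𝒜, A)), F.IsNormalizerSystem (⨅ A ∈ 𝒜, A) N → ∀ P : Subgroup Ω, N.Hom P = (Cfsg.innerFusionSystem (Cfsg.FusionSystem.normalizerIn S (⨅ A ∈ 𝒜, A))).Hom P := by
  have hAS : ∀ A ∈ 𝒜, A ≤ S := fun A hA => (h𝒜 A hA).1
  have hAc : ∀ A ∈ 𝒜, ∀ a ∈ A, ∀ b ∈ A, a * b = b * a := fun A hA a ha b hb => by
    haveI := (h𝒜 A hA).2
    exact Cfsg.Agent.Lib.LocalEven2.comm_of_abelian (h𝒜 A hA).2 ha hb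
  have hinv' : ∀ Q : Subgroup Ω, Q ≤ S → (∃ A ∈ 𝒜, A ≤ Q) → ∀ f : Ω → Ω, IsMapOn F Q f → IsImage f Q Q → ∀ x ∈ Q,
      x ∈ (⨅ A ∈ {A : Subgroup Ω | A ∈ 𝒜 ∧ A ≤ Q}, A) → f x ∈ (⨅ A ∈ {A : Subgroup Ω | A ∈ 𝒜 ∧ A ≤ Q}, A) := by
    intro Q hQ hex f hm hi x hx h1
    obtain ⟨c, hc, hcv⟩ := Cfsg.Agent.Lib.Fusion.exists_aut_of_map hm hi
    have h2 := hinv Q hQ hex c hc ⟨x, hx⟩ h1
    rw [← hcv x hx, fn_of_mem _ hx]
    exact h2
  have hset : {A : Subgroup Ω | A ∈ 𝒜 ∧ A ≤ S} = 𝒜 := by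
    ext A
    exact ⟨fun h => h.1, fun h => ⟨h, hAS A h⟩⟩
  have hZS : ∀ x, x ∈ (⨅ A ∈ 𝒜, A : Subgroup Ω) → ∀ g ∈ S, g * x * g⁻¹ ∈ (⨅ A ∈ 𝒜, A : Subgroup Ω) := by
    intro x hx g hg
    obtain ⟨A₀, hA₀⟩ := hne
    have hxS : x ∈ S := hAS A₀ hA₀ ((iInf₂_le A₀ hA₀ : (⨅ A ∈ 𝒜, A : Subgroup Ω) ≤ A₀) hx)
    have h1 := hinv' S le_rfl ⟨A₀, hA₀, hAS A₀ hA₀⟩ (fun y => g * y * g⁻¹) (isMapOn_conj le_rfl hg)
      (by
        intro y
        constructor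
        · intro hy
          exact ⟨g⁻¹ * y * g, S.mul_mem (S.mul_mem (S.inv_mem hg) hy) hg, by group⟩
        · rintro ⟨w, hw, rfl⟩
          exact S.mul_mem (S.mul_mem hg hw) (S.inv_mem hg)) x hxS (by rwa [hset])
    rwa [hset] at h1
  have hSZ : S ≤ Subgroup.normalizer ((⨅ A ∈ 𝒜, A : Subgroup Ω) : Set Ω) := by
    intro g hg
    rw [Subgroup.mem_normalizer_iff]
    intro x
    refine ⟨fun hx => hZS x hx g hg, fun hx => ?_⟩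
    have := hZS _ hx g⁻¹ (S.inv_mem hg)
    simpa [mul_assoc] using this
  constructor
  · intro hin N hN P
    exact normalizer_inner_of_inner hSZ hin N hN P
  · intro h P
    obtain ⟨A₀, hA₀⟩ := hne
    have hZS' : (⨅ A ∈ 𝒜, A : Subgroup Ω) ≤ S := (iInf₂_le A₀ hA₀).trans (hAS A₀ hA₀)
    obtain ⟨N, hN⟩ := kSystem_normalizer F hZS'
    have hTS : normalizerIn S (⨅ A ∈ 𝒜, A : Subgroup Ω) ≤ S := normalizerIn_le _
    haveI := finite_of_le hTS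
    have hTp : IsPGroup p (normalizerIn S (⨅ A ∈ 𝒜, A : Subgroup Ω)) := hS.to_le hTS
    have hall : AllP p N := by
      intro R f hm hi
      obtain ⟨φ, hφ, hv⟩ := hm
      rw [h N hN R] at hφ
      exact allP_inner hTp R f ⟨φ, hφ, hv⟩ hi
    exact hom_eq_inner_of_allP hS hF (gt_fam hp hS hF hAS hAc ⟨A₀, hA₀⟩ hSZ hinv' hrep (locP_of_allP hN hall)) P

end Cfsg.Agent.S5272
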