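import Cfsg.Statements.S5289
import Cfsg.Agent.Lib.Fusion2.RK7
-- import your own Cfsg.Agent.* helpers here

set_option autoImplicit false
open Cfsg

namespace Cfsg.Agent.S5289

open Cfsg.FusionSystem Cfsg.Agent.Lib.Fusion Cfsg.Agent.Lib.Fusion2.RK

/-- Let p ≥ 5 be a prime and S a finite p-group of p-rank two (it has an elementary abelian subgroup of order p² and none of order p³) which is not the extraspecial group of order p³ and exponent p. Then S is resistant: for every saturated fusion system F over S, S is normal in F, that is, every map of F extends to an F-automorphism of S. -/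
theorem result {Ω : Type*} [Group Ω] {S : Subgroup Ω} [Finite S] (p : ℕ) [Fact p.Prime] (hS : IsPGroup p S)
    (F : Cfsg.FusionSystem S) (hF : F.IsSaturated p)
    (hp : 5 ≤ p)
    (hrank2 : ∃ E : Subgroup Ω, E ≤ S ∧ Cfsg.IsElementaryAbelian p E ∧ Nat.card E = p ^ 2)
    (hrank3 : ∀ E : Subgroup Ω, E ≤ S → Cfsg.IsElementaryAbelian p E → Nat.card E ≤ p ^ 2)
    (hnotE : ¬ (Nat.card S = p ^ 3 ∧ Monoid.exponent ↥S = p)) : F.IsNormal S := by
  classical
  have hpp : p.Prime := Fact.out
  have hp2 : p ≠ 2 := by omega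
  have hrk : Rk S p := hrank3
  have hnc : ¬ IsCyclic S := by
    obtain ⟨E, hES, hE, hEc⟩ := hrank2
    intro hc
    haveI : IsCyclic E := isCyclic_of_injective (Subgroup.inclusion hES) (Subgroup.inclusion_injective hES)
    haveI : Finite E := finite_of_le hES
    have h1 : Monoid.exponent E = Nat.card E := IsCyclic.exponent_eq_card
    have h2 : Monoid.exponent E ∣ p := Monoid.exponent_dvd_of_forall_pow_eq_one (fun g => Subtype.ext (by simpa using hE.2 g g.2))
    rw [h1, hEc] at h2
    have h3 := Nat.le_of_dvd hpp.pos h2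
    have h4 := hpp.two_le
    nlinarith
  obtain ⟨U, ℓ, hUD⟩ := exists_UD hS hp2 hnc hrk
  refine isNormal_of_essential_le hS hF stronglyClosed_self (fun E hE => ?_)
  by_contra hne
  by_cases hEC : E ≤ centralizerIn S U
  · exact case_i hS hF hp hUD hE hEC hne hnotE
  by_cases hUE : U ≤ E
  · exact case_iii hS hF hp hrk hUD hE hUE hEC hne
  · exact case_ii_b hS hF hp hrk hUD hE hUE hEC hne hnotE (case_ii_a hS hF hp hUD hE hUE hEC hne)

end Cfsg.Agent.S5289
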