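import Cfsg.Statements.S5295
import Cfsg.Agent.S5294
import Cfsg.Agent.Lib.Fusion2.GenOdd3
import Cfsg.Agent.Lib.Fusion.ZJ5
-- import your own Cfsg.Agent.* helpers here

set_option autoImplicit false
universe u
open Cfsg

namespace Cfsg.Agent.S5295

open Cfsg.FusionSystem Cfsg.Agent.Lib.Fusion Cfsg.Agent.Lib.Fusion2

/-- Let F be a saturated fusion system over a finite p-group S with p odd. Then the centre Z(F) of F is a direct factor of Z(S): there is a subgroup K of Z(S) with Z(F) ∩ K = 1 and Z(F)K = Z(S). (At the prime 2 this can fail.) -/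
theorem result {Ω : Type u} [Group Ω] {S : Subgroup Ω} [Finite S] (p : ℕ) [Fact p.Prime] (hp : p ≠ 2) (hS : IsPGroup p S)
    (F : Cfsg.FusionSystem S) (hF : F.IsSaturated p) :
    ∃ K : Subgroup Ω, K ≤ (S ⊓ Subgroup.centralizer (S : Set Ω)) ∧ F.center ⊓ K = ⊥ ∧ F.center ⊔ K = (S ⊓ Subgroup.centralizer (S : Set Ω)) := by
  have hQS : thompsonSubgroupAOf S ≤ S := Cfsg.Agent.Lib.PLocal.thompsonAOf_le S
  have hSn : S ≤ Subgroup.normalizer (thompsonSubgroupAOf S : Set Ω) := fun s hs => GenJ.mem_normalizer_thompson hs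
  have hfn : F.IsFullyNormalized (thompsonSubgroupAOf S) := Cfsg.Agent.Lib.Fusion.ZJ.fullyNormalized_of_normal hQS hSn
  obtain ⟨Q, hQ⟩ : ∃ Q : Subgroup Ω, Q = thompsonSubgroupAOf S := ⟨_, rfl⟩
  rw [← hQ] at hQS hSn hfn
  have hfQ : Finite Q := finite_of_le hQS
  have hfA : Finite (MulAut Q) := inferInstance
  have hcomm : ∀ a b : Subgroup.center Q, a * b = b * a := fun a b => Subtype.ext (Subgroup.mem_center_iff.1 b.2 a)
  let f : Subgroup.center Q →* Ω := Q.subtype.comp (Subgroup.center Q).subtype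
  have hfinj : Function.Injective f :=
    Q.subtype_injective.comp (Subgroup.center Q).subtype_injective
  have hfmem : ∀ x, f x ∈ Q := fun x => (x : Q).2
  let ρ : F.autGroup Q →* MulAut (Subgroup.center Q) := (S5294.centerAct Q).comp (F.autGroup Q).subtype
  let T : Subgroup (F.autGroup Q) := (autInducedBy S Q).subgroupOf (F.autGroup Q)
  obtain ⟨-, R, hR⟩ := (fullyNormalized_spec hS hF hfn).2
  have hTind : ¬ p ∣ T.index := by
    have := R.not_dvd_index
    rwa [hR] at this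
  have hcop : Nat.Coprime (Nat.card (Subgroup.center Q)) T.index := by
    have hVp : IsPGroup p (Subgroup.center Q) := (hS.to_le hQS).to_subgroup _
    obtain ⟨n, hn⟩ := IsPGroup.iff_card.1 hVp
    rw [hn]
    exact ((Fact.out : p.Prime).coprime_iff_not_dvd.2 hTind).pow_left n
  obtain ⟨K, hK1, hK2, hK3⟩ := exists_complement_fixed hcomm ρ T hcop
  have hZQ : S ⊓ Subgroup.centralizer (S : Set Ω) ≤ Q := by
    obtain ⟨A, hA⟩ := GenJ.exists_isMaxAb S
    rintro z ⟨hzS, hzc⟩
    rw [hQ]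
    exact GenJ.IsMaxAbIn_le_J hA (GenJ.mem_of_commute_isMaxAb hA hzS (fun a ha => (Subgroup.mem_centralizer_iff.1 hzc a (hA.1 ha))))
  -- identification of `Z(S)`
  have hWmap : (fixedSub (T.map ρ)).map f = S ⊓ Subgroup.centralizer (S : Set Ω) := by
    apply le_antisymm
    · rintro _ ⟨x, hx, rfl⟩
      refine ⟨hQS (hfmem x), Subgroup.mem_centralizer_iff.2 fun g hg => ?_⟩
      have hgn : g ∈ Subgroup.normalizer (Q : Set Ω) := hSn hg
      have hm : autOfNormalizer hgn ∈ F.autGroup Q := (mem_autGroup_iff hQS).2 (autOfNormalizer_isIso hQS hgn hg)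
      have hT : (⟨autOfNormalizer hgn, hm⟩ : F.autGroup Q) ∈ T := by
        show autOfNormalizer hgn ∈ autInducedBy S Q
        exact autOfNormalizer_mem_autInducedBy hgn hg
      have h1 := hx (ρ ⟨autOfNormalizer hgn, hm⟩) ⟨_, hT, rfl⟩
      have h2 : g * f x * g⁻¹ = f x := by
        have := congrArg (fun y => f y) h1
        exact this
      calc g * f x = g * f x * g⁻¹ * g := by group
        _ = f x * g := by rw [h2]
    · rintro z ⟨hzS, hzc⟩
      have hzQ : z ∈ Q := hZQ ⟨hzS, hzc⟩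
      have hzc' : ∀ g ∈ S, g * z = z * g := fun g hg => Subgroup.mem_centralizer_iff.1 hzc g hg
      have hzz : (⟨z, hzQ⟩ : Q) ∈ Subgroup.center Q := by
        rw [Subgroup.mem_center_iff]
        intro g
        exact Subtype.ext (hzc' g (hQS g.2))
      refine ⟨⟨⟨z, hzQ⟩, hzz⟩, ?_, rfl⟩
      rintro _ ⟨⟨α, hα⟩, hαT, rfl⟩
      obtain ⟨g, hg, hgx⟩ := mem_autInducedBy_iff.1 (show α ∈ autInducedBy S Q from hαT)
      apply Subtype.ext
      apply Subtype.ext
      show ((α ⟨z, hzQ⟩ : Q) : Ω) = z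
      rw [hgx, hzc' g hg, mul_inv_cancel_right]
  have hWle : fixedSub ρ.range ≤ fixedSub (T.map ρ) := by
    rintro x hx _ ⟨t, -, rfl⟩
    exact hx _ ⟨t, rfl⟩
  -- identification of `Z(F)`
  have hZmap : (fixedSub ρ.range).map f = F.center := by
    apply le_antisymm
    · apply le_sSup
      have hXZ : (fixedSub ρ.range).map f ≤ S ⊓ Subgroup.centralizer (S : Set Ω) := by
        rw [← hWmap]
        exact Subgroup.map_mono hWle
      refine GenOdd.fixed_central hp hS hF (fun x hx => (hXZ hx).1) (fun v hv s hs =>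
        Subgroup.mem_centralizer_iff.1 (hXZ hv).2 s hs) ?_
      subst hQ
      rintro α hα _ hx ⟨x, hxf, rfl⟩
      have h1 := hxf (ρ ⟨α, hα⟩) ⟨_, rfl⟩
      exact congrArg (fun y => f y) h1
    · intro z hz
      have hzc := center_isCentral F
      have hzS := isCentral_le hzc hz
      have hzQ : z ∈ Q := hZQ hzS
      have hzc' : ∀ g ∈ S, g * z = z * g := fun g hg => Subgroup.mem_centralizer_iff.1 hzS.2 g hg
      have hzz : (⟨z, hzQ⟩ : Q) ∈ Subgroup.center Q := by
        rw [Subgroup.mem_center_iff]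
        intro g
        exact Subtype.ext (hzc' g (hQS g.2))
      refine ⟨⟨⟨z, hzQ⟩, hzz⟩, ?_, rfl⟩
      rintro _ ⟨⟨α, hα⟩, rfl⟩
      apply Subtype.ext
      apply Subtype.ext
      have hαm := (mem_autGroup_iff hQS).1 hα
      exact isCentral_fixed hzc hαm ⟨z, hzQ⟩ hz
  refine ⟨K.map f, ?_, ?_, ?_⟩
  · rw [← hWmap]
    exact Subgroup.map_mono hK1
  · rw [← hZmap, ← Subgroup.map_inf _ _ _ hfinj, hK2, Subgroup.map_bot]
  · rw [← hZmap, ← Subgroup.map_sup, hK3, hWmap]

end Cfsg.Agent.S5295
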