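import Cfsg.Statements.S5299
import Mathlib

set_option autoImplicit false
open Cfsg

namespace Cfsg.Agent.S5299

universe u

/-- A surjection from a subgroup of `G` onto `Q` shows that `Q` is involved in `G`. -/
theorem involves_of_surj {G Q : Type*} [Group G] [Group Q] (K : Subgroup G) (f : K →* Q)
    (hf : Function.Surjective f) : Involves Q G := by
  have h : (f.ker.map K.subtype).subgroupOf K = f.ker :=
    Subgroup.comap_map_eq_self_of_injective K.subtype_injective _
  have hn : ((f.ker.map K.subtype).subgroupOf K).Normal := by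
    rw [h]
    infer_instance
  exact ⟨K, f.ker.map K.subtype, hn,
    ⟨(QuotientGroup.quotientMulEquivOfEq h).trans (QuotientGroup.quotientKerEquivOfSurjective f hf)⟩⟩

/-- The key lemma: a `p`-subgroup of a section of a finite group is a quotient of a subgroup of any
given Sylow `p`-subgroup. -/
theorem exists_surj_of_involves {L H : Type*} [Group L] [Finite L] [Group H] {p : ℕ} [Fact p.Prime]
    (T : Sylow p L) (Q : Subgroup H) (hQ : IsPGroup p Q) (hinv : Involves H L) :
    ∃ (U : Subgroup L) (f : U →* Q), U ≤ (T : Subgroup L) ∧ Function.Surjective f := by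
  obtain ⟨K, R, hn, ⟨e⟩⟩ := hinv
  -- the map K → H
  let π : K →* H := e.toMonoidHom.comp (QuotientGroup.mk' _)
  have hπ : Function.Surjective π := e.surjective.comp (QuotientGroup.mk'_surjective _)
  -- the preimage of Q
  let K₀ : Subgroup K := Q.comap π
  let π₀ : K₀ →* Q := π.subgroupComap Q
  have hπ₀ : Function.Surjective π₀ := π.subgroupComap_surjective_of_surjective Q hπ
  obtain ⟨U₀⟩ : Nonempty (Sylow p K₀) := inferInstance
  -- U₀ surjects onto Q
  have htop : (U₀ : Subgroup K₀).map π₀ = ⊤ := by
    have h1 := (U₀.mapSurjective hπ₀).3 (hQ.to_subgroup ⊤) le_top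
    rw [Sylow.coe_mapSurjective] at h1
    exact h1.symm
  -- a conjugate of the image of U₀ in L lies in T
  let i : K₀ →* L := K.subtype.comp K₀.subtype
  have hi : Function.Injective i := K.subtype_injective.comp K₀.subtype_injective
  have hp1 : IsPGroup p ((U₀ : Subgroup K₀).map i) := U₀.isPGroup'.map i
  obtain ⟨T', hT'⟩ := hp1.exists_le_sylow
  obtain ⟨g, hg⟩ := MulAction.exists_smul_eq L T' T
  let j : K₀ →* L := (MulAut.conj g).toMonoidHom.comp i
  have hj : Function.Injective j := (MulAut.conj g).injective.comp hi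
  refine ⟨(U₀ : Subgroup K₀).map j, (π₀.comp (U₀ : Subgroup K₀).subtype).comp
    ((U₀ : Subgroup K₀).equivMapOfInjective j hj).symm.toMonoidHom, ?_, ?_⟩
  · have h2 : (T : Subgroup L) = (T' : Subgroup L).map (MulAut.conj g).toMonoidHom := by
      rw [← hg]
      rfl
    rw [h2]
    rintro _ ⟨x, hx, rfl⟩
    exact ⟨i x, hT' ⟨x, hx, rfl⟩, rfl⟩
  · intro q
    have hq : q ∈ (U₀ : Subgroup K₀).map π₀ := by
      rw [htop]
      trivial
    obtain ⟨x, hx, rfl⟩ := hq
    refine ⟨(U₀ : Subgroup K₀).equivMapOfInjective j hj ⟨x, hx⟩, ?_⟩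
    simp

/-- Let F be a saturated fusion system over a finite p-group S, H a finite group and Q a p-subgroup of H. If Q is not involved in S (no section of S is isomorphic to Q), then F is H-free: H is involved in no model of the normalizer system of a fully normalized centric subgroup. -/
theorem result {Ω : Type u} [Group Ω] {S : Subgroup Ω} [Finite S] (p : ℕ) [Fact p.Prime] (hS : IsPGroup p S)
    (F : Cfsg.FusionSystem S) (hF : F.IsSaturated p) (H : Type*) [Group H] [Finite H] (Q : Subgroup H) (hQ : IsPGroup p Q)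
    (hfree : ¬ Cfsg.Involves (↥Q) (↥S)) : F.IsSectionFree p H := by
  intro R _ _ N _ L _ ι hM hinv
  obtain ⟨hfin, ⟨hιinj, -⟩, ⟨T, hT⟩, -⟩ := hM
  obtain ⟨U, f, hU, hf⟩ := exists_surj_of_involves T Q hQ hinv
  apply hfree
  rw [hT] at hU
  -- pull U back to N_S(R), then push to S
  let N' := Cfsg.FusionSystem.normalizerIn S R
  have hN' : N' ≤ S := inf_le_left
  let inc : ↥N' →* ↥S := Subgroup.inclusion hN'
  have hinc : Function.Injective inc := Subgroup.inclusion_injective hN'
  let U' : Subgroup ↥N' := U.comap ι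
  -- the isomorphism U' ≃ U
  have hU' : ∀ u : U, ∃ x : U', ι x = u := by
    intro u
    obtain ⟨x, hx⟩ := hU u.2
    exact ⟨⟨x, by show ι x ∈ U; rw [hx]; exact u.2⟩, hx⟩
  let g₁ : U' →* U := (ι.comp U'.subtype).codRestrict U (fun x => x.2)
  have hg₁ : Function.Surjective g₁ := by
    intro u
    obtain ⟨x, hx⟩ := hU' u
    exact ⟨x, Subtype.ext hx⟩
  let e₂ := U'.equivMapOfInjective inc hinc
  exact involves_of_surj (U'.map inc) ((f.comp g₁).comp e₂.symm.toMonoidHom)
    (hf.comp (hg₁.comp e₂.symm.surjective))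

end Cfsg.Agent.S5299
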