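import Cfsg.Statements.S5522
import Cfsg.Agent.Lib.M24X.SqData

set_option autoImplicit false
open Cfsg

namespace Cfsg.Agent.S5522

/-- The Mathieu group M₁₁, realised as the stabiliser of one point of the dodecad of squares inside the stabiliser M₁₂ of that dodecad in M₂₄, acts on the twelve coordinate positions outside the dodecad of squares (its 3-transitive action of degree 12); in this action every element of prime order fixes a point, i.e. the action is elusive. -/
theorem result (g : Equiv.Perm Cfsg.GolayPt) (hg : g ∈ Cfsg.Spor.M11) (hord : (orderOf g).Prime) :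
    ∃ x : Cfsg.GolayPt, x ∉ Cfsg.Spor.squareDodecad ∧ g x = x := by
  open scoped Pointwise in
  open Cfsg.Agent.Lib.M24X Cfsg.Agent.Lib.Golay MulAction Cfsg.Spor in
  classical
  have hdS : Cfsg.Spor.squareDodecad = finOf dSq := by
    show support₂ (qrWord 0) = _
    have h := wordOf_qrMask 0
    rw [← h, support_wordOf]
    congr 1
  obtain ⟨hg1, hg0⟩ := Subgroup.mem_inf.mp hg
  obtain ⟨hM, hgd⟩ := Subgroup.mem_inf.mp hg1
  have hg0' : g (some 0) = some 0 := mem_stabilizer_iff.mp hg0
  have hgd' : g • finOf dSq = finOf dSq := by
    rw [← hdS]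
    exact mem_stabilizer_iff.mp hgd
  rw [hdS]
  by_contra hc
  push Not at hc
  have hpres : ∀ x, x ∉ finOf dSq → g x ∉ finOf dSq := by
    intro x hx hgx
    apply hx
    apply (mem_smul_iff g _ _).mp
    rwa [hgd']
  -- the prime divides twelve
  have hp12 : orderOf g ∣ 12 := by
    have hf : Fact (orderOf g).Prime := ⟨hord⟩
    let f : Function.End {x // x ∉ finOf dSq} := fun x => ⟨g x.1, hpres x.1 x.2⟩
    have hfn : ∀ n : ℕ, ∀ x : {x // x ∉ finOf dSq}, ((f ^ n) x).1 = (g ^ n) x.1 := by
      intro n
      induction n with
      | zero => intro x; rfl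
      | succ n ih =>
        intro x
        rw [pow_succ, pow_succ]
        show ((f ^ n) (f x)).1 = _
        rw [ih]
        rfl
    have hf1 : f ^ (orderOf g) ^ 1 = 1 := by
      funext x
      apply Subtype.ext
      rw [hfn, pow_one, pow_orderOf_eq_one]
      rfl
    have h1 := Equiv.Perm.card_fixedPoints_modEq hf1
    have hcard : Fintype.card {x // x ∉ finOf dSq} = 12 := by
      rw [Fintype.card_subtype_compl]
      have h5 : Fintype.card {x // x ∈ finOf dSq} = 12 := by
        rw [Fintype.card_coe, card_finOf (by decide +kernel)]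
        decide +kernel
      rw [h5]
      simp [Fintype.card_option, ZMod.card]
    have hfp : Fintype.card (Function.fixedPoints f) = 0 := by
      rw [Fintype.card_eq_zero_iff]
      constructor
      rintro ⟨x, hx⟩
      have := congrArg Subtype.val hx
      exact hc x.1 x.2 this
    rw [hcard, hfp] at h1
    exact (Nat.modEq_zero_iff_dvd).mp h1
  have hp23 : orderOf g = 2 ∨ orderOf g = 3 := by
    have h4 : orderOf g ∈ Nat.divisors 12 := Nat.mem_divisors.mpr ⟨hp12, by norm_num⟩
    have h5 : Nat.divisors 12 = {1, 2, 3, 4, 6, 12} := by decide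
    rw [h5] at h4
    simp only [Finset.mem_insert, Finset.mem_singleton] at h4
    rcases h4 with h | h | h | h | h | h
    · rw [h] at hord; exact absurd hord (by norm_num)
    · exact Or.inl h
    · exact Or.inr h
    · rw [h] at hord; exact absurd hord (by norm_num)
    · rw [h] at hord; exact absurd hord (by norm_num)
    · rw [h] at hord; exact absurd hord (by norm_num)
  have hfixne : (Finset.univ.filter fun p => g p = p).card ≠ 0 := by
    intro h
    have := (fpf_iff_card g).mpr h
    exact this _ hg0'
  rcases hp23 with h2 | h3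
  · obtain ⟨k, hk, he⟩ := conj_tA_of_card hM h2 hfixne
    have hO : (Finset.univ.filter fun p => g p = p) ∈ Cfsg.octads := by
      have hA : (Finset.univ.filter fun p => perm tA p = p) ∈ Cfsg.octads := by
        rw [fix_eq_finOf isPerm_tA]
        exact finOf_mem_octads (by decide +kernel)
      have h5 := fix_filter_conj k g
      rw [he] at h5
      rw [h5] at hA
      have := smul_octad (Cfsg.M24.inv_mem hk) hA
      rwa [inv_smul_smul] at this
    obtain ⟨m, hm, hme⟩ := (mem_octads_iff _).mp hO
    have hchk : octadL.all (fun a => Nat.ble (pop (Nat.land a dSq)) 6) = true := by decide +kernel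
    have h6 := Nat.le_of_ble_eq_true (List.all_eq_true.mp hchk m hm)
    have h7 : (finOf m ∩ finOf dSq).card ≤ 6 := by
      rw [card_inter_finOf (octadL_lt hm)]
      exact h6
    have h8 : (finOf m).card = 8 := by
      rw [← hme]
      exact hO.2
    obtain ⟨x, hx, hx2⟩ : ∃ x ∈ finOf m, x ∉ finOf dSq := by
      by_contra hcc
      push Not at hcc
      have : finOf m ∩ finOf dSq = finOf m := Finset.inter_eq_left.mpr hcc
      rw [this, h8] at h7
      omega
    rw [← hme, mem_fix_filter] at hx
    exact hc x hx2 hx
  · obtain ⟨k, hk, he⟩ := conj_a3_of_card hM h3 hfixne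
    have hDd : finOf dSq ∈ Cfsg.dodecads := finOf_mem_dodecads (by decide +kernel)
    obtain ⟨m, hm, hme⟩ := (mem_dodecads_iff _).mp (smul_dodecad hk hDd)
    have hchk : dodecadL.all (fun m => !(Nat.beq (pull a3 m) m) ||
        !(Nat.beq (Nat.land (fixMask a3) m) (fixMask a3))) = true := by decide +kernel
    have h1 := List.all_eq_true.mp hchk m hm
    have hb := dodecadL_lt hm
    have hfix : Nat.beq (pull a3 m) m = true := by
      rw [← fixed_mask_iff isPerm_a3 hb, ← hme, ← he]
      simp only [mul_smul, inv_smul_smul, hgd']
    rw [hfix] at h1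
    simp only [Bool.not_true, Bool.false_or, Bool.not_eq_true'] at h1
    have hsub : finOf (fixMask a3) ⊆ finOf m := by
      rw [← fix_eq_finOf isPerm_a3, ← he, ← hme]
      intro p hp
      rw [mem_fix_filter] at hp
      rw [Finset.mem_smul_finset]
      refine ⟨k⁻¹ p, ?_, by simp⟩
      by_contra hn
      apply hc _ hn
      apply k.injective
      simpa [Equiv.Perm.mul_apply] using hp
    have hland : Nat.land (fixMask a3) m = fixMask a3 := by
      apply finOf_injOn (lt_of_le_of_lt Nat.and_le_right hb) (by decide +kernel)
      show finOf (fixMask a3 &&& m) = _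
      rw [finOf_and]
      exact Finset.inter_eq_left.mpr hsub
    rw [hland] at h1
    simp at h1

end Cfsg.Agent.S5522
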