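import Mathlib
import Cfsg.Statements.S5726

set_option autoImplicit false
open Cfsg

namespace Cfsg.Agent.S5726

/-- If `G` is transitive and `p^e` divides `|Ω|` then `p^e` divides the size of every orbit of a
Sylow `p`-subgroup. -/
lemma pow_dvd_card_orbit_sylow {G Ω : Type*} [Group G] [Finite G] [MulAction G Ω] [Finite Ω]
    (htr : MulAction.IsPretransitive G Ω) (p e : ℕ) [hp : Fact p.Prime] (P : Sylow p G) (ω : Ω)
    (he : p ^ e ∣ Nat.card Ω) :
    p ^ e ∣ Nat.card (MulAction.orbit (P : Subgroup G) ω) := by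
  classical
  set S := MulAction.stabilizer (P : Subgroup G) ω with hS
  have h1 : Nat.card (MulAction.orbit (P : Subgroup G) ω) * Nat.card S = Nat.card (P : Subgroup G) := by
    rw [mul_comm, Nat.card_coe_set_eq, ← MulAction.index_stabilizer, Subgroup.card_mul_index]
  have hcardP := P.card_eq_multiplicity
  have hG0 : Nat.card G ≠ 0 := Nat.card_pos.ne'
  -- structure of the two factors
  have hdvdO : Nat.card (MulAction.orbit (P : Subgroup G) ω) ∣ p ^ (Nat.card G).factorization p := by
    rw [← hcardP, ← h1]; exact dvd_mul_right _ _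
  have hdvdS : Nat.card S ∣ p ^ (Nat.card G).factorization p := by
    rw [← hcardP, ← h1]; exact dvd_mul_left _ _
  obtain ⟨c, _, hc⟩ := (Nat.dvd_prime_pow hp.out).mp hdvdO
  obtain ⟨b, _, hb⟩ := (Nat.dvd_prime_pow hp.out).mp hdvdS
  rw [hc]
  have hab : c + b = (Nat.card G).factorization p := by
    have := h1
    rw [hc, hb, hcardP, ← pow_add] at this
    exact Nat.pow_right_injective hp.out.two_le this
  -- `|S|` divides `|G_ω|`
  have hSG : Nat.card S ∣ Nat.card (MulAction.stabilizer G ω) := by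
    have hle : S.map (P : Subgroup G).subtype ≤ MulAction.stabilizer G ω := by
      rintro _ ⟨x, hx, rfl⟩
      exact hx
    have := Subgroup.card_dvd_of_le hle
    rwa [Subgroup.card_map_of_injective (Subgroup.subtype_injective _)] at this
  -- orbit-stabilizer in `G`
  have hG : Nat.card Ω * Nat.card (MulAction.stabilizer G ω) = Nat.card G := by
    have h2 : (MulAction.stabilizer G ω).index = Nat.card Ω := by
      rw [MulAction.index_stabilizer, MulAction.orbit_eq_univ, Set.ncard_univ]
    rw [← h2, mul_comm, Subgroup.card_mul_index]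
  have hdvd : p ^ (e + b) ∣ Nat.card G := by
    rw [pow_add, ← hG, ← hb]
    exact mul_dvd_mul he hSG
  have hle := (hp.out.pow_dvd_iff_le_factorization hG0).mp hdvd
  exact pow_dvd_pow p (by omega)

/-- If a finite group acts faithfully and transitively on a set with p^k elements, p a prime and k ≥ 1, then some element of order p fixes no point. -/
theorem result {G Ω : Type*} [Group G] [Finite G] [MulAction G Ω] [FaithfulSMul G Ω] [Fintype Ω] (htr : MulAction.IsPretransitive G Ω)
    (p k : ℕ) (hp : p.Prime) (hk : 1 ≤ k) (hΩ : Fintype.card Ω = p ^ k) :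
    ∃ g : G, orderOf g = p ∧ ∀ ω : Ω, g • ω ≠ ω := by
  classical
  haveI : Fact p.Prime := ⟨hp⟩
  haveI : Nonempty Ω := by
    rw [← Fintype.card_pos_iff, hΩ]
    exact pow_pos hp.pos k
  obtain ⟨ω₀⟩ := (inferInstance : Nonempty Ω)
  obtain ⟨P⟩ : Nonempty (Sylow p G) := inferInstance
  -- `P` is transitive
  have hPtr : ∀ ω : Ω, ∃ x : (P : Subgroup G), x • ω₀ = ω := by
    have h1 := pow_dvd_card_orbit_sylow htr p k P ω₀ (by rw [Nat.card_eq_fintype_card, hΩ])
    have h2 : Nat.card (MulAction.orbit (P : Subgroup G) ω₀) ≤ p ^ k := by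
      rw [← hΩ, ← Nat.card_eq_fintype_card]
      exact Nat.card_mono (Set.toFinite _) (Set.subset_univ _) |>.trans (by simp)
    have h0 : 0 < Nat.card (MulAction.orbit (P : Subgroup G) ω₀) := by
      haveI : Nonempty (MulAction.orbit (P : Subgroup G) ω₀) := ⟨⟨ω₀, MulAction.mem_orbit_self _⟩⟩
      exact Nat.card_pos
    have h3 : Nat.card (MulAction.orbit (P : Subgroup G) ω₀) = p ^ k :=
      le_antisymm h2 (Nat.le_of_dvd h0 h1)
    have h4 : MulAction.orbit (P : Subgroup G) ω₀ = Set.univ := by
      apply Set.eq_of_subset_of_ncard_le (Set.subset_univ _)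
      · rw [Set.ncard_univ, Nat.card_eq_fintype_card, hΩ, ← h3, Nat.card_coe_set_eq]
    intro ω
    have : ω ∈ MulAction.orbit (P : Subgroup G) ω₀ := by rw [h4]; trivial
    exact this
  -- `P` is non-trivial
  have hPnt : Nontrivial (P : Subgroup G) := by
    by_contra hnt
    rw [not_nontrivial_iff_subsingleton] at hnt
    obtain ⟨ω₁, hne⟩ : ∃ ω₁ : Ω, ω₁ ≠ ω₀ := by
      haveI : Nontrivial Ω := by
        rw [← Fintype.one_lt_card_iff_nontrivial, hΩ]
        exact Nat.one_lt_pow (by omega) hp.one_lt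
      exact exists_ne ω₀
    obtain ⟨x, hx⟩ := hPtr ω₁
    rw [Subsingleton.elim x 1, one_smul] at hx
    exact hne hx.symm
  have hPp : IsPGroup p (P : Subgroup G) := P.isPGroup'
  have hcen := hPp.center_nontrivial
  have hcenp : p ∣ Nat.card (Subgroup.center (P : Subgroup G)) := by
    have := (hPp.to_subgroup (Subgroup.center _)).card_eq_or_dvd
    rcases this with h | h
    · exact absurd h (Finite.one_lt_card_iff_nontrivial.mpr hcen).ne'
    · exact h
  obtain ⟨z, hz⟩ := exists_prime_orderOf_dvd_card' p hcenp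
  have hzo : orderOf ((z : (P : Subgroup G)) : G) = p := by
    rw [Subgroup.orderOf_coe, Subgroup.orderOf_coe, hz]
  refine ⟨((z : (P : Subgroup G)) : G), hzo, fun ω hω => ?_⟩
  have hall : ∀ ω' : Ω, ((z : (P : Subgroup G)) : G) • ω' = ω' := by
    intro ω'
    obtain ⟨x, hx⟩ := hPtr ω
    obtain ⟨y, hy⟩ := hPtr ω'
    have hcomm : y * x⁻¹ * (z : (P : Subgroup G)) = (z : (P : Subgroup G)) * (y * x⁻¹) :=
      Subgroup.mem_center_iff.mp z.2 _
    have hω' : ω' = (y * x⁻¹) • ω := by
      rw [← hx, ← hy, smul_smul, inv_mul_cancel_right]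
    have hω2 : z.1 • ω = ω := hω
    rw [hω']
    calc ((z : (P : Subgroup G)) : G) • (y * x⁻¹) • ω = (z : (P : Subgroup G)) • (y * x⁻¹) • ω := rfl
      _ = ((z : (P : Subgroup G)) * (y * x⁻¹)) • ω := by
            rw [smul_smul]
      _ = (y * x⁻¹ * (z : (P : Subgroup G))) • ω := by rw [hcomm]
      _ = (y * x⁻¹) • ω := by rw [mul_smul, hω2]
  have : ((z : (P : Subgroup G)) : G) = 1 := by
    apply FaithfulSMul.eq_of_smul_eq_smul (α := Ω)
    intro a
    rw [hall a, one_smul]
  rw [this, orderOf_one] at hzo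
  exact hp.one_lt.ne hzo

end Cfsg.Agent.S5726
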