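import Mathlib
import Cfsg.Statements.S5727
import Cfsg.Agent.S5726

set_option autoImplicit false
open Cfsg

namespace Cfsg.Agent.S5727

/-- If a finite group acts faithfully and transitively on a set with m·p elements, where p is a prime and 1 ≤ m ≤ p, then some element of order p fixes no point. -/
theorem result {G Ω : Type*} [Group G] [Finite G] [MulAction G Ω] [FaithfulSMul G Ω] [Fintype Ω] (htr : MulAction.IsPretransitive G Ω)
    (p m : ℕ) (hp : p.Prime) (hm : 1 ≤ m) (hmp : m ≤ p) (hΩ : Fintype.card Ω = m * p) :
    ∃ g : G, orderOf g = p ∧ ∀ ω : Ω, g • ω ≠ ω := by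
  classical
  rcases hmp.lt_or_eq with hlt | rfl
  swap
  · exact Cfsg.Agent.S5726.result htr m 2 hp (by norm_num) (by rw [hΩ, sq])
  haveI : Fact p.Prime := ⟨hp⟩
  haveI : Nonempty Ω := by
    rw [← Fintype.card_pos_iff, hΩ]
    exact Nat.mul_pos hm hp.pos
  obtain ⟨P⟩ : Nonempty (Sylow p G) := inferInstance
  haveI : Fintype (P : Subgroup G) := Fintype.ofFinite _
  have hcardP := P.card_eq_multiplicity
  set e := (Nat.card G).factorization p with he_def
  -- orbits have size `p`.
  have hidx : ∀ ω : Ω, (MulAction.stabilizer (P : Subgroup G) ω).index = p := by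
    intro ω
    have h1 := Cfsg.Agent.S5726.pow_dvd_card_orbit_sylow htr p 1 P ω
      (by rw [pow_one, Nat.card_eq_fintype_card, hΩ]; exact dvd_mul_left _ _)
    rw [pow_one, Nat.card_coe_set_eq, ← MulAction.index_stabilizer] at h1
    have h2 : (MulAction.stabilizer (P : Subgroup G) ω).index ∣ p ^ e := by
      rw [← hcardP]; exact Subgroup.index_dvd_card _
    obtain ⟨c, _, hc⟩ := (Nat.dvd_prime_pow hp).mp h2
    have h3 : (MulAction.stabilizer (P : Subgroup G) ω).index ≤ m * p := by
      rw [MulAction.index_stabilizer, ← hΩ, ← Nat.card_eq_fintype_card, ← Set.ncard_univ]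
      exact Set.ncard_le_ncard (Set.subset_univ _) (Set.toFinite _)
    rw [hc] at h1 h3 ⊢
    have hc1 : c ≠ 0 := by
      rintro rfl
      rw [pow_zero] at h1
      exact hp.one_lt.ne' (Nat.dvd_one.mp h1)
    have hc2 : c < 2 := by
      by_contra hc2
      push Not at hc2
      have : p ^ 2 ≤ p ^ c := Nat.pow_le_pow_right hp.pos hc2
      have : m * p < p ^ 2 := by rw [sq]; exact Nat.mul_lt_mul_of_pos_right hlt hp.pos
      omega
    have : c = 1 := by omega
    rw [this, pow_one]
  have he0 : e ≠ 0 := by
    intro h0
    obtain ⟨ω⟩ := (inferInstance : Nonempty Ω)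
    have h2 : (MulAction.stabilizer (P : Subgroup G) ω).index ∣ p ^ e := by
      rw [← hcardP]; exact Subgroup.index_dvd_card _
    rw [hidx, h0, pow_zero] at h2
    exact hp.one_lt.ne' (Nat.dvd_one.mp h2)
  have hnormal : ∀ ω : Ω, (MulAction.stabilizer (P : Subgroup G) ω).Normal := fun ω =>
    Subgroup.normal_of_index_eq_minFac_card (by rw [hidx, hcardP, Nat.Prime.pow_minFac hp he0])
  -- stabilizer sizes
  have hstab : ∀ ω : Ω, (Finset.univ.filter (fun g : (P : Subgroup G) => g • ω = ω)).card * p
      = Fintype.card (P : Subgroup G) := by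
    intro ω
    have := Subgroup.card_mul_index (MulAction.stabilizer (P : Subgroup G) ω)
    rw [hidx ω] at this
    rw [← Nat.card_eq_fintype_card, ← this]
    congr 1
    rw [Nat.card_eq_fintype_card, Fintype.card_subtype]
    rfl
  -- find a fixed-point-free element of `P`.
  obtain ⟨g, hg⟩ : ∃ g : (P : Subgroup G), ∀ ω : Ω, g • ω ≠ ω := by
    by_contra hcon
    push Not at hcon
    have hfix : ∀ g : (P : Subgroup G), p ≤ (Finset.univ.filter (fun ω : Ω => g • ω = ω)).card := by
      intro g
      obtain ⟨ω, hω⟩ := hcon g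
      have hsub : (MulAction.orbit (P : Subgroup G) ω).toFinset ⊆
          Finset.univ.filter (fun ω : Ω => g • ω = ω) := by
        intro y hy
        rw [Set.mem_toFinset] at hy
        obtain ⟨x, rfl⟩ := hy
        rw [Finset.mem_filter]
        refine ⟨Finset.mem_univ _, ?_⟩
        have hgs : g ∈ MulAction.stabilizer (P : Subgroup G) ω := hω
        have h3 := (hnormal ω).conj_mem g hgs x⁻¹
        have h4 : (x⁻¹ * g * x⁻¹⁻¹) • ω = ω := h3
        simp only [inv_inv] at h4
        show g • (x • ω) = x • ω
        conv_rhs => rw [← h4]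
        rw [smul_smul, smul_smul]
        congr 1
        group
      have h5 := Finset.card_le_card hsub
      have h6 : (MulAction.orbit (P : Subgroup G) ω).toFinset.card = p := by
        have h7 := hidx ω
        rw [MulAction.index_stabilizer, Set.ncard_eq_toFinset_card'] at h7
        exact h7
      omega
    have hsum : ∑ g : (P : Subgroup G), (Finset.univ.filter (fun ω : Ω => g • ω = ω)).card
        = ∑ ω : Ω, (Finset.univ.filter (fun g : (P : Subgroup G) => g • ω = ω)).card := by
      have := Finset.sum_card_bipartiteAbove_eq_sum_card_bipartiteBelow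
        (s := (Finset.univ : Finset (P : Subgroup G))) (t := (Finset.univ : Finset Ω))
        (fun (g : (P : Subgroup G)) (ω : Ω) => g • ω = ω)
      simpa [Finset.bipartiteAbove, Finset.bipartiteBelow] using this
    have h1 : Fintype.card (P : Subgroup G) * p ≤
        ∑ g : (P : Subgroup G), (Finset.univ.filter (fun ω : Ω => g • ω = ω)).card := by
      calc Fintype.card (P : Subgroup G) * p = ∑ _g : (P : Subgroup G), p := by
            simp
        _ ≤ _ := Finset.sum_le_sum (fun g _ => hfix g)
    have h2 : (∑ ω : Ω, (Finset.univ.filter (fun g : (P : Subgroup G) => g • ω = ω)).card) * p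
        = m * p * Fintype.card (P : Subgroup G) := by
      rw [Finset.sum_mul, Finset.sum_congr rfl (fun ω _ => hstab ω)]
      simp [hΩ]
    rw [hsum] at h1
    have h3 : Fintype.card (P : Subgroup G) * p * p ≤ m * p * Fintype.card (P : Subgroup G) := by
      rw [← h2]; exact Nat.mul_le_mul_right _ h1
    have h4 : 0 < Fintype.card (P : Subgroup G) := Fintype.card_pos
    have h5 : p * p ≤ m * p := by
      have : Fintype.card (P : Subgroup G) * (p * p) ≤ Fintype.card (P : Subgroup G) * (m * p) := by
        calc _ = Fintype.card (P : Subgroup G) * p * p := by ring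
          _ ≤ _ := h3
          _ = _ := by ring
      exact Nat.le_of_mul_le_mul_left this h4
    have h6 : p ≤ m := Nat.le_of_mul_le_mul_right h5 hp.pos
    omega
  refine ⟨(g : G), ?_, fun ω hω => hg ω hω⟩
  apply orderOf_eq_prime
  · apply FaithfulSMul.eq_of_smul_eq_smul (α := Ω)
    intro ω
    rw [one_smul]
    haveI := hnormal ω
    have h1 := Subgroup.pow_index_mem (MulAction.stabilizer (P : Subgroup G) ω) g
    rw [hidx ω] at h1
    exact h1
  · intro h1
    obtain ⟨ω⟩ := (inferInstance : Nonempty Ω)
    apply hg ω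
    show (g : G) • ω = ω
    rw [h1, one_smul]

end Cfsg.Agent.S5727
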