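import Mathlib
import Cfsg.Statements.S5728

set_option autoImplicit false
open Cfsg

namespace Cfsg.Agent.S5728

variable {F : Type*} [Field F]

/-- The affine permutation `y ↦ u y + v`. -/
noncomputable def aff (u : Fˣ) (v : F) : Equiv.Perm F where
  toFun y := (u : F) * y + v
  invFun y := ((u⁻¹ : Fˣ) : F) * (y - v)
  left_inv y := by simp
  right_inv y := by simp

lemma aff_mem (u : Fˣ) (v : F) : aff u v ∈ Cfsg.affineGroup F := ⟨u, v, fun _ => rfl⟩

lemma aff_apply (u : Fˣ) (v y : F) : aff u v y = (u : F) * y + v := rfl

lemma aff_inv_apply (u : Fˣ) (v y : F) : (aff u v)⁻¹ y = ((u⁻¹ : Fˣ) : F) * (y - v) := rfl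

/-- An element of `F` with `α ^ p = α` comes from the prime field. -/
lemma exists_zmod_of_pow_eq_self {p : ℕ} [Fact p.Prime] [Algebra (ZMod p) F] [CharP F p] [Finite F]
    {α : F} (h : α ^ p = α) :
    ∃ a : ZMod p, algebraMap (ZMod p) F a = α := by
  have h1 : α ∈ (⊥ : Subfield F) := (Subfield.mem_bot_iff_pow_eq_self F p).mpr h
  have h2 : α ∈ (algebraMap (ZMod p) F).fieldRange := (bot_le : ⊥ ≤ (algebraMap (ZMod p) F).fieldRange) h1
  exact h2

/-- An elusive transitive action. Let p = 2^s − 1 be a prime and let F be the field with p² elements. Inside the group of affine maps x ↦ a·x + b of F (a ≠ 0), consider the subgroup of maps with both coefficients in the prime field. Then every element of prime order of the affine group is conjugate, within the affine group, to an element of that subgroup; equivalently, in the transitive action of the affine group on the cosets of that subgroup (of degree p(p + 1)) every element of prime order fixes a point. -/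
theorem result (p s : ℕ) [Fact p.Prime] (hs : p = 2 ^ s - 1)
    (g : Equiv.Perm (GaloisField p 2)) (hg : g ∈ Cfsg.affineGroup (GaloisField p 2)) (hord : (orderOf g).Prime) :
    ∃ x ∈ Cfsg.affineGroup (GaloisField p 2), ∃ a b : ZMod p, a ≠ 0 ∧
      ∀ y : GaloisField p 2, (x * g * x⁻¹) y = algebraMap (ZMod p) (GaloisField p 2) a * y + algebraMap (ZMod p) (GaloisField p 2) b := by
  classical
  obtain ⟨α, β, hgb⟩ := hg
  have hp : p.Prime := Fact.out
  have hp2 : 2 ≤ p := hp.two_le
  have hps : p + 1 = 2 ^ s := by omega
  by_cases hα : (α : GaloisField p 2) = 1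
  · -- translation
    have hβ : β ≠ 0 := by
      rintro rfl
      have : g = 1 := by
        ext y
        rw [hgb, hα]
        simp
      rw [this, orderOf_one] at hord
      exact Nat.not_prime_one hord
    let u : (GaloisField p 2)ˣ := Units.mk0 β hβ
    refine ⟨aff u⁻¹ 0, aff_mem _ _, 1, 1, one_ne_zero, fun y => ?_⟩
    simp only [Equiv.Perm.coe_mul, Function.comp_apply, aff_inv_apply, aff_apply, hgb, hα, map_one]
    simp [u]
    field_simp
  · -- non-translation: conjugate to a homothety
    have h1α : (1 : GaloisField p 2) - α ≠ 0 := sub_ne_zero.mpr (Ne.symm hα)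
    set y₀ : GaloisField p 2 := β / (1 - α) with hy₀
    have hy₀' : (α : GaloisField p 2) * y₀ + β = y₀ := by
      rw [hy₀]; field_simp; ring
    let x : Equiv.Perm (GaloisField p 2) := aff 1 (-y₀)
    have hconj : ∀ y, (x * g * x⁻¹) y = (α : GaloisField p 2) * y := by
      intro y
      simp only [x, Equiv.Perm.coe_mul, Function.comp_apply, aff_inv_apply, aff_apply, hgb]
      simp only [inv_one, Units.val_one, one_mul]
      have : (α : GaloisField p 2) * (y - -y₀) + β + -y₀ = (α : GaloisField p 2) * y + ((α : GaloisField p 2) * y₀ + β - y₀) := by ring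
      rw [this, hy₀']; ring
    have hpow : ∀ (n : ℕ) y, ((x * g * x⁻¹) ^ n) y = (α : GaloisField p 2) ^ n * y := by
      intro n
      induction n with
      | zero => intro y; simp
      | succ n ih =>
        intro y
        rw [pow_succ, Equiv.Perm.coe_mul, Function.comp_apply, hconj, ih, pow_succ]
        ring
    set r := orderOf g with hr
    have hαr : (α : GaloisField p 2) ^ r = 1 := by
      have h1 : (x * g * x⁻¹) ^ r = 1 := by
        rw [conj_pow, hr, pow_orderOf_eq_one]; simp
      have h2 := hpow r 1
      rw [h1] at h2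
      simpa using h2.symm
    have hordα : orderOf (α : GaloisField p 2) = r := orderOf_eq_prime (hp := ⟨hord⟩) hαr hα
    have hnz : Nat.card (GaloisField p 2) ≠ 0 := by
      rw [GaloisField.card p 2 (by norm_num)]; exact pow_ne_zero _ hp.ne_zero
    haveI : Finite (GaloisField p 2) := Nat.finite_of_card_ne_zero hnz
    haveI : Fintype (GaloisField p 2) := Fintype.ofFinite _
    have hcard : Fintype.card (GaloisField p 2) = p ^ 2 := by
      rw [← Nat.card_eq_fintype_card]; exact GaloisField.card p 2 (by norm_num)
    have hαq : (α : GaloisField p 2) ^ (p ^ 2 - 1) = 1 := by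
      rw [← hcard]; exact FiniteField.pow_card_sub_one_eq_one _ α.ne_zero
    have hrdvd : r ∣ p ^ 2 - 1 := by
      rw [← hordα]; exact orderOf_dvd_of_pow_eq_one hαq
    have hfac : p ^ 2 - 1 = (p - 1) * (p + 1) := by
      obtain ⟨q, rfl⟩ : ∃ q, p = q + 1 := ⟨p - 1, by omega⟩
      simp only [Nat.add_sub_cancel]
      have : (q + 1) ^ 2 = q * (q + 1 + 1) + 1 := by ring
      omega
    rw [hfac] at hrdvd
    obtain ⟨a, ha⟩ : ∃ a : ZMod p, algebraMap (ZMod p) (GaloisField p 2) a = (α : GaloisField p 2) := by
      rcases (Nat.Prime.dvd_mul hord).mp hrdvd with h | h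
      · apply exists_zmod_of_pow_eq_self
        obtain ⟨c, hc⟩ := h
        have h5 : (α : GaloisField p 2) ^ (r * c + 1) = α := by
          rw [pow_succ, pow_mul, hαr, one_pow, one_mul]
        have h6 : r * c + 1 = p := by omega
        rwa [h6] at h5
      · rw [hps] at h
        have hr2 : r = 2 := (Nat.prime_dvd_prime_iff_eq hord Nat.prime_two).mp (hord.dvd_of_dvd_pow h)
        rw [hr2] at hαr
        have h3 : ((α : GaloisField p 2) - 1) * ((α : GaloisField p 2) + 1) = 0 := by
          have : ((α : GaloisField p 2) - 1) * ((α : GaloisField p 2) + 1) = (α : GaloisField p 2) ^ 2 - 1 := by ring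
          rw [this, hαr, sub_self]
        rcases mul_eq_zero.mp h3 with h4 | h4
        · exact absurd (sub_eq_zero.mp h4) hα
        · refine ⟨-1, ?_⟩
          rw [map_neg, map_one]
          exact (eq_neg_of_add_eq_zero_left h4).symm
    refine ⟨x, aff_mem _ _, a, 0, ?_, fun y => ?_⟩
    · rintro rfl
      rw [map_zero] at ha
      exact α.ne_zero ha.symm
    · rw [hconj, ha, map_zero, add_zero]

end Cfsg.Agent.S5728
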