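import Cfsg.Statements.S5748
import Cfsg.Agent.S0182
import Cfsg.Agent.S0219
import Cfsg.Agent.S0220
import Cfsg.Agent.S0493
import Cfsg.Agent.S0494
import Cfsg.Agent.S0731
import Cfsg.Agent.S1230
import Cfsg.Agent.Lib.Classical.SmallIso
import Cfsg.Agent.Lib.TwoFusion.ZassIso
import Cfsg.Agent.Lib.OddLocal.UniqueP
import Cfsg.Agent.Lib.CTSimple.Zass
import Cfsg.Agent.Lib.CTSimple.PSLTwo

set_option autoImplicit false
open Cfsg

namespace Cfsg.Agent.S5748

open Cfsg.Agent.Lib.CTSimple Cfsg.Agent.Lib.TwoFusion Cfsg.Agent.Lib.OddLocal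

theorem not_cyclic {G : Type*} [Group G] [Finite G] (hG : ¬ IsMulCommutative G) : ¬ IsCyclic G := by
  intro hc
  exact hG IsCyclic.isMulCommutative

theorem no_index_two {G : Type*} [Group G] [Finite G] [IsSimpleGroup G] (hG : ¬ IsMulCommutative G)
    (H : Subgroup G) : H.index ≠ 2 := by
  intro h
  have hn := Subgroup.normal_of_index_eq_two h
  rcases hn.eq_bot_or_eq_top with rfl | rfl
  · rw [Subgroup.index_bot] at h
    have : Fact (Nat.card G).Prime := ⟨by rw [h]; exact Nat.prime_two⟩
    exact not_cyclic hG (isCyclic_of_prime_card rfl)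
  · simp at h

theorem not_solvable {G : Type*} [Group G] [Finite G] [IsSimpleGroup G] (hG : ¬ IsMulCommutative G) :
    ¬ Group.IsSolvable G := by
  intro hsol
  have h3 := Group.IsSolvable.commutator_lt_top_of_nontrivial G
  rcases (inferInstance : (commutator G).Normal).eq_bot_or_eq_top with h0 | h0
  · apply hG
    have h1 : Subgroup.center G = ⊤ := (commutator_eq_bot_iff_center_eq_top G).mp h0
    refine ⟨⟨fun a b => ?_⟩⟩
    have h2 : a ∈ Subgroup.center G := by rw [h1]; trivial
    exact (Subgroup.mem_center_iff.mp h2 b).symm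
  · exact absurd h0 h3.ne

theorem three_move {G Ω : Type*} [Group G] [MulAction G Ω] (h3 : MulAction.IsMultiplyPretransitive G Ω 3)
    {a b c a' b' c' : Ω} (hab : a ≠ b) (hac : a ≠ c) (hbc : b ≠ c) (hab' : a' ≠ b') (hac' : a' ≠ c')
    (hbc' : b' ≠ c') : ∃ g : G, g • a = a' ∧ g • b = b' ∧ g • c = c' := by
  have inj : ∀ {x y z : Ω}, x ≠ y → x ≠ z → y ≠ z → Function.Injective ![x, y, z] := by
    intro x y z h1 h2 h4 i j hij
    fin_cases i <;> fin_cases j <;> first | rfl | (simp at hij; simp_all)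
  obtain ⟨g, hg⟩ := MulAction.exists_smul_eq (M := G) (⟨![a, b, c], inj hab hac hbc⟩ : Fin 3 ↪ Ω)
    (⟨![a', b', c'], inj hab' hac' hbc'⟩ : Fin 3 ↪ Ω)
  refine ⟨g, ?_, ?_, ?_⟩
  · exact DFunLike.congr_fun hg 0
  · exact DFunLike.congr_fun hg 1
  · exact DFunLike.congr_fun hg 2

theorem uniqueP_of_unique {G : Type*} [Group G] [Finite G] {s : G}
    {S : Subgroup G} (hun : ∀ t : S, orderOf (t : G) = 2 → (t : G) = s) : UniqueP 2 S := by
  have key : ∀ H : Subgroup S, Nat.card H = 2 → ∀ y : S, y ∈ H ↔ (y = 1 ∨ (y : G) = s) := by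
    intro H hH
    have hto : ∀ y : S, y ∈ H → (y = 1 ∨ (y : G) = s) := by
      intro y hy
      by_cases hy1 : y = 1
      · exact Or.inl hy1
      right
      apply hun
      have h1 : orderOf (⟨y, hy⟩ : H) ∣ Nat.card H := orderOf_dvd_natCard _
      rw [hH, Subgroup.orderOf_mk] at h1
      have h2 : orderOf y = 1 ∨ orderOf y = 2 := (Nat.dvd_prime Nat.prime_two).mp h1
      rcases h2 with h2 | h2
      · exact absurd (orderOf_eq_one_iff.mp h2) hy1
      · rw [Subgroup.orderOf_coe]; exact h2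
    intro y
    refine ⟨hto y, ?_⟩
    rintro (rfl | hy)
    · exact H.one_mem
    · have : Nontrivial H := Finite.one_lt_card_iff_nontrivial.mp (by rw [hH]; norm_num)
      obtain ⟨z, hz⟩ := exists_ne (1 : H)
      have hz1 : (z : S) ≠ 1 := fun e => hz (Subtype.ext e)
      have hz2 := (hto z z.2).resolve_left hz1
      have : y = z := Subtype.ext (hy.trans hz2.symm)
      rw [this]
      exact z.2
  intro H K hH hK
  ext y
  rw [key H hH, key K hK]

section forward
universe u
variable {G : Type u} [Group G] [Finite G] [IsSimpleGroup G]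

theorem exists_second_involution (hG : ¬ IsMulCommutative G) (h : CT G) {s : G} (hs : orderOf s = 2) :
    ∃ t : G, orderOf t = 2 ∧ t ∈ CC s ∧ t ≠ s := by
  classical
  by_contra hno
  push Not at hno
  obtain ⟨S⟩ : Nonempty (Sylow 2 (CC s)) := inferInstance
  have hun : ∀ t : (S : Subgroup (CC s)), orderOf ((t : CC s)) = 2 → ((t : CC s)) = (⟨s, self_mem_CC s⟩ : CC s) := by
    intro t ht
    apply Subtype.ext
    exact hno _ (by rw [Subgroup.orderOf_coe]; exact ht) (t : CC s).2
  have huq : UniqueP 2 (S : Subgroup (CC s)) := uniqueP_of_unique hun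
  have hcyc : IsCyclic (S : Subgroup (CC s)) :=
    isCyclic_of_comm_uniqueP (p := 2) S.isPGroup'
      (fun a b => Subtype.ext (Subtype.ext (CC_comm h (ne1 hs) (a : CC s).2 (b : CC s).2))) huq
  obtain ⟨H, hH⟩ := Cfsg.Agent.S0220.result s hs S hcyc
  exact no_index_two hG H hH

theorem exists_involution_ct (hG : ¬ IsMulCommutative G) (h : CT G) : ∃ s : G, orderOf s = 2 := by
  have heven : Even (Nat.card G) := by
    by_contra hodd
    rw [Nat.not_even_iff_odd] at hodd
    exact not_solvable hG (Cfsg.Agent.S0182.result hodd (fun x hx a ha b hb => CC_comm h hx ha hb))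
  have : Fact (Nat.Prime 2) := ⟨Nat.prime_two⟩
  exact exists_prime_orderOf_dvd_card' 2 heven.two_dvd

/-- The sharply triply transitive branch. -/
theorem branch_one (hG : ¬ IsMulCommutative G) (h : CT G) {s : G} (hs : orderOf s = 2)
    (h3 : MulAction.IsMultiplyPretransitive G (G ⧸ Nn s) 3) :
    ∃ (F : Type) (_ : Field F) (_ : Fintype F) (f : ℕ), 2 ≤ f ∧ Fintype.card F = 2 ^ f ∧
      Nonempty (G ≃* Matrix.ProjectiveSpecialLinearGroup (Fin 2) F) := by
  classical
  obtain ⟨u, hu, huN⟩ := exists_out hG h hs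
  have hH := se hG h hs
  set p : G ⧸ Nn s := QuotientGroup.mk 1 with hp
  set x : G ⧸ Nn s := u • p with hxdef
  have hx : x ≠ p := by
    rw [hxdef, hp, smul_mk, mul_one]
    exact fun e => huN (mk_eq_mk_one_iff.mp e)
  have hfixp : ∀ v ∈ CC s, v • p = p := by
    intro v hv
    rw [hp, smul_mk, mul_one]
    exact mk_eq_mk_one_iff.mpr (CC_le_Nn s hv)
  have hmove : ∀ v ∈ CC s, v ≠ 1 → v • x ≠ x ∧ v • x ≠ p := by
    intro v hv hv1
    refine ⟨fun e => hv1 (free_A hG h hs hv hx e), fun e => hx ?_⟩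
    exact MulAction.injective v (e.trans (hfixp v hv).symm)
  have hA2 : ∀ a ∈ CC s, a ≠ 1 → orderOf a = 2 := by
    intro a ha ha1
    obtain ⟨ha2, ha3⟩ := hmove a ha ha1
    obtain ⟨hs2, hs3⟩ := hmove s (self_mem_CC s) (ne1 hs)
    obtain ⟨g, hg1, hg2, hg3⟩ := three_move h3 (a := p) (b := x) (c := a • x) (a' := p) (b' := x)
      (c' := s • x) hx.symm ha3.symm ha2.symm hx.symm hs3.symm hs2.symm
    have hgN : g ∈ Nn s := by
      rw [hp, smul_mk, mul_one] at hg1
      exact mk_eq_mk_one_iff.mp hg1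
    have hb := conj_mem_of_Nn hgN ha
    have hbx : (g * a * g⁻¹) • x = s • x := by
      have e1 : g⁻¹ • x = x := by
        nth_rewrite 1 [← hg2]
        rw [inv_smul_smul]
      rw [mul_smul, mul_smul, e1, hg3]
    have hone : s⁻¹ * (g * a * g⁻¹) = 1 := by
      apply free_A hG h hs ((CC s).mul_mem ((CC s).inv_mem (self_mem_CC s)) hb) hx
      rw [mul_smul, hbx, inv_smul_smul]
    have heq : g * a * g⁻¹ = s := inv_mul_eq_one.mp hone |>.symm
    have := orderOf_conj_eq (g := g) (x := a)
    rw [heq, hs] at this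
    exact this.symm
  have hC : ∀ t : G, orderOf t = 2 → IsMulCommutative (Subgroup.centralizer ({t} : Set G)) ∧
      ∀ c ∈ Subgroup.centralizer ({t} : Set G), c ^ 2 = 1 := by
    intro t ht
    refine ⟨⟨⟨fun a b => Subtype.ext (CC_comm h (ne1 ht) a.2 b.2)⟩⟩, ?_⟩
    intro c hc
    by_cases hc1 : c = 1
    · simp [hc1]
    obtain ⟨g, hg⟩ := isConj_iff.mp (isConj_of_involutions hH hu huN ht hs)
    have h1 : g * c * g⁻¹ ∈ CC s := by
      rw [← hg]
      exact conj_mem_CC_conj hc
    have h2 : g * c * g⁻¹ ≠ 1 := by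
      intro e
      apply hc1
      have : c = g⁻¹ * (g * c * g⁻¹) * g := by group
      rw [this, e]
      group
    have h4 := hA2 _ h1 h2
    rw [orderOf_conj_eq] at h4
    rw [← h4]
    exact pow_orderOf_eq_one c
  obtain ⟨T⟩ : Nonempty (Sylow 2 G) := inferInstance
  have heven : Even (Nat.card G) := even_iff_two_dvd.mpr (hs ▸ orderOf_dvd_natCard s)
  have hnc : ¬ IsCyclic (T : Subgroup G) := by
    intro hT
    obtain ⟨H, hH⟩ := Cfsg.Agent.S0219.result heven T hT
    exact no_index_two hG H hH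
  have hnn : ¬ (T : Subgroup G).Normal := by
    intro hn
    rcases hn.eq_bot_or_eq_top with h0 | h0
    · have h1 := T.not_dvd_index
      rw [h0, Subgroup.index_bot] at h1
      exact h1 heven.two_dvd
    · apply not_solvable hG
      have hp' : IsPGroup 2 G := by
        intro g
        have hgT : g ∈ (T : Subgroup G) := by rw [h0]; trivial
        obtain ⟨k, hk⟩ := T.isPGroup' ⟨g, hgT⟩
        exact ⟨k, by simpa using congrArg Subtype.val hk⟩
      have : Fact (Nat.Prime 2) := ⟨Nat.prime_two⟩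
      have := hp'.isNilpotent
      exact IsNilpotent.to_isSolvable
  obtain ⟨F, instF, finF, hcard, hiso⟩ := Cfsg.Agent.S1230.result T hnc hnn hC
  obtain ⟨n, hn⟩ := (T.isPGroup').exists_card_eq
  have hn2 : 2 ≤ n := by
    by_contra hlt
    have hn' : n = 0 ∨ n = 1 := by omega
    rcases hn' with rfl | rfl
    · apply hnc
      have h1 : Nat.card (T : Subgroup G) = 1 := by simpa using hn
      have := (Nat.card_eq_one_iff_unique.mp h1).1
      infer_instance
    · apply hnc
      have h1 : Nat.card (T : Subgroup G) = 2 := by simpa using hn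
      have : Fact (Nat.Prime 2) := ⟨Nat.prime_two⟩
      exact isCyclic_of_prime_card h1
  exact ⟨F, instF, finF, n, hn2, by rw [hcard]; exact hn, hiso⟩

/-- The `PSL₂` over an odd field branch. -/
theorem branch_two (hG : ¬ IsMulCommutative G) (h : CT G) {K : Type} [Field K] [Fintype K]
    (hchar : ringChar K ≠ 2) (e : G ≃* Matrix.ProjectiveSpecialLinearGroup (Fin 2) K) :
    ∃ (F : Type) (_ : Field F) (_ : Fintype F) (f : ℕ), 2 ≤ f ∧ Fintype.card F = 2 ^ f ∧
      Nonempty (G ≃* Matrix.ProjectiveSpecialLinearGroup (Fin 2) F) := by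
  classical
  by_cases hq : 5 < Fintype.card K
  · exfalso
    obtain ⟨a, b, c, ha, hb, hc, hab, hbc, hac⟩ := not_ct_psl hchar hq
    apply hac
    have h1 := h (e.symm a) (e.symm b) (e.symm c) (by simpa using ha) (by simpa using hb)
      (by simpa using hc) (hab.map e.symm) (hbc.map e.symm)
    have h2 := h1.map e
    simpa using h2
  · have hq2 : 1 < Fintype.card K := Fintype.one_lt_card
    have hcard : Nat.card G ≤ 100 := by
      have hc := Cfsg.Agent.Lib.Classical.card_PSL_two_mul (F := K)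
      rw [Nat.card_eq_fintype_card (α := K)] at hc
      rw [Nat.card_congr e.toEquiv]
      set q := Fintype.card K
      have hq5 : q ≤ 5 := not_lt.mp hq
      interval_cases q
      all_goals (norm_num at hc; rw [Nat.card_eq_fintype_card]; omega)
    have h60 := Cfsg.Agent.S0493.result (not_cyclic hG) hcard
    obtain ⟨e1⟩ := Cfsg.Agent.S0494.result h60
    have : Fact (Nat.Prime 2) := ⟨Nat.prime_two⟩
    let _ : Fintype (GaloisField 2 2) := Fintype.ofFinite _
    have hF : Fintype.card (GaloisField 2 2) = 4 := by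
      rw [← Nat.card_eq_fintype_card, GaloisField.card 2 2 (by norm_num)]
      norm_num
    obtain ⟨e2⟩ := Cfsg.Agent.Lib.Classical.psl_two_card_four_equiv hF
    exact ⟨GaloisField 2 2, inferInstance, inferInstance, 2, le_rfl, by rw [hF]; norm_num,
      ⟨e1.trans e2.symm⟩⟩

theorem forward_dir (hG : ¬ IsMulCommutative G) (h : CT G) :
    ∃ (F : Type) (_ : Field F) (_ : Fintype F) (f : ℕ), 2 ≤ f ∧ Fintype.card F = 2 ^ f ∧
      Nonempty (G ≃* Matrix.ProjectiveSpecialLinearGroup (Fin 2) F) := by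
  classical
  obtain ⟨s, hs⟩ := exists_involution_ct hG h
  obtain ⟨t, ht, htA, hts⟩ := exists_second_involution hG h hs
  have hZ := isZass hG h hs ht htA hts
  have hFle : CC s ≤ MulAction.stabilizer G (QuotientGroup.mk 1 : G ⧸ Nn s) := by
    intro v hv
    rw [MulAction.mem_stabilizer_iff, smul_mk, mul_one]
    exact mk_eq_mk_one_iff.mpr (CC_le_Nn s hv)
  have hFn : ((CC s).subgroupOf (MulAction.stabilizer G (QuotientGroup.mk 1 : G ⧸ Nn s))).Normal := by
    rw [Subgroup.normal_subgroupOf_iff_le_normalizer hFle]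
    intro v hv
    rw [MulAction.mem_stabilizer_iff, smul_mk, mul_one] at hv
    exact mk_eq_mk_one_iff.mp hv
  have hFab : IsMulCommutative (CC s) := ⟨⟨fun a b => Subtype.ext (CC_comm h (ne1 hs) a.2 b.2)⟩⟩
  have hreg : ∀ y z : G ⧸ Nn s, y ≠ QuotientGroup.mk 1 → z ≠ QuotientGroup.mk 1 →
      ∃! u : CC s, (u : G) • y = z := by
    intro y z hy hz
    obtain ⟨a, ha, e⟩ := transitive_A hG h hs ht htA hts hy hz
    refine ⟨⟨a, ha⟩, e, ?_⟩
    rintro ⟨b, hb⟩ e'
    have e'' : b • y = z := e'
    have h1 : (a⁻¹ * b) • y = y := by rw [mul_smul, e'', ← e, inv_smul_smul]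
    have h2 := free_A hG h hs ((CC s).mul_mem ((CC s).inv_mem ha) hb) hy h1
    exact Subtype.ext (inv_mul_eq_one.mp h2).symm
  rcases Cfsg.Agent.S0731.result hZ (QuotientGroup.mk 1) (CC s) hFle hFn hFab hreg with
    ⟨h3, -⟩ | ⟨K, instK, finK, hchar, ⟨e⟩⟩
  · exact branch_one hG h hs h3
  · exact branch_two hG h hchar e

end forward

/-- A finite non-abelian simple group in which commuting is a transitive relation on the non-identity elements (equivalently, every non-identity element has abelian centraliser) is isomorphic to PSL₂ over a field with 2^f elements for some f ≥ 2; conversely these groups have that property. -/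
theorem result {G : Type*} [Group G] [Finite G] [IsSimpleGroup G] (hG : ¬ IsMulCommutative G) :
    (∀ a b c : G, a ≠ 1 → b ≠ 1 → c ≠ 1 → Commute a b → Commute b c → Commute a c) ↔
    ∃ (F : Type) (_ : Field F) (_ : Fintype F) (f : ℕ), 2 ≤ f ∧ Fintype.card F = 2 ^ f ∧ Nonempty (G ≃* Matrix.ProjectiveSpecialLinearGroup (Fin 2) F) := by
  classical
  constructor
  · exact forward_dir hG
  · rintro ⟨F, instF, finF, f, hf, hcard, ⟨e⟩⟩ a b c ha hb hc hab hbc
    have h2 : (2 : F) = 0 := by
      have h1 : ((Fintype.card F : ℕ) : F) = 0 := FiniteField.cast_card_eq_zero F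
      rw [hcard] at h1
      push_cast at h1
      exact pow_eq_zero_iff (by omega) |>.mp h1
    let E : G ≃* Matrix.SpecialLinearGroup (Fin 2) F := e.trans (slMulEquivPsl h2).symm
    have hb' : E b ≠ 1 := by simpa using hb
    have h3 := ct_SL h2 hb' (hab.map E) (hbc.map E)
    have h4 := h3.map E.symm
    simpa using h4

end Cfsg.Agent.S5748
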